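/-
S3320, chunks `CT`, `HO`, `OT`: recognition of the orthogonal groups in dimension ten over the field with two elements.
-/
import Cfsg.Agent.H8.RG2
import Cfsg.Agent.H11.Rec2
import Cfsg.Agent.H11.CT2
import Cfsg.Agent.H11.OmegaOrder
import Cfsg.Agent.H9.LM3
import Cfsg.Agent.S0817
import Cfsg.Agent.S2597
import Cfsg.Agent.S2901

set_option autoImplicit false
set_option linter.unusedSectionVars false
open Cfsg Subgroup H10.RG H19 H0
open scoped commutatorElement MatrixGroups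
namespace H8.RG
universe u

theorem zOM : center OM = ⊥ := card_eq_one.1 (by
  rw [H11.card_center_omegaPlus (by omega) (.inr (by omega))]; simp)
/-- the centre of the orthogonal group is trivial -/
noncomputable def eOM : POmega Z2 (quadFormPlus 5 Z2) ≃* OM := H11.quotCenterEquivOfBot zOM
instance sOM : IsSimpleGroup OM := haveI := H11.pomegaPlus_simple (F := Z2) (m := 5) (by omega); eOM.symm.isSimpleGroup
theorem cOM : Nat.card OM = 23499295948800 := by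
  have := H11.card_omegaPlus_mul (F := Z2) (m := 4) (.inr (by omega))
  simpa [Finset.prod_range_succ] using this
theorem cAut : Nat.card (MulAut OM) = 2 * Nat.card OM := by
  have := Agent.S0817.result (F := Z2) 2 1 le_rfl (by simp) 5 (by omega)
  rw [Nat.card_congr (MulAut.congr eOM).toEquiv, Nat.card_congr eOM.toEquiv] at this
  simpa using this

theorem aut_of {G : Type*} [Group G] [Finite G] {J : Subgroup G} (h2 : J.index = 2) (hC : C(J) = ⊥) (e : J ≃* OM) :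
    Nonempty (G ≃* MulAut OM) := by
  haveI := normal_of_index_eq_two h2
  let f : G →* MulAut OM := (MulAut.congr e).toMonoidHom.comp (MulAut.conjNormal (H := J))
  have hf : Function.Injective f := (MulAut.congr e).injective.comp ((injective_iff_map_eq_one _).2 fun g hg =>
    hC.le fun a ha => (mul_inv_eq_iff_eq_mul.1 (congrArg Subtype.val (DFunLike.congr_fun hg (⟨a, ha⟩ : J)))).symm)
  exact ⟨MulEquiv.ofBijective f ((Nat.bijective_iff_injective_and_card f).2 ⟨hf, by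
    rw [cAut, ← Nat.card_congr e.toEquiv, ← h2, index_mul_card]⟩)⟩

theorem cent_comm {G : Type*} [Group G] (h1 : center G = ⊥) (h2 : center (commutator G) = ⊥) : C(commutator G) = ⊥ :=
  eq_bot_iff.2 fun c hc => h1.le (mem_center_iff.2 fun g => by
    have k1 : ⁅g, c⁆ ∈ commutator G := commutator_mem_commutator (mem_top _) (mem_top _)
    have k2 : ⁅g, c⁆ ∈ C(commutator G) := mul_mem (normal_centralizer.conj_mem c hc g) (inv_mem hc)
    exact commutatorElement_eq_one_iff_mul_comm.1 (congrArg Subtype.val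
      (h2.le (mem_center_iff.2 fun a => Subtype.ext (k2 a a.2) : (⟨_, k1⟩ : commutator G) ∈ _))))

theorem ot : OT.{u} := fun J h2 hC ⟨e⟩ => by
  obtain ⟨f⟩ := aut_of h2 hC e
  have hc := H11.card_omega_even (H11.qPlus_nondeg (F := Z2) 5) (.inr (by simp)) rfl (by simp) (H11.coe_qPlus 5)
  have hi : (OM).index = 2 := Nat.eq_of_mul_eq_mul_right Nat.card_pos ((index_mul_card _).trans hc.symm)
  have hz := H9.center_o2 (H11.qPlus_nondeg (F := Z2) 5) (by simp)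
  rw [H11.coe_qPlus] at hz
  exact (aut_of hi (cent_comm hz zOM) (.refl _)).elim fun f' => ⟨f.trans f'.symm⟩

theorem ho : HO.{u} := fun {G} _ _ _ S J r hS h1 h2 ⟨e⟩ hr hc => by
  by_contra hJ
  haveI := e.isSimpleGroup
  have cJ : Nat.card J = 23499295948800 := (Nat.card_congr e.toEquiv).trans cOM
  have o2 : ∀ i, orderOf (r i) = 2 := fun i => orderOf_eq_prime (by rw [sq, (hr i).2.1]) (hr i).2.2
  have rS := hS.mem_of_norm (mem_top (r 0)) (by rw [PiE, o2]; exact (piN_prime Nat.prime_two).2 rfl)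
    (cent_le_norm _ (le_cent1_iff.1 h1))
  obtain ⟨S, rfl⟩ := hS.exists_sylow_top
  let F : Fin 4 → {C : ConjClasses OM // ∃ g, ConjClasses.mk g = C ∧ orderOf g = 2} := fun i =>
    ⟨_, e ⟨r i, (hr i).1⟩, rfl, by rw [e.orderOf_eq, orderOf_mk, o2]⟩
  have k : ∀ {a b : J}, IsConj (e a) (e b) → ∃ h ∈ J, h * a * h⁻¹ = b := fun h => by
    obtain ⟨x, hx⟩ := isConj_iff.1 (e.symm.toMonoidHom.map_isConj h)
    exact ⟨x, x.2, by simpa using congrArg Subtype.val hx⟩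
  have hF : Function.Bijective F := (Nat.bijective_iff_injective_and_card F).2 ⟨fun i j h => hc i j (by
    obtain ⟨x, -, hx⟩ := k (ConjClasses.mk_eq_mk_iff_isConj.1 (congrArg Subtype.val h))
    exact isConj_iff.2 ⟨x, hx⟩), by rw [Agent.S2597.result (by omega) (.inr (by omega))]; simp; decide⟩
  rcases Agent.S2901.result (fun h => hJ ((IsSimpleGroup.eq_bot_or_eq_top_of_normal J ⟨fun a ha g => by
      rwa [h.is_comm.comm g, mul_inv_cancel_right]⟩).resolve_left fun h => by simp [h] at cJ)) J hJ (r 0) (hr 0).1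
    ⟨o2 0, S, rS, fun x hx => mem_centralizer_singleton_iff.1 (h1 hx)⟩ h2 (fun g hg => by
      obtain ⟨i, hi⟩ := hF.2 ⟨_, e ⟨_, hg⟩, rfl, by
        rw [e.orderOf_eq, orderOf_mk, ← o2 0]; exact (MulAut.conj g).orderOf_eq _⟩
      obtain ⟨x, hx, hx'⟩ := k (ConjClasses.mk_eq_mk_iff_isConj.1 (congrArg Subtype.val hi))
      obtain rfl := hc i 0 ((isConj_iff.2 ⟨x, hx'⟩).trans (isConj_iff.2 ⟨g, rfl⟩).symm)
      exact ⟨x, hx, hx'⟩) with ⟨-, T, hT⟩ | ⟨n, hn, -, ⟨f⟩⟩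
  · have k1 : (T : Subgroup G) ≤ J := hT ▸ le_normalizer
    obtain ⟨n, hn⟩ := T.2.exists_card_eq
    rcases IsSimpleGroup.eq_bot_or_eq_top_of_normal ((T : Subgroup G).subgroupOf J)
      ((normal_subgroupOf_iff_le_normalizer k1).2 hT.le) with h | h
    · exact T.ne_bot_of_dvd_card (o2 0 ▸ orderOf_dvd_natCard _) ((subgroupOf_eq_bot.1 h).eq_bot_of_le k1)
    · rw [← le_antisymm k1 (subgroupOf_eq_top.1 h), hn] at cJ
      exact absurd (Nat.prime_three.dvd_of_dvd_pow (cJ ▸ by decide : 3 ∣ 2 ^ n)) (by decide)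
  · haveI : Nontrivial (Fin (n - 1)) := Fin.nontrivial_iff_two_le.2 (by omega)
    have := two_mul_nat_card_alternatingGroup (α := Fin (n - 1))
    rw [← Nat.card_congr f.toEquiv, cJ, Nat.card_perm, Nat.card_fin] at this
    rcases le_or_gt (n - 1) 16 with h | h <;> exact absurd (Nat.factorial_le h) (by rw [← this]; decide)

open H11 H11.Rec H11.C2 H13.SL2 H14

theorem a2 {J : Type*} [Group J] (v : Fin 3 → Fin 3 → J) (sq : ∀ a b, v a b * v a b = 1)
    (cm : ∀ a b d, a ≠ b → a ≠ d → b ≠ d → Commute (v a b) (v a d) ∧ Commute (v b a) (v d a) ∧ ⁅v a b, v b d⁆ = v a d) :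
    ∃ ψ : SL(3, Z2) →* J, ∀ a b, a ≠ b → ψ (Rec.T a b 1) = v a b := by
  obtain ⟨ψ, h⟩ := H11.PSL.exists_hom_sl' (K := Z2) (ι := Fin 3) (by simp) (fun a b t => if t = 0 then 1 else v a b)
    (fun a b s t => by
      by_cases hs : s = 0
      · simp [hs]
      by_cases ht : t = 0
      · simp [ht]
      rw [z2 s hs, z2 t ht]; exact (sq a b).symm)
    (fun {a b c d} h1 h2 h3 h4 s t => by
      split_ifs
      exacts [.refl _, .one_left _, .one_right _, by
        by_cases ea : a = c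
        · subst ea
          by_cases eb : b = d
          exacts [eb ▸ .refl _, (cm _ _ _ h1 h2 eb).1]
        · obtain rfl : b = d := by omega
          exact (cm _ _ _ h1.symm h2.symm ea).2.1])
    fun {a b c} h1 h2 h3 s t => by
      by_cases hs : s = 0
      · simp [hs]
      by_cases ht : t = 0
      · simp [ht, hs]
      simp [hs, ht, (cm _ _ _ h1 h2 h3).2.2]
  exact ⟨ψ, fun a b e => by rw [Rec.T_eq e, h, if_neg one_ne_zero]⟩

theorem tv_rel : ∀ a b d : Fin 5, a ≠ b → a ≠ d → b ≠ d →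
    tv a b * tv a d = tv a d * tv a b ∧ tv b a * tv d a = tv d a * tv b a ∧ ⁅tv a b, tv b d⁆ = tv a d := by
  simp only [commutatorElement_def, fun a b => inv_eq_of_mul_eq_one_right (tv_sq a b)]
  decide +kernel
theorem tv_cm : ∀ a b c d : Fin 5, a ≠ d → b ≠ c → tv a b * tv c d = tv c d * tv a b := by decide +kernel
theorem tv_gen {H : Subgroup S5} (h : ∀ i, xx i ∈ H ∧ yy i ∈ H) (g : S5) : g ∈ H := by
  have k : ∀ a b d, a ≠ b → a ≠ d → b ≠ d → tv a b ∈ H → tv b d ∈ H → tv a d ∈ H := fun a b d h1 h2 h3 k1 k2 =>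
    (tv_rel a b d h1 h2 h3).2.2 ▸ mul_mem (mul_mem (mul_mem k1 k2) (inv_mem k1)) (inv_mem k2)
  have k' : ∀ n : ℕ, ∀ a b : Fin 5, b = a + n + 1 → tv a b ∈ H ∧ tv b a ∈ H := fun n => by
    induction n with
    | zero =>
      intro a b e
      have := h ⟨a, by omega⟩
      rwa [xx, yy, show Fin.succ ⟨a, _⟩ = b from Fin.ext e.symm] at this
    | succ n ih =>
      intro a b e
      have k1 := ih a ⟨a + n + 1, by omega⟩ rfl
      have k2 := h ⟨a + n + 1, by omega⟩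
      rw [xx, yy, show Fin.succ ⟨a + n + 1, _⟩ = b from Fin.ext e.symm] at k2
      exact ⟨k _ _ _ (by simp [Fin.ext_iff]; omega) (by omega) (by simp [Fin.ext_iff]; omega) k1.1 k2.1,
        k _ _ _ (by simp [Fin.ext_iff]; omega) (by omega) (by simp [Fin.ext_iff]; omega) k2.2 k1.2⟩
  refine tv_ind (· ∈ H) (fun a b => ?_) (fun _ _ => mul_mem) g
  rcases lt_trichotomy a b with l | rfl | l
  exacts [(k' (b - a - 1) a b (by omega)).1, (show tv a a = 1 from dif_pos rfl) ▸ one_mem H, (k' (a - b - 1) b a (by omega)).2]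

theorem adj (i j : Fin 5) : (wbD 5 (by omega)).wd.R.A i j ≠ 0 ↔ i = j ∨ (i, j) ∈ [(0, 1), (1, 2), (2, 3), (2, 4)] ∨
    (j, i) ∈ [(0, 1), (1, 2), (2, 3), (2, 4)] := by
  rw [Wd.A_eq, φD]
  fin_cases i <;> fin_cases j <;> simp [Wb.wd, wbC, wbD, barC, barD, nx, μ2_apply]

set_option maxHeartbeats 800000 in
theorem ct : CT.{u} := fun {G} _ _ κ b b' c c' J h hJ hb _ => by
  let X : Fin 5 → G := ![κ (tv 0 1), κ (tv 1 2), κ (tv 2 3), κ (tv 3 4), b]
  let Y : Fin 5 → G := ![κ (tv 1 0), κ (tv 2 1), κ (tv 3 2), κ (tv 4 3), b']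
  let E : Fin 5 → Fin 5 → Prop := fun i j => ∃ ψ : SL(3, Z2) →* G, ψ (Rec.T 0 1 1) = X i ∧ ψ (Rec.T 1 0 1) = Y i ∧
    ψ (Rec.T 1 2 1) = X j ∧ ψ (Rec.T 2 1 1) = Y j
  have sq : ∀ a b, κ (tv a b) * κ (tv a b) = 1 := fun a b => by rw [← map_mul, tv_sq, map_one]
  have e1 : ∀ e : Fin 3 → Fin 5, Function.Injective e → ∃ ψ : SL(3, Z2) →* G, ψ (Rec.T 0 1 1) = κ (tv (e 0) (e 1)) ∧
      ψ (Rec.T 1 0 1) = κ (tv (e 1) (e 0)) ∧ ψ (Rec.T 1 2 1) = κ (tv (e 1) (e 2)) ∧ ψ (Rec.T 2 1 1) = κ (tv (e 2) (e 1)) :=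
    fun e he => by
      obtain ⟨ψ, k⟩ := a2 (fun a b => κ (tv (e a) (e b))) (fun _ _ => sq _ _) fun a b d h1 h2 h3 => by
        obtain ⟨k1, k2, k3⟩ := tv_rel _ _ _ (he.ne h1) (he.ne h2) (he.ne h3)
        exact ⟨Commute.map k1 κ, Commute.map k2 κ, by rw [← k3, map_commutatorElement]⟩
      exact ⟨ψ, k _ _ (by decide), k _ _ (by decide), k _ _ (by decide), k _ _ (by decide)⟩
  have e01 : E 0 1 := e1 ![0, 1, 2] (by decide)
  have e12 : E 1 2 := e1 ![1, 2, 3] (by decide)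
  have e23 : E 2 3 := e1 ![2, 3, 4] (by decide)
  have e24 : E 2 4 := by
    obtain ⟨-, ⟨s1, s2, s3, s4⟩, ⟨a1, a2', a3⟩, ⟨b1, b2, b3⟩, ⟨c1, c2⟩, d1, d2, d3, d4⟩ := h
    obtain ⟨ψ, k⟩ := a2 ![![1, κ (tv 2 3), c], ![κ (tv 3 2), 1, b], ![c', b', 1]]
      (fun a b => by fin_cases a <;> fin_cases b <;> simp [*]) fun a b d h1 h2 h3 => by
        fin_cases a <;> fin_cases b <;> fin_cases d <;> first | exact absurd rfl ‹_› | skip
        exacts [⟨a2', b2, a1⟩, ⟨a2'.symm, b2.symm, d2⟩, ⟨c2, c1, d1⟩, ⟨c2.symm, c1.symm, d3⟩, ⟨b3.symm, a3.symm, d4⟩,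
          ⟨b3, a3, b1⟩]
    exact ⟨ψ, k _ _ (by decide), k _ _ (by decide), k _ _ (by decide), k _ _ (by decide)⟩
  have x0 : ∀ {P : SL(2, Z2) → Prop}, P 1 → P (x 1) → ∀ t, P (x t) := fun h0 h1 t => by
    by_cases e : t = 0
    exacts [by rwa [e, x_zero], by rwa [z2 t e]]
  have y0 : ∀ {P : SL(2, Z2) → Prop}, P 1 → P (y 1) → ∀ t, P (y t) := fun h0 h1 t => by
    by_cases e : t = 0
    exacts [by rwa [e, y_zero], by rwa [z2 t e]]
  have ea' : ∀ {i j}, E i j → ∃ ψ : SL(3, Z2) →* G, (ψ.comp ea (x 1) = X i ∧ ψ.comp ea (y 1) = Y i) ∧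
      ψ.comp Rec.eb (x 1) = X j ∧ ψ.comp Rec.eb (y 1) = Y j := fun ⟨ψ, k⟩ => ⟨ψ, by
    simpa only [MonoidHom.comp_apply, ea_x, ea_y, eb_x, eb_y, and_assoc] using k⟩
  obtain ⟨Φ, hΦ⟩ : ∃ Φ : Fin 5 → SL(2, Z2) →* G, ∀ i, Φ i (x 1) = X i ∧ Φ i (y 1) = Y i := by
    refine (Classical.skolem (p := fun i (φ : SL(2, Z2) →* G) => φ (x 1) = X i ∧ φ (y 1) = Y i)).1 fun i => ?_
    fin_cases i
    exacts [(ea' e01).elim fun _ k => ⟨_, k.1⟩, (ea' e01).elim fun _ k => ⟨_, k.2⟩, (ea' e12).elim fun _ k => ⟨_, k.2⟩,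
      (ea' e23).elim fun _ k => ⟨_, k.2⟩, (ea' e24).elim fun _ k => ⟨_, k.2⟩]
  have un : ∀ {i} {φ : SL(2, Z2) →* G}, φ (x 1) = X i ∧ φ (y 1) = Y i → φ = Φ i := fun {i φ} k =>
    sl2_ext (x0 (P := fun z => φ z = Φ i z) (by simp) (k.1.trans (hΦ i).1.symm))
      (y0 (P := fun z => φ z = Φ i z) (by simp) (k.2.trans (hΦ i).2.symm))
  have hC := (wbD 5 (by omega)).mb.cok
  let S := stPull _ (omToGL_injective Z2 _) (range_omD 5 Z2 (by omega) (.inr (by simp)))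
  have hS : S.Sep := stPull_sep _ _ _ ((wbD 5 _).nat_sep Z2)
  have hG : S.U Set.univ = ⊤ := stPull_top _ _ _
  have hi : Function.Injective (hmul_of_finite S).tor := fun _ _ _ => Subsingleton.elim _ _
  choose f hf using exists_nd hS hi
  have gr : ∀ i j, (i, j) ∈ [(0, 1), (1, 2), (2, 3), (2, 4)] →
      ∃ M : Subgroup (OM × G), Gph M ∧ ∀ g, (f i g, Φ i g) ∈ M ∧ (f j g, Φ j g) ∈ M := fun i j hij => by
    obtain ⟨ψ, a1, a2⟩ := ea' (show E i j by
      simp only [List.mem_cons, Prod.mk.injEq, List.not_mem_nil, or_false] at hij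
      rcases hij with ⟨rfl, rfl⟩ | ⟨rfl, rfl⟩ | ⟨rfl, rfl⟩ | ⟨rfl, rfl⟩ <;> assumption)
    exact un a1 ▸ un a2 ▸ a2_graph hC (hdD _) hi (by rintro rfl; clear a1 a2; revert i; decide) ((adj i j).2 (.inr (.inl hij)))
      (hf _) (hf _) ψ
  obtain ⟨φ, hφ⟩ := amalgam hC (connD (by omega)) hS hG hi hf Φ fun i j => by
    by_cases hij : i = j
    · subst hij
      refine ⟨((f i).prod (Φ i)).range, ?_, fun g => ⟨⟨g, rfl⟩, ⟨g, rfl⟩⟩⟩
      rintro g ⟨u, hu⟩
      obtain rfl : u = 1 := (hf i).inj _ _ ((congrArg Prod.fst hu).trans (by simp))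
      simpa using (congrArg Prod.snd hu).symm
    by_cases k : (wbD 5 (by omega)).wd.R.A i j = 0
    · refine orth_graph hi hij (hf i) (hf j) (Nd.commute hij k (hf i) (hf j)) fun g g' => ?_
      have k1 : ∀ {φ : SL(2, Z2) →* G} {u}, Commute (φ (x 1)) u → Commute (φ (y 1)) u → ∀ z, Commute (φ z) u :=
        fun {φ u} h1 h2 z => mem_centralizer_singleton_iff.1 (sl2_mem (H := centralizer {u})
          (x0 (P := fun z => φ z ∈ centralizer {u}) (by simp) (mem_centralizer_singleton_iff.2 h1))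
          (y0 (P := fun z => φ z ∈ centralizer {u}) (by simp) (mem_centralizer_singleton_iff.2 h2)) z)
      have k2 : (Commute (X j) (X i) ∧ Commute (Y j) (X i)) ∧ Commute (X j) (Y i) ∧ Commute (Y j) (Y i) := by
        have k3 := (not_or.1 ((adj i j).not.1 (not_not.2 k))).2
        have k4 := h.cb
        simp only [List.forall_mem_cons] at k4
        obtain ⟨⟨a1, b1⟩, ⟨a2, b2⟩, ⟨a3, b3⟩, ⟨a4, b4⟩, ⟨a5, b5⟩, ⟨a6, b6⟩, -⟩ := k4
        fin_cases i <;> fin_cases j <;> first | exact absurd rfl hij | exact absurd (by decide) k3 | skip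
        all_goals refine ⟨⟨?_, ?_⟩, ?_, ?_⟩ <;>
          first | assumption | exact Commute.symm ‹_› | exact Commute.map (tv_cm _ _ _ _ (by decide) (by decide)) κ
      exact k1 ((hΦ i).1 ▸ (k1 ((hΦ j).1 ▸ k2.1.1) ((hΦ j).2 ▸ k2.1.2) g').symm)
        ((hΦ i).2 ▸ (k1 ((hΦ j).1 ▸ k2.2.1) ((hΦ j).2 ▸ k2.2.2) g').symm) g
    · rcases ((adj i j).1 k).resolve_left hij with k | k
      exacts [gr i j k, (gr j i k).imp fun M h => ⟨h.1, fun g => (h.2 g).symm⟩]
  have hx : ∀ i, φ (f i (x 1)) = X i ∧ φ (f i (y 1)) = Y i := fun i => by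
    have := hΦ i
    rwa [← hφ] at this
  have hr : φ.range = J := by
    have m : ∀ m, κ m ∈ J := fun m => hJ.ge (mem_sup_left (mem_sup_left ⟨m, rfl⟩))
    have hX : ∀ i, X i ∈ J ∧ Y i ∈ J := fun i => by
      fin_cases i
      exacts [⟨m _, m _⟩, ⟨m _, m _⟩, ⟨m _, m _⟩, ⟨m _, m _⟩,
        ⟨hJ.ge (mem_sup_left (mem_sup_right (mem_zpowers _))), hJ.ge (mem_sup_right (mem_zpowers _))⟩]
    refine le_antisymm ?_ (hJ.le.trans (sup_le (sup_le ?_ (zpowers_le_of_mem ⟨_, (hx 4).1⟩)) (zpowers_le_of_mem ⟨_, (hx 4).2⟩)))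
    · rw [MonoidHom.range_eq_map, map_le_iff_le_comap, top_le_iff]
      refine top_of_simple hG fun j t => ?_
      rw [← (hf j).hx, ← (hf j).hy]
      exact ⟨x0 (P := fun z => φ (f j z) ∈ J) (by simp) ((hx j).1 ▸ (hX j).1) t,
        y0 (P := fun z => φ (f j z) ∈ J) (by simp) ((hx j).2 ▸ (hX j).2) t⟩
    · rintro _ ⟨g, rfl⟩
      refine tv_gen (H := φ.range.comap κ) (fun i => ?_) g
      fin_cases i
      exacts [⟨⟨_, (hx 0).1⟩, _, (hx 0).2⟩, ⟨⟨_, (hx 1).1⟩, _, (hx 1).2⟩, ⟨⟨_, (hx 2).1⟩, _, (hx 2).2⟩,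
        ⟨⟨_, (hx 3).1⟩, _, (hx 3).2⟩]
  exact ⟨hr ▸ (MonoidHom.ofInjective ((MonoidHom.ker_eq_bot_iff φ).1 ((IsSimpleGroup.eq_bot_or_eq_top_of_normal _
    inferInstance).resolve_right fun k => hb ((hx 4).1.symm.trans (k.ge (mem_top _)))))).symm⟩
end H8.RG
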