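/-
S3320, chunk `CB`: a subgroup of index two.
-/
import Cfsg.Agent.H8.RG3
import Cfsg.Agent.H10.RG.I1
import Cfsg.Agent.H28.ExtTr
import Cfsg.Agent.H10.Fusion
import Cfsg.Agent.H19.Dh

set_option autoImplicit false
set_option linter.unusedSectionVars false
set_option linter.unusedVariables false
set_option maxRecDepth 100000
set_option synthInstance.maxSize 4000
open Cfsg Subgroup H19 H0 H15 H10.RF H10.RG
open scoped commutatorElement Pointwise
namespace H8.RG
local notation "cj" => H19.cj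
universe u
variable {G : Type u} [Group G] [Finite G] {A M : Subgroup G} {ρ : G → ℕ} {v K : ℕ → G}

/-- restriction of the coordinates to a subgroup -/
theorem ik_sub (h : IK A ρ v K) (l : N(A) ≤ M) :
    IK (A.subgroupOf M) (fun x => ρ x) (fun a => ⟨v a, l (h.vN a)⟩) fun g => ⟨K g, l (h.kn g)⟩ := by
  have AM := le_normalizer.trans l
  have n : ∀ {x : M}, x ∈ N(A.subgroupOf M) ↔ (x : G) ∈ N(A) := fun {x} => by
    rw [← subgroupOf_normalizer_eq AM, mem_subgroupOf]
  exact ⟨⟨fun a ha => Subtype.ext (h.sq a ha), (card_subgroupOf' AM).trans h.cA, fun a b => Subtype.ext (h.vx a b), h.vm,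
    fun x hx => (h.vs x hx).imp fun i e => ⟨e.1, Subtype.ext e.2⟩, fun i hi j hj e => h.vi i hi j hj (congrArg Subtype.val e),
    fun a ha b hb => h.mul _ (n.1 ha) _ (n.1 hb), fun a ha b hb => h.eqv _ (n.1 ha) _ (n.1 hb), h.one, fun a ha => h.okr _ (n.1 ha),
    fun g o => ⟨⟨K g, l (h.kn g)⟩, n.2 (h.kn g), h.kr g o⟩, fun x hx i => Subtype.ext (h.ac _ (n.1 hx) i),
    by rw [← subgroupOf_normalizer_eq AM, card_subgroupOf' l, h.card]⟩,
    fun g => n.2 (h.kn g), h.kr, fun f g o p => Subtype.ext (h.km f g o p)⟩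

theorem cN (h : IK A ρ v K) : C(N(A)) = ⊥ := eq_bot_iff.2 fun x hx => by
  have := h.ZT ⟨h.AP (h.CA (cent_mono le_normalizer hx)), cent_mono h.PN hx⟩
  rcases mem_zpowers_of_sq (h.vv 1) this with rfl | rfl
  · exact one_mem _
  · exact absurd ((h.fixK (g := ee 2 1) (by decide +kernel) (by decide)).1 (mem_cent1.2 (mem_cent.1 hx _ (h.kn _))))
      (by decide +kernel)

theorem n2 (h : IK A ρ v K) : ¬ PG 2 N(A) := fun p => absurd (p 3 Nat.prime_three (h.card ▸ by decide)) (by decide)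

theorem le_two (h : IK A ρ v K) (hM : M.index = 2) : N(A) ≤ M := by
  haveI := normal_of_index_eq_two hM
  have c : ∀ x y : G, ⁅x, y⁆ ∈ M := fun x y => by
    rw [commutatorElement_def, mul_assoc, mul_mem_iff_of_index_two hM, ← _root_.mul_inv_rev, inv_mem_iff,
      mul_mem_iff_of_index_two hM, mul_mem_iff_of_index_two hM, iff_comm (a := y ∈ M)]
  have l : A ≤ M := fun x hx => by
    obtain ⟨a, ha, rfl⟩ := h.vs x hx
    rw [← Nat.mod_eq_of_lt (show a < 2 ^ 10 from ha), ← lin_two_pow]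
    refine lin_induction' (fun a => v a ∈ M) (h.v0 ▸ one_mem M) (fun a b p q => h.vx a b ▸ mul_mem p q) _ _ _ fun k hk _ => ?_
    obtain ⟨i, -, j, -, m, -, o, e⟩ := (by decide +kernel : ∀ k < 10, ∃ i < 5, ∃ j < 5, ∃ m < 10, ok (ee i j) = true ∧
      Lv (ee i j) (2 ^ m) ^^^ 2 ^ m = 2 ^ k) k hk
    rw [← e, ← h.kr _ o, ← h.cmv (h.kn _)]; exact c _ _
  rcases h.sim (B := M ⊓ N(A)) (le_inf l le_normalizer) ⟨inf_le_right, norms_inf le_normalizer_of_normal le_normalizer⟩ with e | e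
  · refine absurd (PiN.of_isPGroup Nat.prime_two fun x => ⟨2, Subtype.ext ?_⟩) (n2 h)
    have := h.sq _ (e.le ⟨mul_self_mem_of_index_two hM x, mul_mem x.2 x.2⟩)
    rw [show 2 ^ 2 = 2 + 2 from rfl, pow_add, sq]; exact this
  · exact inf_eq_right.1 e

theorem cb (c1 : CASE1.{u}) : CB.{u} := by
  intro G _ _ A ρ v K w h hO hN
  have wa : w * v 64 * w⁻¹ = K (ug 1) := h.wa 1 (by decide)
  have wN : w ∉ N(A) := fun k => absurd ((h.mA (a := 0) (i := 1) (by decide) (by decide)).1
    (by rw [h.v0, one_mul, ← wa]; exact conj_mem_of_norm k (h.vm _))) (by decide)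
  have XT := h.X1R.trans h.RT
  have wT : w ∈ N(sT v K) := mem_norm_of_cj_le fun y hy => by
    obtain ⟨z, hz, rfl⟩ := mem_cj'.1 hy
    simpa [commutatorElement_def] using mul_mem (XT (h.wm z (h.TP hz))) hz
  have cS := card_sup_invol h.w2 wT fun k => wN (h.PN k)
  obtain ⟨M, hM⟩ : ∃ M : Subgroup G, M.index = 2 := by
    by_contra! n
    have := card_mul_relIndex (le_sup_left : sT v K ≤ sT v K ⊔ zpowers w)
    have wV : w ∈ X1 v K ⊔ zpowers w := mem_sup_right (mem_zpowers w)
    obtain ⟨g, h1, h2⟩ := H28.extremal_thompson_two (T := sT v K)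
      ⟨h.syl.le, h.syl.pi.isPGroup, fun _ a b c => h.syl.max b c (PiN.of_isPGroup Nat.prime_two a)⟩
      (Nat.eq_of_mul_eq_mul_left (card_pos _) (this.trans cS)) (y := w) (by rw [sq, h.w2])
      (H10.pResidual_eq_top_of_index n ▸ mem_top w) (C := X1 v K ⊔ zpowers w)
      (h.syl.pi.of_le (sup_le_sup_right XT _)).isPGroup
      (sup_le (le_cent1_iff.2 h.wX) (zpowers_le.2 (mem_cent1.2 rfl))) wV
    have k := mem_norm_iff_cj.2 (h.wc g h1)
    rcases (mem_sup_invol h.w2 (cent_le_norm _ h.wX)).1 (conj_mem_of_norm k wV) with e | e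
    · exact wN (h.PN (XT (by simpa [mul_assoc] using conj_mem_of_norm' (hN k) e)))
    · exact wN (h.PN ((mul_mem_cancel_left h2).1 (XT e)))
  haveI := normal_of_index_eq_two hM
  have l := le_two h.toIK hM
  have k := ik_sub h.toIK l
  rcases c1 k (by
      rw [show C[(⟨v 1, l (h.vN 1)⟩ : M)] = (C[v 1] ⊓ M).subgroupOf M from ext fun x => by
        simp only [mem_cent1, mem_subgroupOf, mem_inf, x.2, and_true, Subtype.ext_iff, coe_mul], Oc_subgroupOf inf_le_right,
        eq_bot_iff.2 ((Oc_le_Oc ⟨inf_le_left, norms_inf le_normalizer le_normalizer_of_normal⟩).trans hO.le), bot_subgroupOf])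
    (syl_mk le_top k.pT (by
      have e1 := card_mul_index (sT (fun a => (⟨v a, l (h.vN a)⟩ : M)) fun g => ⟨K g, l (h.kn g)⟩)
      have e2 := card_mul_index (sT v K ⊔ zpowers w)
      have e3 := card_mul_index M
      have e4 := h.syl.not_dvd Nat.prime_two
      rw [relIndex_top_right] at e4 ⊢
      rw [k.cT] at e1
      rw [cS, h.cT, ← e3, hM, ← e1] at e2
      omega)) with e | e
  · have q : M = N(A) := le_antisymm ((normal_subgroupOf_iff_le_normalizer (le_normalizer.trans l)).1 e) l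
    rcases h.sim (le_Oc ⟨le_normalizer, le_rfl⟩ h.pA) (Oc_normal {2} _) with r | r
    · exact absurd (r ▸ norm_le_norm_Oc {2} _ (q ▸ le_normalizer_of_normal (mem_top w))) wN
    · exact absurd (r ▸ Oc_pi {2} _) (n2 h.toIK)
  · exact ot M hM (eq_bot_iff.2 (cN h.toIK ▸ cent_mono l)) e

end H8.RG
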