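/-
S3320, chunk `F7`: the centralizer of a central involution lies in the orthogonal group.
-/
import Cfsg.Agent.H8.RG6

set_option autoImplicit false
set_option linter.unusedSectionVars false
set_option linter.unusedVariables false
set_option maxRecDepth 100000
set_option synthInstance.maxSize 4000
open Cfsg Subgroup H19 H0 H15 H10.RF H10.RG
open H23.RG (qg qk exQ)
open scoped commutatorElement Pointwise
namespace H8.RG
local notation "mm" => H10.RG.mm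
local notation "cj" => H19.cj
universe u
variable {G : Type u} [Group G] [Finite G] {A J : Subgroup G} {ρ ρ' : G → ℕ} {v K K' : ℕ → G} {a b c d a' b' c' d' k : ℕ}
  {x y t t' : G}

/-- the coordinates of `x` modulo the centre -/
def E (v K : ℕ → G) (c : ℕ) (x : G) : Prop := c < 4096 ∧ ∃ e < 2, x = v (e ^^^ wa (c % 64)) * K (qg (c / 64))
/-- `t` maps the coset `c` to the coset `d` -/
def Rl (v K : ℕ → G) (t : G) (c d : ℕ) : Prop := t ∈ C[v 1] ∧ c < 4096 ∧ ∀ x, E v K c x → E v K d (t * x * t⁻¹)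
def Cs (v K : ℕ → G) (c : ℕ) : Prop := ∀ x, E v K c x → IsConj (v 1) x
theorem E.ex (hc : c < 4096) : E v K c (v (0 ^^^ wa (c % 64)) * K (qg (c / 64))) := ⟨hc, 0, two_pos, rfl⟩
theorem Rl.lt (r : Rl v K t c d) : d < 4096 := (r.2.2 _ (E.ex r.2.1)).1
theorem Rl.mul (r : Rl v K t d a) (r' : Rl v K t' c d) : Rl v K (t * t') c a :=
  ⟨mul_mem r.1 r'.1, r'.2.1, fun x e => cjcj t t' x ▸ r.2.2 _ (r'.2.2 x e)⟩
theorem Rl.cs (r : Rl v K t c d) (k : Cs v K d) : Cs v K c := fun x e => (k _ (r.2.2 x e)).trans (isConj_iff.2 ⟨t, rfl⟩).symm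
theorem Rl.one (hc : c < 4096) : Rl v K 1 c c := ⟨one_mem _, hc, fun x e => by simpa using e⟩
theorem swa {e : ℕ} (he : e < 2) (c : ℕ) : sb (e ^^^ wa (c % 64)) 223 :=
  ((by decide : ∀ e < 2, sb e 223) e he).xor (ck4.1 _ (Nat.mod_lt _ (by decide))).1
theorem E.mem (e : E v K c x) : x ∈ sQ v K :=
  let ⟨hc, e, he, q⟩ := e; q ▸ el_PS (swa he c) (qk.1 _ (by omega)).1 (qk.1 _ (by omega)).2.1
theorem Fxor (k a b : ℕ) : F k (a ^^^ b) = F k a ^^^ F k b := lin_xor _ _ _ _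
theorem ck1' (hc : c < 4096) : (en 12 c < 430 ∧ tb TM (en 12 c) = true) ∧ (tb SM c = true ↔ en 12 c = 1) ∧ (tb SM c = true → c ∈ LL) := by
  have := ck1
  simp only [force_eq, allTo2_iff, band_iff, bimp_iff, anyL_iff, Nat.beq_eq, beq_iff_eq, Nat.blt_eq] at this
  obtain ⟨p, q, r⟩ := this c hc
  exact ⟨p, by rw [q, Nat.beq_eq], fun e => let ⟨x, m, e⟩ := r e; e ▸ m⟩

section
variable (h : IK A ρ v K)
include h
theorem E.mul (p : E v K c x) (q : E v K d y) : E v K (c ^^^ d) (x * y) := by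
  obtain ⟨hc, e, he, rfl⟩ := p
  obtain ⟨hd, f, hf, rfl⟩ := q
  obtain ⟨o, p, -⟩ := qk.1 (c / 64) (by omega)
  refine ⟨Nat.xor_lt_two_pow (n := 12) hc hd, _, Nat.xor_lt_two_pow (n := 1) (Nat.xor_lt_two_pow (n := 1) he hf)
    (Nat.lt_succ_of_le (qk.2.2.2.2.2.1.sb o p (swa hf d)).le), ?_⟩
  rw [h.elm o (qk.1 _ (by omega)).1, show (c ^^^ d) % 64 = _ from Nat.xor_mod_two_pow (n := 6),
    show (c ^^^ d) / 64 = _ from Nat.xor_div_two_pow (n := 6), ((ck4.1 _ (by omega)).2 _ (by omega)).2,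
    ((ck4.1 _ (Nat.mod_lt _ (by decide))).2 _ (Nat.mod_lt _ (by decide))).1]
  congr 2
  exact Nat.eq_of_testBit_eq fun i => by simp only [Nat.testBit_xor]; grind
theorem E.s (p : E v K c x) : E v K c (v 1 * x) := by
  simpa using E.mul h (c := 0) (x := v 1) ⟨by decide, 1, by decide, ((congrArg _ h.K1).trans (mul_one _)).symm⟩ p
theorem E.two (p : E v K c x) (q : E v K c y) : y = x ∨ y = v 1 * x := by
  obtain ⟨-, e, he, rfl⟩ := p
  obtain ⟨-, f, hf, rfl⟩ := q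
  rw [← mul_assoc, ← h.vx, ← Nat.xor_assoc]
  interval_cases e <;> interval_cases f <;> simp
theorem Rl.mk' (m : t ∈ C[v 1]) (p : E v K c x) (q : E v K d (t * x * t⁻¹)) : Rl v K t c d :=
  ⟨m, p.1, fun y e => (p.two h e).elim (· ▸ q) fun k => by rw [k, cjmul, cjc m]; exact q.s h⟩
theorem Rl.xor (r : Rl v K t c d) (r' : Rl v K t a b) : Rl v K t (c ^^^ a) (d ^^^ b) :=
  .mk' h r.1 ((E.ex r.2.1).mul h (E.ex r'.2.1)) (cjmul t _ _ ▸ (r.2.2 _ (E.ex r.2.1)).mul h (r'.2.2 _ (E.ex r'.2.1)))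
theorem Rl.symm (r : Rl v K t c d) : Rl v K t⁻¹ d c :=
  .mk' h (inv_mem r.1) (r.2.2 _ (E.ex r.2.1)) (by simpa [mul_assoc] using E.ex (v := v) (K := K) r.2.1)
theorem Rl.lin (r : ∀ j < 12, Rl v K t (2 ^ j) (F k (2 ^ j))) (hc : c < 4096) : Rl v K t c (F k c) := by
  have x : ∀ a b, Rl v K t a (F k a) → Rl v K t b (F k b) → Rl v K t (a ^^^ b) (F k (a ^^^ b)) := fun a b p q => Fxor k a b ▸ p.xor h q
  have := lin_induction' (fun a => Rl v K t a (F k a)) (x 1 1 (r 0 (by decide)) (r 0 (by decide))) x _ 12 c fun j hj _ => r j hj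
  rwa [lin_two_pow, Nat.mod_eq_of_lt (show c < 2 ^ 12 from hc)] at this
theorem exE (hx : x ∈ sQ v K) : ∃ c, E v K c x := by
  obtain ⟨b, hb, j, hj, rfl⟩ := exQ h hx
  obtain ⟨i, hi, e, he, rfl⟩ := ck4.2.1 b (Nat.lt_succ_of_le hb.le) hb
  exact ⟨i + 64 * j, by omega, e, he, by rw [show (i + 64 * j) % 64 = i by omega, show (i + 64 * j) / 64 = j by omega]⟩
theorem gK (hk : k < 7) (hc : c < 4096) : Rl v K (v (ga k) * K (gm k)) c (F k c) := by
  obtain ⟨o, e, r⟩ := ck3 k hk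
  simp only [force_eq, decide_eq_true_eq] at r
  refine .lin h (fun j hj => .mk' h ((h.fixi (h.elN _ _) (by decide)).2 (by rwa [h.rel o]))
    (E.ex (Nat.pow_lt_pow_right (n := 12) one_lt_two hj)) ⟨(r j hj).1, 0, two_pos, ?_⟩) hc
  have l : 2 ^ j < 2 ^ 12 := Nat.pow_lt_pow_right one_lt_two hj
  have := (r j hj).1
  rw [mul_inv_eq_iff_eq_mul, h.elm o (qk.1 _ (by omega)).1, h.elm (qk.1 _ (by omega)).1 o, (r j hj).2.1, (r j hj).2.2]
theorem cs1 : Cs v K 1 := fun x ⟨_, e, he, q⟩ => by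
  obtain ⟨g, -, o, r⟩ := (by decide +kernel : ∀ e < 2, ∃ g ∈ [ee 2 1, mm (ee 1 2) (ee 2 1)], ok g = true ∧
    Lv g 1 = e ^^^ wa (1 % 64)) e he
  exact isConj_iff.2 ⟨K g, by rw [h.Kcj o, r, q]; exact ((congrArg _ h.K1).trans (mul_one _)).symm⟩
end

theorem g5 (n : N2 A ρ v K ρ' K') (hc : c < 4096) : Rl v K (K' (ee 4 3)) c (F 7 c) := by
  have o : ok (ee 4 3) = true := by decide +kernel
  have k1 : ∀ c < 64, K' (ee 4 3) * (v c * K I5) * (K' (ee 4 3))⁻¹ = v c * K (ug (c / 8)) := fun c hc => by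
    rw [n.ik.K1, mul_one, n.toNM.y5v hc]
  have k2 : ∀ i < 16, ∀ g ∈ [ee 0 2, ee 1 2, ee 0 3, ee 1 3, ee 2 3, ee 3 2], (ok (ug i) = true ∧ ok g = true ∧
      mm (ee 4 3) (ug i) = mm (mm (ug i) g) (ee 4 3)) → K' (ee 4 3) * (v (64 * i) * K I5) * (K' (ee 4 3))⁻¹ = v (64 * i) * K g :=
    fun i hi g hg p => by
      rw [n.ik.K1, mul_one, ← n.eh i hi, ← n.eq g hg, ← n.ik'.km _ _ o p.1, p.2.2, n.ik'.km _ _ (ok_mm p.1 p.2.1) o,
        n.ik'.km _ _ p.1 p.2.1, mul_inv_cancel_right]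
  have k3 : ∀ a, Lv (ee 4 3) a = a → K' (ee 4 3) * xv v K a * (K' (ee 4 3))⁻¹ = xv v K a := fun a e => by rw [n.ik'.Kcj o, e]
  have k4 : ∀ g ∈ [ee 0 2, ee 1 2, ee 0 3, ee 1 3, ee 2 3, ee 3 2], (ok g = true ∧ mm (ee 4 3) g = mm g (ee 4 3)) →
      K' (ee 4 3) * (v 0 * K g) * (K' (ee 4 3))⁻¹ = v 0 * K g := fun g hg p => by
    rw [n.ik.v0, one_mul, ← n.eq g hg, n.ik'.Kcm o p.1 p.2, mul_inv_cancel_right]
  refine .lin n.ik (fun j hj => .mk' n.ik (cent_le_cent1 (n.ik.v3 (by decide)) n.toNM.y5.1)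
    (E.ex (Nat.pow_lt_pow_right (n := 12) one_lt_two hj)) ?_) hc
  rw [(by decide +kernel : ∀ j < 12, F 7 (2 ^ j) = [1, 2, 68, 136, 272, 544, 64, 128, 256, 512, 1024, 2048].getD j 0) j hj]
  interval_cases j <;> refine ⟨by decide, 0, two_pos, ?_⟩
  exacts [k1 2 (by decide), k1 4 (by decide), k1 8 (by decide), k1 16 (by decide),
    k2 1 (by decide) (ee 0 3) (by decide) (by decide +kernel), k2 2 (by decide) (ee 1 3) (by decide) (by decide +kernel),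
    k3 64 (by decide +kernel), k3 128 (by decide +kernel), k4 (ee 0 3) (by decide) (by decide +kernel),
    k4 (ee 1 3) (by decide) (by decide +kernel), k4 (ee 0 2) (by decide) (by decide +kernel), k4 (ee 1 2) (by decide) (by decide +kernel)]

theorem enR (r : ∀ k < 8, ∃ g ∈ J, ∀ c < 4096, Rl v K g c (F k c)) (n : ℕ) : ∀ c < 4096, ∃ g ∈ J, Rl v K g c (en n c) := by
  induction n with
  | zero => exact fun c hc => ⟨1, one_mem _, .one hc⟩
  | succ n ih =>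
    intro c hc
    rw [show en (n + 1) c = Bool.rec (force (F (getT DT 3 7 c) c) (en n)) c (tb TM c) from rfl, force_eq]
    obtain ⟨g, m, p⟩ := r (getT DT 3 7 c) (Nat.lt_succ_of_le Nat.and_le_right)
    obtain ⟨g', m', p'⟩ := ih _ (p c hc).lt
    cases tb TM c
    exacts [⟨_, mul_mem m' m, p'.mul (p c hc)⟩, ⟨1, one_mem _, .one hc⟩]

section
variable (h : C1 A ρ v K) (nX : N(X1 v K) ≤ sP v K)
include h
theorem Rl.ex (m : t ∈ C[v 1]) (hc : c < 4096) : ∃ d, Rl v K t c d :=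
  (exE h.toIK (conj_mem_of_norm (h.le.norm m) (E.ex hc).mem)).imp fun _ e => .mk' h.toIK m (E.ex hc) e
include nX
theorem fu (hx : x ∈ X1 v K) (hy : y ∈ X1 v K) (e : IsConj x y) : ∃ n ∈ sP v K, n * x * n⁻¹ = y := by
  obtain ⟨g, rfl⟩ := isConj_iff.1 e
  exact (fus1 h.syl (h.X1R.trans h.RT) (ab_sq h.sq1) (fun g _ => h.wc _ (.inr (.inr rfl)) g) (mem_top g) hx hy).imp
    fun _ e => ⟨nX e.1.2, e.2⟩
theorem cls (hx : x ∈ X1 v K) (e : IsConj (v 1) x) : ∃ u < 32, ∃ w < 32, wd u w ≠ 0 ∧ x = v (wd u w) := by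
  obtain ⟨n, m, rfl⟩ := fu h nX (h.ZX1 (h.vP (by decide))) hx e
  have o := h.okr n (h.PN m)
  have q : Lv (ρ n) 1 = _ := Lv_pow o (k := 0) (by decide)
  exact ⟨_, ok_cl o (by decide), _, ok_cl o (by decide), q ▸ mt (h.Lv0 (h.PN m) (by decide)) one_ne_zero, q ▸ h.cjv (h.PN m) 1⟩
theorem ncs (hd : d < 430) (p : tb TM d = true) (k : Cs v K d) : d = 1 := (ck4.2.2.1 d hd p).resolve_right fun q => by
  simp only [force_eq, decide_eq_true_eq] at q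
  have e := k _ (E.ex (by omega))
  have l := (swa two_pos d).le
  obtain ⟨o, -, s⟩ := qk.1 (d / 64) (by omega)
  rcases q with q | ⟨q, r⟩
  · obtain ⟨g, e⟩ := isConj_iff.1 e
    refine q ((h.v1 (x10 (by omega) (Lv_lt _ _))).1 ?_)
    have := h.elm o o (0 ^^^ wa (d % 64)) (0 ^^^ wa (d % 64))
    rw [s, h.K1, mul_one] at this
    rw [← this, ← e, ← cjmul, h.vv, mul_one, mul_inv_cancel]
  · obtain ⟨u, hu, w, hw, n, e⟩ := cls h nX (h.mem_X1.2 ⟨_, l.trans_lt (by decide), by rw [q]⟩) e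
    rw [← mul_one (v (wd u w)), ← h.K1] at e
    have := h.uniq (by omega) (wdk' hu hw).1 o okI.1 e
    have := r u hu w hw
    omega
variable (r : ∀ k < 8, ∃ g ∈ J, ∀ c < 4096, Rl v K g c (F k c))
include r
theorem cs_iff (hc : c < 4096) : Cs v K c ↔ tb SM c = true := by
  obtain ⟨g, -, p⟩ := enR r 12 c hc
  rw [(ck1' hc).2.1]
  exact ⟨fun k => ncs h nX (ck1' hc).1.1 (ck1' hc).1.2 ((p.symm h.toIK).cs k), fun e => p.cs (e ▸ cs1 h.toIK)⟩
theorem Rl.s (p : Rl v K t c d) : tb SM d = tb SM c := by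
  rw [Bool.eq_iff_iff, ← cs_iff h nX r p.lt, ← cs_iff h nX r p.2.1]
  exact ⟨p.cs, (p.symm h.toIK).cs⟩
theorem Rl.c1 (p : Rl v K t d d') (pa : Rl v K t a a') (pb : Rl v K t b b') (pc : Rl v K t c c') (e : c1 SM d a b c = true) :
    c1 SM d' a' b' c' = true := by
  simp only [RG.c1, xor_eq'] at e ⊢
  rwa [(p.xor h.toIK pa).s h nX r, (p.xor h.toIK pb).s h nX r, (p.xor h.toIK pc).s h nX r, ((p.xor h.toIK pb).xor h.toIK pc).s h nX r]
theorem Rl.mem (p : Rl v K t c d) (e : tb SM c = true) : d ∈ LL := (ck1' p.lt).2.2 ((p.s h nX r).trans e)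
theorem cJ (l : N(A) ≤ J) : C[v 1] ≤ J := fun t m => by
  obtain ⟨d, p⟩ := Rl.ex h m (c := 1) (by decide)
  obtain ⟨g, gJ, q⟩ := enR r 12 d p.lt
  rw [(ck1' p.lt).2.1.1 ((p.s h nX r).trans (by decide +kernel))] at q
  rw [← mul_mem_cancel_left gJ]
  have p0 := q.mul p
  generalize g * t = t at p0
  obtain ⟨d1, p1⟩ := Rl.ex h p0.1 (c := 2) (by decide)
  obtain ⟨d2, p2⟩ := Rl.ex h p0.1 (c := 4) (by decide)
  obtain ⟨d3, p3⟩ := Rl.ex h p0.1 (c := 8) (by decide)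
  obtain ⟨d4, p4⟩ := Rl.ex h p0.1 (c := 16) (by decide)
  obtain ⟨d5, p5⟩ := Rl.ex h p0.1 (c := 32) (by decide)
  have k := ck2
  simp only [force_eq, allL_iff, bimp_iff, anyL_iff, band_iff, bor_iff, xor_eq', okt, decide_eq_true_eq] at k
  obtain ⟨⟨i, j, μ⟩, w, k2, k4, k0, k⟩ := k d2 (p2.mem h nX r (by decide +kernel)) (((p0.xor h.toIK p2).s h nX r).trans (by decide +kernel))
    d4 (p4.mem h nX r (by decide +kernel)) (((p0.xor h.toIK p4).s h nX r).trans (by decide +kernel))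
    (((p2.xor h.toIK p4).s h nX r).trans (by decide +kernel)) ((((p0.xor h.toIK p2).xor h.toIK p4).s h nX r).trans (by decide +kernel))
  have k1 := k d1 (p1.mem h nX r (by decide +kernel)) (.inl (p1.c1 h nX r p0 p2 p4 (by decide +kernel)))
  have k3 := k d3 (p3.mem h nX r (by decide +kernel)) (.inr (.inl (p3.c1 h nX r p2 p0 p4 (by decide +kernel))))
  have k5 := k d5 (p5.mem h nX r (by decide +kernel)) (.inr (.inr (p5.c1 h nX r p4 p0 p2 (by decide +kernel))))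
  obtain ⟨hi, hj, hμ⟩ := (by decide : ∀ t ∈ TR, t.1 < 8 ∧ t.2.1 < 8 ∧ (t.2.2 = 63 ∨ t.2.2 = 207)) _ w
  obtain ⟨g1, m1, r1⟩ := r i hi
  obtain ⟨g2, m2, r2⟩ := r j hj
  rw [← mul_mem_cancel_left m2, ← mul_mem_cancel_left m1]
  have s : ∀ {c d}, Rl v K t c d → sb (F i (F j d)) μ → ∃ d, sb d μ ∧ Rl v K (g1 * (g2 * t)) c d := fun p e =>
    ⟨_, e, (r1 _ (r2 _ p.lt).lt).mul ((r2 _ p.lt).mul p)⟩
  generalize g1 * (g2 * t) = u at s
  have xo : ∀ a b, (∃ d, sb d μ ∧ Rl v K u a d) → (∃ d, sb d μ ∧ Rl v K u b d) → ∃ d, sb d μ ∧ Rl v K u (a ^^^ b) d :=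
    fun a b ⟨_, e, p⟩ ⟨_, f, q⟩ => ⟨_, e.xor f, p.xor h.toIK q⟩
  have z : ∀ X : Subgroup G, (∀ d < 208, ∀ x, sb d μ → E v K d x → x ∈ X) → cj u (sW v K) ≤ X := fun X e y hy => by
    obtain ⟨x, hx, rfl⟩ := mem_cj'.1 hy
    obtain ⟨b, hb, rfl⟩ := h.memV gdk.1.2.1 hx (h.PA hx)
    obtain ⟨c, hc, f, hf, rfl⟩ := ck4.2.1 b (Nat.lt_succ_of_le hb.le) hb
    have := lin_induction' (fun a => ∃ d, sb d μ ∧ Rl v K u a d) (xo 1 1 (s p0 k0) (s p0 k0)) xo (2 ^ ·) 6 c fun j hj _ => by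
      interval_cases j
      exacts [s p0 k0, s p1 k1, s p2 k2, s p3 k3, s p4 k4, s p5 k5]
    rw [lin_two_pow, Nat.mod_eq_of_lt (show c < 2 ^ 6 from hc)] at this
    obtain ⟨d, q, p⟩ := this
    exact e d (by have := q.le; simp only at hμ; omega) _ q (p.2.2 _ ⟨by omega, f, hf, by
      rw [Nat.mod_eq_of_lt hc, Nat.div_eq_of_lt hc]; exact ((congrArg _ h.K1).trans (mul_one _)).symm⟩)
  rcases hμ with rfl | rfl
  · exact l (h.nw (mem_norm_of_cj_le (z _ fun d hd x q ⟨_, e, he, p⟩ => p ▸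
      el_PS ((ck4.2.2.2 d hd e he).1 q).1 (qk.1 _ (by omega)).1 ((ck4.2.2.2 d hd e he).1 q).2)))
  · have := z (X0 v K) fun d hd x q ⟨_, e, he, p⟩ => p ▸
      el_PS ((ck4.2.2.2 d hd e he).2 q).1 (qk.1 _ (by omega)).1 ((ck4.2.2.2 d hd e he).2 q).2
    have e : X0 v K = cj u A := eq_of_le_of_card_eq ((ab_sq h.sq0).trans ((cent_mono this).trans
      (H19.cj_cent u _ ▸ cj_mono u h.cw))) (h.cX0.trans ((card_cj u A).trans h.cA).symm)
    exact absurd (e.trans (h.wc A (.inl rfl) u (e ▸ h.X0R.trans h.RT))) (h.AX (.inl rfl))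
end

end H8.RG
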