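/-
S3320, chunk `F7`: identification with the orthogonal group.
-/
import Cfsg.Agent.H8.RG7

set_option autoImplicit false
set_option linter.unusedSectionVars false
set_option linter.unusedVariables false
set_option maxRecDepth 100000
set_option synthInstance.maxSize 4000
open Cfsg Subgroup H19 H0 H15 H10.RF H10.RG
open scoped commutatorElement Pointwise
namespace H8.RG
local notation "mm" => H10.RG.mm
local notation "cj" => H19.cj
universe u
variable {G : Type u} [Group G] [Finite G] {A J : Subgroup G} {ρ ρ' : G → ℕ} {v K K' : ℕ → G}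

theorem cdt : ∀ i j : Fin 5, i ≠ j → cd (tv i j) = ee i j := by decide +kernel
theorem kt (h : IK A ρ v K) (i j : Fin 5) (k : i ≠ j) : h.kap (tv i j) = K (ee i j) := congrArg K (cdt i j k)
theorem d5 (n : N2 A ρ v K ρ' K') :
    D5 n.ik.kap (n.ik'.kap (tv 3 4)) (n.ik'.kap (tv 4 3)) (n.ik'.kap (tv 2 4)) (n.ik'.kap (tv 4 2)) := by
  have e : ∀ i j : Fin 5, i ≠ j → ee i j ∈ [ee 0 2, ee 1 2, ee 0 3, ee 1 3, ee 2 3, ee 3 2] → n.ik.kap (tv i j) = n.ik'.kap (tv i j) :=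
    fun i j k m => by rw [kt _ i j k, kt _ i j k, n.eq _ m]
  have sq : ∀ i j, n.ik'.kap (tv i j) * n.ik'.kap (tv i j) = 1 := fun i j => by rw [← map_mul, tv_sq, map_one]
  have cm : ∀ i j k l, i ≠ l ∧ j ≠ k → Commute (n.ik'.kap (tv i j)) (n.ik'.kap (tv k l)) := fun i j k l p =>
    Commute.map (tv_cm i j k l p.1 p.2) _
  have r : ∀ i j k, i ≠ j ∧ i ≠ k ∧ j ≠ k → ⁅n.ik'.kap (tv i j), n.ik'.kap (tv j k)⁆ = n.ik'.kap (tv i k) := fun i j k p => by
    rw [← map_commutatorElement, (tv_rel i j k p.1 p.2.1 p.2.2).2.2]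
  have k : ∀ i j : Fin 5, i ≠ j ∧ ee i j ∈ [ee 0 1, ee 1 0, ee 1 2, ee 2 1, ee 3 4, ee 4 3] ∧ ok (ee i j) = true ∧ Lv (ee i j) 512 = 512 →
      Commute (n.ik.kap (tv i j)) (n.ik'.kap (tv 3 4)) ∧ Commute (n.ik.kap (tv i j)) (n.ik'.kap (tv 4 3)) := fun i j p => by
    rw [kt _ i j p.1, kt _ 4 3 (by decide), (kt _ 3 4 (by decide)).trans (n.eh 8 (by decide))]
    exact ⟨mem_cent1.1 ((n.ik.fixK p.2.2.1 (by decide)).2 p.2.2.2), n.cm _ p.2.1⟩
  have e1 := e 2 3 (by decide) (by decide)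
  have e2 := e 3 2 (by decide) (by decide)
  refine ⟨?_, ⟨sq _ _, sq _ _, sq _ _, sq _ _⟩, ?_, ?_, ?_, ?_⟩
  · simp only [List.forall_mem_cons]
    exact ⟨k _ _ (by decide +kernel), k _ _ (by decide +kernel), k _ _ (by decide +kernel), k _ _ (by decide +kernel),
      k _ _ (by decide +kernel), k _ _ (by decide +kernel), fun _ e => absurd e List.not_mem_nil⟩
  all_goals simp only [e1, e2]
  exacts [⟨r _ _ _ (by decide), cm _ _ _ _ (by decide), cm _ _ _ _ (by decide)⟩,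
    ⟨r _ _ _ (by decide), cm _ _ _ _ (by decide), cm _ _ _ _ (by decide)⟩, ⟨cm _ _ _ _ (by decide), cm _ _ _ _ (by decide)⟩,
    ⟨r _ _ _ (by decide), r _ _ _ (by decide), r _ _ _ (by decide), r _ _ _ (by decide)⟩]

theorem nJ (h : IK A ρ v K) (l : h.kap.range ≤ J) (m : v 512 ∈ J) : N(A) ≤ J := fun x hx => by
  have k : ∀ g, ok g = true → K g ∈ J := fun g o => let ⟨m, e⟩ := ex_cd o; e ▸ l ⟨m, rfl⟩
  obtain ⟨a, ha, e⟩ := h.dec hx
  rw [e, ← Nat.mod_eq_of_lt (show a < 2 ^ 10 from ha), ← lin_two_pow]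
  refine mul_mem (lin_induction' (fun a => v a ∈ J) (h.v0 ▸ one_mem J) (fun a b p q => h.vx a b ▸ mul_mem p q) _ _ _ fun j hj _ => ?_)
    (k _ (h.okr x hx))
  obtain ⟨g, -, o, e⟩ := (by decide +kernel : ∀ j < 10, ∃ g ∈ [35193029148676, 70377401237506, 70385991172097, 140746145406978,
    140754735341569, 140771915206657, 281483600207874, 281492190142465, 281509370007553, I5], ok g = true ∧ Lv g 512 = 2 ^ j) j hj
  rw [← e, ← h.Kcj o]
  exact mul_mem (mul_mem (k g o) m) (inv_mem (k g o))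

theorem f7 : F7.{u} := by
  intro G _ _ _ A ρ ρ' v K K' h n nX
  have e3 : n.ik'.kap (tv 3 4) = v 512 := (kt _ 3 4 (by decide)).trans (n.eh 8 (by decide))
  have e5 : n.ik'.kap (tv 4 3) = K' (ee 4 3) := kt _ 4 3 (by decide)
  obtain ⟨J, hJ⟩ : ∃ J, J = n.ik.kap.range ⊔ zpowers (n.ik'.kap (tv 3 4)) ⊔ zpowers (n.ik'.kap (tv 4 3)) := ⟨_, rfl⟩
  have l : N(A) ≤ J := nJ n.ik (hJ ▸ le_sup_left.trans le_sup_left) (e3 ▸ hJ ▸ mem_sup_left (mem_sup_right (mem_zpowers _)))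
  have y : K' (ee 4 3) ∈ J := e5 ▸ hJ ▸ mem_sup_right (mem_zpowers _)
  obtain ⟨φ⟩ := ct _ _ _ _ _ J (d5 n) hJ (e3 ▸ mt (h.v1 (by decide)).1 (by decide))
    (eq_bot_iff.2 (inf_le_right.trans (cN h.toIK ▸ cent_mono l)))
  let a : Fin 4 → ℕ := ![1, 33, 64, 68]
  have ha : ∀ i, a i < 1024 ∧ a i / 64 < 16 ∧ a i ≠ 0 ∧ ok (ug (a i / 64)) = true := by decide +kernel
  have m : ∀ i, v (a i) * K (ug (a i / 64)) ∈ X1 v K := fun i => h.mem_X1.2 ⟨_, (ha i).1, rfl⟩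
  have e0 : v (a 0) * K (ug (a 0 / 64)) = v 1 := by
    rw [show a 0 = 1 from rfl, show ug (1 / 64) = I5 from rfl, h.K1, mul_one]
  have nc : ∀ i j, i < j → ¬ IsConj (v (a i) * K (ug (a i / 64))) (v (a j) * K (ug (a j / 64))) := fun i j ij c => by
    rcases (by decide +kernel : ∀ i j : Fin 4, i < j → i = 0 ∧ (∀ u < 32, ∀ w < 32, a j ≠ wd u w ∨ ug (a j / 64) ≠ I5) ∨
      sb (a i) 63 ∧ inP 0 (ug (a i / 64)) ∧ ¬ sb (a j) 63 ∨ i = 2 ∧ j = 3) i j ij with ⟨rfl, p⟩ | p | ⟨rfl, rfl⟩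
    · obtain ⟨u, hu, w, hw, -, e⟩ := cls h nX (m j) (e0 ▸ c)
      rw [← mul_one (v (wd u w)), ← h.K1] at e
      have := h.uniq (ha j).1 (wdk' hu hw).1 (ha j).2.2.2 okI.1 e
      exact (p u hu w hw).elim (· this.1) (· this.2)
    · obtain ⟨g, gP, e⟩ := fu h nX (m i) (m j) c
      exact p.2.2 ((h.el_mem gdk.1.1 (ha j).1 (ha j).2.2.2).1 (e ▸ conj_mem_of_norm (h.PZ gP) (el_PS p.1 (ha i).2.2.2 p.2.1))).1
    · obtain ⟨g, gP, e⟩ := fu h nX (m 2) (m 3) c
      have o := h.okr g (h.PN gP)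
      have o' := n.ik'.okr g (h.PX0 gP)
      rw [cjmul, show a 2 = 2 ^ 6 from rfl, show K (ug (2 ^ 6 / 64)) = xv v K (2 ^ 6) from
        ((congrArg (· * _) h.v0).trans (one_mul _)).symm, n.ik'.cjv (h.PX0 gP), h.cjv (h.PN gP), Lv_pow o (by decide), Lv_pow o' (by decide), xv, ← mul_assoc, ← h.vx] at e
      have t : ∀ u < 32, ∀ w < 32, wd u w < 1024 ∧ (wd u w / 64 = 1 → (wd u w).testBit 2 = false) := by decide +kernel
      have p := t _ (ok_cl o (j := pp 6) (by decide)) _ (ok_cl o (j := qq 6) (by decide))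
      have q := t _ (ok_cl o' (j := pp 6) (by decide)) _ (ok_cl o' (j := qq 6) (by decide))
      generalize wd (cl11 (ρ g) _) _ = b at e p
      generalize wd (cl11 (ρ' g) _) _ = c at e q
      obtain ⟨r, s⟩ := h.uniq (x10 p.1 (by omega)) (ha 3).1 (ugk _ (by omega)).1 (ha 3).2.2.2 e
      rw [show a 3 = 68 from rfl] at r
      have s := congrArg ui s
      rw [(ugk _ (by omega)).2.2, show ui (ug (a 3 / 64)) = 1 by decide +kernel] at s
      have r1 := congrArg (· / 2 ^ 6) r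
      have r2 := congrArg (·.testBit 2) r
      simp only [Nat.xor_div_two_pow, show c % 64 / 2 ^ 6 = 0 by omega, Nat.xor_zero] at r1
      simp only [Nat.testBit_xor, p.2 r1, show 64 = 2 ^ 6 from rfl, Nat.testBit_mod_two_pow, q.2 (by omega)] at r2
      exact absurd r2 (by decide)
  have := ho (sT v K) J (fun i => v (a i) * K (ug (a i / 64))) h.syl (by simpa only [e0] using h.TC)
    (by simpa only [e0] using cJ h nX (fun k hk => (Nat.lt_succ_iff_lt_or_eq.1 hk).elim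
      (fun hk => ⟨_, l (h.elN _ _), fun c => gK h.toIK hk⟩) fun e => ⟨_, y, fun c => e ▸ g5 n⟩) l) ⟨φ⟩
    (fun i => ⟨l (h.elN _ _), h.sq1 _ (m i), fun e => (ha i).2.2.1 (h.uniq (ha i).1 (by decide) (ha i).2.2.2 okI.1
      (e.trans (by rw [h.v0, h.K1, mul_one]))).1⟩)
    fun i j c => (lt_trichotomy i j).elim (fun k => absurd c (nc i j k)) fun k => k.elim id fun k => absurd c.symm (nc j i k)
  subst this
  exact ⟨topEquiv.symm.trans φ⟩

end H8.RG
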