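/-
Standard subgroups isomorphic to `Sz(8)`, part 0: the field with eight elements and finite checks.
-/
import Cfsg.Agent.H23.SzAut
import Cfsg.Agent.H23.SzSub2

set_option autoImplicit false

namespace H8.SZ
open H23 H23.Sz

/-- the field with eight elements -/
def F8 : Type := Fin 8

namespace F8
instance : DecidableEq F8 := inferInstanceAs (DecidableEq (Fin 8))
instance : Fintype F8 := inferInstanceAs (Fintype (Fin 8))
instance (P : F8 → Prop) [h : DecidablePred P] : Decidable (∀ x, P x) := @Nat.decidableForallFin 8 P h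
instance (P : F8 → Prop) [h : DecidablePred P] : Decidable (∃ x, P x) := @Nat.decidableExistsFin 8 P h
/-- the element with a given code -/
def e (n : ℕ) : F8 := Fin.ofNat 8 n
instance : Add F8 := ⟨fun a b => e (Nat.xor a.1 b.1)⟩
instance : Mul F8 := ⟨fun a b => e (Nat.shiftRight 0x3461257042351760637241501526734021475630571364207654321000000000
  (Nat.mul 4 (Nat.add (Nat.mul 8 a.1) b.1)))⟩
instance : Neg F8 := ⟨fun a => a⟩
instance : Inv F8 := ⟨fun a => e (Nat.shiftRight 0x43276510 (Nat.mul 4 a.1))⟩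
instance : Zero F8 := ⟨e 0⟩
instance : One F8 := ⟨e 1⟩
instance : Field F8 := Field.ofMinimalAxioms F8 (by decide +kernel) (by decide +kernel) (by decide +kernel)
  (by decide +kernel) (by decide +kernel) (by decide +kernel) (by decide +kernel) (by decide +kernel)
  (by decide +kernel) ⟨0, 1, by decide +kernel⟩
theorem card : Fintype.card F8 = 2 ^ (2 * 1 + 1) := rfl
theorem ncard : Nat.card F8 = 8 := by rw [Nat.card_eq_fintype_card]; rfl
instance : Tits F8 := ⟨⟨⟨⟨fun x => x ^ 4, by decide +kernel⟩, by decide +kernel⟩, by decide +kernel, by decide +kernel⟩,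
  by decide +kernel⟩
instance : Sz.Big F8 := ⟨e 2, by decide +kernel⟩
end F8
open F8

theorem two0 : (2 : F8) = 0 := by decide +kernel
theorem aa (a : F8) : a + a = 0 := by revert a; decide +kernel
theorem ng (a : F8) : -a = a := rfl
theorem add0 {a b : F8} : a + b = 0 ↔ a = b := by revert a b; decide +kernel
theorem p8 (a : F8) : a ^ 8 = a := by revert a; decide +kernel
theorem p5 {a b : F8} (h : a ^ 5 = b ^ 5) : a = b := by revert a b; decide +kernel
theorem p50 {a : F8} : a ^ 5 = 0 ↔ a = 0 := by revert a; decide +kernel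
theorem r5 (a : F8) : (a ^ 3) ^ 5 = a := by revert a; decide +kernel
theorem r3 (a : F8) : (a ^ 5) ^ 3 = a := by revert a; decide +kernel
theorem gen2 : ∀ b : F8, b ≠ 0 → ∃ i : Fin 7, e 2 ^ (i : ℕ) = b := by decide +kernel
theorem cmx : ∀ u : F8, ∃ a c : F8, a ^ 4 * c + a * c ^ 4 = u := by decide +kernel
theorem cm0 : ∀ a c : F8, a ^ 4 * c + c ^ 4 * a = 0 ↔ a = 0 ∨ c = 0 ∨ a = c := by decide +kernel
theorem cmz : ∀ a : F8, (∀ c, a ^ 4 * c + c ^ 4 * a = 0) → a = 0 := by decide +kernel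
theorem fpf : ∀ b a : F8, b ≠ 0 → b ≠ 1 → (b ^ 3 * a = a → a = 0) ∧ (b * a = a → a = 0) := by decide +kernel
theorem sj3 : ∀ a : F8, ∃ c, e 2 ^ 3 * c + c = a := by decide +kernel
theorem sj1 : ∀ a : F8, ∃ c, e 2 * c + c = a := by decide +kernel
theorem span5 : ∀ a c u : F8, a ≠ 0 → c ≠ 0 → a ≠ c → u = 0 ∨ u = a ^ 5 ∨ u = c ^ 5 ∨ u = (a + c) ^ 5 ∨
    u = a ^ 5 + c ^ 5 ∨ u = a ^ 5 + (a + c) ^ 5 ∨ u = c ^ 5 + (a + c) ^ 5 ∨ u = a ^ 5 + c ^ 5 + (a + c) ^ 5 := by
  decide +kernel

/-- the trace -/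
def tr (x : F8) : F8 := x + x * x + x * x * (x * x)
theorem tr_add : ∀ a b : F8, tr (a + b) = tr a + tr b := by decide +kernel
theorem tr01 : ∀ a : F8, tr a = 0 ∨ tr a = 1 := by decide +kernel
theorem tr0 : tr 0 = 0 := by decide +kernel
theorem tr_nd : ∀ l : F8, (∀ x, tr (l * x) = 0) → l = 0 := by decide +kernel
theorem tr_two : ∀ x y : F8, x ≠ 0 → y ≠ 0 → x ≠ y →
    ∃ l, l ≠ 0 ∧ ∀ k, tr (l * k) = 0 ↔ k = 0 ∨ k = x ∨ k = y ∨ k = x + y := by decide +kernel
theorem tr_one : ∀ x : F8, ∃ l, l ≠ 0 ∧ tr (l * x) = 0 := by decide +kernel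

/-- the additive map with given values on the basis -/
def lin (x y z a : F8) : F8 :=
  (if a.1 % 2 = 1 then x else 0) + (if a.1 / 2 % 2 = 1 then y else 0) + (if a.1 / 4 = 1 then z else 0)

theorem eq_lin {α : F8 → F8} (h : ∀ a b, α (a + b) = α a + α b) (a : F8) : α a = lin (α 1) (α (e 2)) (α (e 4)) a := by
  have h0 : α 0 = 0 := by have := h 0 0; rwa [add_zero, aa] at this
  have k : a = (if a.1 % 2 = 1 then 1 else 0) + (if a.1 / 2 % 2 = 1 then e 2 else 0) + (if a.1 / 4 = 1 then e 4 else 0) := by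
    revert a; decide +kernel
  conv_lhs => rw [k, h, h]
  unfold lin
  split_ifs <;> simp only [h0]

theorem sl0 : ∀ x y z : F8, (∀ a b, lin x y z ((a ^ 5 + b ^ 5) ^ 3) ^ 5 = lin x y z a ^ 5 + lin x y z b ^ 5) →
    x = 0 ∨ (∀ a, lin x y z a = x * a) ∨ (∀ a, lin x y z a = x * a ^ 2) ∨ (∀ a, lin x y z a = x * a ^ 4) := by
  decide +kernel

/-- semilinearity -/
theorem sl {α β : F8 → F8} (h : ∀ a b, α (a + b) = α a + α b) (h' : ∀ a b, β (a + b) = β a + β b)
    (k : ∀ a, β (a ^ 5) = α a ^ 5) (h1 : α 1 ≠ 0) :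
    (∀ a, α a = α 1 * a) ∨ (∀ a, α a = α 1 * a ^ 2) ∨ (∀ a, α a = α 1 * a ^ 4) := by
  have := (sl0 (α 1) (α (e 2)) (α (e 4)) fun a b => by
    rw [← eq_lin h, ← eq_lin h, ← eq_lin h, ← k, ← k, ← k, r5, h']).resolve_left h1
  simpa only [← eq_lin h] using this

theorem sl2 : ∀ c : F8, ((∀ a, c * (c * a) = a) → ∀ a, c * a = a) ∧ ¬ (∀ a, c * (c * a ^ 2) ^ 2 = a) ∧
    ¬ (∀ a, c * (c * a ^ 4) ^ 4 = a) := by decide +kernel

theorem bl0 : ∀ x y z : F8, (∀ a u v, (u + v) * lin x y z (a * (u + v) ^ 4) =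
    u * lin x y z (a * u ^ 4) + v * lin x y z (a * v ^ 4)) → ∀ a, lin x y z a = x * a ^ 2 := by
  decide +kernel

/-- equivariant biadditive maps -/
theorem bl {c : F8 → F8 → F8} (h1 : ∀ a a' b, c (a + a') b = c a b + c a' b) (h2 : ∀ a b b', c a (b + b') = c a b + c a b')
    (k : ∀ l a b, l ≠ 0 → c (l ^ 3 * a) (l * b) = l * c a b) (a b : F8) : c a b = c 1 1 * (a ^ 2 * b ^ 2) := by
  have h0 : ∀ a, c a 0 = 0 := fun a => by have := h2 a 0 0; rwa [add_zero, aa] at this
  have k1 : ∀ a u, c a u = u * c (a * u ^ 4) 1 := fun a u => by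
    by_cases hu : u = 0
    · rw [hu, h0, zero_mul]
    rw [← k u _ _ hu, mul_one, show u ^ 3 * (a * u ^ 4) = a from by
      have : ∀ a u : F8, u ≠ 0 → u ^ 3 * (a * u ^ 4) = a := by decide +kernel
      exact this a u hu]
  have l := fun a => eq_lin (α := fun a => c a 1) (fun a b => h1 a b 1) a
  have := bl0 (c 1 1) (c (e 2) 1) (c (e 4) 1) fun a u v => by
    rw [← l, ← l, ← l, ← k1, ← k1, ← k1, h2]
  rw [k1, l, this]
  have : ∀ x a b : F8, b * (x * (a * b ^ 4) ^ 2) = x * (a ^ 2 * b ^ 2) := by decide +kernel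
  exact this _ _ _

theorem ker2 {g : F8 → F8} (h : ∀ a b, g (a + b) = g a + g b) (h1 : ∀ a, g a = 0 ∨ g a = 1) :
    ∃ a c, a ≠ 0 ∧ c ≠ 0 ∧ a ≠ c ∧ g a = 0 ∧ g c = 0 := by
  have : ∀ x y z : F8, x = 0 ∨ x = 1 → y = 0 ∨ y = 1 → z = 0 ∨ z = 1 →
    ∃ a c, a ≠ 0 ∧ c ≠ 0 ∧ a ≠ c ∧ lin x y z a = 0 ∧ lin x y z c = 0 := by decide +kernel
  simpa only [← eq_lin h] using this _ _ _ (h1 1) (h1 (e 2)) (h1 (e 4))

/-- a proper additive subgroup lies in a hyperplane -/
theorem hyp_of {p : F8 → Prop} (ha : ∀ x y, p x → p y → p (x + y)) {u : F8} (hu : ¬ p u) :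
    ∃ l, l ≠ 0 ∧ ∀ x, p x → tr (l * x) = 0 := by
  by_cases h1 : ∃ x, p x ∧ x ≠ 0
  · obtain ⟨x, px, x0⟩ := h1
    by_cases h2 : ∃ y, p y ∧ y ≠ 0 ∧ x ≠ y
    · obtain ⟨y, py, y0, xy⟩ := h2
      obtain ⟨l, l0, k⟩ := tr_two x y x0 y0 xy
      have m : ∀ z, tr (l * z) = 0 → p z := fun z hz => by
        rcases (k z).1 hz with rfl | rfl | rfl | rfl
        exacts [aa x ▸ ha _ _ px px, px, py, ha _ _ px py]
      refine ⟨l, l0, fun z pz => (tr01 _).resolve_right fun h => hu ?_⟩
      rcases tr01 (l * u) with j | j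
      · exact m u j
      · have := ha _ _ pz (m (z + u) (by rw [mul_add, tr_add, h, j, aa]))
        rwa [← add_assoc, aa, zero_add] at this
    · obtain ⟨l, l0, k⟩ := tr_one x
      refine ⟨l, l0, fun y py => ?_⟩
      by_cases y0 : y = 0
      · rw [y0, mul_zero, tr0]
      by_cases xy : x = y
      · exact xy ▸ k
      exact (h2 ⟨y, py, y0, xy⟩).elim
  · exact ⟨1, one_ne_zero, fun x px => by rw [not_not.1 fun h => h1 ⟨x, px, h⟩, mul_zero, tr0]⟩

/-- an additive subgroup with two independent elements -/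
theorem sub_tr {p : F8 → Prop} (ha : ∀ x y, p x → p y → p (x + y)) {x y : F8} (px : p x) (py : p y) (x0 : x ≠ 0)
    (y0 : y ≠ 0) (xy : x ≠ y) : ∃ l, ∀ k, p k ↔ tr (l * k) = 0 := by
  by_cases h : ∀ u, p u
  · exact ⟨0, fun k => by simp [h, tr0]⟩
  obtain ⟨u, hu⟩ := not_forall.1 h
  obtain ⟨l, l0, k⟩ := hyp_of ha hu
  obtain ⟨l', -, k'⟩ := tr_two x y x0 y0 xy
  have : ∀ l l' x y : F8, l ≠ 0 → x ≠ 0 → y ≠ 0 → x ≠ y → tr (l * x) = 0 → tr (l * y) = 0 → ∀ z, tr (l * z) = 0 →
    z = 0 ∨ z = x ∨ z = y ∨ z = x + y := fun l _ => by revert l; decide +kernel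
  refine ⟨l, fun z => ⟨k z, fun hz => ?_⟩⟩
  rcases this l l' x y l0 x0 y0 xy (k x px) (k y py) z hz with rfl | rfl | rfl | rfl
  exacts [aa x ▸ ha _ _ px px, px, py, ha _ _ px py]

/-- the quadratic map -/
def qf (c e k a b : F8) : F8 := a ^ 5 + (e + k) * b + c * (a ^ 2 * b ^ 2)
/-- its polar -/
def bf (c k a b k' a' b' : F8) : F8 := a ^ 4 * a' + a * a' ^ 4 + k * b' + k' * b + c * (a ^ 2 * b' ^ 2 + a' ^ 2 * b ^ 2)

theorem qf_add (c e k a b k' a' b' : F8) :
    qf c e (k + k') (a + a') (b + b') = qf c e k a b + qf c e k' a' b' + bf c k a b k' a' b' := by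
  unfold qf bf
  linear_combination (2 * a ^ 4 * a' + 5 * a ^ 3 * a' ^ 2 + 5 * a ^ 2 * a' ^ 3 + 2 * a * a' ^ 4 +
    c * (a * a' * (b ^ 2 + 2 * b * b' + b' ^ 2) + (a ^ 2 + a' ^ 2) * b * b')) * two0

theorem bf_comm (c k a b k' a' b' : F8) : bf c k a b k' a' b' = bf c k' a' b' k a b := by unfold bf; ring

theorem bf_add (c k a b k' a' b' k'' a'' b'' : F8) :
    bf c k a b (k' + k'') (a' + a'') (b' + b'') = bf c k a b k' a' b' + bf c k a b k'' a'' b'' := by
  unfold bf
  linear_combination (a * (2 * a' ^ 3 * a'' + 3 * a' ^ 2 * a'' ^ 2 + 2 * a' * a'' ^ 3) +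
    c * (a ^ 2 * b' * b'' + a' * a'' * b ^ 2)) * two0

/-- a violation of the structure of `R × S` -/
def Bad (c e l k a k1 a1 b1 k2 a2 b2 : F8) : Prop :=
  tr (l * k1) = 0 ∧ tr (l * k2) = 0 ∧ bf c k a 1 k1 a1 b1 = 0 ∧ bf c k a 1 k2 a2 b2 = 0 ∧
    qf c e k1 a1 b1 = qf c e k2 a2 b2 ∧ qf c e (k1 + k2) (a1 + a2) (b1 + b2) ≠ 0
instance (c e l k a k1 a1 b1 k2 a2 b2 : F8) : Decidable (Bad c e l k a k1 a1 b1 k2 a2 b2) := by unfold Bad; infer_instance
/-- table entries -/
def wt (T : ℕ) (l x a : F8) (i : ℕ) : F8 := e (Nat.shiftRight T (18 * (64 * l.1 + 8 * x.1 + a.1) + 3 * i))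
/-- witnesses -/
def T0 : ℕ := 0x142200000a5b225a40ec0200000ca90321c800002f1c800000000000002f6080af213640000021648000000000000034608000000000ad900000050721d148a98200000ac422d188000021c4000000000000001fa10000000000ac1200000d590020c8ced40000000000000028720000038521e1c8731000000f1e23070800000da880000000000000000006b220000000000000000003c240ec02252088f900000000000000000001dd08fce41c20800002a2406b621c2480c6200000000000000000021c88e7100414850720000000000000000002d18830a4122404b420000000000000000003b0c8ac123ad8853900000000000000030320000000000000000001e1c8731036c0830a600000000000000000035398c3460000000000000014221b10800001184000003f6108f90321c80000000007c120000055e4000005a72136400000000000c6200000900200000000000000ad900414800001d14800001560800000000019d23be4000001b64800002a808c8523b0c8000000000d590000005e020000030323c148000000000385200000ea10000000000000009dc22c88800000b7880000000002a220000000001b108b0343c240000000000ca900000000002f1c87c122290800000000000002a240fa62000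0000000000090021320800003b8886a90000000000000009c343a208ac4200000000012240fa423a248000000000c85200000000011988a610020c800000000000003c148287200000000000000ea1024808000031290e0e400000000000000864400000000031a480000000003d3225a4000001e40865100000098322f1c8000000000d502000000000314400000000000c623f088000027410f412000006a90041480000000009c3400000ac4200000d1523be4000000000048020000000003b0c80000000005390020c800003ba0830320000028722a0c8000000000b910000000000015080000000007aa21a588000000000b1222e24814220000000003c2400000000006510321c8983200000000031508000000000f8342a24091620000000003f088000000000f4121c488ad900000000001d148000000000000000000000012240b1420000048023720800000000000002f588d5900000038d42e20800000000000002a0c8385200000b91012408000000000000002390aca40000095440000000001084800001b108000011840ec02000006510000009832000007c120000000003540800003144000003044800003f088900200000f41200000e7100000050720000000002b40800002d188000021c4000002a448480200000c85200000ac1200000a6100000000001780800003c14800002a0c800001e1c8b91000000056200000a14200000062200000000000000b1222e24814221b1083d323c240ec02252086510321c898322f1c87c1231508d5021c2085a722a24091621c2480c623f088900213208f4121c488ad900414850721d148a9823a208ac422d188d15212240b1423a248480237208c8523b0c8ac122f588d590020c85e022e20830323c14828722a0c838521e1c8b91012408056201508a1422c88806221a588954400000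
/-- witnesses -/
def T1 : ℕ := 0x2a088000000000f29200000000000000481000000e5c608b4000003b18081e0231d0a99200000c432121880000157000850166d000002f100000000000c6e000000000000000eda00000085a41b10800003c108703003b880000397c00000000009010000000000000000000326c00000000004470000000000000009c420000054222e10000001c0808b042768000002a088000000000571200000e870123080000361400000000000820000000ce03b2c82cd60000008d012188000003300000000000186000000d810240c0000039310000000000f8a0000004f921b10800003c10800000000044c00000010401d0800000121c000000000000000a2c00000000004470000006b042b04800003a180000000000cc62000008b0415e8000002a08821e00000063e83f088e8702b70848100000000001b940000000000000000000a9920000000001218800000000000000000000002f100d810000009c64086c065c02405000003d6804f9200000e4423c1087030140d885c00000000001d080000000000000000000c4500000000002a7c000000000000000000000003a180542200000f5b21c08042082768000002a088b0e000000f2923f088000000000000036140c4a00000008203b180000000000ce120000000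00121880000000000850362881860000000000240c00000000001cc02f3c800001c28008a40000048b03c1080000000000000340d01040000009010121c0000000000c4500000000000e3c0000000000ca042b0489c420000000002e100000000000420833a80a4222a088000027b80f29200000e8703f19000000000061200000000003b180000000000e2c42d1880000121880ec00000008500d488000000000d810000000000134c0000000000000000000a9120000000003c108000000000cc26065c000001d080901000000c2a00e090000000000843000000000014b400000000009c423a18000002e1004d3200000c10433a8010f02a08800003a38034fa00000000000000481036140000013250082000000000000000a9922d18800001218868c00000000000000018602f1000000240c084e000000000000000000000000a9120000000003c1087030243880000000001040000000000121c014a01d34800000000084300000000000c34081042b04800000000054220000000001c080c10427680a4222a0885134128d05712324400000000000000000000000000000000000005d60304c8ce1228840c43212188660425498000000000000000000000000000000000000f140285c8e85416458a91218440e4423c1080000000000000000000000000000000000008e2010948c45000000843000000447000000000000000000000000000000000000000000c104128b210f02a088b0e03a380f29232440e87012308481036140c4a01b94008203b1800ce03b2c8a9922884008d01218868c00330008503628818602f100d810240c084e0134c01cc02f3c8f8a01c280a9121844048b03c10870302438844c0065c010401d0809010121c014a01d348c4500a2c084300e3c044700c34081042b0489c423a18054222e1004d321c080c10427680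

theorem fl0 : ∀ l x a : F8, tr (l * (x + a ^ 5)) = 0 → (x = 0 ∧ a = 0) ∨
    Bad 0 x l (x + a ^ 5) a (wt T0 l x a 0) (wt T0 l x a 1) (wt T0 l x a 2) (wt T0 l x a 3) (wt T0 l x a 4)
      (wt T0 l x a 5) := by decide +kernel
theorem fl1 : ∀ l x a : F8, tr (l * (x + a ^ 5 + a ^ 2)) = 0 → (l = 1 ∧ x = 1 ∧ x + a ^ 5 + a ^ 2 = a ∧ a ≠ 0) ∨
    Bad 1 x l (x + a ^ 5 + a ^ 2) a (wt T1 l x a 0) (wt T1 l x a 1) (wt T1 l x a 2) (wt T1 l x a 3) (wt T1 l x a 4)
      (wt T1 l x a 5) := by decide +kernel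

theorem fano : ∀ a : F8, tr a = 0 → a ≠ 0 → ∃ b1 a2 b2, bf 1 a a 1 0 0 b1 = 0 ∧ bf 1 a a 1 0 a2 b2 = 0 ∧
    qf 1 1 (0 + 0) (0 + a2) (b1 + b2) ≠ (qf 1 1 0 0 b1 ^ 3 + qf 1 1 0 a2 b2 ^ 3) ^ 5 := by decide +kernel

theorem ndg : ∀ k a b l : F8, tr k = 0 → l ≠ 0 → tr (l * bf 1 k a b (e 2) 0 0) = 0 → tr (l * bf 1 k a b (e 4) 0 0) = 0 →
    (∀ x, tr (l * bf 1 k a b 0 x 0) = 0) → (∀ x, tr (l * bf 1 k a b 0 0 x) = 0) → k = 0 ∧ a = 0 ∧ b = 0 := by
  decide +kernel

theorem cdm : ∀ m k m' k' : F8, tr k = 0 → k ≠ 0 → tr k' = 0 → k' ≠ 0 →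
    (bf 1 k (m ^ 3 * k ^ 4) (m * k) k' (m' ^ 3 * k' ^ 4) (m' * k') = 0 ↔ m = m') := by decide +kernel

/-- the position of a vector with respect to a flag -/
def pat (u v w : F8) : Prop := ((v = 0 ∨ v = 1) ↔ (w = 0 ∨ w = 1)) ∧ ((v = u ∨ v = u + 1) ↔ (w = u ∨ w = u + 1))
instance (u v w : F8) : Decidable (pat u v w) := by unfold pat; infer_instance

theorem st1 : ∀ u k a b : F8, u ≠ 0 → u ≠ 1 → tr k = 0 →
    (∀ m x, tr x = 0 → x ≠ 0 → ∃ y, tr y = 0 ∧ y ≠ 0 ∧ pat u (bf 1 k a b x (m ^ 3 * x ^ 4) (m * x)) (y * b)) →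
    a = k ^ 4 ∧ b = k ^ 4 := by decide +kernel

theorem st2 : ∀ k x y a b : F8, tr k = 0 → k ≠ 0 → tr x = 0 → x ≠ 0 → k ≠ x → tr y = 0 →
    ((bf 1 k (k ^ 4) (k ^ 4) y a b = 0 ∨ bf 1 k (k ^ 4) (k ^ 4) y a b = 1) ↔
      (bf 1 x (x ^ 4) (x ^ 4) y a b = 0 ∨ bf 1 x (x ^ 4) (x ^ 4) y a b = 1)) ∧
    ((bf 1 x (x ^ 4) (x ^ 4) y a b = bf 1 k (k ^ 4) (k ^ 4) y a b ∨
      bf 1 x (x ^ 4) (x ^ 4) y a b = bf 1 k (k ^ 4) (k ^ 4) y a b + 1) →
      (bf 1 k (k ^ 4) (k ^ 4) y a b = 0 ∨ bf 1 k (k ^ 4) (k ^ 4) y a b = 1)) := by decide +kernel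

theorem tri : ∀ x y k : F8, tr x = 0 → tr y = 0 → tr k = 0 → x ≠ 0 → y ≠ 0 → x + y ≠ 0 → k ≠ 0 →
    k = x ∨ k = y ∨ k = x + y := by decide +kernel

theorem frb : ∀ n : F8, ((∀ k, tr k = 0 → tr (n * k ^ 2) = 0) → n = 0 ∨ n = 1) ∧
    ((∀ k, tr k = 0 → tr (n * k ^ 4) = 0) → n = 0 ∨ n = 1) ∧
    (tr n = 0 → (∃ k, tr k = 0 ∧ k ^ 2 + k = n) ∧ ∃ k, tr k = 0 ∧ k ^ 4 + k = n) := by decide +kernel

end H8.SZ
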