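import Cfsg.Agent.H27.MS1
import Cfsg.Agent.H11.Small2

/-! S5899: a kit for `L₃(2)` and for sections viewed as modules. -/

set_option autoImplicit false
set_option linter.unusedSectionVars false
set_option synthInstance.maxSize 2000

namespace H8.MS
open Cfsg Subgroup H18 H17.GS H28.S H2.GW H27.MS
open H19 hiding eq_bot_mono
open H28.NG hiding Hyp Uniq Ch
open scoped MatrixGroups Matrix

universe u

abbrev L3 := SL(3, ZMod 2)
abbrev Vn := Fin 3 → ZMod 2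
def m3 (a b c d e f g h i : ZMod 2) (k : Matrix.det !![a, b, c; d, e, f; g, h, i] = 1 := by decide) : L3 := ⟨_, k⟩
/-- root elements and reflections -/
def xa : L3 := m3 1 1 0 0 1 0 0 0 1
def xb : L3 := m3 1 0 0 0 1 1 0 0 1
def xz : L3 := m3 1 0 1 0 1 0 0 0 1
def sa : L3 := m3 0 1 0 1 0 0 0 0 1
def sb : L3 := m3 1 0 0 0 0 1 0 1 0
/-- the upper unitriangular matrices -/
def t8 : Fin 8 → L3 := ![1, xa, xb, xz, xa * xb, xb * xa, xa * xz, xb * xz]
abbrev Up (g : L3) : Prop := g.1 1 0 = 0 ∧ g.1 2 0 = 0 ∧ g.1 2 1 = 0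

theorem up_iff : ∀ g : L3, Up g ↔ ∃ i, t8 i = g := by decide +kernel
theorem t8_inj : Function.Injective t8 := by decide +kernel
theorem t8_div : ∀ i j, Up (t8 i * (t8 j)⁻¹) := by decide +kernel

def U : Subgroup L3 := ofDiv {g | Up g} ⟨1, by decide⟩ fun a ha b hb => by
  obtain ⟨i, rfl⟩ := (up_iff a).1 ha
  obtain ⟨j, rfl⟩ := (up_iff b).1 hb
  exact t8_div i j
theorem mem_U {g : L3} : g ∈ U ↔ Up g := Iff.rfl
theorem t8U (i : Fin 8) : t8 i ∈ U := (up_iff _).2 ⟨i, rfl⟩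
theorem card_U : #U = 8 := (Nat.card_congr (Equiv.ofBijective (fun i => (⟨t8 i, t8U i⟩ : U))
  ⟨fun _ _ e => t8_inj (congrArg Subtype.val e), fun g => let ⟨i, e⟩ := (up_iff g.1).1 g.2; ⟨i, Subtype.ext e⟩⟩)).symm.trans (by simp)
theorem sylU : Syl 2 U ⊤ := by
  have := card_mul_relIndex (le_top (a := U))
  rw [card_top, H11.card_sl3_two, card_U] at this
  exact syl_mk le_top (show PiN _ _ from card_U ▸ PiN.prime_pow Nat.prime_two 3) (by omega)

/-- the inverse transpose -/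
def θ : L3 →* L3 := MonoidHom.mk' (fun g => g⁻¹.transpose) fun g h => Subtype.ext (by
  rw [mul_inv_rev]; simp only [Matrix.SpecialLinearGroup.coe_transpose, Matrix.SpecialLinearGroup.coe_mul, Matrix.transpose_mul])
theorem θθ : ∀ g, θ (θ g) = g := by decide +kernel
theorem θ_dot (g : L3) (f v : Vn) : (θ g).1 *ᵥ f ⬝ᵥ g.1 *ᵥ v = f ⬝ᵥ v := by
  show (g⁻¹).1ᵀ *ᵥ f ⬝ᵥ _ = _
  rw [Matrix.mulVec_transpose, ← Matrix.dotProduct_mulVec, Matrix.mulVec_mulVec, ← Matrix.SpecialLinearGroup.coe_mul,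
    inv_mul_cancel, Matrix.SpecialLinearGroup.coe_one, Matrix.one_mulVec]
theorem trn : ∀ v w : Vn, v ≠ 0 → w ≠ 0 → ∃ g : L3, g.1 *ᵥ v = w := by decide +kernel

section
variable {G : Type u} [Group G] [Finite G] {N Q T V₀ V Y : Subgroup G} {v w : G} {X : Type} [Group X] {π : N →* X}

theorem QT (h : Fr N Q T) : Q ≤ T := h.syl.le_of_norm' h.nq.le h.pg (h.syl.le.trans h.nq.norm)

/-- an epimorphism onto `L₃(2)` sending `T` onto the unitriangular group -/
theorem std (h : Fr N Q T) (l : L7 N Q) : ∃ π : N →* L3, Function.Surjective π ∧ (∀ g, π g = 1 ↔ g.1 ∈ Q) ∧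
    ∀ g : N, g.1 ∈ T ↔ π g ∈ U := by
  obtain ⟨π, s, k⟩ := l
  have e0 : im π N = ⊤ := top_unique fun y _ => let ⟨x, q⟩ := s y; q ▸ mem_im_of x.2
  obtain ⟨c, -, e⟩ := (e0 ▸ h.syl.im le_rfl π).sconj sylU
  refine ⟨(MulAut.conj c).toMonoidHom.comp π, (MulAut.conj c).surjective.comp s,
    fun g => (MulAut.conj c).map_eq_one_iff.trans (k g), fun g => ?_⟩
  rw [← e, mem_cj]
  simp only [MonoidHom.comp_apply, MulEquiv.coe_toMonoidHom, MulAut.conj_apply, mul_assoc, inv_mul_cancel_left,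
    inv_mul_cancel, mul_one]
  refine ⟨mem_im_of, fun ⟨x, hx, q⟩ => ?_⟩
  have := mul_mem (show x.1 ∈ T from hx) (QT h ((k (x⁻¹ * g)).1 (by rw [map_mul, map_inv, q, inv_mul_cancel])))
  simpa using this

/-- the section `V / V₀` as a module `W` for `X = π N` -/
structure Md (V₀ V : Subgroup G) (π : N →* X) {W : Type u} [AddCommGroup W] [Module (ZMod 2) W] (p : G → W)
    (ρ : Representation (ZMod 2) X W) : Prop where
  le : V₀ ≤ V
  nV : N ≤ N(V)
  add : ∀ v ∈ V, ∀ w ∈ V, p (v * w) = p v + p w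
  zero : ∀ v ∈ V, p v = 0 ↔ v ∈ V₀
  sur : ∀ w, ∃ v ∈ V, p v = w
  act : ∀ g : N, ∀ v ∈ V, p (g * v * g⁻¹) = ρ (π g) (p v)
  card : #V = Nat.card W * #V₀

theorem exMd (e : EA V₀ V) (nV : N ≤ N(V)) (n0 : N ≤ N(V₀)) (hs : Function.Surjective π)
    (hk : ∀ g, π g = 1 → g.1 ∈ Cm V₀ V) : ∃ (W : Type u) (_ : AddCommGroup W) (_ : Module (ZMod 2) W) (_ : Finite W)
      (p : G → W) (ρ : Representation (ZMod 2) X W), Md V₀ V π p ρ := by
  classical
  have nK : (V₀.subgroupOf V).Normal := normal_subgroupOf_of_le_normalizer e.norm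
  let i : CommGroup (V ⧸ V₀.subgroupOf V) := { (inferInstance : Group _) with
    mul_comm := fun a b => QuotientGroup.induction_on a fun a => QuotientGroup.induction_on b fun b =>
      QuotientGroup.eq.2 (mem_subgroupOf.2 (by
        simpa [commutatorElement_def, mul_assoc] using e.ab (commutator_mem_commutator (inv_mem b.2) (inv_mem a.2)))) }
  let j : Module (ZMod 2) (Additive (V ⧸ V₀.subgroupOf V)) := AddCommGroup.zmodModule fun a => by
    obtain ⟨a, rfl⟩ := QuotientGroup.mk_surjective (Additive.toMul a) |>.imp fun _ q => congrArg Additive.ofMul q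
    exact (two_nsmul _).trans ((QuotientGroup.eq_one_iff (a * a)).2 (e.sq _ a.2))
  let p : G → Additive (V ⧸ V₀.subgroupOf V) := fun g => if h : g ∈ V then .ofMul (QuotientGroup.mk ⟨g, h⟩) else 0
  have add : ∀ v ∈ V, ∀ w ∈ V, p (v * w) = p v + p w := fun v hv w hw => by
    simp only [p, dif_pos hv, dif_pos hw, dif_pos (mul_mem hv hw)]; rfl
  have eq : ∀ v ∈ V, ∀ w ∈ V, p v = p w ↔ v⁻¹ * w ∈ V₀ := fun v hv w hw => by
    simp only [p, dif_pos hv, dif_pos hw]; exact QuotientGroup.eq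
  have one : p 1 = 0 := by simp only [p, dif_pos (one_mem V)]; rfl
  have sur : ∀ w, ∃ v ∈ V, p v = w := fun w => by
    obtain ⟨a, q⟩ := QuotientGroup.mk_surjective (Additive.toMul w)
    exact ⟨a, a.2, by simp only [p, dif_pos a.2]; exact congrArg Additive.ofMul q⟩
  choose l lV lp using sur
  choose n hn using hs
  have cV : ∀ g : N, ∀ v ∈ V, (g : G) * v * g⁻¹ ∈ V := fun g v hv => conj_mem_of_norm (nV g.2) hv
  have key : ∀ g : N, ∀ v ∈ V, p (n (π g) * l (p v) * (n (π g))⁻¹) = p (g * v * g⁻¹) := fun g v hv => by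
    rw [eq _ (cV _ _ (lV _)) _ (cV _ _ hv)]
    have a := (hk ((n (π g))⁻¹ * g) (by rw [map_mul, map_inv, hn, inv_mul_cancel])).2 v hv
    have b := (eq _ (lV (p v)) _ hv).1 (lp _)
    have := conj_mem_of_norm (n0 (n (π g)).2) (mul_mem (conj_mem_of_norm' (e.norm (lV (p v))) a) b)
    convert this using 1
    simp only [coe_mul, coe_inv]; group
  have k2 : ∀ x, ∀ v ∈ V, p (n x * l (p v) * (n x)⁻¹) = p (n x * v * (n x)⁻¹) := fun x v hv => by
    have := key (n x) v hv; rwa [hn] at this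
  let A : X → _ →ₗ[ZMod 2] _ := fun x => (AddMonoidHom.mk' (fun w => p (n x * l w * (n x)⁻¹)) fun a b => by
    conv_lhs => rw [← lp a, ← lp b, ← add _ (lV a) _ (lV b), k2 _ _ (mul_mem (lV a) (lV b))]
    rw [← add _ (cV _ _ (lV a)) _ (cV _ _ (lV b)), coe_inv, conj_mul]).toZModLinearMap 2
  have hA : ∀ g : N, ∀ v ∈ V, p (g * v * g⁻¹) = A (π g) (p v) := fun g v hv => (key g v hv).symm
  refine ⟨_, inferInstance, j, inferInstance, p, MonoidHom.mk ⟨A, LinearMap.ext fun w => ?_⟩ fun x y => LinearMap.ext fun w => ?_,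
    e.le, nV, add, fun v hv => ?_, fun w => ⟨_, lV w, lp w⟩, hA, ?_⟩
  · rw [← lp w, ← map_one π, ← hA _ _ (lV w)]; simp
  · rw [← lp w, Module.End.mul_apply, ← hn x, ← hn y, ← map_mul, ← hA _ _ (lV w), ← hA _ _ (lV w), ← hA _ _ (cV _ _ (lV w))]
    simp [mul_assoc]
  · rw [← one, eq _ hv _ (one_mem _), mul_one, inv_mem_iff]
  · rw [← card_subgroupOf' e.le]; exact card_eq_card_quotient_mul_card_subgroup _

variable {W : Type u} [AddCommGroup W] [Module (ZMod 2) W] {p : G → W} {ρ : Representation (ZMod 2) X W}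

theorem two (a : W) : a + a = 0 := by rw [← two_smul (ZMod 2), show (2 : ZMod 2) = 0 from rfl, zero_smul]

namespace Md
variable (m : Md V₀ V π p ρ)
include m

theorem one : p 1 = 0 := (m.zero _ (one_mem _)).2 (one_mem _)
theorem inv (hv : v ∈ V) : p v⁻¹ = p v := by
  have := m.add _ hv _ (inv_mem hv)
  rw [mul_inv_cancel, m.one, ← two (p v)] at this
  exact (add_left_cancel this).symm
theorem eq (hv : v ∈ V) (hw : w ∈ V) : p v = p w ↔ v * w⁻¹ ∈ V₀ := by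
  rw [← m.zero _ (mul_mem hv (inv_mem hw)), m.add _ hv _ (inv_mem hw), m.inv hw, ← two (p w), add_left_inj]
theorem prod : ∀ l : List G, (∀ v ∈ l, v ∈ V) → p l.prod = (l.map p).sum
  | [], _ => m.one
  | a :: l, h => by
    have k : ∀ v ∈ l, v ∈ V := fun v hv => h v (.tail _ hv)
    rw [List.prod_cons, m.add _ (h a (.head _)) _ (list_prod_mem k), prod l k]; rfl

/-- the preimage of a submodule -/
def pre (S : Submodule (ZMod 2) W) : Subgroup G where
  carrier := {v | v ∈ V ∧ p v ∈ S}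
  one_mem' := ⟨one_mem _, m.one ▸ zero_mem _⟩
  mul_mem' a b := ⟨mul_mem a.1 b.1, m.add _ a.1 _ b.1 ▸ add_mem a.2 b.2⟩
  inv_mem' a := ⟨inv_mem a.1, m.inv a.1 ▸ a.2⟩
/-- the image of a subgroup -/
def img (Y : Subgroup G) : Submodule (ZMod 2) W where
  carrier := {w | ∃ v ∈ Y ⊓ V, p v = w}
  zero_mem' := ⟨1, one_mem _, m.one⟩
  add_mem' := fun ⟨a, ha, e⟩ ⟨b, hb, f⟩ => ⟨_, mul_mem ha hb, by rw [m.add _ ha.2 _ hb.2, e, f]⟩
  smul_mem' c _ := fun ⟨a, ha, e⟩ => by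
    obtain rfl | rfl : c = 0 ∨ c = 1 := by revert c; decide
    exacts [⟨1, one_mem _, by rw [m.one, zero_smul]⟩, ⟨a, ha, by rw [e, one_smul]⟩]
theorem le_of_img (h : m.img Y = ⊤) : V ≤ Y ⊔ V₀ := fun v hv => by
  obtain ⟨w, hw, e⟩ := h.ge (Submodule.mem_top (x := p v))
  simpa using mul_mem (mem_sup_right ((m.eq hv hw.2).1 e.symm)) (mem_sup_left (T := V₀) hw.1)

theorem irr (hs : Function.Surjective π) (h : ∀ Y, V₀ ≤ Y → Y ≤ V → N ≤ N(Y) → Y = V₀ ∨ Y = V) (S : Submodule (ZMod 2) W)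
    (k : ∀ g, ∀ w ∈ S, ρ g w ∈ S) : S = ⊥ ∨ S = ⊤ := by
  refine (h (m.pre S) (fun v hv => ⟨m.le hv, (m.zero _ (m.le hv)).2 hv ▸ zero_mem _⟩) (fun _ a => a.1) fun g hg =>
    mem_norm_of_cj_le fun x hx => ?_).imp (fun e => eq_bot_iff.2 fun w hw => ?_) fun e => eq_top_iff.2 fun w _ => ?_
  · obtain ⟨y, hy, rfl⟩ := mem_cj'.1 hx
    exact ⟨conj_mem_of_norm (m.nV hg) hy.1, (m.act ⟨g, hg⟩ y hy.1).symm ▸ k _ _ hy.2⟩
  all_goals obtain ⟨v, hv, rfl⟩ := m.sur w
  exacts [(m.zero v hv).2 (e.le ⟨hv, hw⟩), (e.ge hv).2]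

theorem nt (n0 : N ≤ N(V₀)) (h : ¬ N ≤ Cm V₀ V) : ∃ g w, ρ g w ≠ w := by
  by_contra! k
  exact h fun g hg => ⟨n0 hg, fun v hv => (m.eq (conj_mem_of_norm (m.nV hg) hv) hv).1 ((m.act ⟨g, hg⟩ v hv).trans (k _ _))⟩
end Md
end

end H8.MS
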