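/-
Fusion systems on a Sylow `p`-subgroup of `PSU₅(q)`, part 0: coordinates.
-/
import Mathlib
import Cfsg.Agent.H25.Syl

set_option autoImplicit false
set_option linter.unusedSectionVars false

namespace H8.PU
open Subgroup H25

/-- the involution of `F_{q²}` -/
class IV {K : Type*} [Field K] (σ : K →+* K) : Prop where
  ss : ∀ x, σ (σ x) = x
  ne : ∃ x, σ x ≠ x
  cm : ∀ (φ : K ≃+* K) x, σ (φ x) = φ (σ x)

variable {K : Type*} [Field K] {σ : K →+* K}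

section fld
variable [IV σ] {a r s x : K}
theorem ss (x : K) : σ (σ x) = x := IV.ss x
theorem sz : σ x = 0 ↔ x = 0 := map_eq_zero σ
theorem sn (h : x ≠ 0) : σ x ≠ 0 := mt sz.1 h
variable (σ) in
theorem ex_th : ∃ θ, σ θ = -θ - 1 := by
  obtain ⟨x, hx⟩ := IV.ne (σ := σ)
  by_cases h : (2 : K) = 0
  · have h1 : σ x + x ≠ 0 := fun e => hx (by linear_combination e - x * h)
    refine ⟨x / (σ x + x), ?_⟩
    rw [map_div₀, map_add, ss, add_comm x]
    field_simp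
    linear_combination (σ x + x) * h
  · refine ⟨-2⁻¹, ?_⟩
    rw [map_neg, map_inv₀, map_ofNat]
    field_simp; norm_num
variable (σ) in
/-- an element of trace `-1` -/
noncomputable def th : K := (ex_th σ).choose
theorem s_th : σ (th σ) = -th σ - 1 := (ex_th σ).choose_spec
variable (σ) in
theorem ex_ep : ∃ ε : K, ε ≠ 0 ∧ σ ε = -ε := by
  obtain ⟨x, hx⟩ := IV.ne (σ := σ)
  exact ⟨σ x - x, sub_ne_zero.2 hx, by rw [map_sub, ss, neg_sub]⟩
/-- the trace is onto -/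
theorem ex_tr (h : σ r = r) : ∃ y, y + σ y = r := ⟨-th σ * r, by rw [map_mul, map_neg, s_th, h]; ring⟩
/-- `c ↦ ā c - a c̄` is onto the skew elements -/
theorem ex_sk (h : σ s = -s) (ha : a ≠ 0) : ∃ c, σ a * c - a * σ c = s := by
  have := sn (σ := σ) ha
  refine ⟨-th σ * s / σ a, ?_⟩
  rw [map_div₀, map_mul, map_neg, s_th, h, ss]
  field_simp; ring
/-- `ā c = a c̄` means `c ∈ F_q a` -/
theorem ex_fx {c : K} (ha : a ≠ 0) (h : σ a * c = a * σ c) : ∃ l, σ l = l ∧ c = l * a := by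
  have := sn (σ := σ) ha
  refine ⟨c / a, ?_, by field_simp⟩
  rw [map_div₀]; field_simp; linear_combination -h
/-- two `F_q`-independent elements -/
theorem eq0 {b c : K} (h : σ a * b ≠ a * σ b) (h1 : σ a * c = a * σ c) (h2 : σ b * c = b * σ c) : c = 0 := by
  by_contra h0
  refine h (mul_left_cancel₀ h0 ?_)
  linear_combination b * h1 - a * h2
theorem ex_ind (ha : a ≠ 0) : ∃ b, σ a * b ≠ a * σ b := by
  obtain ⟨ε, h0, h⟩ := ex_ep σ
  obtain ⟨c, hc⟩ := ex_sk h ha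
  exact ⟨c, fun e => h0 (by rw [← hc, e, sub_self])⟩
theorem sk_of (h : ∀ c, σ a * c = a * σ c) : a = 0 := by_contra fun ha => let ⟨b, hb⟩ := ex_ind (σ := σ) ha; hb (h b)
end fld

/-- coordinates of the matrix with first row `(1, a, b, c, d)` and middle block
`[[1, x, y], [0, 1, -x̄], [0, 0, 1]]` -/
@[ext] structure Cd (σ : K →+* K) where
  (a b c d x y : K)
  sd : σ d = -d - a * σ c - c * σ a - b * σ b
  sy : σ y = -y - x * σ x

namespace Cd
variable [IV σ]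
@[simps] instance : One (Cd σ) := ⟨⟨0, 0, 0, 0, 0, 0, by simp, by simp⟩⟩
@[simps] instance : Mul (Cd σ) := ⟨fun u v => {
  a := u.a + v.a
  b := u.b + v.b + u.a * v.x
  c := u.c + v.c + u.a * v.y - u.b * σ v.x
  d := u.d + v.d - u.a * σ v.c - (u.b + u.a * v.x) * σ v.b - (u.c + u.a * v.y - u.b * σ v.x) * σ v.a
  x := u.x + v.x
  y := u.y + v.y - u.x * σ v.x
  sd := by simp only [map_add, map_sub, map_mul, ss, u.sd, v.sd, v.sy]; ring
  sy := by simp only [map_add, map_sub, map_mul, ss, u.sy, v.sy]; ring }⟩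
@[simps] instance : Inv (Cd σ) := ⟨fun u => {
  a := -u.a
  b := u.a * u.x - u.b
  c := u.a * u.y + u.a * u.x * σ u.x - u.c - u.b * σ u.x
  d := -u.d - u.a * σ u.c - u.c * σ u.a - u.b * σ u.b
  x := -u.x
  y := -u.y - u.x * σ u.x
  sd := by simp only [map_add, map_sub, map_mul, map_neg, ss, u.sd, u.sy]; ring
  sy := by simp only [map_add, map_sub, map_mul, map_neg, ss, u.sy]; ring }⟩
instance : Group (Cd σ) := Group.ofLeftAxioms
  (fun u v w => by ext <;> simp only [mul_a, mul_b, mul_c, mul_d, mul_x, mul_y, map_add, map_sub, map_mul, ss, w.sy] <;> ring)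
  (fun u => by ext <;> simp)
  (fun u => by
    ext <;> simp only [mul_a, mul_b, mul_c, mul_d, mul_x, mul_y, inv_a, inv_b, inv_c, inv_d, inv_x, inv_y, one_a, one_b,
      one_c, one_d, one_x, one_y] <;> ring)
instance [Finite K] : Finite (Cd σ) := Finite.of_injective (fun u : Cd σ => (u.a, u.b, u.c, u.d, u.x, u.y))
  fun _ _ e => by simp only [Prod.mk.injEq] at e; exact Cd.ext e.1 e.2.1 e.2.2.1 e.2.2.2.1 e.2.2.2.2.1 e.2.2.2.2.2

/-- an element with given `a b c x` -/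
@[simps] noncomputable def el (a b c x : K) : Cd σ := ⟨a, b, c, th σ * (a * σ c + c * σ a + b * σ b), x, th σ * (x * σ x),
  by simp only [map_add, map_mul, ss, s_th]; ring, by simp only [map_mul, ss, s_th]; ring⟩
/-- root elements -/
@[simps] def xa (a : K) : Cd σ := ⟨a, 0, 0, 0, 0, 0, by simp, by simp⟩
@[simps] noncomputable def xb (b : K) : Cd σ := ⟨0, b, 0, th σ * (b * σ b), 0, 0,
  by simp only [map_mul, ss, s_th]; ring, by simp⟩
@[simps] def xc (c : K) : Cd σ := ⟨0, 0, c, 0, 0, 0, by simp, by simp⟩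
@[simps] def xd (d : K) (h : σ d = -d) : Cd σ := ⟨0, 0, 0, d, 0, 0, by simp [h], by simp⟩
@[simps] noncomputable def xx (x : K) : Cd σ := ⟨0, 0, 0, 0, x, th σ * (x * σ x), by simp,
  by simp only [map_mul, ss, s_th]; ring⟩
@[simps] def xy (y : K) (h : σ y = -y) : Cd σ := ⟨0, 0, 0, 0, 0, y, by simp, by simp [h]⟩

/-- a subgroup given by a predicate -/
def sb (p : Cd σ → Prop) (h1 : p 1) (h2 : ∀ u v, p u → p v → p (u * v)) (h3 : ∀ u, p u → p u⁻¹) : Subgroup (Cd σ) :=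
  ⟨⟨⟨{u | p u}, fun {u v} => h2 u v⟩, h1⟩, fun {u} => h3 u⟩
variable (σ)
def Z : Subgroup (Cd σ) := sb (fun u => u.a = 0 ∧ u.b = 0 ∧ u.c = 0 ∧ u.x = 0 ∧ u.y = 0) (by simp)
  (fun _ _ h h' => by simp [h, h']) fun _ h => by simp [h]
def Z2 : Subgroup (Cd σ) := sb (fun u => u.a = 0 ∧ u.b = 0 ∧ u.x = 0 ∧ u.y = 0) (by simp)
  (fun _ _ h h' => by simp [h, h']) fun _ h => by simp [h]
def W : Subgroup (Cd σ) := sb (fun u => u.a = 0 ∧ u.x = 0 ∧ u.y = 0) (by simp)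
  (fun _ _ h h' => by simp [h, h']) fun _ h => by simp [h]
def A0 : Subgroup (Cd σ) := sb (fun u => u.a = 0 ∧ u.b = 0 ∧ u.x = 0) (by simp)
  (fun _ _ h h' => by simp [h, h']) fun _ h => by simp [h]
def Z3 : Subgroup (Cd σ) := sb (fun u => u.a = 0 ∧ u.x = 0) (by simp)
  (fun _ _ h h' => by simp [h, h']) fun _ h => by simp [h]
def Q1 : Subgroup (Cd σ) := sb (fun u => u.x = 0 ∧ u.y = 0) (by simp)
  (fun _ _ h h' => by simp [h, h']) fun _ h => by simp [h]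
def Q2 : Subgroup (Cd σ) := sb (fun u => u.a = 0) (by simp) (fun _ _ h h' => by simp [h, h']) fun _ h => by simp [h]
def R1 : Subgroup (Cd σ) := sb (fun u => u.x = 0) (by simp) (fun _ _ h h' => by simp [h, h']) fun _ h => by simp [h]
/-- `Z · {c ∈ F_q a₀}` -/
def Z1 (a0 : K) : Subgroup (Cd σ) := sb (fun u => u.a = 0 ∧ u.b = 0 ∧ u.x = 0 ∧ u.y = 0 ∧ σ a0 * u.c = a0 * σ u.c) (by simp)
  (fun _ _ h h' => by simp [h, h', mul_add]) fun _ h => by simp [h]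
/-- `{a ∈ F_q a₀} = C_S(Z1 a₀)` -/
def C1 (a0 : K) : Subgroup (Cd σ) := sb (fun u => σ a0 * u.a = a0 * σ u.a) (by simp)
  (fun _ _ h h' => by simp [h, h', mul_add]) fun _ h => by simp [h]
variable {σ} {u : Cd σ} {a0 : K}
theorem mZ : u ∈ Z σ ↔ u.a = 0 ∧ u.b = 0 ∧ u.c = 0 ∧ u.x = 0 ∧ u.y = 0 := Iff.rfl
theorem mZ2 : u ∈ Z2 σ ↔ u.a = 0 ∧ u.b = 0 ∧ u.x = 0 ∧ u.y = 0 := Iff.rfl
theorem mW : u ∈ W σ ↔ u.a = 0 ∧ u.x = 0 ∧ u.y = 0 := Iff.rfl
theorem mA0 : u ∈ A0 σ ↔ u.a = 0 ∧ u.b = 0 ∧ u.x = 0 := Iff.rfl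
theorem mZ3 : u ∈ Z3 σ ↔ u.a = 0 ∧ u.x = 0 := Iff.rfl
theorem mQ1 : u ∈ Q1 σ ↔ u.x = 0 ∧ u.y = 0 := Iff.rfl
theorem mQ2 : u ∈ Q2 σ ↔ u.a = 0 := Iff.rfl
theorem mR1 : u ∈ R1 σ ↔ u.x = 0 := Iff.rfl
theorem mZ1 : u ∈ Z1 σ a0 ↔ u.a = 0 ∧ u.b = 0 ∧ u.x = 0 ∧ u.y = 0 ∧ σ a0 * u.c = a0 * σ u.c := Iff.rfl
theorem mC1 : u ∈ C1 σ a0 ↔ σ a0 * u.a = a0 * σ u.a := Iff.rfl

/-- the semilinear diagonal automorphism `diag(r t, t, 1, t̄⁻¹, r̄⁻¹ t̄⁻¹) ∘ φ` -/
@[simps] def sc (r t : K) (φ : K ≃+* K) (u : Cd σ) : Cd σ :=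
  ⟨r * φ u.a, r * t * φ u.b, r * t * σ t * φ u.c, r * σ r * t * σ t * φ u.d, t * φ u.x, t * σ t * φ u.y, by
    simp only [map_add, map_sub, map_mul, map_neg, ss, IV.cm, u.sd]; ring,
    by simp only [map_add, map_sub, map_mul, map_neg, ss, IV.cm, u.sy]; ring⟩
/-- the Weyl element of the Levi factor `SU₃` on `Q₁` -/
@[simps] def m1 (u : Cd σ) : Cd σ := ⟨u.c, -u.b, u.a, u.d, 0, 0, by simp only [map_neg, u.sd]; ring, by simp⟩
/-- the Weyl element of the Levi factor `SL₂` on `Q₂` (for `a = 0`) -/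
@[simps] noncomputable def m2 (u : Cd σ) : Cd σ := ⟨0, u.x, -σ u.c - u.x * σ u.b, u.y, u.b, u.d + u.a * (-th σ * σ u.c) + u.c * (-th σ * σ u.a),
  by simp only [map_zero, u.sy]; ring, by simp only [map_add, map_mul, map_neg, ss, s_th, u.sd]; ring⟩
end Cd
open Cd

variable {Γ : Type*} [Group Γ] [IV σ]

/-- `[A, B] ≤ C` -/
def CC {G : Type*} [Group G] (A B C : Subgroup G) : Prop := ∀ x ∈ A, ∀ y ∈ B, x * y * x⁻¹ * y⁻¹ ∈ C

/-- coordinates on `S` -/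
structure Co (S : Subgroup Γ) (ev : Cd σ →* Γ) : Prop where
  inj : Function.Injective ev
  mem : ∀ w, w ∈ S ↔ ∃ c, w = ev c

namespace Co
variable {S : Subgroup Γ} {ev : Cd σ →* Γ} (h : Co S ev) {c c' : Cd σ} {w : Γ} {X Y Z : Subgroup (Cd σ)}
include h
theorem mul (c c' : Cd σ) : ev c * ev c' = ev (c * c') := (ev.map_mul c c').symm
theorem inv (c : Cd σ) : (ev c)⁻¹ = ev c⁻¹ := (ev.map_inv c).symm
theorem eq1 : ev c = 1 ↔ c = 1 := by rw [← ev.map_one, h.inj.eq_iff]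
theorem mm : ev c ∈ X.map ev ↔ c ∈ X := mem_map_iff_mem h.inj
theorem mS (c : Cd σ) : ev c ∈ S := (h.mem _).2 ⟨c, rfl⟩
theorem ex (hw : w ∈ S) : ∃ c, True ∧ ev c = w := let ⟨c, e⟩ := (h.mem w).1 hw; ⟨c, trivial, e.symm⟩
theorem le (X : Subgroup (Cd σ)) : X.map ev ≤ S := fun _ ⟨c, _, e⟩ => e ▸ h.mS c
theorem top : (⊤ : Subgroup (Cd σ)).map ev = S := le_antisymm (h.le _) fun _ hw => let ⟨c, _, e⟩ := h.ex hw; ⟨c, trivial, e⟩
end Co

/-- normalization of coordinate expressions -/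
macro "cs" h:term:max "[" ls:Lean.Parser.Tactic.simpLemma,* "]" loc:(Lean.Parser.Tactic.location)? : tactic => `(tactic|
  simp only [Co.mul $h, Co.inv $h, Co.eq1 $h, (Co.inj $h).eq_iff, Co.mm $h, Co.mS $h, Subgroup.mem_bot, Subgroup.mem_top, SetLike.mem_coe,
  Cd.ext_iff, mZ, mZ2, mW, mA0, mZ3, mQ1, mQ2, mR1, mZ1, mC1,
  mul_a, mul_b, mul_c, mul_d, mul_x, mul_y, inv_a, inv_b, inv_c, inv_d, inv_x, inv_y, one_a, one_b, one_c, one_d, one_x, one_y,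
  el_a, el_b, el_c, el_d, el_x, el_y, xa_a, xa_b, xa_c, xa_d, xa_x, xa_y, xb_a, xb_b, xb_c, xb_d, xb_x, xb_y,
  xc_a, xc_b, xc_c, xc_d, xc_x, xc_y, xd_a, xd_b, xd_c, xd_d, xd_x, xd_y, xx_a, xx_b, xx_c, xx_d, xx_x, xx_y,
  xy_a, xy_b, xy_c, xy_d, xy_x, xy_y, sc_a, sc_b, sc_c, sc_d, sc_x, sc_y, m1_a, m1_b, m1_c, m1_d, m1_x, m1_y,
  m2_a, m2_b, m2_c, m2_d, m2_x, m2_y, Cd.sd, Cd.sy, s_th, ss,
  RingHom.map_add, RingHom.map_mul, RingHom.map_sub, RingHom.map_neg, RingHom.map_zero, RingHom.map_one, RingEquiv.refl_apply,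
  mul_zero, zero_mul, add_zero, zero_add, sub_zero, neg_zero, mul_one, one_mul, sub_self, add_neg_cancel, neg_add_cancel,
  and_self, and_true, true_and, $ls,*] $[$loc]?)
/-- polynomial identities -/
macro "cg" : tactic => `(tactic| ((repeat' apply And.intro) <;> first | ring1 | grind))
/-- coordinates of an element of `S` or of a pattern subgroup -/
macro "ob" h:term:max hx:ident c:ident hc:ident : tactic => `(tactic| (
  first | obtain ⟨$c:ident, -, e⟩ := Co.ex $h $hx | obtain ⟨$c:ident, $hc:ident, e⟩ := $hx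
  subst e))
/-- inclusions between pattern subgroups -/
macro "sl" h:term:max : tactic => `(tactic| (intro x hx; ob $h hx c hc; cs $h [] at hc ⊢; cs $h [hc]))
/-- commutator relations between pattern subgroups -/
macro "cc" h:term:max : tactic => `(tactic| (
  intro x hx y hy
  ob $h hx c hc
  ob $h hy c' hc'
  try cs $h [] at hc
  try cs $h [] at hc'
  first | cs $h [hc, hc'] | cs $h [hc'] | cs $h [hc] | cs $h []
  all_goals cg))

namespace Co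
variable {S : Subgroup Γ} {ev : Cd σ →* Γ} (h : Co S ev) {a0 : K}
include h
theorem cSS : CC S S ((Z3 σ).map ev) := by cc h
theorem cS3 : CC S ((Z3 σ).map ev) ((Z2 σ).map ev) := by cc h
theorem cS2 : CC S ((Z2 σ).map ev) ((Z σ).map ev) := by cc h
theorem cS1 : CC S ((Z σ).map ev) ⊥ := by cc h
theorem cSR : CC S ((R1 σ).map ev) ((W σ).map ev) := by cc h
theorem cRR : CC ((R1 σ).map ev) ((R1 σ).map ev) ((Z2 σ).map ev) := by cc h
theorem cRW : CC ((R1 σ).map ev) ((W σ).map ev) ((Z σ).map ev) := by cc h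
theorem c11 : CC ((Q1 σ).map ev) ((Q1 σ).map ev) ((Z σ).map ev) := by cc h
theorem c22 : CC ((Q2 σ).map ev) ((Q2 σ).map ev) ((A0 σ).map ev) := by cc h
theorem c2A : CC ((Q2 σ).map ev) ((A0 σ).map ev) ⊥ := by cc h
theorem c33 : CC ((Z3 σ).map ev) ((Z3 σ).map ev) ((Z σ).map ev) := by cc h
theorem cC1 (ha : a0 ≠ 0) : CC ((C1 σ a0).map ev) ((Z1 σ a0).map ev) ⊥ := by
  have := sn (σ := σ) ha
  cc h
end Co

end H8.PU
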