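/-
Fusion systems on a Sylow `p`-subgroup of `PSU₅(q)`, part 1: essential subgroups, general lemmas.
-/
import Cfsg.Agent.H8.PU0
import Cfsg.Agent.H25.PC
import Cfsg.Agent.H25.Ess
import Cfsg.Agent.H2.SZ

set_option autoImplicit false
set_option linter.unusedSectionVars false

namespace H8.PU
open Subgroup H25 H25.FS
variable {Γ : Type*} [Group Γ] [Finite Γ] {p : ℕ} [hp : Fact p.Prime] {S P A B C H N V X Y Z : Subgroup Γ}
  {a b g s t u v w x y : Γ} {l : List (Subgroup Γ)}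

/-- the image of `X` in `A / Inn(P)` is strongly embedded -/
structure TI (S P A X : Subgroup Γ) : Prop where
  le : ai S P ≤ X
  XA : X ≤ A
  ne : ¬ A ≤ X
  ti : ∀ g ∈ A, ∀ u ∈ ai S P, u ∉ ai P P → g * u * g⁻¹ ∈ ai S P → g ∈ X

/-- automizer of a centric, fully normalized subgroup -/
structure Au (p : ℕ) (S P A : Subgroup Γ) : Prop where
  pg : IsPGroup p S
  le : P ≤ S
  cen : S ⊓ cz P ≤ P
  nA : ai S P ≤ A
  An : A ≤ nz P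
  syl : Syl p (ai S P) A

/-- essential subgroup -/
structure Es (p : ℕ) (S P A : Subgroup Γ) : Prop extends Au p S P A where
  ne : P ≠ S
  ti : ∃ X, TI S P A X

/-- `A` is the normal closure of its Sylow subgroup -/
def Gen (S P A : Subgroup Γ) : Prop := ∀ N, ai S P ≤ N → A ≤ nz N → A ≤ N

theorem es_of {F : FS Γ} (hF : F.Sat p) (h : F.Ess P) : Es p F.S P (F.A P) where
  pg := hF.pg
  le := h.le
  ne := h.lt.ne
  cen := h.centric.C_le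
  nA := F.ai_le_A P
  An := F.A_le_nz P
  syl := hF.syl h.fn
  ti := ⟨F.Hx P, ai_le_Hx h.lt, F.Hx_le_A P, h.not_le, fun _ hg _ hu hu' e => hF.mem_Hx_of_ai h.fn hg hu hu' e⟩

theorem cm_eq : u * v * u⁻¹ * v⁻¹ = w ↔ u * v = w * (v * u) := by
  rw [mul_inv_eq_iff_eq_mul, mul_inv_eq_iff_eq_mul, mul_assoc]
theorem cj_mul' (g a b : Γ) : g * (a * b) * g⁻¹ = g * a * g⁻¹ * (g * b * g⁻¹) := by group
theorem cj_mul2 (a b x : Γ) : a * b * x * (a * b)⁻¹ = a * (b * x * b⁻¹) * a⁻¹ := by group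
theorem cj_cm (g a b : Γ) : g * (a * b * a⁻¹ * b⁻¹) * g⁻¹ =
    g * a * g⁻¹ * (g * b * g⁻¹) * (g * a * g⁻¹)⁻¹ * (g * b * g⁻¹)⁻¹ := by group
theorem not_cj (hg : g ∈ nz X) (h : w ∉ X) : g * w * g⁻¹ ∉ X := fun c => h (by simpa [mul_assoc] using conj_mem_of_mem_nz' hg c)
theorem cj_le_n (h : P ≤ X) (hu : u ∈ nz X) : cj u P ≤ X := mem_nz.1 hu ▸ cj_mono u h

/-- the stabilizer of a chain -/
def kk (B : Subgroup Γ) : Subgroup Γ → List (Subgroup Γ) → Subgroup Γ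
  | P, [] => stab P B
  | P, Y :: l => stab P Y ⊓ kk B Y l
/-- `[x, P] ≤ Y` -/
def Cm (x : Γ) (P Y : Subgroup Γ) : Prop := ∀ y ∈ P, x * y * x⁻¹ * y⁻¹ ∈ Y
/-- `x` acts trivially on the factors of a chain -/
def Ch (x : Γ) (B : Subgroup Γ) : Subgroup Γ → List (Subgroup Γ) → Prop
  | P, [] => Cm x P B
  | P, Y :: l => Cm x P Y ∧ Ch x B Y l
/-- the members of a list are `A`-invariant subgroups of `P` -/
def Al (P A : Subgroup Γ) : List (Subgroup Γ) → Prop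
  | [] => True
  | Y :: l => (Y ≤ P ∧ A ≤ nz Y) ∧ Al P A l

theorem Al.all (h : Al P A l) : ∀ Y ∈ l, Y ≤ P ∧ A ≤ nz Y := by
  induction l with
  | nil => simp
  | cons Y l ih => exact List.forall_mem_cons.2 ⟨h.1, ih h.2⟩
theorem kk_cop (hl : ∀ Y ∈ l, IsPGroup p Y) (hc : (orderOf a).Coprime p) (h : a ∈ kk B P l) : a ∈ stab P B := by
  induction l generalizing P with
  | nil => exact h
  | cons Y l ih => exact stab_of_coprime (hl Y (by simp)) hc h.1 (ih (fun Z hZ => hl Z (by simp [hZ])) h.2)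
theorem kk_nz (hl : ∀ Y ∈ l, g ∈ nz Y) (hB : g ∈ nz B) (hP : g ∈ nz P) : g ∈ nz (kk B P l) := by
  induction l generalizing P with
  | nil => exact mem_nz_stab hP (mem_nz_inf hP hB)
  | cons Y l ih =>
    exact mem_nz_inf (mem_nz_stab hP (mem_nz_inf hP (hl Y (by simp)))) (ih (fun Z hZ => hl Z (by simp [hZ])) (hl Y (by simp)))
theorem kk_mem (hl : ∀ Y ∈ l, x ∈ nz Y) (hP : x ∈ nz P) (h : Ch x B P l) : x ∈ kk B P l := by
  induction l generalizing P with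
  | nil => exact mem_stab'.2 ⟨hP, h⟩
  | cons Y l ih => exact ⟨mem_stab'.2 ⟨hP, h.1⟩, ih (fun Z hZ => hl Z (by simp [hZ])) (hl Y (by simp)) h.2⟩
theorem kk_cz (hl : ∀ Y ∈ l, Y ≤ P) (hX : X ≤ P) : cz P ≤ kk B X l := by
  induction l generalizing X with
  | nil => exact (cz_anti hX).trans (cz_le_stab _ _)
  | cons Y l ih => exact le_inf ((cz_anti hX).trans (cz_le_stab _ _)) (ih (fun Z hZ => hl Z (by simp [hZ])) (hl Y (by simp)))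
theorem kk_pel (hP : IsPGroup p P) (hl : ∀ Y ∈ l, Y ≤ P) (h : a ∈ kk (fr P) P l) : PEl p (cz P) a :=
  let ⟨n, hn⟩ := exists_coprime_pow (p := p) a
  ⟨n, cz_of_stab_fr hP hn (kk_cop (fun Y hY => hP.to_le (hl Y hY)) hn (pow_mem h _))⟩

theorem Cm.mono {P' Y' : Subgroup Γ} (h : Cm x P Y) (h1 : P' ≤ P) (h2 : Y ≤ Y') : Cm x P' Y' := fun y hy => h2 (h y (h1 hy))
theorem CC.cm {P' Y' : Subgroup Γ} (h : CC A B C) (hx : x ∈ A) (h1 : P' ≤ B) (h2 : C ≤ Y') : Cm x P' Y' :=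
  Cm.mono (h x hx) h1 h2
theorem CC.mono {A' B' C' : Subgroup Γ} (h : CC A B C) (h1 : A' ≤ A) (h2 : B' ≤ B) (h3 : C ≤ C') : CC A' B' C' :=
  fun _ hx => h.cm (h1 hx) h2 h3
theorem CC.symm (h : CC A B C) : CC B A C := fun x hx y hy => by
  simpa [mul_assoc] using inv_mem (h y hy x hx)
theorem CC.nz (h : CC A B B) : A ≤ nz B := le_nz_iff.2 fun g hg x hx => by simpa using mul_mem (h g hg x hx) hx
theorem CC.nz' (h : CC A B C) (h1 : P ≤ B) (h2 : C ≤ P) : A ≤ H25.nz P := CC.nz fun _ hx => h.cm hx h1 h2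
theorem CC.cz (h : CC A B ⊥) : A ≤ cz B := fun x hx => mem_cz.2 fun y hy => mul_inv_eq_one.1 (mem_bot.1 (h x hx y hy))
theorem cm_of_cz (h : x ∈ cz P) : Cm x P Y := fun y hy => by simp [mem_cz.1 h y hy]
theorem cm_self (h : w ∈ P) : Cm w P P := fun _ hy => mul_mem (mul_mem (mul_mem h hy) (inv_mem h)) (inv_mem hy)
theorem cm_nz (h : w ∈ nz P) : Cm w P P := fun _ hy => mul_mem (conj_mem_of_mem_nz h hy) (inv_mem hy)
theorem cm_fr (hP : IsPGroup p P) (hx : x ∈ P) (hy : y ∈ P) : x * y * x⁻¹ * y⁻¹ ∈ fr P :=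
  commutator_le_fr hP (commutator_mem_commutator hx hy)
theorem nz_of_char (h : ∀ w, w ∈ Y ↔ w ∈ P ∧ Cm w X Z) (h1 : g ∈ nz P) (h2 : g ∈ nz X) (h3 : g ∈ nz Z) : g ∈ nz Y :=
  mem_nz_of_conj_mem fun w hw => (h _).2 ⟨conj_mem_of_mem_nz h1 ((h w).1 hw).1, fun x hx => by
    simpa [mul_assoc] using conj_mem_of_mem_nz h3 (((h w).1 hw).2 _ (conj_mem_of_mem_nz' h2 hx))⟩
theorem nz_of_cz (h : ∀ w, w ∈ Y ↔ w ∈ P ∧ w ∈ cz X) (h1 : g ∈ nz P) (h2 : g ∈ nz X) : g ∈ nz Y :=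
  (show Y = P ⊓ cz X from Subgroup.ext h) ▸ mem_nz_inf h1 (mem_nz_cz h2)
theorem nz_bot (g : Γ) : g ∈ nz (⊥ : Subgroup Γ) := mem_nz_of_conj_mem fun w hw => by simp [mem_bot.1 hw]
/-- `w` is "onto": every element of `Y` is a commutator `[w, x]`, `x ∈ X`, modulo `Z` -/
def On (w : Γ) (X Y Z : Subgroup Γ) : Prop := ∀ y ∈ Y, ∃ x ∈ X, (w * x * w⁻¹ * x⁻¹)⁻¹ * y ∈ Z
theorem On.cj (h : On w X Y Z) (h1 : g ∈ nz X) (h2 : g ∈ nz Y) (h3 : g ∈ nz Z) : On (g * w * g⁻¹) X Y Z := fun y hy =>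
  let ⟨x, hx, e⟩ := h _ (conj_mem_of_mem_nz' h2 hy)
  ⟨_, conj_mem_of_mem_nz h1 hx, by simpa [mul_assoc] using conj_mem_of_mem_nz h3 e⟩
theorem nz_of_on (h : ∀ w, w ∈ V ↔ w ∈ P ∧ ¬ On w X Y Z) (h0 : g ∈ nz P) (h1 : g ∈ nz X) (h2 : g ∈ nz Y) (h3 : g ∈ nz Z) :
    g ∈ nz V := mem_nz_of_conj_mem fun w hw => (h _).2 ⟨conj_mem_of_mem_nz h0 ((h w).1 hw).1, fun c => ((h w).1 hw).2 (by
      simpa [mul_assoc] using c.cj (inv_mem h1) (inv_mem h2) (inv_mem h3))⟩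

/-- the elements of `P` that are central modulo the `P`-invariant subgroup `Y` -/
def zm (P Y : Subgroup Γ) : Subgroup Γ := P ⊓ stab P Y
theorem mem_zm : w ∈ zm P Y ↔ w ∈ P ∧ Cm w P Y :=
  ⟨fun h => ⟨h.1, (mem_stab'.1 h.2).2⟩, fun h => ⟨h.1, mem_stab'.2 ⟨le_nz_self P h.1, h.2⟩⟩⟩
theorem zm_le : zm P Y ≤ P := inf_le_left
theorem nz_zm (h1 : g ∈ nz P) (h2 : g ∈ nz Y) : g ∈ nz (zm P Y) := nz_of_char (fun _ => mem_zm) h1 h1 h2
/-- `Ω₁(Z(P))` -/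
def zo (p : ℕ) (P : Subgroup Γ) : Subgroup Γ where
  carrier := {w | w ∈ P ∧ w ∈ cz P ∧ w ^ p = 1}
  one_mem' := ⟨one_mem _, one_mem _, one_pow _⟩
  mul_mem' := fun {a b} ha hb => ⟨mul_mem ha.1 hb.1, mul_mem ha.2.1 hb.2.1, by
    rw [Commute.mul_pow (mem_cz'.1 hb.2.1 a ha.1), ha.2.2, hb.2.2, mul_one]⟩
  inv_mem' := fun {a} ha => ⟨inv_mem ha.1, inv_mem ha.2.1, by rw [inv_pow, ha.2.2, inv_one]⟩
theorem mem_zo : w ∈ zo p P ↔ w ∈ P ∧ w ∈ cz P ∧ w ^ p = 1 := Iff.rfl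
theorem zo_le : zo p P ≤ P := fun _ h => h.1
theorem le_cz_zo : P ≤ cz (zo p P) := le_cz_comm.1 fun _ h => h.2.1
theorem nz_zo (h : g ∈ nz P) : g ∈ nz (zo p P) := mem_nz_of_conj_mem fun _ hw =>
  ⟨conj_mem_of_mem_nz h hw.1, conj_mem_of_mem_nz (mem_nz_cz h) hw.2.1, by rw [conj_pow, hw.2.2]; simp⟩
theorem ai_cz (h : V ≤ P) (h' : P ≤ cz V) : ai P P ≤ cz V := ai_le (inf_le_left.trans h') (cz_anti h)

/-- counting cosets by a map -/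
theorem idx_le {D : Subgroup Γ} (f : Γ → Γ) (h1 : ∀ d ∈ D, ∃ b ∈ B, (f b)⁻¹ * d ∈ Y)
    (h2 : ∀ b ∈ B, ∀ b' ∈ B, b⁻¹ * b' ∈ X → (f b)⁻¹ * f b' ∈ Y) : Y.relIndex D ≤ X.relIndex B := by
  choose β hβ k using h1
  refine Nat.card_le_card_of_injective (fun c : D ⧸ Y.subgroupOf D =>
    ((⟨β _ c.out.2, hβ _ _⟩ : B) : B ⧸ X.subgroupOf B)) fun c c' e => ?_
  rw [← c.out_eq', ← c'.out_eq', QuotientGroup.eq, mem_subgroupOf]
  have := mul_mem (mul_mem (inv_mem (k _ c.out.2)) (h2 _ (hβ _ c.out.2) _ (hβ _ c'.out.2)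
    (mem_subgroupOf.1 (QuotientGroup.eq.1 e)))) (k _ c'.out.2)
  simpa [mul_assoc] using this
/-- a lower bound for an index -/
theorem le_idx {ι : Type*} (f : ι → Γ) (h1 : ∀ i, f i ∈ B) (h2 : ∀ i j, (f i)⁻¹ * f j ∈ X → i = j) :
    Nat.card ι ≤ X.relIndex B :=
  Nat.card_le_card_of_injective (fun i => ((⟨f i, h1 i⟩ : B) : B ⧸ X.subgroupOf B)) fun i j e =>
    h2 i j (mem_subgroupOf.1 (QuotientGroup.eq.1 e))
/-- an upper bound for an index -/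
theorem idx_le' {ι : Type*} [Finite ι] (f : ι → Γ) (h : ∀ b ∈ B, ∃ i, (f i)⁻¹ * b ∈ X) : X.relIndex B ≤ Nat.card ι := by
  choose β k using h
  refine Nat.card_le_card_of_injective (fun c : B ⧸ X.subgroupOf B => β _ c.out.2) fun c c' e => ?_
  rw [← c.out_eq', ← c'.out_eq', QuotientGroup.eq, mem_subgroupOf]
  have k' := k _ c'.out.2
  rw [← show β _ c.out.2 = β _ c'.out.2 from e] at k'
  simpa [mul_assoc] using mul_mem (inv_mem (k _ c.out.2)) k'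

namespace Au
variable (e : Au p S P A)
include e
theorem pP : IsPGroup p P := e.pg.to_le e.le
theorem cA : cz P ≤ A := (cz_le_ai _ _).trans e.nA
theorem mA (h1 : x ∈ S) (h2 : x ∈ nz P) : x ∈ A := e.nA (mem_ai_of_mem h1 h2)
theorem PA : ai P P ≤ A := (ai_mono e.le P).trans e.nA
theorem An' : A ≤ nz (ai P P) := e.An.trans (nz_le_nz_ai_self P)
theorem Ac : A ≤ nz (cz P) := e.An.trans (nz_le_nz_cz P)
theorem mem (h1 : x ∈ S) (h2 : x ∈ ai P P) : x ∈ P := by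
  obtain ⟨-, p, hp, k⟩ := mem_ai.1 h2
  exact (mul_mem_cancel_left (inv_mem hp)).1 (e.cen (mem_inf.2 ⟨mul_mem (inv_mem (e.le hp)) h1, agree_iff.1 k⟩))
theorem cP (h1 : X ≤ S) (h2 : P ≤ Y) (h : CC Y X ⊥) : X ≤ P := fun _ hx => e.cen ⟨h1 hx, cz_anti h2 (h.symm.cz hx)⟩
/-- the chain stabilizer is the image of `S` when it contains it -/
theorem kk_eq (hl : ∀ Y ∈ l, Y ≤ P) (h : ai S P ≤ kk (fr P) P l) : ai S P = A ⊓ kk (fr P) P l :=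
  (e.syl.mono_right (le_inf e.nA h) inf_le_left).eq_of_pel (cz_le_ai _ _) (inf_le_left.trans e.Ac)
    fun _ hk => kk_pel e.pP hl hk.2
theorem ex (h : P ≠ S) : ∃ u ∈ ai S P, u ∉ ai P P :=
  let ⟨u, h1, h2, h3⟩ := exists_mem_nz_of_lt e.pg (lt_of_le_of_ne e.le h)
  ⟨u, mem_ai_of_mem h1 h2, fun c => h3 (e.mem h1 c)⟩
theorem cjX (h1 : ai S P ≤ X) (h2 : X ≤ A) (hg : g ∈ A) (h : cj g (ai S P) ≤ X) : ∃ k ∈ X, cj k (cj g (ai S P)) ≤ ai S P :=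
  (e.syl.mono_right h1 h2).exists_cj_le_of_pel (cz_le_ai _ _) (h2.trans e.Ac) (by
    rintro _ ⟨u, hu, rfl⟩
    exact mem_nz.1 (e.Ac hg) ▸ (pel_ai e.pg u hu).conj g) h
end Au

namespace Es
variable (e : Es p S P A)
include e
theorem rad (h1 : X ≤ A) (h2 : A ≤ nz X) (h3 : ∀ k ∈ X, PEl p (cz P) k) : X ≤ ai P P := fun u hu => by
  have k := e.syl.le_of_normal_pel (cz_le_ai _ _) e.Ac h3 h1 h2
  obtain ⟨Y, y⟩ := e.ti
  by_contra c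
  exact y.ne fun g hg => y.ti g hg u (k hu) c (k (conj_mem_of_mem_nz (h2 hg) hu))
theorem kkP (hl : Al P A l) : A ⊓ kk (fr P) P l ≤ ai P P :=
  e.rad inf_le_left (fun _ hg => mem_nz_inf (le_nz_self A hg)
    (kk_nz (fun Y hY => (hl.all Y hY).2 hg) (nz_le_nz_fr P (e.An hg)) (e.An hg)))
    fun _ hk => kk_pel e.pP (fun Y hY => (hl.all Y hY).1) hk.2
/-- the chain lemma -/
theorem ch (l : List (Subgroup Γ)) (hl : Al P A l) (h1 : x ∈ S) (h2 : x ∈ nz P) (h : Ch x (fr P) P l) : x ∈ P :=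
  e.mem h1 (e.kkP hl ⟨e.mA h1 h2, kk_mem (fun Y hY => (hl.all Y hY).2 (e.mA h1 h2)) h2 h⟩)
theorem le_of (h1 : B ≤ S) (h2 : P ≤ nz B) (h : ∀ x ∈ B, x ∈ nz P → x ∈ P) : B ≤ P := by
  by_contra c
  obtain ⟨x, hx, k1, k2⟩ := exists_mem_nz_of_not_le e.pg e.le h1 h2 c
  exact k2 (h x hx k1)
theorem nS : ¬ S ≤ P := fun c => e.ne (le_antisymm e.le c)
theorem zo_n : zo p P ≤ P ∧ A ≤ nz (zo p P) := ⟨zo_le, fun _ h => nz_zo (e.An h)⟩
theorem z_n : P ⊓ cz P ≤ P ∧ A ≤ nz (P ⊓ cz P) := ⟨inf_le_left, fun _ h => mem_nz_inf (e.An h) (mem_nz_cz (e.An h))⟩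
theorem zm_n (h : A ≤ nz Y) : zm P Y ≤ P ∧ A ≤ nz (zm P Y) := ⟨zm_le, fun _ k => nz_zm (e.An k) (h k)⟩
theorem not_nz : ¬ A ≤ nz (ai S P) := fun c =>
  let ⟨_, h1, h2⟩ := e.ex e.ne; h2 (e.rad e.nA c (pel_ai e.pg) h1)
/-- passing to `O^{p'}` -/
theorem gen : ∃ H, Es p S P H ∧ Gen S P H := by
  let H := sInf {N | ai S P ≤ N ∧ A ≤ nz N}
  have h1 : ai S P ≤ H := le_sInf fun _ h => h.1
  have h2 : H ≤ A := sInf_le ⟨e.nA, le_nz_self A⟩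
  have h3 : A ≤ nz H := le_nz_iff.2 fun g hg x hx => mem_sInf.2 fun N hN =>
    conj_mem_of_mem_nz (hN.2 hg) (mem_sInf.1 hx N hN)
  obtain ⟨X, x⟩ := e.ti
  refine ⟨H, ⟨⟨e.pg, e.le, e.cen, h1, h2.trans e.An, e.syl.mono_right h1 h2⟩, e.ne, X ⊓ H, le_inf x.le h1, inf_le_right,
    fun c => x.ne fun g hg => ?_, fun g hg u hu n k => ⟨x.ti g (h2 hg) u hu n k, hg⟩⟩, fun N n1 n2 => ?_⟩
  · obtain ⟨k, hk, c1⟩ := e.cjX x.le x.XA hg ((cj_le_n h1 (h3 hg)).trans (c.trans inf_le_left))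
    obtain ⟨u, u1, u2⟩ := e.ex e.ne
    exact (mul_mem_cancel_left hk).1 (x.ti _ (mul_mem (x.XA hk) hg) u u1 u2 (c1 (cj_cj k g _ ▸ conj_mem_cj _ u1)))
  · let M : Subgroup Γ := ⨅ g : A, cj g N
    have m : H ≤ M := sInf_le ⟨le_iInf fun g => by
      obtain ⟨k, hk, c1⟩ := e.cjX h1 h2 (inv_mem g.2) (cj_le_n h1 (h3 (inv_mem g.2)))
      rw [le_cj_iff, ← cj_le_cj (g := k), mem_nz.1 (n2 hk)]
      exact c1.trans n1, le_nz_iff.2 fun g hg x hx => mem_iInf.2 fun k => by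
        have := mem_iInf.1 hx (⟨g, hg⟩⁻¹ * k)
        rw [mem_cj] at this ⊢
        simpa [mul_assoc] using this⟩
    simpa using m.trans (iInf_le _ 1)
end Es

/-- constrained or realized by a subgroup of the ambient group -/
def Rl (p : ℕ) (F : FS Γ) : Prop := F.Constr p ∨ ∃ G, Syl p F.S G ∧ F = ofSub G F.S
theorem cjs_ofSub (a : Γ) (H S : Subgroup Γ) : cjs a (ofSub H S) = ofSub (cj a H) (cj a S) := by
  have k : ∀ (a : Γ) (H S : Subgroup Γ), cjs a (ofSub H S) ≤ ofSub (cj a H) (cj a S) := fun a H S =>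
    cjs_le_iff.2 fun P g ⟨h1, h2, s, hs, e⟩ => ⟨cj_mono a h1, cj_conj_cj a g P ▸ cj_mono a h2, _,
      cj_sup a H S ▸ conj_mem_cj a hs, e.conj a⟩
  refine le_antisymm (k a H S) ?_
  simpa using cjs_le_iff'.1 (k a⁻¹ (cj a H) (cj a S))
theorem Rl.of_cjs {F : FS Γ} (a : Γ) (h : Rl p (cjs a F)) : Rl p F := by
  rw [← cjs_inv_cjs a F]
  exact h.imp (·.cjs _) fun ⟨G, h1, h2⟩ => ⟨cj a⁻¹ G, h1.cj _, by rw [cjs_S, ← cjs_ofSub, ← h2]⟩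

/-- conjugacy part of the Schur-Zassenhaus theorem modulo `C` -/
theorem sz0 (hX : X ≤ nz C) (hA : A ≤ nz C) (hB : B ≤ nz C) (hAX : A ≤ nz X) (h : B ≤ X ⊔ A)
    (hq : ∀ k ∈ X, PEl p C k) (ho : ¬ p ∣ C.relIndex B) : ∃ k ∈ X, ∀ b ∈ B, k⁻¹ * b * k ∈ A ⊔ C := by
  let q := QuotientGroup.mk' (C.subgroupOf (nz C))
  have cd : ∀ Y ≤ nz C, Nat.card ((Y.subgroupOf (nz C)).map q) = C.relIndex Y := fun Y hY => by
    rw [← relIndex_ker, QuotientGroup.ker_mk', relIndex_subgroupOf hY]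
  obtain ⟨n, hn⟩ := relIndex_pow_of_pel hX hq
  have := (IsPGroup.of_card ((cd X hX).trans hn)).isNilpotent
  obtain ⟨_, ⟨k, hk, rfl⟩, e⟩ := H2.exists_conj_mem_of_le_sup (A := (A.subgroupOf (nz C)).map q)
    (K := (X.subgroupOf (nz C)).map q) (B := (B.subgroupOf (nz C)).map q) (le_nz_iff.2 (by
      rintro _ ⟨a, ha, rfl⟩ _ ⟨x, hx, rfl⟩
      exact ⟨a * x * a⁻¹, conj_mem_of_mem_nz (P := X) (hAX ha) hx, by simp⟩)) (by
      rw [← Subgroup.map_sup, ← subgroupOf_sup hX hA]; exact map_mono (comap_mono h)) (by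
      rw [cd X hX, cd B hB, hn]; exact (Nat.Coprime.pow_right n ((Nat.Prime.coprime_iff_not_dvd hp.out).2 ho).symm))
      (.inr inferInstance)
  refine ⟨k, hk, fun b hb => ?_⟩
  obtain ⟨a, ha, e⟩ := e (q ⟨b, hB hb⟩) ⟨_, hb, rfl⟩
  have : a⁻¹ * (k⁻¹ * ⟨b, hB hb⟩ * k) ∈ C.subgroupOf (nz C) := QuotientGroup.eq.1 e
  simpa using mul_mem_sup (show (a : Γ) ∈ A from ha) (mem_subgroupOf.1 this)

end H8.PU
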