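/-
Fusion systems on a Sylow `p`-subgroup of `PSU₅(q)`, part 2: counting kit and the interface.
-/
import Cfsg.Agent.H8.PU1
import Cfsg.Agent.H24.SP1
import Cfsg.Prelude.Def_Classical

set_option autoImplicit false
set_option linter.unusedSectionVars false

namespace H8.PU
open Subgroup H25 H25.FS Cd
universe u v

section fld
variable {K : Type v} [Field K] (σ : K →+* K) [IV σ]
/-- the fixed field and the skew elements -/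
abbrev Fx := {r : K // σ r = r}
abbrev Sk := {s : K // σ s = -s}
theorem card_sk : Nat.card (Sk σ) = Nat.card (Fx σ) := by
  obtain ⟨ε, h0, h⟩ := ex_ep σ
  exact Nat.card_congr ⟨fun s => ⟨s / ε, by rw [map_div₀, s.2, h, neg_div_neg_eq]⟩,
    fun r => ⟨r * ε, by rw [map_mul, r.2, h, mul_neg]⟩, fun s => by simp [h0], fun r => by simp [h0]⟩
theorem card_K : Nat.card K = Nat.card (Fx σ) ^ 2 := by
  rw [pow_two]; nth_rw 2 [← card_sk]; rw [← Nat.card_prod]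
  exact Nat.card_congr ⟨fun x => (⟨x + σ x, by rw [map_add, ss, add_comm]⟩, ⟨x + th σ * (x + σ x), by
      simp only [map_add, map_mul, ss, s_th]; ring⟩), fun y => y.2 - th σ * y.1, fun x => by simp,
    fun y => Prod.ext (Subtype.ext (by simp only [map_sub, map_mul, s_th, y.1.2, y.2.2]; ring))
      (Subtype.ext (by simp only [map_sub, map_mul, s_th, y.1.2, y.2.2]; ring))⟩
variable [Finite K]
theorem one_lt_fx : 1 < Nat.card (Fx σ) :=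
  Finite.one_lt_card_iff_nontrivial.2 ⟨⟨0, map_zero σ⟩, ⟨1, map_one σ⟩, fun e => zero_ne_one (congrArg Subtype.val e)⟩
theorem fx_lt : Nat.card (Fx σ) < Nat.card K := by have := one_lt_fx σ; rw [card_K σ]; nlinarith
variable {σ}
omit [Finite K] in
/-- Hilbert 90 -/
theorem h90 {z : K} (h : z * σ z = 1) : ∃ w, w ≠ 0 ∧ z = w / σ w := by
  by_cases h1 : z = -1
  · obtain ⟨ε, h0, e⟩ := ex_ep σ
    exact ⟨ε, h0, by rw [h1, e]; field_simp⟩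
  have h2 : 1 + z ≠ 0 := fun e => h1 (by linear_combination e)
  exact ⟨1 + z, h2, by rw [eq_div_iff (sn h2), map_add, map_one]; linear_combination h⟩
/-- the norm is onto -/
theorem ex_nm {r : K} (h : σ r = r) : ∃ x, x * σ x = r := by
  by_cases h0 : r = 0
  · exact ⟨0, by simp [h0]⟩
  let s : Kˣ →* Kˣ := Units.map σ
  let N : Kˣ →* Kˣ := MonoidHom.id _ * s
  let D : Kˣ →* Kˣ := MonoidHom.id _ / s
  have e1 : N.ker = D.range := Subgroup.ext fun z => ⟨fun k => let ⟨w, w0, e⟩ := h90 (σ := σ) (congrArg Units.val k)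
    ⟨Units.mk0 w w0, Units.ext (by simpa [D, s] using e.symm)⟩, by
      rintro ⟨w, rfl⟩
      exact Units.ext (by simp [N, D, s, ss])⟩
  have e2 : N.range ≤ D.ker := by
    rintro _ ⟨w, rfl⟩
    exact Units.ext (by simp [N, D, s, ss, mul_comm])
  have c1 := N.ker.card_mul_index
  have c2 := D.ker.card_mul_index
  rw [index_ker] at c1 c2
  rw [e1, ← c2, mul_comm] at c1
  obtain ⟨x, e⟩ := (eq_of_le_of_card_ge e2 (Nat.eq_of_mul_eq_mul_right Nat.card_pos c1).ge).ge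
    (show Units.mk0 r h0 ∈ D.ker from Units.ext (by simp [D, s, h, h0]))
  exact ⟨x, congrArg Units.val e⟩
omit [Finite K] in
theorem ex_mu : ∃ μ : K, μ ≠ 0 ∧ μ ^ 3 ≠ σ μ ^ 2 := by
  by_contra! h
  have k : ∀ μ : K, μ ≠ 0 → μ ^ 5 = 1 := fun μ h0 => by
    have e1 := h μ h0
    have e2 := h _ (sn (σ := σ) h0)
    rw [ss] at e2
    refine mul_left_cancel₀ (pow_ne_zero 4 h0) ?_
    linear_combination (μ ^ 6 + μ ^ 3 * σ μ ^ 2 + σ μ ^ 4) * e1 + (σ μ ^ 3 + μ ^ 2) * e2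
  have h2 : (2 : K) = 0 := by linear_combination -k (-1) (by simp)
  obtain ⟨μ, hμ⟩ := IV.ne (σ := σ)
  have e1 := k μ fun e => hμ (by simp [e])
  have e2 := k (μ + 1) fun e => hμ (by rw [eq_neg_of_add_eq_zero_left e]; simp)
  have : CharP K 2 := CharTwo.of_one_ne_zero_of_two_eq_zero one_ne_zero h2
  grind
end fld

variable {K : Type v} [Field K] {σ : K →+* K} [IV σ] {Γ : Type u} [Group Γ]

theorem pw_add {G : Type*} [Group G] {p : ℕ} [CharP K p] {X : Subgroup G} (f : G → K)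
    (h : ∀ u ∈ X, ∀ v ∈ X, f (u * v) = f u + f v) {u : G} (hu : u ∈ X) : f (u ^ p) = 0 := by
  have k : ∀ n : ℕ, f (u ^ n) = n * f u := fun n => by
    induction n with
    | zero => simpa using h 1 (one_mem X) 1 (one_mem X)
    | succ n ih => rw [pow_succ, h _ (pow_mem hu n) _ hu, ih]; push_cast; ring
  simp [k]

namespace Co
variable {S : Subgroup Γ} {ev : Cd σ →* Γ} (h : Co S ev) {p : ℕ} [CharP K p] {w : Γ}
include h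
theorem pwS (hw : w ∈ S) : w ^ p ∈ (Z3 σ).map ev := by
  ob h hw c hc
  exact ev.map_pow c p ▸ h.mm.2 ⟨pw_add Cd.a (fun _ _ _ _ => rfl) (mem_top c), pw_add Cd.x (fun _ _ _ _ => rfl) (mem_top c)⟩
theorem pwR (hw : w ∈ (R1 σ).map ev) : w ^ p ∈ (W σ).map ev := by
  ob h hw c hc
  exact ev.map_pow c p ▸ h.mm.2 ⟨pw_add Cd.a (fun _ _ _ _ => rfl) hc, pw_add Cd.x (fun _ _ _ _ => rfl) hc,
    pw_add Cd.y (fun _ k _ _ => by simp [mR1.1 k]) hc⟩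
theorem pw2 (hw : w ∈ (Q2 σ).map ev) : w ^ p ∈ (A0 σ).map ev := by
  ob h hw c hc
  exact ev.map_pow c p ▸ h.mm.2 ⟨pw_add Cd.a (fun _ _ _ _ => rfl) hc, pw_add Cd.b (fun _ k _ _ => by simp [mQ2.1 k]) hc,
    pw_add Cd.x (fun _ _ _ _ => rfl) hc⟩
theorem pw3 (hw : w ∈ (Z3 σ).map ev) : w ^ p ∈ (Z σ).map ev := by
  ob h hw c hc
  exact ev.map_pow c p ▸ h.mm.2 ⟨pw_add Cd.a (fun _ _ _ _ => rfl) hc, pw_add Cd.b (fun _ k _ _ => by simp [mZ3.1 k]) hc,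
    pw_add Cd.c (fun _ k _ k' => by simp [mZ3.1 k, mZ3.1 k']) hc, pw_add Cd.x (fun _ _ _ _ => rfl) hc,
    pw_add Cd.y (fun _ k _ _ => by simp [mZ3.1 k]) hc⟩
theorem pwA (hw : w ∈ (A0 σ).map ev) : w ^ p = 1 := by
  have k := h.pw3 (p := p) ((by sl h : (A0 σ).map ev ≤ (Z3 σ).map ev) hw)
  ob h hw c hc
  rw [← ev.map_pow, h.mm] at k
  rw [← ev.map_pow, h.eq1]
  exact Cd.ext k.1 k.2.1 k.2.2.1 (pw_add Cd.d (fun _ k _ k' => by simp [mA0.1 k, mA0.1 k']) hc) k.2.2.2.1 k.2.2.2.2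
end Co

/-- the conclusions of the dual failure-of-factorization lemma -/
structure FF (S P A B D : Subgroup Γ) [Finite Γ] : Prop where
  nm : ∀ t ∈ S, t ∈ nz P → ∃ b ∈ B, b⁻¹ * t ∈ P
  eq : (fr P).relIndex D = P.relIndex B
  on : ∀ t ∈ S, t ∈ nz P → t ∉ P → On t P D (fr P)
  nt : ∀ N, A ≤ nz N → ai P P ≤ N → ∀ t ∈ S, t ∈ nz P → t ∉ P → t ∈ N → A ≤ N
theorem FF.le [Finite Γ] {S P A B C D : Subgroup Γ} (f : FF S P A B D) {t : Γ} (h1 : t ∈ S) (h2 : t ∈ nz P) (h3 : t ∉ P)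
    (h : Cm t C (fr P)) : P.relIndex B ≤ C.relIndex P :=
  f.eq ▸ idx_le (fun u => t * u * t⁻¹ * u⁻¹) (f.on t h1 h2 h3) fun u hu v _ k => by
    simpa [mul_assoc] using conj_mem_of_mem_nz (nz_le_nz_fr P (le_nz_self P hu)) (h _ k)

/-- `τ` acts as the semilinear diagonal automorphism with weights `r`, `t` on the simple roots -/
structure Wt (ev : Cd σ →* Γ) (τ : Γ) (r t : K) (φ : K ≃+* K) : Prop where
  r0 : r ≠ 0
  t0 : t ≠ 0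
  cj : ∀ c, τ * ev c * τ⁻¹ = ev (sc r t φ c)
/-- the element `h₂(l) h₁(ν)` of the torus of `SU₅(q)` -/
abbrev W0 (ev : Cd σ →* Γ) (τ : Γ) (l ν : K) : Prop := Wt ev τ (l ^ 2 * ν) (σ ν / (l * ν ^ 2)) (.refl K)
/-- `g` acts on `Q₂ / Z(Q₂)` by the matrix `(α β; γ δ)` -/
def Ac2 (ev : Cd σ →* Γ) (g : Γ) (α β γ δ : K) : Prop :=
  ∀ c c', c.a = 0 → g * ev c * g⁻¹ = ev c' → c'.b = α * c.b + β * c.x ∧ c'.x = γ * c.b + δ * c.x
/-- the Weyl elements -/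
structure Wy (ev : Cd σ →* Γ) (M1 M2 : Γ) : Prop where
  i1 : M1⁻¹ = M1
  i2 : M2⁻¹ = M2
  f1 : ∀ c : Cd σ, c.x = 0 → c.y = 0 → M1 * ev c * M1⁻¹ = ev (m1 c)
  f2 : ∀ c : Cd σ, c.a = 0 → M2 * ev c * M2⁻¹ = ev (m2 c)
/-- the model: `L = SU₅(q)`, `C0` the semilinear diagonal group -/
structure Md (p : ℕ) (S : Subgroup Γ) (ev : Cd σ →* Γ) (L C0 : Subgroup Γ) (M1 M2 : Γ) : Prop extends Co S ev, Wy ev M1 M2 where
  pg : IsPGroup p S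
  syl : Syl p S L
  CL : C0 ≤ nz L
  wt : ∀ k ∈ C0, ∃ r t φ, Wt ev k r t φ
  ex' : ∀ r t φ, r ≠ 0 → t ≠ 0 → ∃ k ∈ C0, Wt ev k r t φ
  fa : ∀ k ∈ C0, Wt ev k 1 1 (.refl K) → k = 1
  nl : ∀ g ∈ L, g ∈ nz S → ∃ s ∈ S, ∃ τ l ν, l ≠ 0 ∧ ν ≠ 0 ∧ W0 ev τ l ν ∧ g = s * τ
  l1 : M1 ∈ L
  l2 : M2 ∈ L

/-! linear algebra on `V = Q₁ / Z` -/
abbrev AV (K : Type v) [Field K] := H24.SP.Au (K × K × K)
/-- the action of `S` on `Q₁ / Z` -/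
def uu : Cd σ →* AV K := MonoidHom.mk' (fun u => {
    toFun v := (v.1, v.2.1 - v.1 * u.x, v.2.2 + v.1 * σ u.y + v.2.1 * σ u.x)
    invFun v := (v.1, v.2.1 + v.1 * u.x, v.2.2 + v.1 * u.y - v.2.1 * σ u.x)
    map_add' v w := by ext <;> simp <;> ring
    map_smul' n v := by ext <;> simp <;> ring
    left_inv v := by ext <;> simp [u.sy]; ring
    right_inv v := by ext <;> simp [u.sy]; ring }) fun u u' => by
  ext v <;> simp [ss] <;> ring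
theorem uu_ap (u : Cd σ) (v : K × K × K) :
    uu u v = (v.1, v.2.1 - v.1 * u.x, v.2.2 + v.1 * σ u.y + v.2.1 * σ u.x) := rfl
/-- the Weyl element -/
def n1 : AV K where
  toFun v := (v.2.2, -v.2.1, v.1)
  invFun v := (v.2.2, -v.2.1, v.1)
  map_add' v w := by ext <;> simp; ring
  map_smul' n v := by ext <;> simp
  left_inv v := by simp
  right_inv v := by simp
theorem n1_ap (v : K × K × K) : n1 v = (v.2.2, -v.2.1, v.1) := rfl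
variable (σ)
/-- the hermitian form and its skew part -/
def hh (v w : K × K × K) : K := v.1 * σ w.2.2 + v.2.1 * σ w.2.1 + v.2.2 * σ w.1
def ff (v w : K × K × K) : K := hh σ v w - hh σ w v
/-- `g` is semilinear diagonal -/
def Dg (g : AV K) (r t : K) (φ : K ≃+* K) : Prop := ∀ v, g v = (r * φ v.1, r * t * φ v.2.1, r * t * σ t * φ v.2.2)
/-- `g` stabilizes the point `V₁ = (0, 0, *)` -/
def Bo (g : AV K) : Prop := ∀ c, (g (0, 0, c)).1 = 0 ∧ (g (0, 0, c)).2.1 = 0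
/-- the image of the automizer of `Q₁` -/
structure LH (p : ℕ) (G : Subgroup (AV K)) : Prop where
  syl : Syl p (uu (σ := σ)).range G
  fm : ∀ g ∈ G, ∃ ζ : K → K, ∀ v w, ff σ (g v) (g w) = ζ (ff σ v w)
  sq : p = 2 → ∀ g ∈ G, ∀ v, hh σ v v = 0 → hh σ (g v) (g v) = 0
  bor : ∀ g ∈ G, Bo g → ∃ u : Cd σ, ∃ r t φ, r ≠ 0 ∧ t ≠ 0 ∧ Dg σ ((uu u)⁻¹ * g) r t φ
  ne : ∃ g ∈ G, ¬ Bo g
  tt : ∃ g ∈ G, Dg σ g 1 (-1) (.refl K)
/-- distinct points are opposite -/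
def Opp (G : Subgroup (AV K)) : Prop := ∀ g ∈ G, ¬ Bo g → ∀ c, (g (0, 0, c)).1 = 0 → c = 0
/-- `U` is transitive on the other points -/
def Tr2 (G : Subgroup (AV K)) : Prop := ∀ g ∈ G, ∀ g' ∈ G, ¬ Bo g → ¬ Bo g' → ∃ u : Cd σ, Bo (g'⁻¹ * uu u * g)
/-- `G` contains `SU₃(q)` and has the standard points -/
def Su3 (G : Subgroup (AV K)) : Prop := (∀ ν, ν ≠ 0 → ∃ g ∈ G, Dg σ g ν (σ ν / ν ^ 2) (.refl K)) ∧ n1 ∈ G ∧
  ∀ g ∈ G, Bo g ∨ ∃ u : Cd σ, Bo (n1 * uu u * g)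

/-! the chunks; standing instances `[Finite K] [Finite Γ] [Fact p.Prime] [CharP K p] [IV σ]` -/
section chunks
variable (p : ℕ) (Γ) [Finite Γ]
def DFF : Prop := ∀ S P A B D : Subgroup Γ, Es p S P A → Gen S P A → B ≤ S → B ≤ nz P → ¬ B ≤ P → CC B B P →
  (∀ b ∈ B, b ^ p ∈ P) → CC B P D → D ≤ P → (fr P).relIndex D ≤ P.relIndex B → FF S P A B D
def E1 : Prop := ∀ (S P A : Subgroup Γ) (ev : Cd σ →* Γ), Co S ev → Es p S P A → Gen S P A →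
  P ≤ (Q2 σ).map ev → P = (Q2 σ).map ev
def E2 : Prop := ∀ (S P A : Subgroup Γ) (ev : Cd σ →* Γ), Co S ev → Es p S P A → Gen S P A →
  ¬ P ≤ (Q2 σ).map ev → (Z2 σ).map ev ≤ P
def E3 : Prop := ∀ (S P A : Subgroup Γ) (ev : Cd σ →* Γ), Co S ev → Es p S P A → Gen S P A →
  ¬ P ≤ (Q2 σ).map ev → (Z2 σ).map ev ≤ P → P ≤ (R1 σ).map ev → P = (Q1 σ).map ev
def E4 : Prop := ∀ (S P A : Subgroup Γ) (ev : Cd σ →* Γ), Co S ev → Es p S P A → Gen S P A →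
  ¬ P ≤ (Q2 σ).map ev → (Z2 σ).map ev ≤ P → ¬ P ≤ (R1 σ).map ev → (Z3 σ).map ev ≤ P
def E5 : Prop := ∀ (S P A : Subgroup Γ) (ev : Cd σ →* Γ), Co S ev → Es p S P A → Gen S P A →
  ¬ P ≤ (Q2 σ).map ev → ¬ P ≤ (R1 σ).map ev → ¬ (Z3 σ).map ev ≤ P
def CH : Prop := ∀ (S : Subgroup Γ) (ev : Cd σ →* Γ), Co S ev → ∀ g ∈ nz S, g ∈ nz ((Z2 σ).map ev) ∧ g ∈ nz ((Z3 σ).map ev) ∧
  g ∈ nz ((Q1 σ).map ev) ∧ g ∈ nz ((Q2 σ).map ev) ∧ ∃ (r t : K) (φ : K ≃+* K), r ≠ 0 ∧ t ≠ 0 ∧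
    ∀ c c', g * ev c * g⁻¹ = ev c' → c'.a = r * φ c.a ∧ c'.x = t * φ c.x
def G2 : Prop := ∀ (S : Subgroup Γ) (ev : Cd σ →* Γ) (M1 M2 : Γ), Co S ev → Wy ev M1 M2 → ∀ g ∈ nz ((Q2 σ).map ev),
  g ∈ nz ((Z3 σ).map ev) ∨ ∃ u ∈ S, M2 * u * g ∈ nz ((Z3 σ).map ev)
def S2 : Prop := ∀ (S A : Subgroup Γ) (ev : Cd σ →* Γ) (M1 M2 : Γ), Co S ev → Wy ev M1 M2 → Es p S ((Q2 σ).map ev) A →
  (∀ l, l ≠ 0 → ∃ g ∈ A, Ac2 ev g l 0 0 l⁻¹) ∧ ∃ g ∈ A, Ac2 ev g 0 1 (-1) 0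
def N2 : Prop := ∀ (S A : Subgroup Γ) (ev : Cd σ →* Γ) (M1 M2 : Γ), Co S ev → Wy ev M1 M2 → Es p S ((Q2 σ).map ev) A →
  (∀ l ν, l ≠ 0 → ν ≠ 0 → ∃ τ ∈ A, W0 ev τ l ν) → (∃ g ∈ A, Ac2 ev g 0 1 (-1) 0) → M2 ∈ A
def L1 : Prop := ∀ G, LH σ p G → Opp G
def L2 : Prop := ∀ G, LH σ p G → Opp G → Tr2 σ G
def L3 : Prop := ∀ G, LH σ p G → Opp G → Tr2 σ G → Su3 σ G
def TR : Prop := (∀ G, LH σ p G → Su3 σ G) → ∀ (S A D : Subgroup Γ) (ev : Cd σ →* Γ) (M1 M2 : Γ), Co S ev → Wy ev M1 M2 →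
  Es p S ((Q1 σ).map ev) A → D ≤ A → (∀ g ∈ A, g ∈ nz ((Z2 σ).map ev) → ∃ u ∈ S, ∃ k ∈ D, ∃ r t φ, Wt ev k r t φ ∧
    Agree ((Q1 σ).map ev) g (u * k)) → (∃ τ ∈ A, Wt ev τ 1 (-1) (.refl K)) →
  (∀ ν, ν ≠ 0 → ∃ k ∈ D, W0 ev k 1 ν) ∧ M1 ∈ A ∧
    ∀ g ∈ A, g ∈ nz ((Z2 σ).map ev) ∨ ∃ u ∈ S, M1 * u * g ∈ nz ((Z2 σ).map ev)
def MD : Prop := ∃ (G : Type v) (_ : Group G) (_ : Finite G) (ev : Cd σ →* G) (L C0 : Subgroup G) (M1 M2 : G),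
  Md p ev.range ev L C0 M1 M2
end chunks
def SY : Prop := ∀ (K : Type v) [Field K] [Fintype K] (p : ℕ) [Fact p.Prime] [CharP K p] (n : ℕ), 1 ≤ n →
  Fintype.card K = (p ^ n) ^ 2 → ∃ (σ : K →+* K) (_ : IV σ), ∀ T : Sylow p (Cfsg.PSU 5 K (p ^ n)),
    Nonempty (Cd σ ≃* (T : Subgroup (Cfsg.PSU 5 K (p ^ n))))

end H8.PU
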