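/-
Fusion systems on a Sylow `p`-subgroup of `PSU₅(q)`, part 5: the dual failure-of-factorization lemma.
-/
import Cfsg.Agent.H8.PU2
import Cfsg.Agent.H29.PU2

set_option autoImplicit false
set_option linter.unusedSectionVars false

namespace H8.PU
open Subgroup H25 H25.FS Cfsg H29.Rp H29.PU H13.SL2 MatrixGroups
universe u
variable {p : ℕ} [hp : Fact p.Prime]

theorem sl2_nm {F : Type*} [Field F] [Finite F] {N : Subgroup SL(2, F)} (n : ∀ g, ∀ u ∈ N, g * u * g⁻¹ ∈ N) {a : F}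
    (h0 : a ≠ 0) (h : x a ∈ N) (b : F) : x b ∈ N := by
  have k : ∀ l, x (l * l * a) ∈ N := fun l => by
    by_cases e : l = 0
    · simp [e]
    have := n (w l) _ (n (w 1) _ h)
    rwa [w_x one_ne_zero, mul_inv_cancel_right, w_y e, mul_inv_cancel_right, show -(-a / 1 ^ 2) * l ^ 2 = l * l * a by ring] at this
  by_cases e : ringChar F = 2
  · obtain ⟨l, hl⟩ := FiniteField.isSquare_of_char_two e (b / a)
    simpa [← hl, h0] using k l
  have h2 := Ring.two_ne_zero e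
  have := mul_mem (k ((b / a + 1) / 2)) (inv_mem (k ((b / a - 1) / 2)))
  rwa [← x_neg, ← x_add, show (b / a + 1) / 2 * ((b / a + 1) / 2) * a + -((b / a - 1) / 2 * ((b / a - 1) / 2) * a) = b by
    field_simp; ring] at this

section
variable {G U : Type*} [Group G] [Finite G] [AddCommGroup U] [Module (ZMod p) U] [Finite U] {ρ : Representation (ZMod p) G U}
  {T N : Subgroup G}
theorem card_ann (W : Submodule (ZMod p) U) :
    Nat.card W * Nat.card W.dualAnnihilator = Nat.card (Module.Dual (ZMod p) U) := by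
  rw [Module.natCard_eq_pow_finrank (K := ZMod p) (V := W), Module.natCard_eq_pow_finrank (K := ZMod p) (V := W.dualAnnihilator),
    Module.natCard_eq_pow_finrank (K := ZMod p) (V := Module.Dual _ _), ← pow_add, Subspace.finrank_add_finrank_dualAnnihilator_eq, Subspace.dual_finrank_eq]
theorem le_of_rt (hf : ∀ g, (∀ u, ρ g u = u) → g = 1) (hT : H28.IsSylowIn p T ⊤) (hA : Rt ρ T) (hg : H28.nclIn T ⊤ = ⊤)
    (hn : ¬ ⊤ ≤ nz T) (n : ∀ g, ∀ u ∈ N, g * u * g⁻¹ ∈ N) {t : G} (h1 : t ∈ T) (h2 : t ≠ 1) (h3 : t ∈ N) : T ≤ N := by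
  obtain ⟨F, _, _, hF, ⟨E⟩⟩ := nat2_of_sylow hf hT hA hg hn
  let φ := topEquiv.symm.trans E.π
  obtain ⟨m, hm⟩ := hT.isPGroup.exists_card_eq
  have : CharP F p := charP_of_card_eq_prime_pow (hF.trans hm)
  obtain ⟨k, -, e⟩ := (map_top_of_surjective φ.toMonoidHom φ.surjective ▸ hT.map φ.toMonoidHom).exists_conj sylow_upper
  have n' : ∀ g, ∀ u ∈ N.map φ.toMonoidHom, g * u * g⁻¹ ∈ N.map φ.toMonoidHom := by
    rintro g _ ⟨u, hu, rfl⟩
    exact ⟨_, n (φ.symm g) u hu, by simp⟩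
  obtain ⟨a, ha⟩ := mem_upper.1 (e.le (conj_mem_cj k (mem_map_of_mem _ h1)))
  have k2 := sl2_nm n' (a := a) (fun c => h2 (by simpa [c] using ha)) (ha ▸ n' k _ ⟨t, h3, rfl⟩)
  intro s hs
  obtain ⟨b, hb⟩ := mem_upper.1 (e.le (conj_mem_cj k (mem_map_of_mem _ hs)))
  obtain ⟨s', h', e'⟩ := n' k⁻¹ _ (hb ▸ k2 b)
  exact φ.injective (show φ s' = φ s by simpa [mul_assoc] using e') ▸ h'
end

variable {Γ : Type u} [Group Γ] [Finite Γ]

theorem dff : DFF Γ p := fun S P A B D e gn BS Bn BP cB pB cD DP le => by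
  have PA : P ≤ A := (le_ai_self P).trans e.PA
  have BA : B ≤ ai S P := (le_inf BS Bn).trans (inf_nz_le_ai S P)
  obtain ⟨R⟩ := exists_secRep (p := p) PA (fr_le P) e.An (e.An.trans (nz_le_nz_fr P)) (commutator_le_fr e.pP)
    fun _ => pow_mem_fr e.pP
  have hk : ∀ a : A, R.f a = 1 ↔ a.1 ∈ ai P P := fun a => (R.f_eq_one a).trans
    ⟨fun h => e.kkP (l := []) trivial ⟨a.2, mem_stab'.2 ⟨e.An a.2, h⟩⟩, fun ⟨_, k, hk, c⟩ v hv => by
      rw [commutatorElement_def, c v hv]; exact cm_fr e.pP hk hv⟩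
  have hm : ∀ Y, ai P P ≤ Y → ∀ a : A, R.f a ∈ R.im Y ↔ a.1 ∈ Y := fun Y h a => by
    rw [SecRep.im, ← mem_comap, comap_map_eq_self (H := Y.subgroupOf A) fun b hb => h ((hk b).1 hb), mem_subgroupOf]
  have PT := ai_mono e.le P
  have hT : H28.IsSylowIn p (R.im (ai S P)) ⊤ := H28.isSylowIn_iff.2 ⟨le_top, H28.isPGroup_iff_mem.2 (by
      rintro _ ⟨a, ha, rfl⟩
      obtain ⟨n, hn⟩ := pel_ai e.pg a.1 ha
      exact ⟨n, map_pow R.f a _ ▸ (hk _).2 (cz_le_ai _ _ hn)⟩),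
    fun c => e.syl.2 (((relIndex_top_right (R.im (ai S P))).subst c).trans (index_map_dvd _ R.surj))⟩
  obtain ⟨b, b1, b2⟩ := SetLike.not_le_iff_exists.1 BP
  have ne : ∀ t (h : t ∈ S) (h' : t ∈ nz P), t ∉ P → R.f ⟨t, e.mA h h'⟩ ≠ 1 := fun t h _ n c => n (e.mem h ((hk _).1 c))
  have bB : R.f ⟨b, e.nA (BA b1)⟩ ∈ R.im B := R.mem_im b1
  have BT : R.im B ≤ R.im (ai S P) := map_mono (comap_mono BA)
  have B0 : R.im B ≠ ⊥ := fun c => ne b (BS b1) (Bn b1) b2 (mem_bot.1 (c ▸ bB))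
  obtain ⟨X, hX⟩ := e.ti
  have sp : H28.SPE p (R.im X) := H28.spe_of_sylow
    (fun c => hX.ne fun a ha => (hm X (PT.trans hX.le) ⟨a, ha⟩).1 (c ▸ mem_top _))
    (hT.mono (map_mono (comap_mono hX.le)) le_top) (fun c => B0 (le_bot_iff.1 (c ▸ BT))) fun Q q1 q2 n hn => by
      obtain ⟨⟨a, ha⟩, a1⟩ := ne_bot_iff_exists_ne_one.1 q2
      obtain ⟨a, ha', rfl⟩ := q1 ha
      obtain ⟨n, rfl⟩ := R.surj n
      have := q1 (conj_mem_of_mem_nz hn ha)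
      rw [← map_inv, ← map_mul, ← map_mul, hm _ PT] at this
      exact R.mem_im (hX.ti n n.2 a ha' (fun c => a1 (Subtype.ext ((hk a).2 c))) this)
  have : Finite (Module.Dual (ZMod p) R.U) := Module.finite_of_finite (ZMod p)
  have hf : ∀ g, (∀ u, R.ρ.dual g u = u) → g = 1 := fun g h => inv_eq_one.1 (R.faith _ fun u => sub_eq_zero.1
    ((Module.forall_dual_apply_eq_zero_iff (ZMod p) _).1 fun χ => by
      rw [map_sub, sub_eq_zero]; exact DFunLike.congr_fun (h χ) u))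
  let W : Submodule (ZMod p) R.U := AddSubgroup.toZModSubmodule p
    { carrier := {u | ∃ d ∈ D, R.ι d = u}
      zero_mem' := ⟨1, one_mem _, R.one⟩
      add_mem' := by rintro _ _ ⟨a, ha, rfl⟩ ⟨b, hb, rfl⟩; exact ⟨_, mul_mem ha hb, R.mul _ (DP ha) _ (DP hb)⟩
      neg_mem' := by rintro _ ⟨a, ha, rfl⟩; exact ⟨_, inv_mem ha, R.inv (DP ha)⟩ }
  have mW : ∀ u, u ∈ W ↔ ∃ d ∈ D, R.ι d = u := fun _ => Iff.rfl
  have ie : ∀ x ∈ P, ∀ y ∈ P, x⁻¹ * y ∈ fr P ↔ R.ι x = R.ι y := fun x hx y hy => by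
    rw [← R.ker _ (mul_mem (inv_mem hx) hy), R.mul _ (inv_mem hx) _ hy, R.inv hx, neg_add_eq_zero]
  have c1 : Nat.card W ≤ (fr P).relIndex D := by
    choose d d1 d2 using fun w : W => (mW w).1 w.2
    exact le_idx d d1 fun i j k => Subtype.ext (by rw [← d2, ← d2, (ie _ (DP (d1 i)) _ (DP (d1 j))).1 k])
  have c2 : P.relIndex B ≤ Nat.card (R.im B) := by
    choose d d1 d2 using fun w : R.im B => w.2
    refine idx_le' (fun w => (d w).1) fun b hb => ⟨⟨_, R.mem_im (g := ⟨b, e.nA (BA hb)⟩) hb⟩, ?_⟩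
    refine e.mem (mul_mem (inv_mem (BS (d1 _))) (BS hb)) ((hk ((d _)⁻¹ * ⟨b, e.nA (BA hb)⟩)).1 ?_)
    rw [map_mul, map_inv, d2, inv_mul_cancel]
  let Y := fun g => LinearMap.range (R.ρ g - LinearMap.id)
  have aY : ∀ g χ, χ ∈ (Y g).dualAnnihilator ↔ R.ρ.dual g⁻¹ χ = χ := fun g χ => by
    rw [Submodule.mem_dualAnnihilator, LinearMap.ext_iff]
    simp [Y, Representation.dual_apply, Module.Dual.transpose_apply, sub_eq_zero]
  have YW : ∀ g ∈ R.im B, Y g ≤ W := by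
    rintro _ ⟨a, ha, rfl⟩ _ ⟨u, rfl⟩
    obtain ⟨v, hv, rfl⟩ := R.onto u
    exact ⟨_, cD a ha v hv, R.comm a hv⟩
  obtain ⟨T, t1, t2, t3⟩ := exists_rt_sylow hf sp (X := R.im B) (H28.isElementaryAbelian_iff.2 ⟨by
      rintro _ ⟨a, ha, rfl⟩ _ ⟨b, hb, rfl⟩
      rw [← commutatorElement_eq_one_iff_mul_comm, ← map_commutatorElement, hk]
      exact le_ai_self P (cB _ hb _ ha), by
      rintro _ ⟨a, ha, rfl⟩; rw [← map_pow, hk]; exact le_ai_self P (pB _ ha)⟩) B0 (by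
    rw [← card_ann W]
    exact Nat.mul_le_mul (c1.trans (le.trans c2)) (Nat.card_mono (Set.toFinite _) fun χ h g hg => by
      simpa using (aY g⁻¹ χ).1 (Submodule.dualAnnihilator_anti (YW _ (inv_mem hg)) h)))
  obtain ⟨k, -, rfl⟩ := hT.exists_conj t1
  rw [rt_cj_iff] at t2
  have aT : ∀ g ∈ R.im (ai S P), g ≠ 1 → (Y g).dualAnnihilator = fix R.ρ.dual (R.im (ai S P)) := fun g h n =>
    Submodule.ext fun χ => (aY g χ).trans ⟨fun c => (t2.ker _ (inv_mem h) χ c).resolve_left (by simpa), fun c => c _ (inv_mem h)⟩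
  have b3 := aT _ (BT bB) (ne b (BS b1) (Bn b1) b2)
  have c3 := card_ann (Y (R.f ⟨b, e.nA (BA b1)⟩))
  rw [b3, t2.card] at c3
  replace c3 := Nat.eq_of_mul_eq_mul_right Nat.card_pos c3
  have c4 := Nat.card_mono (Set.toFinite _) (YW _ bB)
  have c5 := card_le_of_le BT
  have e1 : R.im B = R.im (ai S P) := eq_of_le_of_card_ge BT (c3.ge.trans (c4.trans (c1.trans (le.trans c2))))
  have e2 : Y (R.f ⟨b, e.nA (BA b1)⟩) = W := SetLike.coe_injective (Set.Finite.eq_of_subset_of_card_le (Set.toFinite _) (YW _ bB)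
    (c1.trans (le.trans (c2.trans (c5.trans c3.ge)))))
  refine ⟨fun t h1 h2 => ?_, le_antisymm le (c2.trans (c5.trans (c3.ge.trans (c4.trans c1)))), fun t h1 h2 h3 y hy => ?_,
    fun N n1 n2 t h1 h2 h3 h4 => gn N (fun s hs => (hm N n2 ⟨s, e.nA hs⟩).1 ?_) n1⟩
  · obtain ⟨a, ha, c⟩ := e1.ge (R.mem_im (g := ⟨t, e.mA h1 h2⟩) (mem_ai_of_mem h1 h2))
    refine ⟨a, ha, e.mem (mul_mem (inv_mem (BS ha)) h1) ((hk (a⁻¹ * ⟨t, e.mA h1 h2⟩)).1 ?_)⟩
    rw [map_mul, map_inv, c, inv_mul_cancel]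
  · obtain ⟨u, c⟩ := (e2.symm.trans (Subspace.dualAnnihilator_inj.1 (b3.trans (aT _ (R.mem_im (g := ⟨t, e.mA h1 h2⟩)
      (mem_ai_of_mem h1 h2)) (ne t h1 h2 h3)).symm))).le ((mW _).2 ⟨y, hy, rfl⟩)
    obtain ⟨v, hv, rfl⟩ := R.onto u
    exact ⟨v, hv, (ie _ (cm_nz h2 v hv) _ (DP hy)).2 ((R.comm ⟨t, e.mA h1 h2⟩ hv).trans c)⟩
  refine le_of_rt hf hT t2 (top_unique fun g _ => ?_) (fun c => t3 fun g _ => ?_) (N := R.im N) (fun g u ⟨a, ha, c⟩ => ?_)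
    (R.mem_im (g := ⟨t, e.mA h1 h2⟩) (mem_ai_of_mem h1 h2)) (ne t h1 h2 h3) (R.mem_im h4) (R.mem_im hs)
  · obtain ⟨g, rfl⟩ := R.surj g
    obtain ⟨a, ha, c⟩ := gn (((H28.nclIn (R.im (ai S P)) ⊤).comap R.f).map A.subtype)
      (fun s hs => ⟨⟨s, e.nA hs⟩, H28.le_nclIn _ _ (R.mem_im hs), rfl⟩) (le_nz_iff.2 (by
        rintro g hg _ ⟨a, ha, rfl⟩
        refine ⟨⟨g, hg⟩ * a * ⟨g, hg⟩⁻¹, ?_, rfl⟩
        rw [SetLike.mem_coe, mem_comap, map_mul, map_mul, map_inv]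
        exact conj_mem_of_mem_nz (H28.le_normalizer_nclIn _ _ (mem_top _)) ha)) g.2
    exact Subtype.ext c ▸ ha
  · exact (congrArg nz (mem_nz.1 (c (mem_top k)))).ge (c (mem_top g))
  · obtain ⟨g, rfl⟩ := R.surj g
    rw [← c, ← map_inv, ← map_mul, ← map_mul]
    exact R.mem_im (conj_mem_of_mem_nz (n1 g.2) ha)

end H8.PU
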