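import Cfsg.Agent.H8.GA7
import Cfsg.Agent.H28.S4Rec

/-!
Goldschmidt amalgams, part 8: critical distance three, and the bound for the edge stabilizer.
-/

set_option autoImplicit false

open Cfsg Subgroup H28 MulAction
open scoped Pointwise commutatorElement

namespace H8.GA

variable {X : Type*} [Group X] {V : Type*} [MulAction X V] {Γ : SimpleGraph V}

local notation:max "𝐆" δ:max => stabilizer X δ
local notation:max "𝐐" δ:max => Qv 2 X δ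
local notation:max "𝐘" δ:max => Yv X δ
local notation:max "𝐙" δ:max => Zw X δ
local notation:max "𝐀" δ:max => IsA X δ
local notation:max "#" H:max => Nat.card H
local notation "𝐛" => cd X Γ
local notation:max "𝐊" δ:max => Cv X Γ δ
local notation:max "𝐳" δ:max => zz X δ
local notation:max "𝐕" δ:max => Xn X Γ 1 δ
local notation:max "𝐖" β:max w:max => IsW X Γ β w

theorem rel_le {L Z : Subgroup X} [Finite Z] {v : X} (k : ∀ q ∈ L, q * v * q⁻¹ * v ∈ Z) :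
    (centralizer {v}).relIndex L ≤ #Z := by
  refine Nat.card_le_card_of_injective (fun a : L ⧸ (centralizer {v}).subgroupOf L =>
    (⟨_, k _ a.out.2⟩ : Z)) fun a b e => ?_
  have e := mul_right_cancel (congrArg Subtype.val e :)
  rw [← a.out_eq, ← b.out_eq]
  refine QuotientGroup.eq.2 (mem_centralizer_singleton_iff.2 (comm_of_conj ?_))
  calc _ = (a.out : X)⁻¹ * (b.out * v * (b.out : X)⁻¹) * a.out := by simp [mul_assoc]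
    _ = _ := by rw [← e]; group

/-- intersection over the neighbours -/
def Iv (Γ : SimpleGraph V) (F : V → Subgroup X) (δ : V) : Subgroup X :=
  ⨅ μ : Γ.neighborSet δ, F μ

theorem mem_Iv {F : V → Subgroup X} {δ : V} {x : X} :
    x ∈ Iv Γ F δ ↔ ∀ μ, Γ.Adj δ μ → x ∈ F μ := by
  rw [Iv, mem_iInf]
  exact ⟨fun h μ e => h ⟨μ, e⟩, fun h μ => h μ μ.2⟩

theorem smul_mem_Iv (h : AG X Γ) {F : V → Subgroup X}
    (hF : ∀ (g x : X) (δ : V), x ∈ F δ → g * x * g⁻¹ ∈ F (g • δ)) (g x : X) (δ : V)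
    (a : x ∈ Iv Γ F δ) : g * x * g⁻¹ ∈ Iv Γ F (g • δ) :=
  mem_Iv.2 fun μ e => by
    rw [← smul_inv_smul g μ]
    exact hF _ _ _ (mem_Iv.1 a _ (by simpa using h.smul g⁻¹ e))

theorem line5 (h : A3 X Γ) {a b c d e : V} (e1 : Γ.Adj a b) (e2 : Γ.Adj b c) (e3 : Γ.Adj c d)
    (e4 : Γ.Adj d e) (n1 : a ≠ c) (n2 : b ≠ d) (n3 : c ≠ e) :
    ∃ k, Line Γ k ∧ k 0 = a ∧ k 1 = b ∧ k 2 = c ∧ k 3 = d ∧ k 4 = e := by
  obtain ⟨g, lg, g0, g1, g2⟩ := line3 h e3 e4 n3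
  obtain ⟨p, lp, p0, p1⟩ := cons_line h lg 0 (g0 ▸ e2) (by rwa [zero_add, g1])
  have p2 := (p1 1 le_rfl).trans g0
  obtain ⟨k, lk, k0, k1⟩ := cons_line h lp 0 (p0 ▸ e1) (by rwa [zero_add, p2])
  exact ⟨k, lk, k0, (k1 1 le_rfl).trans p0, (k1 2 (by omega)).trans p2,
    (k1 3 (by omega)).trans ((p1 2 (by omega)).trans g1),
    (k1 4 (by omega)).trans ((p1 3 (by omega)).trans g2)⟩

/-- critical distance three, natural module -/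
structure F3 (X : Type*) [Group X] {V : Type*} [MulAction X V] (Γ : SimpleGraph V) : Prop
    extends E3 X Γ where
  nat : ∀ (β : V) (w : X), ¬ IsA X β → IsW X Γ β w → w ∈ Yv X β
  b3 : cd X Γ = 3
  cl : ∀ f, Line Γ f → IsA X (f 0) → Cl X Γ f

local notation:max "𝐌" δ:max => Iv Γ (Cv X Γ) δ
local notation:max "𝐃" δ:max => Iv Γ (Iv Γ (Cv X Γ)) δ

namespace F3

variable (h : F3 X Γ) {α α' β i j k μ ν : V} {u v c q : X}
include h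

theorem T1 (a : 𝐀 α) (ei : Γ.Adj α i) (ej : Γ.Adj α j) (n : i ≠ j) (e : Γ.Adj i μ) (m : μ ≠ α)
    (v1 : v ∈ 𝐙 μ) (v2 : v ∉ 𝐘 i) : v ∉ 𝐐 j := by
  obtain ⟨ν, e', m'⟩ := h.exists_ne ej.symm
  obtain ⟨f, l, rfl, rfl, rfl, rfl, -⟩ := line5 h.toA3 e.symm ei.symm ej e' m n m'.symm
  have := h.crit_not_mem (h.cl f l (h.lA l a 0)) v1 v2
  rwa [h.b3] at this

theorem T2 (a : 𝐀 α) (ei : Γ.Adj α i) (ej : Γ.Adj α j) (ek : Γ.Adj α k) (n : i ≠ j) (n1 : k ≠ i)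
    (n2 : k ≠ j) (e : Γ.Adj i μ) (m : μ ≠ α) (e' : Γ.Adj j ν) (m' : ν ≠ α) (v1 : v ∈ 𝐙 μ)
    (v2 : v ∉ 𝐘 i) (u1 : u ∈ 𝐙 ν) (u2 : u ∉ 𝐘 j) : v * u * v⁻¹ * u = 𝐳 k := by
  have t := h.T1 a ej ei n.symm e' m' u1 u2
  obtain ⟨f, l, rfl, rfl, rfl, rfl, rfl⟩ := line5 h.toA3 e.symm ei.symm ej e' m n m'.symm
  have a0 := h.lA l a 0
  have := h.b3
  obtain ⟨-, r2, r3, r4⟩ := h.nat_R h.nat h.b3.ge (h.cl f l a0) (h.lB l a0 _) v1 v2 (a := u)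
    (by rw [h.b3]; exact u1) (by rw [h.b3]; exact u2)
  rw [h.b3] at r2
  exact h.eq_z_third ei ej ek n n1 n2 a r3 (r4 t) r2

theorem T3 (a : 𝐀 α) (ei : Γ.Adj α i) (e : Γ.Adj i μ) (m : μ ≠ α) (v1 : v ∈ 𝐙 μ) (q1 : q ∈ 𝐐 α) :
    q * v * q⁻¹ * v ∈ 𝐙 α ∧ (v ∉ 𝐘 i → Commute q v → q ∈ 𝐊 i) := by
  have b := h.nA ei a
  have aμ := h.toA e b
  have qT := h.Q_le_T' ei.symm q1
  have k : v ∉ 𝐘 i → q ∉ 𝐐 i → q * v * q⁻¹ * v ∈ 𝐙 α ∧ q * v * q⁻¹ * v ≠ 1 := fun v2 d => by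
    obtain ⟨s1, s2, s3⟩ := smul_ne h.toA3 ei.symm e m.symm qT d
    obtain ⟨x, x1, x2⟩ := h.exists_Z ei a
    have := h.nat i _ b ⟨_, _, _, ei.symm, s3, e, s2.symm, m, s1.symm, x, x1, x2, _, smul_mem_Z.2 v1,
      (conj_mem_Y qT.1).not.2 v2, v, v1, v2, rfl⟩
    rw [mul_assoc] at this
    exact ⟨(mul_mem_cancel_left x1).1 (h.Y_le_Z ei this), fun c => x2 (by rwa [c, mul_one] at this)⟩
  refine ⟨?_, fun v2 cm => ?_⟩
  · by_cases d : q ∈ 𝐐 i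
    · exact h.Y_le_Z ei (h.comm_mem_Y e.symm aμ v1 (h.Q_le_T' e.symm d))
    by_cases v2 : v ∈ 𝐘 i
    · rw [(Y_comm v2 qT.1).mul_inv_cancel, Y_sq v2]; exact one_mem _
    exact (k v2 d).1
  · have d : q ∈ 𝐐 i := by
      by_contra d
      exact (k v2 d).2 (by rw [cm.mul_inv_cancel, Z_sq v1])
    have := h.V_le_of h.nat b ei.symm e m.symm (K := centralizer {q})
      (fun z hz => mem_centralizer_singleton_iff.2 (Z_comm hz q1).symm) v1 v2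
      (mem_centralizer_singleton_iff.2 cm.symm)
    exact mem_Cv.2 ⟨d, fun ρ e' => h.mem_Q_of_comm e'.symm (h.toA e' b) (h.Q_le_T' e'.symm d)
      fun z hz => (mem_centralizer_singleton_iff.1 (this (h.Z_le_V b e' hz))).symm⟩

theorem T4 (a : 𝐀 α) (ei : Γ.Adj α i) (e : Γ.Adj i μ) (m : μ ≠ α) (v1 : v ∈ 𝐙 μ) (q1 : q ∈ 𝐐 α) :
    ∃ t ∈ 𝐙 α, v * q * v = q * t :=
  ⟨_, (h.T3 a ei e m v1 (inv_mem q1)).1, by group⟩

theorem T5 (b : ¬ 𝐀 β) (e : Γ.Adj β α) (e' : Γ.Adj β α') (n : α ≠ α') :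
    ∃ g ∈ 𝐐 β, g ∉ 𝐐 α ∧ (∀ c ∈ 𝐐 α', ∃ u ∈ 𝐙 α', g⁻¹ * c * g = c * u) ∧
      ∀ c ∈ 𝐌 α', Commute g c := by
  have a := h.toA e' b
  obtain ⟨i, ei, ni⟩ := h.exists_ne e'.symm
  obtain ⟨j, ej, nj, nj'⟩ := exists_third h.toA3 e'.symm ei ni.symm
  obtain ⟨μ, eμ, nμ⟩ := h.exists_ne ei.symm
  obtain ⟨ν, eν, nν⟩ := h.exists_ne ej.symm
  obtain ⟨v, v1, v2⟩ := h.exists_Z eμ.symm (h.toA eμ (h.nA ei a))
  obtain ⟨u, u1, u2⟩ := h.exists_Z eν.symm (h.toA eν (h.nA ej a))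
  have vQ := h.two_le_Q h.b3.ge (h.nA ei a) eμ ei.symm v1
  have uQ := h.two_le_Q h.b3.ge (h.nA ej a) eν ej.symm u1
  refine ⟨v * u, h.mul_mem_Q e' (h.Q_le_T' e' vQ) (h.Q_le_T' e' uQ)
    (h.T1 a ei e'.symm ni eμ nμ v1 v2) (h.T1 a ej e'.symm nj eν nν u1 u2), fun d => ?_,
    fun c hc => ?_, fun c hc => ?_⟩
  · obtain ⟨x, x1, x2⟩ := h.exists_Z e.symm (h.toA e b)
    have p := h.T2 a ei e'.symm ej ni nj' nj eμ nμ e n v1 v2 x1 x2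
    have q := h.T2 a ej e'.symm ei nj nj'.symm ni eν nν e n u1 u2 x1 x2
    have r := (Z_comm x1 d).mul_inv_cancel
    have : v⁻¹ * x * v = u * x * u⁻¹ := by
      conv_lhs => rw [← r]
      group
    rw [inv_of_sq (Z_sq v1)] at p this
    rw [this, q] at p
    exact h.z_not_mem ei ej nj'.symm a (p ▸ z_mem i)
  · obtain ⟨t, t1, t2⟩ := h.T4 a ei eμ nμ v1 hc
    obtain ⟨s, s1, s2⟩ := h.T4 a ej eν nν u1 hc
    refine ⟨s * t, mul_mem s1 t1, ?_⟩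
    calc _ = u⁻¹ * (v⁻¹ * c * v) * u := by group
      _ = u * c * (t * u) := by rw [inv_of_sq (Z_sq v1), inv_of_sq (Z_sq u1), t2]; group
      _ = _ := by rw [← (Z_comm t1 uQ).eq, ← mul_assoc, s2, mul_assoc]
  · exact ((Z_comm v1 ((mem_Cv.1 (mem_Iv.1 hc i ei)).2 μ eμ)).mul_right
      (Z_comm u1 ((mem_Cv.1 (mem_Iv.1 hc j ej)).2 ν eν))).symm

theorem S2 (a : 𝐀 α) (ei : Γ.Adj α i) (ej : Γ.Adj α j) (ek : Γ.Adj α k) (n : i ≠ j) (n1 : k ≠ i)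
    (n2 : k ≠ j) (c1 : c ∈ 𝐊 i) (c2 : c ∈ 𝐊 j) (e : Γ.Adj k μ) (m : μ ≠ α) (v1 : v ∈ 𝐙 μ) :
    c * v * c⁻¹ * v ∈ 𝐘 i := by
  have b := h.nA ej a
  obtain ⟨α', e', m'⟩ := h.exists_ne ej.symm
  obtain ⟨g, g1, g2, g3, -⟩ := h.T5 b ej.symm e' m'.symm
  have gT := h.Q_le_T' ej g1
  have gk : g⁻¹ • k = i := h.swap ej ek ei n2 n n1.symm (inv_mem gT) fun d => g2 (inv_mem_iff.1 d)
  have gi : g • k = i := h.swap ej ek ei n2 n n1.symm gT g2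
  obtain ⟨u, u1, u2⟩ := g3 c ((mem_Cv.1 c2).2 _ e')
  have w1 := (smul_mem_Z (g := g⁻¹)).2 v1
  have eμ : Γ.Adj i (g⁻¹ • μ) := gk ▸ h.smul g⁻¹ e
  have mμ : g⁻¹ • μ ≠ α := fun d => m (by rw [← smul_inv_smul g μ, d]; exact gT.1)
  set w := g⁻¹ * v * g⁻¹⁻¹ with hw
  have cα := (mem_Cv.1 c1).2 _ ei.symm
  have y : u * w * u⁻¹ * w ∈ 𝐘 k := by
    by_cases d : w ∈ 𝐘 i
    · rw [(Z_comm (h.Y_le_Z ei d) (h.two_le_Q h.b3.ge b e' ej.symm u1)).mul_inv_cancel, Y_sq d]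
      exact one_mem _
    by_cases d' : u ∈ 𝐘 j
    · rw [(Z_comm (h.Y_le_Z ej d') (h.two_le_Q h.b3.ge (h.nA ei a) eμ ei.symm w1)).symm.mul_inv_cancel,
        Z_sq w1]
      exact one_mem _
    rw [h.T2 a ej ei ek n.symm n2 n1 e' m' eμ mμ u1 d' w1 d]; exact z_mem k
  have := (smul_mem_Y (g := g)).2 y
  rw [gi] at this
  convert this using 1
  have p := (Z_comm w1 ((mem_Cv.1 c1).2 _ eμ)).mul_inv_cancel
  have q := (Z_comm (h.Y_le_Z ek y) cα).mul_inv_cancel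
  calc _ = g * ((g⁻¹ * c * g) * w * (g⁻¹ * c * g)⁻¹ * w) * g⁻¹ := by rw [hw]; group
    _ = g * (c * (u * w * u⁻¹ * w) * c⁻¹ * ((c * w * c⁻¹)⁻¹ * w)) * g⁻¹ := by rw [u2]; group
    _ = _ := by rw [p, q]; group

theorem mem_M (a : 𝐀 α) (ei : Γ.Adj α i) (ej : Γ.Adj α j) (n : i ≠ j) (c1 : c ∈ 𝐊 i)
    (c2 : c ∈ 𝐊 j) : c ∈ 𝐌 α := mem_Iv.2 fun k ek => by
  by_cases n1 : k = i
  · exact n1 ▸ c1
  by_cases n2 : k = j
  · exact n2 ▸ c2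
  obtain ⟨μ, e, m⟩ := h.exists_ne ek.symm
  obtain ⟨v, v1, v2⟩ := h.exists_Z e.symm (h.toA e (h.nA ek a))
  exact (h.T3 a ek e m v1 ((mem_Cv.1 c1).2 _ ei.symm)).2 v2 (comm_of_conj_mul (Z_sq v1)
    (h.Y_disj ei ej n a (h.S2 a ei ej ek n n1 n2 c1 c2 e m v1)
      (h.S2 a ej ei ek n.symm n2 n1 c2 c1 e m v1)))

theorem Z_le_M (a : 𝐀 α) : 𝐙 α ≤ 𝐌 α := fun _ hz => mem_Iv.2 fun i e =>
  mem_Cv.2 ⟨h.adj_le_Q (by rw [h.b3]; omega) e a hz,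
    fun _ e' => h.two_le_Q h.b3.ge (h.nA e a) e.symm e' hz⟩

theorem smul_M (g x : X) (δ : V) (a : x ∈ 𝐌 δ) : g * x * g⁻¹ ∈ 𝐌 (g • δ) :=
  smul_mem_Iv h.toAG (F := Cv X Γ) (fun g x δ c => (smul_mem_Cv h.toA3 (g := g) (x := x) (δ := δ)).2 c) g x δ a

theorem M_le_Q (α : V) : 𝐌 α ≤ 𝐐 α := fun _ hx => by
  obtain ⟨i, e⟩ := h.nbr α
  exact (mem_Cv.1 (mem_Iv.1 hx i e)).2 _ e.symm

theorem claimD (a : 𝐀 α) (e : Γ.Adj α β) (c1 : c ∈ 𝐌 α) (u1 : u ∈ 𝐙 α) (u2 : u ∉ 𝐘 β) :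
    c ∈ 𝐃 β ∨ c * u ∈ 𝐃 β := by
  have b := h.nA e a
  obtain ⟨p, ep, np⟩ := h.exists_ne e.symm
  obtain ⟨r, er, nr, nr'⟩ := exists_third h.toA3 e.symm ep np.symm
  have sw : ∀ {α p r : V}, Γ.Adj β α → Γ.Adj β p → Γ.Adj β r → p ≠ α → r ≠ α → r ≠ p →
      ∃ j μ y, Γ.Adj α j ∧ Γ.Adj j μ ∧ μ ≠ α ∧ y ∈ 𝐙 μ ∧ y • p = r :=
    fun {α p r} e ep er np nr nr' => by
    obtain ⟨j, ej, nj⟩ := h.exists_ne e.symm
    obtain ⟨μ, eμ, nμ⟩ := h.exists_ne ej.symm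
    have bj := h.nA ej (h.toA e b)
    obtain ⟨y, y1, y2⟩ := h.exists_Z eμ.symm (h.toA eμ bj)
    exact ⟨j, μ, y, ej, eμ, nμ, y1, h.swap e ep er np nr nr'
      (h.Q_le_T' e (h.two_le_Q h.b3.ge bj eμ ej.symm y1))
      (h.T1 (h.toA e b) ej e.symm nj eμ nμ y1 y2)⟩
  have fin : ∀ c ∈ 𝐌 α, c ∈ 𝐌 p → c ∈ 𝐃 β := fun c c1 c2 => mem_Iv.2 fun κ eκ => by
    rcases cases3 h.toA3 e.symm ep er eκ np.symm nr nr' with rfl | rfl | rfl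
    · exact c1
    · exact c2
    obtain ⟨j, μ, y, ej, eμ, -, y1, y2⟩ := sw e.symm ep er np nr nr'
    rw [← y2, ← (Z_comm y1 ((mem_Cv.1 (mem_Iv.1 c1 j ej)).2 μ eμ)).symm.mul_inv_cancel]
    exact h.smul_M _ _ _ c2
  obtain ⟨j, μ, y, ej, eμ, nμ, y1, y2⟩ := sw er e.symm ep nr.symm nr'.symm np
  have cr : c ∈ 𝐐 r := (mem_Cv.1 (mem_Iv.1 c1 β e)).2 r er
  obtain ⟨t, t1, t2⟩ := h.T4 (h.toA er b) ej eμ nμ y1 cr
  have k := h.smul_M y _ _ c1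
  rw [y2, inv_of_sq (Z_sq y1), t2] at k
  have ap := h.toA ep b
  by_cases d : t ∈ 𝐘 β
  · exact Or.inl (fin c c1 ((mul_mem_cancel_right (h.Z_le_M ap (h.Y_le_Z ep.symm d))).1 k))
  obtain ⟨x, x1, x2⟩ := h.exists_Z ep.symm ap
  have := h.nat β _ b ⟨_, _, _, ep, er, e.symm, nr'.symm, np.symm, nr.symm, x, x1, x2, t, t1, d,
    u, u1, u2, rfl⟩
  rw [mul_assoc] at this
  have := mul_mem k (h.Z_le_M ap ((mul_mem_cancel_left x1).1 (h.Y_le_Z ep.symm this)))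
  rw [mul_assoc, ← mul_assoc t, Z_sq t1, one_mul] at this
  exact Or.inr (fin _ (mul_mem c1 (h.Z_le_M a u1)) this)

theorem M_le_Z (a : 𝐀 α) : 𝐌 α ≤ 𝐙 α := fun c c1 => by
  obtain ⟨i, ei⟩ := h.nbr α
  obtain ⟨j, ej, n⟩ := h.exists_ne ei
  have DM : ∀ {i : V}, Γ.Adj α i → 𝐃 i ≤ 𝐌 α := fun e _ hx => mem_Iv.1 hx _ e.symm
  have g : ∀ {i : V}, Γ.Adj α i → ∃ g ∈ 𝐆 α ⊓ 𝐆 i, g ∉ 𝐐 α ∧ ∀ c ∈ 𝐃 i, Commute g c :=
    fun {i} e => by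
    obtain ⟨p, ep, np⟩ := h.exists_ne e.symm
    obtain ⟨g, g1, g2, -, g3⟩ := h.T5 (h.nA e a) e.symm ep np.symm
    exact ⟨g, h.Q_le_T' e g1, g2, fun c hc => g3 c (mem_Iv.1 hc p ep)⟩
  have nD : ∀ i : V, 𝐆 i ≤ 𝐍 (𝐃 i) := fun i => le_normalizer_of_cj_le fun g hg => by
    rintro _ ⟨x, hx, rfl⟩
    have := smul_mem_Iv h.toAG h.smul_M g x i hx
    rwa [mem_stabilizer_iff.1 hg] at this
  have K : 𝐃 i ⊓ 𝐃 j = ⊥ := by
    by_contra d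
    obtain ⟨g1, p1, p2, p3⟩ := g ei
    obtain ⟨g2, q1, q2, q3⟩ := g ej
    have l : 𝐃 i ⊓ 𝐃 j ≤ 𝐐 α := inf_le_left.trans ((DM ei).trans (h.M_le_Q α))
    haveI := h.fin α
    haveI : Finite (𝐃 i ⊓ 𝐃 j : Subgroup X) := finite_of_le (l.trans (Q_le_G α))
    refine inf_omegaOneCenter_ne_bot (h.two ej) (l.trans (h.Q_le_T ej)) (h.T_le ej q1 q2
      (le_normalizer_inf ((h.Q_le_adj ei).trans (nD i)) ((h.Q_le_adj ej).trans (nD j)))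
      (centralizer_le_normalizer _ fun c hc => (q3 c hc.2).symm)) d (eq_bot_iff.2 fun z hz => ?_)
    have z1 := h.omega_le_Y ej a hz.2
    exact h.Y_disj ei ej n.symm a (h.mem_Y ei a (h.Y_le_Z ej z1) p1 p2 (p3 z hz.1.1)) z1
  have zi := h.z_mem_Z ei
  have zj := h.z_mem_Z ej
  have zD : 𝐳 j ∈ 𝐃 j := mem_Iv.2 fun κ e => h.Z_le_M (h.toA e (h.nA ej a)) (h.z_mem_Z e.symm)
  have k : ∀ c ∈ 𝐃 j, c ∈ 𝐙 α := fun c c2 => by
    rcases h.claimD a ei (DM ej c2) zj (h.z_not_mem ei ej n.symm a) with d | d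
    · rw [mem_bot.1 (K.le ⟨d, c2⟩)]; exact one_mem _
    · exact (mul_mem_cancel_right zj).1 (by rw [mem_bot.1 (K.le ⟨d, mul_mem c2 zD⟩)]; exact one_mem _)
  rcases h.claimD a ej c1 zi (h.z_not_mem ej ei n a) with d | d
  · exact k c d
  · exact (mul_mem_cancel_right zi).1 (k _ d)

theorem card_Q (a : 𝐀 α) : #(𝐐 α) ≤ 64 := by
  obtain ⟨i, ei⟩ := h.nbr α
  obtain ⟨j, ej, n⟩ := h.exists_ne ei
  obtain ⟨μ, eμ, nμ⟩ := h.exists_ne ei.symm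
  obtain ⟨ν, eν, nν⟩ := h.exists_ne ej.symm
  obtain ⟨v, v1, v2⟩ := h.exists_Z eμ.symm (h.toA eμ (h.nA ei a))
  obtain ⟨u, u1, u2⟩ := h.exists_Z eν.symm (h.toA eν (h.nA ej a))
  haveI := h.fin α
  haveI : Finite (𝐙 α) := finite_of_le ((Z_le_Q0 α).trans (Q_le_G α))
  have z := h.card_Z a
  have c1 := card_le_of_rel ((rel_le fun q hq => (h.T3 a ei eμ nμ v1 hq).1).trans z)
  have c2 := card_le_of_rel ((rel_le (L := 𝐐 α ⊓ centralizer {v})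
    fun q hq => (h.T3 a ej eν nν u1 hq.1).1).trans z)
  have c3 := card_le_of_le' (K := 𝐙 α) (H := 𝐐 α ⊓ centralizer {v} ⊓ centralizer {u}) fun q hq =>
    h.M_le_Z a (h.mem_M a ei ej n.symm
      ((h.T3 a ei eμ nμ v1 hq.1.1).2 v2 (mem_centralizer_singleton_iff.1 hq.1.2))
      ((h.T3 a ej eν nν u1 hq.1.1).2 u2 (mem_centralizer_singleton_iff.1 hq.2)))
  omega

end F3

theorem D3.card_Q (h : D3 X Γ) : ∃ δ : V, #(𝐐 δ) ≤ 64 := by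
  obtain ⟨f, c⟩ := h.exists_cl
  have l := c.l
  have p := h.b_pos
  by_cases a : 𝐀 (f 𝐛)
  · have e := h.e3_of_even c a
    have : 𝐛 % 2 = 0 := by
      by_contra d
      exact h.lB l c.a _ (by omega) a
    rcases (by omega : 𝐛 = 2 ∨ 4 ≤ 𝐛) with d | d
    · exact ⟨_, (e.card_two c d (h.lB l c.a 1)).trans (by omega)⟩
    · exact (e.not_even c a d).elim
  have : 𝐛 % 2 = 1 := by
    by_contra d
    exact a (h.lA l c.a _)
  by_cases h1 : 𝐛 = 1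
  · exact ⟨_, (h.card_of_one (β := f 𝐛) l.adj c.a c.n).trans (by omega)⟩
  have h3 : 3 ≤ 𝐛 := by omega
  have e := h.e3_of_odd h3 c a
  by_cases nat : ∀ (β : V) (w : X), ¬ 𝐀 β → 𝐖 β w → w ∈ 𝐘 β
  · rcases (by omega : 𝐛 = 3 ∨ 𝐛 = 5 ∨ 7 ≤ 𝐛) with d | d | d
    · exact ⟨_, F3.card_Q ⟨e, nat, d, fun g lg ag => e.cl_all c
        (fun m q => e.ga4 h3 c a m (by omega)) lg ag⟩ c.a⟩
    · exact (e.nat_five nat d c a).elim
    · exact (e.nat_seven nat d c a).elim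
  have nn : ∀ (β : V) (w : X), ¬ 𝐀 β → 𝐖 β w → w ∉ 𝐘 β := fun β w b q d => nat fun γ u b' q' => by
    obtain ⟨g, rfl⟩ := h.col.tr β γ (by tauto)
    obtain ⟨y, y1, rfl⟩ := e.W_uniq (by omega) b' (q.smul h.toAG g) q'
    exact mul_mem (smul_mem_Y.2 d) y1
  exfalso
  by_cases d : 𝐛 = 3
  · exact e.nn_three nn h3 d c a
  by_cases np : NP X Γ
  · exact e.nn_np nn h3 (by omega) c a np
  · exact e.nn_ga nn h3 (by omega) (by omega) c a (e.ga_of c a np)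

theorem A3_card (h : A3 X Γ) {δ μ : V} (e : Γ.Adj δ μ) : #(𝐆 δ ⊓ 𝐆 μ : Subgroup X) ≤ 128 := by
  have k : ∀ ν : V, #(𝐐 ν) = #(𝐐 δ) := fun ν => by
    obtain ⟨ρ, e'⟩ := h.nbr ν
    obtain ⟨g, ⟨rfl, -⟩ | ⟨rfl, -⟩⟩ := h.exists_smul_adj e e' <;> rw [Qv_smul, card_cj]
    exact (h.card_Q e).symm
  suffices ∃ ν : V, #(𝐐 ν) ≤ 64 by
    obtain ⟨ν, a⟩ := this
    rw [h.card_T e, ← k ν]; omega
  by_cases c : ∀ ν : V, IsCharP 2 (𝐆 ν)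
  swap
  · push Not at c
    obtain ⟨ν, c⟩ := c
    obtain ⟨ρ, e'⟩ := h.nbr ν
    exact ⟨ρ, (card_of_not_char h e' c).trans (by omega)⟩
  by_cases d : ∀ {a b : V}, Γ.Adj a b → ¬ 𝐆 a ≤ 𝐂 (omegaOneCenter 2 (𝐆 a ⊓ 𝐆 b))
  · have := B3.card_Q_cases ⟨h, c, d⟩ δ
    exact ⟨δ, by omega⟩
  push Not at d
  obtain ⟨a, b, e', d⟩ := d
  refine D3.card_Q ⟨h, c, fun {p q} f => ?_⟩
  have t : ∀ g : X, 𝐆 (g • a) ≤ 𝐂 (omegaOneCenter 2 (𝐆 (g • a) ⊓ 𝐆 (g • b))) := fun g => by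
    rw [stabilizer_smul', stabilizer_smul', ← cj_inf, ← cj_omegaOneCenter, ← cj_centralizer,
      cj_le_cj]
    exact d
  obtain ⟨g, ⟨rfl, rfl⟩ | ⟨rfl, rfl⟩⟩ := h.exists_smul_adj e' f
  · exact Or.inl (t g)
  · exact Or.inr (inf_comm (𝐆 (g • a)) _ ▸ t g)

section Final

variable {G : Type*} [Group G]

/-- one half of the hypothesis of Goldschmidt's theorem -/
structure G3 (P R : Subgroup G) : Prop where
  two : IsPGroup 2 (P ⊓ R : Subgroup G)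
  three : R.relIndex P = 3
  qtwo : (pCoreOf 2 P).relIndex (P ⊓ R) = 2

theorem G3.conj {P R : Subgroup G} (h : G3 P R) (g : G) : G3 (cj g P) (cj g R) where
  two := cj_inf g P R ▸ isPGroup_cj g h.two
  three := (relIndex_cj g R P).trans h.three
  qtwo := by rw [← cj_inf, ← cj_pCoreOf, relIndex_cj, h.qtwo]

theorem G3.subgroupOf {P R K : Subgroup G} (h : G3 P R) (hP : P ≤ K) :
    G3 (P.subgroupOf K) (R.subgroupOf K) where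
  two := (isPGroup_subgroupOf_iff (inf_le_left.trans hP)).2 h.two
  three := (relIndex_subgroupOf hP).trans h.three
  qtwo := by
    rw [← pCoreOf_subgroupOf_of_le hP]
    exact (relIndex_subgroupOf (inf_le_left.trans hP)).trans h.qtwo

theorem G3.card_aux {P R : Subgroup G} [Finite P] [Finite R] (h1 : G3 P R) (h2 : G3 R P)
    (h : P ⊔ R = ⊤) (h' : ∀ N : Subgroup G, N ≤ P ⊓ R → N.Normal → N = ⊥) :
    #(P ⊓ R : Subgroup G) ≤ 128 := by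
  have k : ∀ {δ μ : CosetVertex P R}, (cosetGraph P R).Adj δ μ →
      G3 (MulAction.stabilizer G δ) (MulAction.stabilizer G μ) :=
    coset_edge_ind (fun g _ _ a => a.conj g) h1 h2
  have := A3_card (X := G) (Γ := cosetGraph P R)
    { toAG := ag_cosetGraph h h'
      fin := coset_vertex_ind (P := fun H => Finite H) (fun g H _ => finite_cj g H) ‹_› ‹_›
      two := fun e => (k e).two
      three := fun e => (k e).three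
      qtwo := fun e => (k e).qtwo } (cosetGraph_adj_mk (M₁ := P) (M₂ := R) 1)
  simpa only [stabilizer_inl, stabilizer_inr, cj_one] using this

/-- Goldschmidt's bound -/
theorem G3.card {P R : Subgroup G} [Finite P] [Finite R] (h1 : G3 P R) (h2 : G3 R P)
    (h : ∀ N : Subgroup G, N ≤ P ⊓ R → P ≤ 𝐍 N → R ≤ 𝐍 N → N = ⊥) :
    #(P ⊓ R : Subgroup G) ≤ 128 := by
  have a : P ≤ P ⊔ R := le_sup_left
  have b : R ≤ P ⊔ R := le_sup_right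
  haveI : Finite (P.subgroupOf (P ⊔ R)) := Finite.of_equiv _ (subgroupOfEquivOfLe a).symm.toEquiv
  haveI : Finite (R.subgroupOf (P ⊔ R)) := Finite.of_equiv _ (subgroupOfEquivOfLe b).symm.toEquiv
  have c := (h1.subgroupOf a).card_aux (h2.subgroupOf b)
    (by rw [← sup_subgroupOf a b, subgroupOf_self])
    fun N hN _ => (map_eq_bot_iff_of_injective _ (subtype_injective _)).1 (h _ (map_subtype_le_iff.2 hN)
      (a.trans (le_normalizer_map_subtype N)) (b.trans (le_normalizer_map_subtype N)))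
  have e : P.subgroupOf (P ⊔ R) ⊓ R.subgroupOf (P ⊔ R) = (P ⊓ R).subgroupOf (P ⊔ R) := rfl
  rwa [e, card_subgroupOf (inf_le_left.trans a)] at c

theorem G3.of_six {P R : Subgroup G} [Finite P] (a : IsSylowIn 2 (P ⊓ R) P)
    (b : (pCoreOf 2 P).relIndex P = 6) : G3 P R := by
  obtain ⟨c, d⟩ := relIndex_of_six a b
  exact ⟨a.isPGroup, by rwa [inf_relIndex_left] at c, d⟩

end Final

end H8.GA
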