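/-
Fusion systems on a Sylow `p`-subgroup of `PSU₅(q)`, part 3: Frattini subgroups, Borel subgroups.
-/
import Cfsg.Agent.H8.PU2

set_option autoImplicit false
set_option linter.unusedSectionVars false

namespace H8.PU
open Subgroup H25 H25.FS Cd
universe u v
variable {K : Type v} [Field K] [Finite K] {σ : K →+* K} [IV σ] {Γ : Type u} [Group Γ] [Finite Γ] {p : ℕ} [Fact p.Prime]
  {S P A X Y : Subgroup Γ} {ev : Cd σ →* Γ} {g k τ τ' w M1 M2 : Γ} {r t r' t' : K} {φ φ' : K ≃+* K} {c : Cd σ}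

theorem sc_sc (r t r' t' : K) (φ φ' : K ≃+* K) (c : Cd σ) :
    sc r t φ (sc r' t' φ' c) = sc (r * φ r') (t * φ t') (φ'.trans φ) c := by
  ext <;> simp only [sc, map_mul, IV.cm, RingEquiv.trans_apply] <;> ring
theorem Wt.mul (h : Wt ev τ r t φ) (h' : Wt ev τ' r' t' φ') : Wt ev (τ * τ') (r * φ r') (t * φ t') (φ'.trans φ) :=
  ⟨mul_ne_zero h.r0 ((map_ne_zero φ).2 h'.r0), mul_ne_zero h.t0 ((map_ne_zero φ).2 h'.t0), fun c => by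
    rw [cj_mul2, h'.cj, h.cj, sc_sc]⟩
theorem Wt.mul1 (h : Wt ev τ r t (.refl K)) (h' : Wt ev τ' r' t' (.refl K)) : Wt ev (τ * τ') (r * r') (t * t') (.refl K) :=
  h.mul h'

namespace Co
variable (h : Co S ev)
include h
theorem up {Y' : Subgroup (Cd σ)} (hY : Y ≤ X) (k : ∀ c ∈ Y', ∃ w ∈ X, w⁻¹ * ev c ∈ Y) : Y'.map ev ≤ X := by
  rintro _ ⟨c, hc, rfl⟩
  obtain ⟨w, hw, e⟩ := k c hc
  exact (mul_mem_cancel_left (inv_mem hw)).1 (hY e)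
theorem skZ (hc : c ∈ Z σ) : σ c.d = -c.d := by simpa [hc.1, hc.2.1, hc.2.2.1] using c.sd
theorem skY (hc : c.x = 0) : σ c.y = -c.y := by simpa [hc] using c.sy
/-- `Z = [u, Z₂]` for `u ∉ Q₂` -/
theorem Zle (hc : c.a ≠ 0) (k : ∀ z, ev c * ev (xc z) * (ev c)⁻¹ * (ev (xc z))⁻¹ ∈ X) : (Z σ).map ev ≤ X :=
  h.up bot_le fun u hu => let ⟨z, e⟩ := ex_sk (h.skZ hu) hc
    ⟨_, k z, by rw [mem_bot, inv_mul_eq_one, cm_eq]; cs h [] at hu; cs h [hu, ← e]; cg⟩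
/-- `Z = [b-root, b-root]` -/
theorem Zle' (k : ∀ b b', ev (xb b) * ev (xb b') * (ev (xb b))⁻¹ * (ev (xb b'))⁻¹ ∈ X) : (Z σ).map ev ≤ X :=
  h.up bot_le fun u hu => let ⟨z, e⟩ := ex_sk (h.skZ hu) (one_ne_zero (α := K))
    ⟨_, k 1 z, by rw [mem_bot, inv_mul_eq_one, cm_eq]; cs h [] at hu e; cs h [hu, ← e]; cg⟩
theorem frZ (hP : IsPGroup p P) (h2 : (Z2 σ).map ev ≤ P) (hS : P ≤ S) (hQ : ¬ P ≤ (Q2 σ).map ev) : (Z σ).map ev ≤ fr P := by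
  obtain ⟨u, hu, k⟩ := SetLike.not_le_iff_exists.1 hQ
  obtain ⟨c, -, rfl⟩ := h.ex (hS hu)
  exact h.Zle (c := c) (by cs h [] at k; exact k) fun z => cm_fr hP hu (h2 (by cs h []))
theorem fr1 (hS : IsPGroup p S) : (Z σ).map ev ≤ fr ((Q1 σ).map ev) :=
  h.Zle' fun _ _ => cm_fr (hS.to_le (h.le _)) (by cs h []) (by cs h [])
theorem fr2 (hS : IsPGroup p S) : (A0 σ).map ev ≤ fr ((Q2 σ).map ev) := by
  have cm : ∀ c c' : Cd σ, c.a = 0 → c'.a = 0 → ev c * ev c' * (ev c)⁻¹ * (ev c')⁻¹ ∈ fr ((Q2 σ).map ev) := fun c c' k k' =>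
    cm_fr (hS.to_le (h.le _)) (h.mm.2 k) (h.mm.2 k')
  have z1 : (Z σ).map ev ≤ fr ((Q2 σ).map ev) := h.Zle' fun _ _ => cm _ _ rfl rfl
  have z2 : (Z2 σ).map ev ≤ fr ((Q2 σ).map ev) := h.up z1 fun u hu =>
    ⟨_, cm (xx 1) (xb u.c) rfl rfl, by cs h [] at hu; cs h [hu]; cg⟩
  exact h.up z2 fun u hu => let ⟨z, e⟩ := ex_sk (h.skY hu.2.2) (one_ne_zero (α := K))
    ⟨_, cm (xx 1) (xx z) rfl rfl, by cs h [] at hu e; cs h [hu, ← e]; cg⟩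
theorem fr3 (hS : IsPGroup p S) : (Z3 σ).map ev ≤ fr S := by
  have cm : ∀ c c' : Cd σ, ev c * ev c' * (ev c)⁻¹ * (ev c')⁻¹ ∈ fr S := fun c c' => cm_fr hS (h.mS c) (h.mS c')
  have z1 : (Z σ).map ev ≤ fr S := h.Zle' fun _ _ => cm _ _
  have z2 : (Z2 σ).map ev ≤ fr S := h.up z1 fun u hu => ⟨_, cm (xx 1) (xb u.c), by cs h [] at hu; cs h [hu]; cg⟩
  have z3 : (A0 σ).map ev ≤ fr S := h.up z2 fun u hu => let ⟨z, e⟩ := ex_sk (h.skY hu.2.2) (one_ne_zero (α := K))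
    ⟨_, cm (xx 1) (xx z), by cs h [] at hu e; cs h [hu, ← e]; cg⟩
  exact h.up z3 fun u hu => ⟨_, cm (xa u.b) (xx 1), by cs h [] at hu; cs h [hu]; cg⟩
theorem cen1 : S ⊓ cz ((Q1 σ).map ev) ≤ (Q1 σ).map ev := fun w hw => by
  obtain ⟨c, -, rfl⟩ := h.ex hw.1
  have := mem_cz'.1 hw.2 (ev (xa 1)) (by cs h [])
  cs h [] at this ⊢
  grind
theorem cZ2 (hw : w ∈ S) (k : w ∈ cz ((Z2 σ).map ev)) : w ∈ (Q2 σ).map ev := by
  obtain ⟨c, -, rfl⟩ := h.ex hw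
  refine h.mm.2 (sk_of (σ := σ) fun z => ?_)
  have := mem_cz'.1 k (ev (xc z)) (by cs h [])
  cs h [] at this
  grind
theorem cen2 : S ⊓ cz ((Q2 σ).map ev) ≤ (Q2 σ).map ev := fun _ hw => h.cZ2 hw.1 (cz_anti (by sl h) hw.2)
theorem nS (hX : (Z3 σ).map ev ≤ X) (h' : X ≤ S) : S ≤ nz X := h.cSS.nz' h' hX
theorem nQ1 : S ≤ nz ((Q1 σ).map ev) := h.cSR.nz' (by sl h) (by sl h)
theorem nQ2 : S ≤ nz ((Q2 σ).map ev) := h.nS (by sl h) (h.le _)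
theorem nZ3 : S ≤ nz ((Z3 σ).map ev) := h.nS le_rfl (h.le _)
theorem nW : S ≤ nz ((W σ).map ev) := h.cS3.nz' (by sl h) (by sl h)
theorem nZ2 : S ≤ nz ((Z2 σ).map ev) := h.cS2.nz' le_rfl (by sl h)
theorem nZ : S ≤ nz ((Z σ).map ev) := h.cS1.nz' le_rfl bot_le
theorem nzW (h1 : g ∈ nz ((Q1 σ).map ev)) (h2 : g ∈ nz ((Z2 σ).map ev)) : g ∈ nz ((W σ).map ev) :=
  nz_of_cz (fun w => ⟨fun k => ⟨(by sl h : (W σ).map ev ≤ (Q1 σ).map ev) k,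
    cz_anti (by sl h) (h.c2A.cz ((by sl h : (W σ).map ev ≤ (Q2 σ).map ev) k))⟩, fun ⟨k1, k2⟩ => by
      have := h.cZ2 (h.le _ k1) k2
      ob h k1 c hc
      cs h [] at hc this ⊢
      exact ⟨this, hc⟩⟩) h1 h2
/-- the stabilizer of `Z₂` in the automizer of `Q₁` normalizes the Sylow subgroup -/
theorem bor1 (e : Au p S ((Q1 σ).map ev) A) (hg : g ∈ A) (h2 : g ∈ nz ((Z2 σ).map ev)) : g ∈ nz (ai S ((Q1 σ).map ev)) := by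
  have l : ∀ Y ∈ [(W σ).map ev, (Z2 σ).map ev], Y ≤ (Q1 σ).map ev := by
    simp only [List.forall_mem_cons, List.not_mem_nil, false_imp_iff, implies_true, and_true]
    exact ⟨by sl h, by sl h⟩
  rw [e.kk_eq l (ai_le (fun s hs => kk_mem (by simp [h.nW hs.1, h.nZ2 hs.1]) hs.2 ⟨h.cSR.cm hs.1 (by sl h) le_rfl,
    h.cS3.cm hs.1 (by sl h) le_rfl, h.cS2.cm hs.1 le_rfl (h.fr1 e.pg)⟩) (kk_cz l le_rfl))]
  exact mem_nz_inf (le_nz_self A hg) (kk_nz (by simp [h2, h.nzW (e.An hg) h2]) (nz_le_nz_fr _ (e.An hg)) (e.An hg))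
/-- the stabilizer of `Z₃` in the automizer of `Q₂` normalizes the Sylow subgroup -/
theorem bor2 (e : Au p S ((Q2 σ).map ev) A) (hg : g ∈ A) (h2 : g ∈ nz ((Z3 σ).map ev)) : g ∈ nz (ai S ((Q2 σ).map ev)) := by
  have l : ∀ Y ∈ [(Z3 σ).map ev], Y ≤ (Q2 σ).map ev := by
    simp only [List.forall_mem_cons, List.not_mem_nil, false_imp_iff, implies_true, and_true]
    sl h
  rw [e.kk_eq l (ai_le (fun s hs => kk_mem (by simp [h.nZ3 hs.1]) hs.2 ⟨h.cSS.cm hs.1 (h.le _) le_rfl,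
    h.cS3.cm hs.1 le_rfl (le_trans (by sl h) (h.fr2 e.pg))⟩) (kk_cz l le_rfl))]
  exact mem_nz_inf (le_nz_self A hg) (kk_nz (by simp [h2]) (nz_le_nz_fr _ (e.An hg)) (e.An hg))
theorem ne1 (e : Es p S ((Q1 σ).map ev) A) : ∃ g ∈ A, g ∉ nz ((Z2 σ).map ev) := by
  by_contra! c
  exact e.not_nz fun g hg => h.bor1 e.toAu hg (c g hg)
theorem ne2 (e : Es p S ((Q2 σ).map ev) A) : ∃ g ∈ A, g ∉ nz ((Z3 σ).map ev) := by
  by_contra! c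
  exact e.not_nz fun g hg => h.bor2 e.toAu hg (c g hg)
/-- automorphisms trivial on `Q₁ / Z`, resp. `Q₂ / Z(Q₂)`, are inner -/
theorem in1 (e : Es p S ((Q1 σ).map ev) A) (hg : g ∈ A) (k : Cm g ((Q1 σ).map ev) ((Z σ).map ev)) :
    g ∈ ai ((Q1 σ).map ev) ((Q1 σ).map ev) :=
  e.kkP (l := []) trivial ⟨hg, mem_stab'.2 ⟨e.An hg, k.mono le_rfl (h.fr1 e.pg)⟩⟩
theorem in2 (e : Es p S ((Q2 σ).map ev) A) (hg : g ∈ A) (k : Cm g ((Q2 σ).map ev) ((A0 σ).map ev)) :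
    g ∈ ai ((Q2 σ).map ev) ((Q2 σ).map ev) :=
  e.kkP (l := []) trivial ⟨hg, mem_stab'.2 ⟨e.An hg, k.mono le_rfl (h.fr2 e.pg)⟩⟩
theorem wn {X : Subgroup (Cd σ)} (hw : Wt ev τ r t φ) (k : ∀ c ∈ X, sc r t φ c ∈ X) : τ ∈ nz (X.map ev) :=
  mem_nz_of_conj_mem (by rintro _ ⟨c, hc, rfl⟩; exact hw.cj c ▸ h.mm.2 (k c hc))
theorem wS (hw : Wt ev τ r t φ) : τ ∈ nz S := h.top ▸ h.wn hw fun _ _ => trivial
theorem w1 (hw : Wt ev τ r t φ) : τ ∈ nz ((Q1 σ).map ev) := h.wn hw fun _ k => by cs h [] at k ⊢; simp [k]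
theorem w2 (hw : Wt ev τ r t φ) : τ ∈ nz ((Q2 σ).map ev) := h.wn hw fun _ k => by cs h [] at k ⊢; simp [k]
theorem agW (h1 : Wt ev τ r t φ) (h2 : Wt ev τ' r t φ) : Agree S τ τ' := fun x hx => by
  obtain ⟨c, -, rfl⟩ := h.ex hx
  rw [h1.cj, h2.cj]
theorem n1 (y : Wy ev M1 M2) : M1 ∈ nz ((Q1 σ).map ev) := mem_nz_of_conj_mem (by
  rintro _ ⟨c, hc, rfl⟩; rw [y.f1 c hc.1 hc.2]; cs h [])
theorem n2 (y : Wy ev M1 M2) : M2 ∈ nz ((Q2 σ).map ev) := mem_nz_of_conj_mem (by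
  rintro _ ⟨c, hc, rfl⟩; rw [y.f2 c hc]; cs h [])
end Co

end H8.PU
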