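/-
Fusion systems on a Sylow `p`-subgroup of `PSU₅(q)`, part 4: assembly.
-/
import Cfsg.Agent.H8.PU3
import Cfsg.Agent.H24.SP4
import Cfsg.Agent.H4.Rz2

set_option autoImplicit false
set_option linter.unusedSectionVars false

namespace H8.PU
open Cfsg Subgroup H25 H25.FS Cd
universe u v
variable {K : Type v} [Field K] [Finite K] {σ : K →+* K} [IV σ] {Γ : Type u} [Group Γ] [Finite Γ] {p : ℕ} [hp : Fact p.Prime]
  {S P A L C0 : Subgroup Γ} {ev : Cd σ →* Γ} {a g k τ M1 M2 : Γ} {r t l ν : K} {φ : K ≃+* K} {F F' : FS Γ}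

variable (σ Γ p) in
/-- the chunks -/
structure Ck : Prop where
  e1 : E1 σ Γ p
  e2 : E2 σ Γ p
  e3 : E3 σ Γ p
  e4 : E4 σ Γ p
  e5 : E5 σ Γ p
  ch : CH σ Γ
  g2 : G2 σ Γ
  s2 : S2 σ Γ p
  n2 : N2 σ Γ p
  l1 : L1 σ p
  l2 : L2 σ p
  l3 : L3 σ p
  tr : TR σ Γ p

theorem Ck.ess (x : Ck σ Γ p) (h : Co S ev) (e : Es p S P A) : P = (Q1 σ).map ev ∨ P = (Q2 σ).map ev := by
  obtain ⟨H, e, g⟩ := e.gen
  by_cases h2 : P ≤ (Q2 σ).map ev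
  · exact .inr (x.e1 _ _ _ _ h e g h2)
  have z := x.e2 _ _ _ _ h e g h2
  by_cases h1 : P ≤ (R1 σ).map ev
  · exact .inl (x.e3 _ _ _ _ h e g h2 z h1)
  · exact (x.e5 _ _ _ _ h e g h2 h1 (x.e4 _ _ _ _ h e g h2 z h1)).elim

theorem au_of (hF : F.Sat p) (e : F.S = S) (hP : P ≤ S) (hn : S ≤ nz P) (hc : S ⊓ cz P ≤ P) : Au p S P (F.A P) := by
  subst e
  exact ⟨hF.pg, hP, hc, F.ai_le_A P, F.A_le_nz P, hF.syl (FN_of_le_nz hP hn)⟩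
theorem ext_of (hF : F.Sat p) (e : F.S = S) (hP : P ≤ S) (hn : S ≤ nz P) (hg : g ∈ F.A P) (h : g ∈ nz (ai S P)) :
    ∃ k ∈ F.A S, Agree P k g := by
  subst e
  exact H24.SP.ext_S hF hP hn hg fun s hs => conj_mem_of_mem_nz h (mem_ai_of_mem hs (hn hs))
theorem Co.ext1 (h : Co S ev) (hF : F.Sat p) (e : F.S = S) (hg : g ∈ F.A ((Q1 σ).map ev)) (k : g ∈ nz ((Z2 σ).map ev)) :
    ∃ k ∈ F.A S, Agree ((Q1 σ).map ev) k g :=
  ext_of hF e (h.le _) h.nQ1 hg (h.bor1 (au_of hF e (h.le _) h.nQ1 h.cen1) hg k)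
theorem Co.ext2 (h : Co S ev) (hF : F.Sat p) (e : F.S = S) (hg : g ∈ F.A ((Q2 σ).map ev)) (k : g ∈ nz ((Z3 σ).map ev)) :
    ∃ k ∈ F.A S, Agree ((Q2 σ).map ev) k g :=
  ext_of hF e (h.le _) h.nQ2 hg (h.bor2 (au_of hF e (h.le _) h.nQ2 h.cen2) hg k)
theorem Ck.cases (x : Ck σ Γ p) (h : Co S ev) (hF : F.Sat p) (e : F.S = S) :
    F.Constr p ∨ F.Ess ((Q1 σ).map ev) ∧ F.Ess ((Q2 σ).map ev) := by
  subst e
  have k : ∀ P, F.S ⊓ cz P ≤ P → P ≤ F.S → nz F.S ≤ nz P → (∀ X, F.Ess X → X = P) → F.Constr p := fun P h6 hP hn k =>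
    have := hF.nm_iff_ess.2 (fun X hX => hX.elim (fun c => c ▸ ⟨hP, (F.A_le_nz _).trans hn⟩)
      fun c => k X c ▸ ⟨le_rfl, F.A_le_nz _⟩ : ∀ X, X = F.S ∨ F.Ess X → P ≤ X ∧ F.A X ≤ nz P)
    ⟨hF, P, this, this.wc.centric h6⟩
  by_cases q : F.Ess ((Q1 σ).map ev)
  · by_cases r : F.Ess ((Q2 σ).map ev)
    · exact .inr ⟨q, r⟩
    · exact .inl (k _ h.cen1 (h.le _) (fun g hg => (x.ch _ _ h g hg).2.2.1) fun X c =>
        (x.ess h (es_of hF c)).resolve_right fun c' => r (c' ▸ c))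
  · exact .inl (k _ h.cen2 (h.le _) (fun g hg => (x.ch _ _ h g hg).2.2.2.1) fun X c =>
      (x.ess h (es_of hF c)).resolve_left fun c' => q (c' ▸ c))

namespace Md
variable (m : Md p S ev L C0 M1 M2)
include m
theorem CS : C0 ≤ nz S := fun k hk => let ⟨_, _, _, w⟩ := m.wt k hk; m.wS w
theorem cjA (x : Ck σ Γ p) (h1 : A ≤ nz S) (h2 : Syl p (ai S S) A) : ∃ γ ∈ nz S, cj γ A ≤ C0 ⊔ ai S S := by
  obtain ⟨k, hk, e⟩ := sz0 (p := p) (X := stab S ((Z3 σ).map ev)) (A := C0) (fun g hg => nz_le_nz_ai_self S hg.1)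
    (m.CS.trans (nz_le_nz_ai_self S)) (h1.trans (nz_le_nz_ai_self S))
    (fun g hg => mem_nz_stab (m.CS hg) (mem_nz_inf (m.CS hg) (x.ch _ _ m.toCo g (m.CS hg)).2.1)) (fun g hg => by
      obtain ⟨-, n3, -, -, r, t, φ, r0, t0, e⟩ := x.ch _ _ m.toCo g (h1 hg)
      obtain ⟨k, hk, w⟩ := m.ex' r t φ r0 t0
      have : g * k⁻¹ ∈ stab S ((Z3 σ).map ev) := mem_stab'.2 ⟨mul_mem (h1 hg) (inv_mem (m.CS hk)), fun y hy => by
        obtain ⟨c, -, e1⟩ := m.ex (conj_mem_of_mem_nz' (m.CS hk) hy)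
        obtain ⟨c', -, e2⟩ := m.ex (conj_mem_of_mem_nz (h1 hg) (m.mS c))
        have e3 : y = ev (sc r t φ c) := by rw [← w.cj, e1]; group
        rw [cj_mul2, inv_inv, ← e1, ← e2, e3]
        cs m.toCo [e c c' e2.symm]⟩
      simpa using mul_mem_sup this hk)
    (fun k hk => (kk_pel (l := []) m.pg (by simp) (stab_mono (m.fr3 m.pg) hk)).mono (cz_le_ai _ _)) h2.2
  exact ⟨k⁻¹, inv_mem hk.1, cj_le.2 fun a ha => by rw [inv_inv]; exact e a ha⟩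

variable (x : Ck σ Γ p) (hF : F.Sat p) (hS : F.S = S) (hA : F.A S ≤ C0 ⊔ ai S S)
include hS hA
theorem dec (ha : a ∈ F.A S) : ∃ u ∈ S, ∃ k ∈ C0 ⊓ F.A S, ∃ r t φ, Wt ev k r t φ ∧ Agree S a (u * k) := by
  obtain ⟨y, hy, k, hk, rfl⟩ := (mem_sup_of_le_nz_left (m.CS.trans (nz_le_nz_ai_self S))).1 (sup_comm C0 _ ▸ hA ha)
  obtain ⟨-, u, hu, e⟩ := mem_ai.1 hy
  obtain ⟨r, t, φ, w⟩ := m.wt k hk
  exact ⟨u, hu, k, ⟨hk, (mul_mem_cancel_left (ai_self_le_A hS.ge hy)).1 ha⟩, r, t, φ, w,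
    Agree.mul_right (by rwa [mem_nz.1 (m.CS hk)])⟩
omit hA in
theorem res (hP : P = (Q1 σ).map ev ∨ P = (Q2 σ).map ev) (ha : a ∈ F.A S) (w : Wt ev a r t φ) : a ∈ F.A P :=
  hP.elim (· ▸ mem_A_of_le hS.ge ha (m.le _) (m.w1 w)) (· ▸ mem_A_of_le hS.ge ha (m.le _) (m.w2 w))
include x hF
theorem h2 (e : Es p S ((Q2 σ).map ev) (F.A ((Q2 σ).map ev))) (hl : l ≠ 0) : ∃ k ∈ F.A S, W0 ev k l 1 := by
  obtain ⟨g, hg, c⟩ := (x.s2 _ _ _ _ _ m.toCo m.toWy e).1 l hl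
  have n := e.An hg
  obtain ⟨a, ha, e1⟩ := m.ext2 hF hS hg (mem_nz_of_conj_mem (by
    rintro _ ⟨u, hu, rfl⟩
    obtain ⟨u', hu', e⟩ := conj_mem_of_mem_nz n (m.mm.2 hu.1 : ev u ∈ (Q2 σ).map ev)
    rw [← e]
    exact m.mm.2 ⟨hu', by simp [(c u u' hu.1 e.symm).2, hu.2]⟩))
  obtain ⟨u, hu, k, hk, r, t, φ, w, e2⟩ := m.dec hS hA ha
  obtain ⟨u, -, rfl⟩ := m.ex hu
  have k1 : ∀ c' : Cd σ, c'.a = 0 → _ := fun c' h0 => c c' (u * sc r t φ c' * u⁻¹) h0 (by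
    rw [← e1 _ (m.mm.2 h0), e2 _ (m.mS _), cj_mul2, w.cj]; cs m.toCo [])
  have k2 : ∀ z, t * φ z = l⁻¹ * z := fun z => by have := (k1 (xx z) rfl).2; cs m.toCo [] at this; grind
  have k3 := (k1 (xb 1) rfl).1
  have k4 := k2 1
  cs m.toCo [map_zero, map_one] at k3 k4
  obtain rfl : φ = .refl K := RingEquiv.ext fun z => mul_left_cancel₀ w.t0 (by rw [k2, k4]; rfl)
  refine ⟨k, hk.2, ?_⟩
  convert w using 1 <;> grind
theorem su3 (e : Es p S ((Q1 σ).map ev) (F.A ((Q1 σ).map ev))) (tt : ∃ k ∈ F.A S, W0 ev k (-1) 1) :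
    (∀ ν, ν ≠ 0 → ∃ k ∈ C0 ⊓ F.A S, W0 ev k 1 ν) ∧ M1 ∈ F.A ((Q1 σ).map ev) ∧ ∀ g ∈ F.A ((Q1 σ).map ev),
      g ∈ nz ((Z2 σ).map ev) ∨ ∃ u ∈ S, M1 * u * g ∈ nz ((Z2 σ).map ev) :=
  x.tr (fun G k => x.l3 G k (x.l1 G k) (x.l2 G k (x.l1 G k))) S _ _ ev M1 M2 m.toCo m.toWy e
    (fun k hk => let ⟨_, _, _, w⟩ := m.wt k hk.1; m.res hS (.inl rfl) hk.2 w) (fun g hg n =>
      let ⟨_, ha, e1⟩ := m.ext1 hF hS hg n
      let ⟨u, hu, k, hk, r, t, φ, w, e2⟩ := m.dec hS hA ha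
      ⟨u, hu, k, hk, r, t, φ, w, e1.symm.trans (e2.mono (m.le _))⟩)
    (let ⟨k, hk, w⟩ := tt; ⟨k, m.res hS (.inl rfl) hk w, by convert w using 1 <;> simp⟩)
theorem le (e' : F'.S = S) (h1 : F.A S ≤ F'.A S) (tt : ∃ k ∈ F.A S, W0 ev k (-1) 1) (q' : M1 ∈ F'.A ((Q1 σ).map ev))
    (r : M2 ∈ F.A ((Q2 σ).map ev)) (r' : M2 ∈ F'.A ((Q2 σ).map ev)) : F ≤ F' := by
  have k : ∀ P Y M, P ≤ S → S ≤ nz P → M ∈ F.A P → M ∈ F'.A P → (∀ g ∈ F.A P, g ∈ nz Y → ∃ k ∈ F.A S, Agree P k g) →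
      ∀ a ∈ F.A P, (a ∈ nz Y ∨ ∃ u ∈ S, M * u * a ∈ nz Y) → F'.T P a := fun P Y M hP hn m1 m' ex a ha c => by
    have k : ∀ a ∈ F.A P, a ∈ nz Y → a ∈ F'.A P := fun a ha c =>
      let ⟨k, hk, c'⟩ := ex a ha c
      c'.symm.mem_A (mem_A_of_le e'.ge (h1 hk) hP (c'.mem_nz (F.A_le_nz P ha)))
    refine T_of_mem_A (hP.trans e'.ge) (c.elim (k a ha) fun ⟨u, hu, c⟩ => ?_)
    have := k _ (mul_mem (mul_mem m1 (F.N_le_A P ⟨hS.ge hu, hn hu⟩)) ha) c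
    rwa [mul_mem_cancel_left (mul_mem m' (F'.N_le_A P ⟨e'.ge hu, hn hu⟩))] at this
  refine hF.le_of_ess fun P hP a ha => ?_
  rcases hP with rfl | hP
  · exact T_of_mem_A (hS.trans e'.symm).le (hS ▸ h1 (hS ▸ ha))
  rcases x.ess m.toCo (hS ▸ es_of hF hP) with rfl | rfl
  · have s := m.su3 x hF hS hA (hS ▸ es_of hF hP) tt
    exact k _ _ _ (m.toCo.le _) m.nQ1 s.2.1 q' (fun g => m.ext1 hF hS) a ha (s.2.2 a ha)
  · exact k _ _ _ (m.toCo.le _) m.nQ2 r r' (fun g => m.ext2 hF hS) a ha (x.g2 _ _ _ _ m.toCo m.toWy a (F.A_le_nz _ ha))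
theorem rl0 : Rl p F := by
  refine (x.cases m.toCo hF hS).imp_right fun ⟨q, r⟩ => ?_
  have eq := hS ▸ es_of hF q
  have er := hS ▸ es_of hF r
  have tt := m.h2 x hF hS hA er (l := -1) (by simp)
  obtain ⟨s1, q, -⟩ := m.su3 x hF hS hA eq tt
  have hT : ∀ l ν, l ≠ 0 → ν ≠ 0 → ∃ τ ∈ F.A S, W0 ev τ l ν := fun l ν hl hν => by
    obtain ⟨a, ha, w⟩ := m.h2 x hF hS hA er hl
    obtain ⟨b, hb, w'⟩ := s1 ν hν
    refine ⟨_, mul_mem ha hb.2, ?_⟩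
    convert w.mul1 w' using 1 <;> simp <;> field_simp
  have r := x.n2 _ _ _ _ _ m.toCo m.toWy er (fun l ν hl hν => let ⟨τ, h1, w⟩ := hT l ν hl hν
    ⟨τ, m.res hS (.inr rfl) h1 w, w⟩) (x.s2 _ _ _ _ _ m.toCo m.toWy er).2
  have a := au_of hF hS le_rfl (le_nz_self S) inf_le_left
  have DL : C0 ⊓ F.A S ≤ nz L := inf_le_left.trans m.CL
  have SG : S ≤ L ⊔ C0 ⊓ F.A S := m.syl.1.trans le_sup_left
  have sy : Syl p S (L ⊔ C0 ⊓ F.A S) := m.syl.trans ⟨le_sup_left, fun c => by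
    rw [relIndex_eq_of_cover (H := C0 ⊓ F.A S) le_sup_right fun a ha => by
      obtain ⟨b, hb, c, hc, rfl⟩ := (mem_sup_of_le_nz_right DL).1 (sup_comm L _ ▸ ha)
      exact ⟨b, hb, by simpa using hc⟩] at c
    obtain ⟨⟨k, hk⟩, o⟩ := exists_prime_orderOf_dvd_card' p (c.trans (relIndex_dvd_card _ _))
    rw [orderOf_mk] at o
    obtain ⟨-, u, hu, e⟩ := mem_ai.1 (a.syl.mem_of_pel a.An' hk.2 ⟨1, by rw [pow_one, ← o, pow_orderOf_eq_one]; exact one_mem _⟩)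
    obtain ⟨r, t, φ, w⟩ := m.wt k hk.1
    obtain ⟨u, -, rfl⟩ := m.ex hu
    have k1 : ∀ c : Cd σ, r * φ c.a = c.a ∧ t * φ c.x = c.x := fun c => by
      have := e _ (m.mS c)
      rw [w.cj] at this
      cs m.toCo [] at this
      grind
    obtain rfl : r = 1 := by simpa using (k1 (xa 1)).1
    obtain rfl : t = 1 := by simpa using (k1 (xx 1)).2
    obtain rfl : φ = .refl K := RingEquiv.ext fun z => by simpa using (k1 (xa z)).1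
    rw [m.fa k hk.1 w, orderOf_one] at o
    exact hp.out.one_lt.ne o⟩
  have e : F.A S = (ofSub (L ⊔ C0 ⊓ F.A S) S).A S := by
    rw [ofSub_A SG le_rfl]
    refine le_antisymm (fun a ha => ?_) (ai_le (fun g hg => ?_) (F.cz_le_A S))
    · obtain ⟨u, hu, k, hk, -, -, -, -, e⟩ := m.dec hS hA ha
      exact e.mem_ai (mem_ai_of_mem (mul_mem (SG hu) (mem_sup_right hk)) (mul_mem (le_nz_self S hu) (m.CS hk.1)))
    · obtain ⟨l, hl, b, hb, rfl⟩ := (mem_sup_of_le_nz_left DL).1 hg.1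
      obtain ⟨s, hs, τ, l, ν, l0, n0, w, rfl⟩ := m.nl l hl ((mul_mem_cancel_right (F.A_le_nz S hb.2)).1 (mem_inf.1 hg).2)
      obtain ⟨τ', h1, w'⟩ := hT l ν l0 n0
      exact mul_mem (mul_mem (F.N_le_A S ⟨hS.ge hs, le_nz_self S hs⟩) ((m.agW w w').mem_A h1)) hb.2
  have q' := ofSub_A SG (m.toCo.le _) ▸ mem_ai_of_mem (mem_sup_left m.l1) (m.n1 m.toWy)
  have r' := ofSub_A SG (m.toCo.le _) ▸ mem_ai_of_mem (mem_sup_left m.l2) (m.n2 m.toWy)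
  exact hS.symm ▸ ⟨_, sy, le_antisymm (m.le x hF hS hA rfl e.le tt q' r r')
    (m.le x (sat_ofSub m.pg sy) rfl (e ▸ hA) hS e.ge (e ▸ tt) q r' r)⟩
omit hA
theorem rl : Rl p F := by
  obtain ⟨γ, hγ, k⟩ := m.cjA x (F.A_le_nz S) (au_of hF hS le_rfl (le_nz_self S) inf_le_left).syl
  exact .of_cjs γ (m.rl0 x (hF.cjs γ) (by rw [cjs_S, hS, mem_nz.1 hγ]) (by rwa [← cjs_A, mem_nz.1 hγ] at k))
end Md

theorem Md.map {G : Type*} [Group G] [Finite G] {ev : Cd σ →* G} {L C0 : Subgroup G} {M1 M2 : G}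
    (m : Md p ev.range ev L C0 M1 M2) (j : G →* Γ) (hj : Function.Injective j) :
    Md p (j.comp ev).range (j.comp ev) (L.map j) (C0.map j) (j M1) (j M2) := by
  have c : ∀ {g : G} {u u'}, g * ev u * g⁻¹ = ev u' → j g * j.comp ev u * (j g)⁻¹ = j.comp ev u' := fun e => by
    simpa using congrArg j e
  have w : ∀ {k r t φ}, Wt ev k r t φ → Wt (j.comp ev) (j k) r t φ := fun w => ⟨w.r0, w.t0, fun u => c (w.cj u)⟩
  have n : ∀ {X : Subgroup G} {g}, j g ∈ nz (X.map j) ↔ g ∈ nz X := fun {X g} => ⟨fun h => mem_nz_of_conj_mem fun y hy =>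
    (mem_map_iff_mem hj).1 (by simpa using conj_mem_of_mem_nz h (mem_map_of_mem j hy)), fun h => mem_nz_of_conj_mem (by
      rintro _ ⟨y, hy, rfl⟩
      simpa using mem_map_of_mem j (conj_mem_of_mem_nz h hy))⟩
  refine ⟨⟨hj.comp m.inj, fun _ => ⟨fun ⟨u, e⟩ => ⟨u, e.symm⟩, fun ⟨u, e⟩ => ⟨u, e.symm⟩⟩⟩,
    ⟨by rw [← map_inv, m.i1], by rw [← map_inv, m.i2], fun u h1 h2 => c (m.f1 u h1 h2), fun u h1 => c (m.f2 u h1)⟩,
    ?_, ?_, ?_, ?_, fun r t φ h1 h2 => let ⟨k, hk, e⟩ := m.ex' r t φ h1 h2; ⟨_, mem_map_of_mem j hk, w e⟩, ?_, ?_,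
    mem_map_of_mem j m.l1, mem_map_of_mem j m.l2⟩
  · rw [MonoidHom.range_comp]; exact m.pg.map j
  · rw [MonoidHom.range_comp]; exact ⟨map_mono m.syl.1, by rw [relIndex_map_map_of_injective _ _ hj]; exact m.syl.2⟩
  · rintro _ ⟨k, hk, rfl⟩; exact n.2 (m.CL hk)
  · rintro _ ⟨k, hk, rfl⟩
    exact let ⟨r, t, φ, e⟩ := m.wt k hk; ⟨r, t, φ, w e⟩
  · rintro _ ⟨k, hk, rfl⟩ e
    rw [m.fa k hk ⟨e.r0, e.t0, fun u => hj (by simpa using e.cj u)⟩, map_one]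
  · rintro _ ⟨g, hg, rfl⟩ e
    rw [MonoidHom.range_comp] at e ⊢
    obtain ⟨s, hs, τ, l, ν, h1, h2, h3, rfl⟩ := m.nl g hg (n.1 e)
    exact ⟨_, mem_map_of_mem j hs, _, l, ν, h1, h2, w h3, map_mul ..⟩

theorem fin (x : ∀ N, Ck σ (Univ N) p) (md : MD σ p) {Ω : Type*} [Group Ω] {S : Subgroup Ω} [Finite S] (hS : IsPGroup p S)
    (F : FusionSystem S) (hF : F.IsSaturated p) (e : S ≃* Cd σ) : F.IsRealizable p := by
  obtain ⟨G, _, _, ev, L, C0, M1, M2, m⟩ := md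
  obtain ⟨N, θ, h1, h2, h3⟩ := exists_big_embed S (Nat.card G) Nat.card_pos
  obtain ⟨j, a1, -, a3⟩ := exists_good_extend h3.pos h1 θ h2 h3.good (ev.comp e.toMonoidHom) (m.inj.comp e.injective)
  have R := URep.rep ⟨h2, h3⟩ le_rfl F
  have e1 : (fs θ F).S = (j.comp ev).range := by
    rw [fs_S, im_self]
    ext w
    exact ⟨fun ⟨s, c⟩ => ⟨e s, (a3 s).trans c⟩, fun ⟨t, c⟩ => ⟨e.symm t, by rw [← a3, ← c]; simp⟩⟩
  rcases (m.map j a1).rl (x N) (R.sat hS hF) e1 with c | ⟨H, c1, c2⟩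
  · exact H4.realizable_of_constr R hS c
  · exact H4.Rz.realizable (G := H) ⟨H.subtype, subtype_injective _, by rwa [range_subtype], by rwa [range_subtype]⟩ R hS

end H8.PU
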