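import Cfsg.Agent.H8.MS1

/-! S5899: the irreducible modules of `L₃(2)` over the field with two elements. -/

set_option autoImplicit false
set_option linter.unusedSectionVars false
set_option synthInstance.maxSize 2000

namespace H8.MS
open Cfsg Subgroup H18 H17.GS H28.S H2.GW H27.MS
open H19 hiding eq_bot_mono
open H28.NG hiding Hyp Uniq Ch
open scoped MatrixGroups Matrix

universe u

section
variable {W : Type u} [AddCommGroup W] [Module (ZMod 2) W] {ρ : Representation (ZMod 2) L3 W} {u w : W}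

/-- irreducible and not trivial -/
structure Ir (ρ : Representation (ZMod 2) L3 W) : Prop where
  irr : ∀ S : Submodule (ZMod 2) W, (∀ g, ∀ w ∈ S, ρ g w ∈ S) → S = ⊥ ∨ S = ⊤
  nt : ∃ g w, ρ g w ≠ w

theorem mu (g h : L3) (w : W) : ρ g (ρ h w) = ρ (g * h) w := by rw [map_mul]; rfl

theorem Ir.tw (h : Ir ρ) : Ir (ρ.comp θ) :=
  ⟨fun S k => h.irr S fun g w hw => by have := k (θ g) w hw; rwa [MonoidHom.comp_apply, θθ] at this,
    let ⟨g, w, e⟩ := h.nt; ⟨θ g, w, by rwa [MonoidHom.comp_apply, θθ]⟩⟩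

theorem Ir.fix (h : Ir ρ) (k : ∀ g, ρ g w = w) : w = 0 := by
  obtain ⟨g, v, n⟩ := h.nt
  let S : Submodule (ZMod 2) W := ⨅ g, LinearMap.eqLocus (ρ g) LinearMap.id
  have m : ∀ w, w ∈ S ↔ ∀ g, ρ g w = w := fun w => Submodule.mem_iInf _
  exact ((h.irr S fun g w hw => ((m w).1 hw g).symm ▸ hw).resolve_right fun e => n ((m v).1 (e.ge trivial) g)).le ((m w).2 k)

/-- an additive equivariant map from the natural module -/
theorem Ir.eight (h : Ir ρ) (z : Vn → W) (a : ∀ v w, z (v + w) = z v + z w) (e : ∀ g v, ρ g (z v) = z (g.1 *ᵥ v)) {v : Vn}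
    (n : z v ≠ 0) : Nat.card W = 8 := by
  let Z := (AddMonoidHom.mk' z a).toZModLinearMap 2
  have s : Function.Surjective Z := LinearMap.range_eq_top.1 ((h.irr _ (by
    rintro g _ ⟨v, rfl⟩; exact ⟨_, (e g v).symm⟩)).resolve_left fun q => n (q.le ⟨v, rfl⟩))
  have i : Function.Injective Z := (injective_iff_map_eq_zero Z).2 fun w hw => by_contra fun q => by
    obtain ⟨g, rfl⟩ := trn w v q fun k => n (k ▸ map_zero Z)
    exact n ((e g w).symm.trans ((congrArg _ hw).trans (map_zero _)))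
  exact (Nat.card_congr (Equiv.ofBijective Z ⟨i, s⟩)).symm.trans (by simp)

def ind (f v : Vn) : ZMod 2 := if f ⬝ᵥ v = 0 then 1 else 0
theorem ind_add : ∀ f f', ind (f + f') = ind f + ind f' + 1 := by decide +kernel
def dl (v w : Vn) : ZMod 2 := if w = v then 1 else 0
theorem ind_pt : ∀ v w : Vn, dl (v + w) = dl v + dl w + dl 0 ∨ ∃ f, dl (v + w) = dl v + dl w + dl 0 + ind f := by
  decide +kernel

/-- a vector fixed by the stabilizer of a point -/
theorem Ir.pt (h : Ir ρ) {o : Vn} (o0 : o ≠ 0) (n : u ≠ 0) (k : ∀ g : L3, g.1 *ᵥ o = o → ρ g u = u) : Nat.card W = 8 := by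
  choose s hs using trn o
  let x : Vn → W := fun v => if q : v = 0 then 0 else ρ (s v o0 q) u
  let b : L3 → Vn ≃ Vn := fun g => (Matrix.SpecialLinearGroup.toLin' g).toEquiv
  have hb : ∀ g v, b g v = g.1 *ᵥ v := fun g v => rfl
  have e : ∀ g v, ρ g (x v) = x (g.1 *ᵥ v) := fun g v => by
    by_cases q : v = 0
    · simp [x, q]
    have q' : g.1 *ᵥ v ≠ 0 := fun c => q ((b g).injective (by rw [hb, hb, c, Matrix.mulVec_zero]))
    simp only [x, dif_neg q, dif_neg q']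
    rw [mu, ← mul_inv_cancel_left (s _ o0 q') (g * _), ← mu, k]
    rw [Matrix.SpecialLinearGroup.coe_mul, Matrix.SpecialLinearGroup.coe_mul, ← Matrix.mulVec_mulVec, ← Matrix.mulVec_mulVec, hs]
    nth_rw 2 [← hs _ o0 q']
    rw [Matrix.mulVec_mulVec, ← Matrix.SpecialLinearGroup.coe_mul, inv_mul_cancel, Matrix.SpecialLinearGroup.coe_one,
      Matrix.one_mulVec]
  let X := Fintype.linearCombination (ZMod 2) x
  have eX : ∀ g φ, ρ g (X (φ ∘ b g)) = X φ := fun g φ => by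
    simp only [X, Fintype.linearCombination_apply, map_sum, map_smul, e, ← hb]
    exact (b g).sum_comp fun v => φ v • x v
  have c : X 1 = 0 := h.fix fun g => eX g 1
  have X1 : ∀ v, X (dl v) = x v := fun v => by simp [X, Fintype.linearCombination_apply, dl]
  by_cases y : ∃ f, X (ind f) ≠ 0
  · obtain ⟨f, hf⟩ := y
    refine h.tw.eight (fun f => X (ind f)) (fun f f' => by rw [ind_add, map_add, map_add, c, add_zero]) (fun g f => ?_) hf
    rw [← eX (θ g) (ind (g.1 *ᵥ f))]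
    refine congrArg (fun φ => ρ (θ g) (X φ)) (funext fun v => ?_)
    rw [Function.comp, hb, ind, ind, ← θ_dot (θ g), θθ]
  · push Not at y
    refine h.eight x (fun v w => ?_) e (v := o) ?_
    · rw [← X1]
      rcases ind_pt v w with q | ⟨f, q⟩ <;> simp only [q, map_add, X1, y, add_zero, x, dif_pos]
    · simp only [x, dif_neg o0]; rwa [k _ (hs ..)]

theorem lnP : ∀ g : L3, g.1 *ᵥ ![0, 0, 1] = ![0, 0, 1] → (θ g).1 2 0 = 0 ∧ (θ g).1 2 1 = 0 := by decide +kernel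
theorem ptP : ∀ g : L3, g.1 *ᵥ ![1, 0, 0] = ![1, 0, 0] → g.1 1 0 = 0 ∧ g.1 2 0 = 0 := by decide +kernel

/-- a vector fixed by the stabilizer of a line -/
theorem Ir.ln (h : Ir ρ) (n : u ≠ 0) (k : ∀ g : L3, g.1 2 0 = 0 ∧ g.1 2 1 = 0 → ρ g u = u) : Nat.card W = 8 :=
  h.tw.pt (o := ![0, 0, 1]) (by decide) n fun g e => k _ (lnP g e)
theorem Ir.pt' (h : Ir ρ) (n : u ≠ 0) (k : ∀ g : L3, g.1 1 0 = 0 ∧ g.1 2 0 = 0 → ρ g u = u) : Nat.card W = 8 :=
  h.pt (o := ![1, 0, 0]) (by decide) n fun g e => k _ (ptP g e)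

abbrev Tr (s x g : L3) : Prop := ∃ l ∈ [(1, s, x * s), (1, x * s, s), (s, 1, x * s), (s, x * s, 1), (x * s, 1, s), (x * s, s, 1)],
  Up (l.1⁻¹ * g) ∧ Up (l.2.1⁻¹ * (g * s)) ∧ Up (l.2.2⁻¹ * (g * (x * s)))
theorem trA : ∀ g : L3, g.1 2 0 = 0 ∧ g.1 2 1 = 0 → Tr sa xa g := by decide +kernel
theorem trB : ∀ g : L3, g.1 1 0 = 0 ∧ g.1 2 0 = 0 → Tr sb xb g := by decide +kernel

theorem tr (f : ∀ t, Up t → ρ t w = w) {s x g : L3} (h : Tr s x g) :
    ρ g (w + (ρ s w + ρ (x * s) w)) = w + (ρ s w + ρ (x * s) w) := by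
  obtain ⟨l, hl, k1, k2, k3⟩ := h
  have q : ∀ {a b : L3}, Up (a⁻¹ * b) → ρ b w = ρ a w := fun {a b} e => by rw [← mul_inv_cancel_left a b, ← mu, f _ e]
  rw [map_add, map_add, mu, mu, q k1, q k2, q k3]
  simp only [List.mem_cons, List.not_mem_nil, or_false] at hl
  rcases hl with rfl | rfl | rfl | rfl | rfl | rfl <;> simp only [map_one, Module.End.one_apply] <;> abel

def w0 : L3 := sa * sb * sa
theorem bru : ∀ g : L3, ∃ i, ∃ n ∈ [1, sa, sb, sa * sb, sb * sa, w0], Up ((t8 i * n)⁻¹ * g) := by decide +kernel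
theorem wy : sa * sb * (xa * sa) = xb * w0 ∧ sb * sa * sb = w0 ∧ sb * sa * (xb * sb) = xa * w0 ∧
    sa * (xb * sb) = xz * (sa * sb) ∧ sb * (xa * sa) = xz * (sb * sa) := by decide +kernel
def σa : Fin 8 → Fin 8 := ![1, 0, 4, 6, 2, 7, 3, 5]
def σb : Fin 8 → Fin 8 := ![2, 5, 0, 7, 6, 1, 4, 3]
theorem σ_ok : (∀ i, xa * t8 i = t8 (σa i) ∧ xb * t8 i = t8 (σb i)) ∧ (∀ i, σa (σa i) = i) ∧ (∀ i, σb (σb i) = i) ∧
    ∀ i j, ∃ k, t8 i * t8 j = t8 k := by decide +kernel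
def op (b : Bool) (φ : Fin 8 → ZMod 2) : Fin 8 → ZMod 2 := φ + φ ∘ (if b then σa else σb)
theorem soc : ∀ φ : Fin 8 → ZMod 2, φ ≠ 0 → ∃ l ∈ [[], [true], [false], [true, false], [false, true], [true, false, true],
    [false, true, false], [true, false, true, false]], l.foldr op φ = 1 := by decide +kernel

/-- the irreducible modules -/
theorem Ir.cls (h : Ir ρ) (n : w ≠ 0) (f : ∀ t, Up t → ρ t w = w) : Nat.card W = 8 ∨ Nat.card W = 256 ∧
    ∃ v, Submodule.span (ZMod 2) (Set.range fun i => ρ (t8 i) v) = ⊤ ∧ ∑ i, ρ (t8 i) v ≠ 0 := by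
  by_cases a : w + (ρ sa w + ρ (xa * sa) w) = 0
  swap; · exact .inl (h.ln a fun g e => tr f (trA g e))
  by_cases b : w + (ρ sb w + ρ (xb * sb) w) = 0
  swap; · exact .inl (h.pt' b fun g e => tr f (trB g e))
  have k : ∀ {s t : L3}, w + (ρ s w + ρ t w) = 0 → ∀ g, ρ g w = ρ (g * s) w + ρ (g * t) w := fun e g => by
    rw [← mu, ← mu, ← map_add]; exact congrArg _ (add_right_cancel (e.trans (two _).symm))
  obtain ⟨y1, y2, y3, y4, y5⟩ := wy
  let Y := Fintype.linearCombination (ZMod 2) fun i => ρ (t8 i) (ρ w0 w)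
  have iv : ∀ i, ∀ v ∈ Y.range, ρ (t8 i) v ∈ Y.range := fun i v hv => by
    rw [Fintype.range_linearCombination] at hv ⊢
    refine Submodule.span_induction (fun _ ⟨j, e⟩ => ?_) (by simp) (fun _ _ _ _ p q => map_add (ρ _) _ _ ▸ add_mem p q)
      (fun _ _ _ p => map_smul (ρ _) _ _ ▸ Submodule.smul_mem _ _ p) hv
    obtain ⟨k, q⟩ := σ_ok.2.2.2 i j
    exact Submodule.subset_span ⟨k, by rw [← e, mu (t8 i), q]⟩
  have m0 : ρ w0 w ∈ Y.range := ⟨Pi.single 0 1, by simp [Y, t8]⟩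
  have e1 : ρ (sa * sb) w = ρ w0 w + ρ xb (ρ w0 w) := by rw [k a, y1, mu]; rfl
  have e2 : ρ (sb * sa) w = ρ w0 w + ρ xa (ρ w0 w) := by rw [k b, y2, y3, mu]
  have e3 : ρ sa w = ρ (sa * sb) w + ρ xz (ρ (sa * sb) w) := by rw [k b, y4, mu]
  have e4 : ρ sb w = ρ (sb * sa) w + ρ xz (ρ (sb * sa) w) := by rw [k a, y5, mu]
  have e5 : w = ρ sa w + ρ xa (ρ sa w) := by
    have := k a 1
    rwa [map_one, one_mul, one_mul, ← mu, Module.End.one_apply] at this
  have m1 := (congrArg (· ∈ Y.range) e1).mpr (add_mem m0 (iv 2 _ m0))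
  have m2 := (congrArg (· ∈ Y.range) e2).mpr (add_mem m0 (iv 1 _ m0))
  have m3 := (congrArg (· ∈ Y.range) e3).mpr (add_mem m1 (iv 3 _ m1))
  have m4 := (congrArg (· ∈ Y.range) e4).mpr (add_mem m2 (iv 3 _ m2))
  have m5 := (congrArg (· ∈ Y.range) e5).mpr (add_mem m3 (iv 1 _ m3))
  have all : ∀ g, ρ g w ∈ Y.range := fun g => by
    obtain ⟨i, m, hm, e⟩ := bru g
    rw [← mul_inv_cancel_left (t8 i * m) g, ← mu, f _ e, ← mu]
    refine iv i _ ?_
    simp only [List.mem_cons, List.not_mem_nil, or_false] at hm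
    rcases hm with rfl | rfl | rfl | rfl | rfl | rfl
    exacts [by simpa using m5, m3, m4, m1, m2, m0]
  have top : Y.range = ⊤ := top_unique (((h.irr (Submodule.span _ (Set.range fun g => ρ g w)) fun g v hv =>
    Submodule.span_induction (fun _ ⟨j, e⟩ => Submodule.subset_span ⟨g * j, by rw [← e, mu]⟩) (by simp)
      (fun _ _ _ _ p q => map_add (ρ _) _ _ ▸ add_mem p q) (fun _ _ _ p => map_smul (ρ _) _ _ ▸ Submodule.smul_mem _ _ p)
      hv).resolve_left fun e => n (e.le (Submodule.subset_span ⟨1, by simp⟩))).ge.trans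
        (Submodule.span_le.2 (by rintro _ ⟨g, rfl⟩; exact all g)))
  have nm : ∑ i, ρ (t8 i) (ρ w0 w) = w := by
    conv_rhs => rw [e5, e3, e1]
    simp only [Fin.sum_univ_eight, map_add, mu _ _ (ρ w0 w)]
    rw [show xa * (xz * xb) = t8 5 by decide +kernel, show xz * xb = t8 7 by decide +kernel, show t8 0 = 1 from rfl, map_one]
    simp only [t8, Matrix.cons_val, Module.End.one_apply]
    abel
  have ko : ∀ b φ, Y φ = 0 → Y (op b φ) = 0 := fun b φ e => by
    have z : ∀ {x σ}, (∀ i, x * t8 i = t8 (σ i)) → Function.Involutive σ → Y (φ ∘ σ) = 0 := fun {x σ} p q => by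
      rw [← map_zero (ρ x), ← e]
      simp only [Y, Fintype.linearCombination_apply, map_sum, map_smul, mu x, p]
      rw [← Equiv.sum_comp (q.toPerm _)]
      exact Finset.sum_congr rfl fun i _ => congrArg (φ · • _) (q i)
    rw [op, map_add, e, zero_add]
    cases b
    exacts [z (fun i => (σ_ok.1 i).2) σ_ok.2.2.1, z (fun i => (σ_ok.1 i).1) σ_ok.2.1]
  have inj : Function.Injective Y := (injective_iff_map_eq_zero Y).2 fun φ e => by_contra fun q => by
    obtain ⟨l, -, c⟩ := soc φ q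
    have : Y (l.foldr op φ) = 0 := by
      clear c
      induction l with
      | nil => exact e
      | cons b l i => exact ko b _ i
    rw [c] at this
    exact n (nm.symm.trans (by simpa [Y, Fintype.linearCombination_apply] using this))
  exact .inr ⟨(Nat.card_congr (Equiv.ofBijective Y ⟨inj, LinearMap.range_eq_top.1 top⟩)).symm.trans (by simp), _,
    (Fintype.range_linearCombination (ZMod 2) _).symm.trans top, nm.symm ▸ n⟩
end

theorem one_of {G : Type u} [Group G] [Finite G] {T N : Subgroup G} (h : Syl 2 T N) {r : G} (hr : r ∈ T)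
    (o : Odd (orderOf r)) : r = 1 := orderOf_eq_one_iff.1 (Nat.eq_one_iff_not_exists_prime_dvd.2 fun p hp d => by
  obtain rfl : p = 2 := h.pi.elt hr p hp d
  exact (Nat.not_even_iff_odd.2 o) (even_iff_two_dvd.2 d))

theorem ir : IR.{u} := fun {G} _ _ {N Q T V₀ V} h l s c => by
  obtain ⟨π, hs, k, hT⟩ := std h l
  obtain ⟨W, _, _, _, p, ρ, m⟩ := exMd s.ea s.nV s.n0 hs fun g e => s.cq ((k g).1 e)
  have TN := h.syl.le
  choose r hr using fun i => hs (t8 i)
  have rT : ∀ i, (r i).1 ∈ T := fun i => (hT _).2 (hr i ▸ t8U i)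
  obtain ⟨w, hw, n⟩ := SetLike.not_le_iff_exists.1 (s.ea.meet (fun q => s.nc fun g hg => ⟨s.n0 hg, fun v hv =>
    q (mul_mem (conj_mem_of_norm (s.nV hg) hv) (inv_mem hv))⟩) (TN.trans s.nV) (TN.trans s.n0) fun r hr o => by
      exact (one_of h.syl hr o).symm ▸ one_mem _)
  have tw : T ≤ Cm V₀ (zpowers w) := (Cm_symm (zpowers_le.2 hw.2) (TN.trans s.n0))
  rcases Ir.cls ⟨m.irr hs c, m.nt s.n0 s.nc⟩ (mt (m.zero w hw.1).1 n) (fun t ht => by
    obtain ⟨g, rfl⟩ := hs t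
    rw [← m.act g w hw.1]
    exact (m.eq (conj_mem_of_norm (s.nV g.2) hw.1) hw.1).2 ((tw ((hT g).2 ht)).2 w (mem_zpowers w))) with e | ⟨e, v, a, b⟩
  · exact .inl (e ▸ m.card)
  obtain ⟨v, hv, rfl⟩ := m.sur v
  have cV : ∀ i, (r i).1 * v * (r i).1⁻¹ ∈ V := fun i => conj_mem_of_norm (s.nV (r i).2) hv
  have q : ∀ i, p ((r i).1 * v * (r i).1⁻¹) = ρ (t8 i) (p v) := fun i => hr i ▸ m.act (r i) v hv
  refine .inr ⟨e ▸ m.card, v, hv, List.ofFn fun i => (r i).1, m.le_of_img (top_unique (a.ge.trans (Submodule.span_le.2 ?_))),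
    fun x hx => let ⟨i, e⟩ := List.mem_ofFn.1 hx; e ▸ rT i, List.length_ofFn, fun t ht => ?_, fun z => b ?_⟩
  · rintro _ ⟨i, rfl⟩
    exact ⟨_, ⟨cj_le_Kc (rT i) (mem_cj'.2 ⟨v, mem_zpowers v, rfl⟩), cV i⟩, q i⟩
  · obtain ⟨i, e⟩ := (up_iff _).1 ((hT ⟨t, TN ht⟩).1 ht)
    exact ⟨_, List.mem_ofFn.2 ⟨i, rfl⟩, (k ((r i)⁻¹ * ⟨t, TN ht⟩)).1 (by rw [map_mul, map_inv, hr, e, inv_mul_cancel])⟩
  · have o : ∀ x ∈ (List.ofFn fun i => (r i).1).map fun r => r * v * r⁻¹, x ∈ V := fun x hx => by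
      rw [List.map_ofFn] at hx
      obtain ⟨i, rfl⟩ := List.mem_ofFn.1 hx
      exact cV i
    have := (m.zero _ (list_prod_mem o)).2 z
    rw [m.prod _ o, List.map_ofFn, List.map_ofFn, List.sum_ofFn] at this
    exact (Finset.sum_congr rfl fun i _ => (q i).symm).trans this

end H8.MS
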