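import Cfsg.Agent.H8.FP1
import Cfsg.Agent.H4.Fa3

/-! Nilpotent fixed-point-free groups of automorphisms: cocycles, invariant Sylow subgroups,
covering of fixed points of a Frobenius complement. -/

set_option autoImplicit false

namespace H8.FP

open Subgroup H10 H2 H4.Fa Cfsg SemidirectProduct
open scoped Pointwise IsMulCommutative commutatorElement

universe u v

theorem fixpt {X : Type u} [Group X] [Finite X] {N F L : Subgroup X}
    (hF : Group.IsNilpotent F) (hn : F ≤ normalizer (N : Set X))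
    (h0 : N ⊓ centralizer (F : Set X) = ⊥) (h1 : L ≤ F ⊔ N) (h2 : F ≤ L ⊔ N) :
    ∃ n ∈ N, MulAut.conj n • F ≤ L := by
  haveI : (N.subgroupOf (F ⊔ N)).Normal :=
    (normal_subgroupOf_iff_le_normalizer le_sup_right).2 (sup_le hn le_normalizer)
  have ns : NS (N.subgroupOf (F ⊔ N)) (F.subgroupOf (F ⊔ N)) :=
    ⟨Group.nilpotent_of_mulEquiv (subgroupOfEquivOfLe le_sup_left).symm, by
      rw [← subgroupOf_sup le_sup_left le_sup_right, subgroupOf_self]⟩
  obtain ⟨Y, h3, h4⟩ := minsup (L := L.subgroupOf (F ⊔ N)) ns (by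
    rw [← subgroupOf_sup h1 le_sup_right, subgroupOf_eq_top]
    exact sup_le h2 le_sup_right)
  obtain ⟨n, hn, e⟩ := main _ _ _ Y inferInstance ns h4 (by
    rw [H1.centralizer_subgroupOf le_sup_left, subgroupOf, subgroupOf, ← comap_inf, h0]
    exact bot_subgroupOf _)
  refine ⟨n, hn, ?_⟩
  rw [e, conj_smul_subgroupOf le_sup_left] at h3
  intro x hx
  exact h3 (show (⟨x, H1.conj_smul_le_of_le_of_mem le_sup_left (le_normalizer n.2) hx⟩ :
    (F ⊔ N : Subgroup X)) ∈ _ from hx)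

variable {A : Type v} [Group A] [Finite A] {G : Type u} [Group G] [Finite G]
  {φ : A →* MulAut G}

theorem nil_sdA (hA : Group.IsNilpotent A) : Group.IsNilpotent (sdA φ) :=
  Group.nilpotent_of_mulEquiv (sdAEquiv φ)

theorem coc0 (hA : Group.IsNilpotent A) {M : Subgroup G} (hM : AInv φ M)
    (h0 : M ⊓ autFixed φ = ⊥) {g : G} (hg : ∀ a, g⁻¹ * φ a g ∈ M) :
    ∃ m ∈ M, g * m ∈ autFixed φ := by
  have e : ∀ a, (inl g : G ⋊[φ] A)⁻¹ * inr a * inl g = inl (g⁻¹ * φ a g) * inr a := by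
    intro a
    rw [map_mul, map_inv, ← inr_mul_inl_mul_inv]; group
  have hm : ∀ a, (inl g : G ⋊[φ] A)⁻¹ * inr a * inl g ∈ MulAut.conj (inl g : G ⋊[φ] A)⁻¹ • sdA φ :=
    fun a => by simpa using H1.conj_mem_conj_smul (g := (inl g : G ⋊[φ] A)⁻¹) (inr_mem_sdA a)
  obtain ⟨_, ⟨m, hm', rfl⟩, h⟩ := fixpt (N := sdK φ M) (F := sdA φ)
    (L := MulAut.conj (inl g : G ⋊[φ] A)⁻¹ • sdA φ) (nil_sdA hA) hM.sd
    (by rw [sdK_inf_centralizer, h0, sdK_bot])
    (by
      intro x hx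
      obtain ⟨a, ha⟩ := H1.mem_conj_smul_iff.1 hx
      have : x = (inl g : G ⋊[φ] A)⁻¹ * inr a * inl g := by rw [ha]; group
      rw [this, e]
      exact mul_mem (mem_sup_right (inl_mem_sdK.2 (hg a))) (mem_sup_left (inr_mem_sdA a)))
    (by
      rintro _ ⟨a, rfl⟩
      have : (inr a : G ⋊[φ] A) =
          (inl (g⁻¹ * φ a g))⁻¹ * ((inl g : G ⋊[φ] A)⁻¹ * inr a * inl g) := by rw [e]; group
      rw [this]
      exact mul_mem (mem_sup_right (inv_mem (inl_mem_sdK.2 (hg a)))) (mem_sup_left (hm a)))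
  refine ⟨m, hm', fun a => ?_⟩
  have h1 := H1.mem_conj_smul_iff.1 (h (H1.conj_mem_conj_smul (inr_mem_sdA a)))
  have h2 : (inl (g * m * (φ a (g * m))⁻¹) : G ⋊[φ] A) ∈ sdK φ ⊤ ⊓ sdA φ := by
    refine mem_inf.2 ⟨inl_mem_sdK.2 (mem_top _), ?_⟩
    have := mul_mem h1 (inv_mem (inr_mem_sdA a))
    convert this using 1
    rw [map_mul, map_inv, ← inr_mul_inl_mul_inv, map_mul]; group
  rw [sdK_inf_sdA, mem_bot, ← map_one (inl : G →* G ⋊[φ] A)] at h2
  exact (mul_inv_eq_one.1 (inl_injective h2)).symm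

theorem sylE0 (hA : Group.IsNilpotent A) {M : Subgroup G} (hM : AInv φ M)
    (h0 : M ⊓ autFixed φ = ⊥) (p : ℕ) [Fact p.Prime] : ∃ P, IsSylowIn p P M ∧ AInv φ P := by
  obtain ⟨P, hP⟩ := exists_isSylowIn p M
  have hP' : IsSylowIn p (sdK φ P) (sdK φ M) := isSylowIn_of_not_dvd (sdK_le_iff.2 hP.le)
    (isPGroup_sdK.2 hP.isPGroup) (by rw [relIndex_sdK]; exact hP.not_dvd_relIndex)
  obtain ⟨_, ⟨m, hm, rfl⟩, h⟩ := fixpt (N := sdK φ M) (F := sdA φ)
    (L := (sdA φ ⊔ sdK φ M) ⊓ normalizer ((sdK φ P : Subgroup _) : Set (G ⋊[φ] A)))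
    (nil_sdA hA) hM.sd (by rw [sdK_inf_centralizer, h0, sdK_bot]) inf_le_left (by
      intro z hz
      obtain ⟨n, hn, h⟩ := hP'.frattini (hM.sd hz)
      have : z = n⁻¹ * (n * z) := by group
      rw [this]
      exact mul_mem (mem_sup_right (inv_mem hn))
        (mem_sup_left ⟨mul_mem (mem_sup_right hn) (mem_sup_left hz), h⟩))
  refine ⟨MulAut.conj m⁻¹ • P, hP.conj_of_mem (le_normalizer (inv_mem hm)),
    sdA_le_normalizer_iff.1 ?_⟩
  rw [← conj_smul_sdK, ← H1.conj_smul_normalizer, map_inv,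
    ← H1.conj_inv_smul_conj_smul (inl m : G ⋊[φ] A) (sdA φ)]
  exact pointwise_smul_le_pointwise_smul_iff.2 (h.trans inf_le_right)

theorem coc {F : Subgroup A} (hF : Group.IsNilpotent F) {M : Subgroup G} (hM : Iv φ F M)
    (h0 : M ⊓ fx φ F = ⊥) {g : G} (hg : ∀ a ∈ F, g⁻¹ * φ a g ∈ M) :
    ∃ m ∈ M, g * m ∈ fx φ F :=
  coc0 (φ := φ.comp F.subtype) hF hM.ainv h0 fun a => hg a a.2

theorem sylU {F : Subgroup A} (hF : Group.IsNilpotent F) {M : Subgroup G} (hM : Iv φ F M)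
    (h0 : M ⊓ fx φ F = ⊥) {p : ℕ} [Fact p.Prime] {P Q : Subgroup G} (hP : IsSylowIn p P M)
    (hQ : IsSylowIn p Q M) (iP : Iv φ F P) (iQ : Iv φ F Q) : P = Q := by
  obtain ⟨g, hg, e⟩ := hP.exists_conj_eq hQ
  have h1 := hM.ainv.inf iQ.ainv.normalizer
  obtain ⟨m, hm, h⟩ := coc hF (M := M ⊓ normalizer (Q : Set G)) (fun a ha => h1 ⟨a, ha⟩)
    (le_bot_iff.1 (h0 ▸ inf_le_inf_right _ inf_le_left)) (g := g) fun a ha => by
      refine mem_inf.2 ⟨mul_mem (inv_mem hg) (hM a ha g hg),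
        H1.mem_normalizer_of_conj_mem fun x hx => ?_⟩
      have h2 := iQ a⁻¹ (inv_mem ha) x hx
      have h3 := iP a ha _ (e ▸ H1.conj_mem_conj_smul (g := g) h2)
      rw [← e, H1.mem_conj_smul_iff] at h3
      simpa [mul_assoc] using h3
  have h2 : g * m ∈ M ⊓ fx φ F := ⟨mul_mem hg hm.1, h⟩
  rw [h0, mem_bot, mul_eq_one_iff_eq_inv] at h2
  rw [← e, h2, H1.conj_smul_eq_of_mem_normalizer (inv_mem hm.2)]

/-- the invariant Sylow subgroup -/
theorem sylA {F : Subgroup A} [hn : F.Normal] (hF : Group.IsNilpotent F) {M : Subgroup G}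
    (hM : AInv φ M) (h0 : M ⊓ fx φ F = ⊥) (p : ℕ) [Fact p.Prime] :
    ∃ P, IsSylowIn p P M ∧ AInv φ P := by
  obtain ⟨P, hP, iP⟩ := sylE0 (φ := φ.comp F.subtype) hF (iv_of_ainv F hM).ainv h0 p
  refine ⟨P, hP, aInv_iff_map_eq.2 fun a => sylU hF (iv_of_ainv F hM) h0 (p := p) ?_ hP ?_
    fun b hb => iP ⟨b, hb⟩⟩
  · refine hP.of_card_le (hP.isPGroup.map _) (hM.map_eq a ▸ map_mono hP.le) ?_
    rw [card_map_of_injective (φ a).injective]
  · rintro b hb _ ⟨x, hx, rfl⟩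
    have h1 : a⁻¹ * b * a ∈ F := by simpa using hn.conj_mem b hb a⁻¹
    exact ⟨φ (a⁻¹ * b * a) x, iP ⟨_, h1⟩ x hx, by simp⟩

theorem fx_res {F : Subgroup A} {M N : Subgroup G} (hM : AInv φ M) (h0 : N ⊓ fx φ F = ⊥) :
    N.subgroupOf M ⊓ fx (restrictAut φ M hM) F = ⊥ := by
  refine eq_bot_iff.2 fun w hw => ?_
  have : (w : G) ∈ N ⊓ fx φ F :=
    ⟨hw.1, mem_fx.2 fun b hb => congrArg Subtype.val (mem_fx.1 hw.2 b hb)⟩
  rw [h0] at this
  exact Subtype.ext this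

theorem fx_quo {F : Subgroup A} (hF : Group.IsNilpotent F) {N V : Subgroup G} [V.Normal]
    (hV : AInv φ V) (h : V ≤ N) (h0 : N ⊓ fx φ F = ⊥) :
    N.map (QuotientGroup.mk' V) ⊓ fx (quotAut φ V hV) F = ⊥ := by
  rw [eq_bot_iff]
  rintro _ ⟨⟨g, hg, rfl⟩, hx⟩
  obtain ⟨m, hm, h1⟩ := coc hF (iv_of_ainv F hV)
    (le_bot_iff.1 (h0 ▸ inf_le_inf_right _ h)) (g := g) fun b hb =>
      QuotientGroup.eq.1 ((mem_fx.1 hx b hb).symm.trans (quotAut_mk φ V hV b g))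
  have h2 : g * m ∈ N ⊓ fx φ F := ⟨mul_mem hg (h hm), h1⟩
  rw [h0, mem_bot, mul_eq_one_iff_eq_inv] at h2
  exact (QuotientGroup.eq_one_iff g).2 (h2 ▸ inv_mem hm)

/-- fixed points of the complement are covered -/
theorem cov {F H : Subgroup A} [F.Normal] (hF : Group.IsNilpotent F) (hf : Fpf F H) (n : ℕ) :
    ∀ (G : Type u) [Group G] [Finite G] (φ : A →* MulAut G) (N : Subgroup G) [N.Normal],
      Nat.card N = n → AInv φ N → N ⊓ fx φ F = ⊥ → ∀ g : G, (∀ h ∈ H, g⁻¹ * φ h g ∈ N) →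
        ∃ v ∈ N, g * v ∈ fx φ H := by
  have hn : H ≤ normalizer (F : Set A) := by rw [normalizer_eq_top]; exact le_top
  induction n using Nat.strong_induction_on with
  | _ n ih =>
  intro G _ _ φ N _ hc hN h0 g hg
  by_cases hb : N = ⊥
  · refine ⟨1, one_mem _, mem_fx.2 fun h hh => ?_⟩
    have := hg h hh
    rw [hb, mem_bot, inv_mul_eq_one] at this
    rw [mul_one, ← this]
  by_cases hnil : Group.IsNilpotent N
  · have h1 : ⁅N, N⁆ < N := H1.commutator_lt_of_isNilpotent hnil le_rfl le_normalizer hb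
    have h2 := hN.commutator hN
    haveI : IsMulCommutative (N.map (QuotientGroup.mk' ⁅N, N⁆)) :=
      H1.isMulCommutative_iff.2 fun a ha b hb => (mem_centralizer_iff.1
        (H1.le_centralizer_of_commutator_eq_bot (H1.commutator_le_iff_map_mk'.1 le_rfl) hb) a ha)
    obtain ⟨_, ⟨v, hv, rfl⟩, h3⟩ := cover (φ := quotAut φ _ h2) hn hf _ (hN.map_quotAut _ h2)
      (fx_quo hF h2 h1.le h0) (g := (g : G ⧸ ⁅N, N⁆)) fun h hh => ⟨_, hg h hh, rfl⟩
    obtain ⟨w, hw, h4⟩ := ih _ (hc ▸ H1.card_lt_of_lt h1) G φ ⁅N, N⁆ rfl h2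
      (le_bot_iff.1 (h0 ▸ inf_le_inf_right _ h1.le)) (g * v) fun h hh =>
        QuotientGroup.eq.1 ((mem_fx.1 h3 h hh).symm.trans (quotAut_mk φ _ h2 h (g * v)))
    exact ⟨v * w, mul_mem hv (h1.le hw), by rwa [← mul_assoc]⟩
  obtain ⟨p, hp, Q, hQ⟩ : ∃ (p : ℕ) (_ : Fact p.Prime) (Q : Sylow p N),
      ¬ (Q : Subgroup N).Normal := by
    by_contra h
    push Not at h
    exact hnil (H1.isNilpotent_iff_sylow_normal.2 h)
  obtain ⟨P, hP, iP⟩ := sylA hF hN h0 p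
  have h1 : ¬ N ≤ normalizer (P : Set G) := fun h => hQ (by
    obtain ⟨x, hx, e⟩ := (isSylowIn_map_subtype Q).exists_conj_eq hP
    rw [H1.normal_iff_le_normalizer_map_subtype, ← e, H1.conj_smul_eq_of_mem_normalizer (h hx)]
    exact h)
  obtain ⟨v, hv, h2⟩ := hP.frattini (g := g⁻¹) (by rw [normalizer_eq_top]; trivial)
  have h3 : g * v⁻¹ ∈ normalizer (P : Set G) := by simpa using inv_mem h2
  obtain ⟨w, hw, h4⟩ := ih (Nat.card (N.subgroupOf (normalizer (P : Set G)))) (by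
      rw [← hc, H1.card_subgroupOf]
      exact H1.card_lt_of_lt (lt_of_le_of_ne inf_le_left fun e => h1 (e ▸ inf_le_right)))
    (normalizer (P : Set G)) (restrictAut φ _ iP.normalizer) _ rfl
    (fun a x hx => hN a x hx) (fx_res _ h0) ⟨_, h3⟩ fun h hh => by
      show (g * v⁻¹)⁻¹ * φ h (g * v⁻¹) ∈ N
      have : (g * v⁻¹)⁻¹ * φ h (g * v⁻¹) = v * (g⁻¹ * φ h g) * φ h v⁻¹ := by
        rw [map_mul]; group
      rw [this]
      exact mul_mem (mul_mem hv (hg h hh)) (hN h _ (inv_mem hv))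
  refine ⟨v⁻¹ * w, mul_mem (inv_mem hv) hw, mem_fx.2 fun h hh => ?_⟩
  rw [← mul_assoc]
  exact congrArg Subtype.val (mem_fx.1 h4 h hh)

/-- the conjugates of the fixed points of the complement -/
def gen (φ : A →* MulAut G) (F H : Subgroup A) : Subgroup G :=
  closure {x : G | ∃ f ∈ F, ∃ c ∈ fx φ H, x = φ f c}

theorem gen_inv {F H : Subgroup A} [hn : F.Normal] (hs : F ⊔ H = ⊤) : AInv φ (gen φ F H) := by
  intro a x hx
  obtain ⟨f, hf, h, hh, rfl⟩ := mem_sup_of_normal_left.1 (hs ▸ mem_top a)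
  have : gen φ F H ≤ (gen φ F H).comap (φ (f * h)).toMonoidHom := by
    refine (closure_le _).2 ?_
    rintro _ ⟨f', hf', c, hc, rfl⟩
    refine subset_closure ⟨f * (h * f' * h⁻¹), mul_mem hf (hn.conj_mem _ hf' _), c, hc, ?_⟩
    have := mem_fx.1 hc _ (inv_mem hh)
    simp only [map_mul, MulAut.mul_apply, this]
    rfl
  exact this hx

theorem gen_p {F H : Subgroup A} [F.Normal] (hF : Group.IsNilpotent F) (hf : Fpf F H)
    (hs : F ⊔ H = ⊤) {p : ℕ} [Fact p.Prime] (hG : IsPGroup p G) (h0 : fx φ F = ⊥) :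
    gen φ F H = ⊤ := by
  have hn : H ≤ normalizer (F : Set A) := by rw [normalizer_eq_top]; exact le_top
  by_contra hne
  let M := gen φ F H ⊔ commutator G
  haveI hMn : M.Normal := ⟨fun x hx g => by
    have : g * x * g⁻¹ = ⁅g, x⁆ * x := by rw [commutatorElement_def]; group
    rw [this]
    exact mul_mem (mem_sup_right (commutator_mem_commutator (mem_top _) (mem_top _))) hx⟩
  have hM : AInv φ M := (gen_inv hs).sup (aInv_of_characteristic _)
  have h1 : M ≠ ⊤ := fun e => hne (frattini_nongenerating (le_antisymm le_top (e ▸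
    sup_le_sup_left (H1.commutator_le_frattini_of_isNilpotent hG.isNilpotent) _)))
  haveI : IsMulCommutative (G ⧸ M) := (Normal.quotient_commutative_iff_commutator_le).2 le_sup_right
  have h2 := fx_quo (φ := φ) hF (N := ⊤) hM le_top (by rw [h0, inf_bot_eq])
  rw [map_top_of_surjective _ (QuotientGroup.mk'_surjective M)] at h2
  have h3 : (⊤ : Subgroup (G ⧸ M)) ⊓ fx (quotAut φ M hM) H ≠ ⊥ := fun e => h1 (by
    have := inf_fx_ne_bot (p := p) hF hn hf ((hG.to_quotient M).to_subgroup ⊤)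
      (iv_of_ainv _ aInv_top) (iv_of_ainv _ aInv_top) h2 e
    exact eq_top_iff.2 fun g _ => (QuotientGroup.eq_one_iff g).1 (mem_bot.1 (this ▸ mem_top _)))
  obtain ⟨⟨y, hy0, hy⟩, y1⟩ := ne_bot_iff_exists_ne_one.1 h3
  obtain ⟨g, rfl⟩ := QuotientGroup.mk_surjective y
  obtain ⟨v, hv, hx⟩ := cov hF hf _ G φ M rfl hM (by rw [h0, inf_bot_eq]) g fun h hh =>
    QuotientGroup.eq.1 ((mem_fx.1 hy h hh).symm.trans (quotAut_mk φ M hM h g))
  have h4 : g * v ∈ M := mem_sup_left (subset_closure ⟨1, one_mem _, _, hx, by simp⟩)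
  exact y1 (Subtype.ext ((QuotientGroup.eq_one_iff g).2 (by simpa using mul_mem h4 (inv_mem hv))))

theorem gen_top {F H : Subgroup A} [F.Normal] (hF : Group.IsNilpotent F) (hf : Fpf F H)
    (hs : F ⊔ H = ⊤) (h0 : fx φ F = ⊥) : gen φ F H = ⊤ := by
  rw [← index_eq_one]
  by_contra hne
  obtain ⟨p, hp, hd⟩ := Nat.exists_prime_and_dvd hne
  haveI := Fact.mk hp
  obtain ⟨P, hP, iP⟩ := sylA (φ := φ) hF aInv_top (by rw [h0, inf_bot_eq]) p
  have h1 := gen_p (φ := restrictAut φ P iP) hF hf hs hP.isPGroup (by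
    have := fx_res (N := ⊤) (F := F) iP (by rw [h0, inf_bot_eq])
    rwa [top_subgroupOf, top_inf_eq] at this)
  have h2 : gen (restrictAut φ P iP) F H ≤ (gen φ F H).subgroupOf P := by
    refine (closure_le _).2 ?_
    rintro _ ⟨f, hf, c, hc, rfl⟩
    exact subset_closure ⟨f, hf, c, mem_fx.2 fun b hb =>
      congrArg Subtype.val (mem_fx.1 hc b hb), rfl⟩
  rw [h1, top_le_iff, subgroupOf_eq_top] at h2
  refine hP.not_dvd_relIndex ?_
  rw [relIndex_top_right]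
  exact hd.trans (index_dvd_of_le h2)

omit [Finite G] in
theorem frob {F H : Subgroup A} (hH : IsFrobeniusComplement H)
    (hker : frobeniusKernel H = (F : Set A)) :
    Group.IsNilpotent F ∧ Fpf F H ∧ F ⊔ H = ⊤ := by
  obtain ⟨K, h1, -, h3, -, h5, h6⟩ := H3.exists_frobeniusKernel hH
  have e : K = F := SetLike.coe_injective (h1.trans hker)
  subst e
  refine ⟨h6, fun h hh f hf e => ?_, h3.sup_eq_top⟩
  by_cases h1 : h = 1
  · exact Or.inl h1
  · exact Or.inr (H3.fpf_iff.1 (h5 h hh h1) f hf e)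

end H8.FP
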