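import Cfsg.Agent.H4.OX10
import Cfsg.Agent.H8.FP2

/-! Fixed point free operator groups force solvability: interface. -/

set_option autoImplicit false

namespace H8.FS
open Cfsg Subgroup H28 H28.GC H29.PU
open scoped commutatorElement

universe u
variable {X : Type u} [Group X]

/-- `A` is nilpotent modulo a normal subgroup of order prime to `#G` -/
def Ok (A G : Subgroup X) : Prop :=
  ∃ B ≤ A, A ≤ 𝐍 B ∧ (Nat.card B).Coprime (Nat.card G) ∧ ∃ n, A.lowerCentralSeries n ≤ B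

/-- the main statement -/
def Main : Prop := ∀ (X : Type u) [Group X] [Finite X] (A G : Subgroup X), Ok A G → A ≤ 𝐍 G →
  G ⊓ 𝐂 A = ⊥ → Group.IsSolvable G

/-- local hypotheses on a Sylow `2`-subgroup `S` of the normal subgroup `G` and `V ≤ S` -/
structure HV (G S V A : Subgroup X) : Prop where
  nG : ⊤ ≤ 𝐍 G
  syl : IsSylowIn 2 S G
  Ωle : Ω₂ S ≤ V
  le : V ≤ S
  ea : IsElementaryAbelian 2 V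
  nV : 𝐍 S ≤ 𝐍 V
  sol : Group.IsSolvable ↥(G ⊓ 𝐂 (Ω₂ S))
  cen : ∃ O ≤ G ⊓ 𝐂 (Ω₂ S), H4.OX.Od O ∧ G ⊓ 𝐂 (Ω₂ S) ≤ 𝐍 O ∧ G ⊓ 𝐂 (Ω₂ S) ≤ 𝐍 (V ⊔ O : Subgroup X)
  loc : ∀ Y, V ≤ Y → Y ≤ S → 𝐍 S ≤ 𝐍 Y → G ⊓ 𝐍 Y ≤ 𝐍 V
  ff : ∀ R, V ≤ R → R ≤ S → V ≤ zj 2 R
  sing : ∀ x ∈ G ⊓ 𝐍 V, (orderOf x).Coprime 2 → (∀ u ∈ ⁅V, zpowers x⁆, ∀ w ∈ ⁅V, zpowers x⁆, u ≠ 1 → w ≠ 1 →
    ∃ y ∈ zpowers x, y * u * y⁻¹ = w) → x ∈ 𝐂 V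
  nA : A ≤ 𝐍 S
  fpf : S ⊓ 𝐂 A = ⊥

/-- strong closure of `V` -/
def SC : Prop := ∀ (X : Type u) [Group X] [Finite X] (G S V A : Subgroup X), HV G S V A →
  ∀ t ∈ V, ∀ g ∈ G, g * t * g⁻¹ ∈ S → g * t * g⁻¹ ∈ V

end H8.FS
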