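import Cfsg.Agent.H8.MS1
import Cfsg.Agent.H27.MS3
import Cfsg.Agent.H12.MS0
import Cfsg.Agent.H23.MS3
import Cfsg.Agent.H14.MS1
import Cfsg.Agent.H20.FT

/-! S5899: the natural module of `L₃(2)` inside a bad local subgroup. -/

set_option autoImplicit false
set_option linter.unusedSectionVars false
set_option synthInstance.maxSize 2000

namespace H8.MS
open Cfsg Subgroup H18 H17.GS H28.S H2.GW H27.MS H12.MS
open H19 hiding eq_bot_mono
open H28.NG hiding Hyp Uniq Ch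
open H23.MS (pr mem_pr card_pr)
open scoped MatrixGroups Matrix commutatorElement

universe u

def e0 : Vn := ![1, 0, 0]
/-- the point stabilizer and its radical -/
abbrev Pp (g : L3) : Prop := g.1 *ᵥ e0 = e0
abbrev Rp (g : L3) : Prop := ∀ w : Vn, g.1 *ᵥ w + w = 0 ∨ g.1 *ᵥ w + w = e0
theorem pp_div : ∀ a, Pp a → ∀ b, Pp b → Pp (a * b⁻¹) := by decide +kernel
theorem rp_div : ∀ a, Rp a → ∀ b, Rp b → Rp (a * b⁻¹) := by decide +kernel
theorem rp_pp : ∀ a, Rp a → Pp a := by decide +kernel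
theorem rp_J : ∀ a, Rp a → ∀ g, Pp g → Rp (g * a * g⁻¹) := by decide +kernel
theorem rp_3 : ∀ e, Pp e → ¬ Rp e → ∃ g, Pp g ∧ e * (g * e * g⁻¹) ≠ 1 ∧ (e * (g * e * g⁻¹)) ^ 3 = 1 := by decide +kernel
theorem rp_tr : ∀ e, Rp e → e ≠ 1 → ∀ r, Rp r → r = 1 ∨ ∃ g, Pp g ∧ g * e * g⁻¹ = r := by decide +kernel
theorem pp_tr : ∀ a b : Vn, ¬ (a = 0 ∨ a = e0) → ¬ (b = 0 ∨ b = e0) → ∃ g, Pp g ∧ g.1 *ᵥ a = b := by decide +kernel
theorem rp_mv : ∀ a : Vn, ¬ (a = 0 ∨ a = e0) → ∃ r, Rp r ∧ r.1 *ᵥ a ≠ a := by decide +kernel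
theorem quad : ∀ a : L3, a * a = 1 → ∀ b : L3, b * b = 1 → a * b = b * a → ∀ w : Vn,
    b.1 *ᵥ (w + a.1 *ᵥ w) = w + a.1 *ᵥ w := by decide +kernel
def P0 : Subgroup L3 := ofDiv {g | Pp g} ⟨1, by decide⟩ fun a ha b hb => pp_div a ha b hb
def R0 : Subgroup L3 := ofDiv {g | Rp g} ⟨1, by decide⟩ fun a ha b hb => rp_div a ha b hb
theorem card_P0 : #P0 = 24 := (Nat.subtype_card (Finset.univ.filter Pp) fun _ => Finset.mem_filter_univ _).trans (by decide +kernel)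
theorem card_R0 : #R0 = 4 := (Nat.subtype_card (Finset.univ.filter Rp) fun _ => Finset.mem_filter_univ _).trans (by decide +kernel)

variable {G : Type u} [Group G] [Finite G] {N Q T V E X : Subgroup G} {v w x : G} {π : N →* L3} {p : G → Vn}

/-- coordinates on `V` -/
structure Mz (N Q V : Subgroup G) (π : N →* L3) (p : G → Vn) : Prop where
  sur : Function.Surjective π
  ker : ∀ g, π g = 1 ↔ g.1 ∈ Q
  ab : Abelem 2 V
  nV : N ≤ N(V)
  add : ∀ v ∈ V, ∀ w ∈ V, p (v * w) = p v + p w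
  zero : ∀ v ∈ V, p v = 0 ↔ v = 1
  ps : ∀ w, ∃ v ∈ V, p v = w
  act : ∀ g : N, ∀ v ∈ V, p (g.1 * v * g.1⁻¹) = (π g).1 *ᵥ p v

theorem exMz (h : Fr N Q T) (l : L7 N Q) (s : Sec N Q ⊥ V) (c : #V = 8) : ∃ π p, Mz N Q V π p := by
  obtain ⟨π, hs, k⟩ := l
  obtain ⟨W, _, _, _, p, ρ, m⟩ := exMd s.ea s.nV s.n0 hs fun g e => s.cq ((k g).1 e)
  have fr : Module.finrank (ZMod 2) W = 3 := by
    have a := m.card
    rw [c, card_bot, mul_one, Module.natCard_eq_pow_finrank (K := ZMod 2), Nat.card_zmod] at a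
    exact Nat.pow_right_injective le_rfl (a.symm.trans (by norm_num))
  let b := Module.finBasisOfFinrankEq (ZMod 2) W fr
  let M : L3 → Matrix (Fin 3) (Fin 3) (ZMod 2) := fun g => LinearMap.toMatrix b b (ρ g)
  have mM : ∀ g g', M (g * g') = M g * M g' := fun g g' => by simp only [M, map_mul, LinearMap.toMatrix_mul]
  have dM : ∀ g, (M g).det = 1 := fun g => (by decide : ∀ x y : ZMod 2, x * y = 1 → x = 1) _ (M g⁻¹).det (by
    rw [← Matrix.det_mul, ← mM, mul_inv_cancel]; simp [M])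
  let σ : L3 →* L3 := MonoidHom.mk' (fun g => ⟨M g, dM g⟩) fun g g' => Subtype.ext (mM g g')
  have act : ∀ g : N, ∀ v ∈ V, (b.repr (p (g.1 * v * g.1⁻¹)) : Vn) = (σ (π g)).1 *ᵥ b.repr (p v) := fun g v hv =>
    (congrArg (fun w => (b.repr w : Vn)) (m.act g v hv)).trans (LinearMap.toMatrix_mulVec_repr b b _ _).symm
  have k2 : ∀ g, σ (π g) = 1 → g.1 ∈ Q := fun g e => s.mem h g.2 ⟨s.n0 g.2, fun v hv =>
    (m.eq (conj_mem_of_norm (s.nV g.2) hv) hv).1 (b.repr.injective (DFunLike.coe_injective (by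
      have := act g v hv
      rwa [e, Matrix.SpecialLinearGroup.coe_one, Matrix.one_mulVec] at this)))⟩
  refine ⟨σ.comp π, fun g => b.repr (p g), (Finite.injective_iff_surjective.1 ((injective_iff_map_eq_one σ).2 fun x e => ?_)).comp hs,
    fun g => ⟨k2 g, fun q => by rw [MonoidHom.comp_apply, (k g).2 q, map_one]⟩, s.ab, s.nV,
    fun v hv w hw => by rw [m.add v hv w hw, map_add]; rfl, fun v hv => ?_, fun w => ?_, act⟩
  · obtain ⟨g, rfl⟩ := hs x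
    exact (k g).2 (k2 g e)
  · rw [← mem_bot, ← m.zero v hv, Finsupp.coe_eq_zero, map_eq_zero_iff _ b.repr.injective]
  · obtain ⟨v, hv, e⟩ := m.sur (b.equivFun.symm w)
    exact ⟨v, hv, by rw [e]; exact b.equivFun.apply_symm_apply w⟩

namespace Mz
variable (m : Mz N Q V π p)
include m

theorem J (c : L3) : Mz N Q V ((MulAut.conj c).toMonoidHom.comp π) fun g => c.1 *ᵥ p g where
  sur := (MulAut.conj c).surjective.comp m.sur
  ker g := (MulAut.conj c).map_eq_one_iff.trans (m.ker g)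
  ab := m.ab
  nV := m.nV
  add v hv w hw := by rw [m.add v hv w hw, Matrix.mulVec_add]
  zero v hv := by
    refine ⟨fun e => (m.zero v hv).1 ?_, fun e => by rw [(m.zero v hv).2 e, Matrix.mulVec_zero]⟩
    rw [← Matrix.one_mulVec (p v), ← Matrix.SpecialLinearGroup.coe_one, ← inv_mul_cancel c, Matrix.SpecialLinearGroup.coe_mul,
      ← Matrix.mulVec_mulVec, e, Matrix.mulVec_zero]
  ps w := let ⟨v, hv, e⟩ := m.ps ((c⁻¹).1 *ᵥ w); ⟨v, hv, by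
    rw [e, Matrix.mulVec_mulVec, ← Matrix.SpecialLinearGroup.coe_mul, mul_inv_cancel, Matrix.SpecialLinearGroup.coe_one,
      Matrix.one_mulVec]⟩
  act g v hv := by
    rw [m.act g v hv, Matrix.mulVec_mulVec, Matrix.mulVec_mulVec, ← Matrix.SpecialLinearGroup.coe_mul,
      ← Matrix.SpecialLinearGroup.coe_mul]
    simp

theorem sq (hv : v ∈ V) : v * v = 1 := (_root_.sq v).symm.trans (m.ab.2 v hv)
theorem inv (hv : v ∈ V) : v⁻¹ = v := inv_eq_of_mul_eq_one_right (m.sq hv)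
theorem inj (hv : v ∈ V) (hw : w ∈ V) (e : p v = p w) : v = w :=
  mul_right_cancel (((m.zero _ (mul_mem hv hw)).1 (by rw [m.add v hv w hw, e, two])).trans (m.sq hw).symm)
theorem cV (g : N) (hv : v ∈ V) : g.1 * v * g.1⁻¹ ∈ V := conj_mem_of_norm (m.nV g.2) hv
theorem fix (g : N) (hv : v ∈ V) : g.1 ∈ C[v] ↔ (π g).1 *ᵥ p v = p v := by
  rw [← m.act g v hv, mem_cent1, ← mul_inv_eq_iff_eq_mul]
  exact ⟨congrArg p, m.inj (m.cV g hv) hv⟩
theorem mv (hv : v ∈ V) (hw : w ∈ V) {g : L3} (e : g.1 *ᵥ p v = p w) : ∃ n : N, π n = g ∧ n.1 * v * n.1⁻¹ = w :=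
  let ⟨n, q⟩ := m.sur g; ⟨n, q, m.inj (m.cV n hv) hw ((m.act n v hv).trans (q ▸ e))⟩
theorem std (hv : v ∈ V) (n : v ≠ 1) : ∃ π p, Mz N Q V π p ∧ p v = e0 :=
  let ⟨c, e⟩ := trn (p v) e0 (mt (m.zero v hv).1 n) (by decide); ⟨_, _, m.J c, e⟩
theorem zp (hv : v ∈ V) (e : p v = e0) (hx : x ∈ V) : x ∈ zpowers v ↔ p x = 0 ∨ p x = e0 :=
  ⟨fun q => (mem_zpowers_of_sq (m.sq hv) q).imp (m.zero x hx).2 fun (q : x = v) => q ▸ e,
    fun q => q.elim (fun q => (m.zero x hx).1 q ▸ one_mem _) fun q => m.inj hx hv (q.trans e.symm) ▸ mem_zpowers _⟩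
theorem rp (hv : v ∈ V) (e : p v = e0) (g : N) : Rp (π g) ↔ ∀ w ∈ V, g.1 * w * g.1⁻¹ * w⁻¹ ∈ zpowers v := by
  have k : ∀ w ∈ V, g.1 * w * g.1⁻¹ * w⁻¹ ∈ zpowers v ↔ (π g).1 *ᵥ p w + p w = 0 ∨ (π g).1 *ᵥ p w + p w = e0 := fun w hw => by
    rw [m.zp hv e (mul_mem (m.cV g hw) (inv_mem hw)), m.inv hw, m.add _ (m.cV g hw) _ hw, m.act g w hw]
  exact ⟨fun q w hw => (k w hw).2 (q _), fun q w => let ⟨x, hx, a⟩ := m.ps w; a ▸ (k x hx).1 (q x hx)⟩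

/-- the point stabilizer -/
theorem pt (el : EL.{u}) (h : Fr N Q T) (o : One N Q) (lt : V < Q) (hv : v ∈ V) (e : p v = e0) :
    Pt N Q V (N ⊓ C[v]) (pr π R0) v := by
  have mP : ∀ g : N, g.1 ∈ N ⊓ C[v] ↔ Pp (π g) := fun g => (and_iff_right g.2).trans ((m.fix g hv).trans (by rw [e]))
  have RN : pr π R0 ≤ N := map_subtype_le _
  have eP : N ⊓ C[v] = pr π P0 := le_antisymm (fun g hg => (mem_pr (g := ⟨g, hg.1⟩)).2 ((mP ⟨g, hg.1⟩).1 hg))
    (by rintro _ ⟨g, hg, rfl⟩; exact (mP g).2 hg)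
  have cR := card_pr m.sur m.ker h R0
  have cP := card_pr m.sur m.ker h P0
  rw [card_R0] at cR
  rw [card_P0, ← eP] at cP
  have i7 : (N ⊓ C[v]).relIndex N = 7 := by
    have := card_mul_relIndex (inf_le_left : N ⊓ C[v] ≤ N)
    rw [cP, H14.MS.cN h ⟨π, m.sur, m.ker⟩] at this
    nlinarith [card_pos Q]
  have QR : Q ≤ pr π R0 := fun g hg => (mem_pr (g := ⟨g, h.QN hg⟩)).2 ((m.ker ⟨g, h.QN hg⟩).2 hg ▸ one_mem _)
  have nR : pr π R0 ⊴ N ⊓ C[v] := ⟨by rintro _ ⟨g, hg, rfl⟩; exact (mP g).2 (rp_pp _ hg), fun g hg => mem_norm_of_cj_le fun x hx => by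
    obtain ⟨_, ⟨y, hy, rfl⟩, rfl⟩ := mem_cj'.1 hx
    refine (mem_pr (π := π) (Y := R0) (g := ⟨g, hg.1⟩ * y * ⟨g, hg.1⟩⁻¹)).2 ?_
    rw [map_mul, map_mul, map_inv]; exact rp_J _ hy _ ((mP ⟨g, hg.1⟩).1 hg)⟩
  have le : ∀ E, E ⊴ N ⊓ C[v] → H19.PG 2 E → E ≤ pr π R0 := fun E n q x hx => by_contra fun c => by
    have xP := n.le hx
    obtain ⟨g, g1, g2, g3⟩ := rp_3 _ ((mP ⟨x, xP.1⟩).1 xP) fun k => c ((mem_pr (g := ⟨x, xP.1⟩)).2 k)
    obtain ⟨g, rfl⟩ := m.sur g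
    rw [← map_inv, ← map_mul, ← map_mul, ← map_mul] at g2 g3
    have d := (orderOf_map_dvd π _).trans (dvd_of_eq (orderOf_coe (⟨x, xP.1⟩ * (g * ⟨x, xP.1⟩ * g⁻¹) : N)).symm)
    rw [orderOf_eq_prime g3 g2] at d
    exact absurd (q.elt (mul_mem hx (n.conj_mem ((mP g).2 g1) hx)) 3 Nat.prime_three d) (by decide)
  have irr : ∀ E, E ⊴ N ⊓ C[v] → H19.PG 2 E → E ≤ Q ∨ E ⊔ Q = pr π R0 := fun E n q => or_iff_not_imp_left.2 fun c => by
    obtain ⟨x, hx, c⟩ := SetLike.not_le_iff_exists.1 c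
    refine le_antisymm (sup_le (le E n q) QR) ?_
    rintro _ ⟨r, hr, rfl⟩
    have xN := (n.le hx).1
    rcases rp_tr _ ((mem_pr (g := ⟨x, xN⟩)).1 (le E n q hx)) (mt (m.ker _).1 c) _ hr with k | ⟨g, g1, k⟩
    · exact mem_sup_right ((m.ker r).1 k)
    obtain ⟨g, rfl⟩ := m.sur g
    have := mul_mem_sup (n.conj_mem ((mP g).2 g1) hx) ((m.ker ((g * ⟨x, xN⟩ * g⁻¹)⁻¹ * r)).1 (by
      rw [map_mul, map_inv, map_mul, map_mul, map_inv, k, inv_mul_cancel]))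
    simpa [mul_assoc] using this
  have tr : ∀ a ∈ V, ∀ b ∈ V, a ∉ zpowers v → b ∉ zpowers v → ∃ g ∈ N ⊓ C[v], g * a * g⁻¹ = b := fun a ha b hb a0 b0 => by
    obtain ⟨g, g1, g2⟩ := pp_tr _ _ (mt (m.zp hv e ha).2 a0) (mt (m.zp hv e hb).2 b0)
    obtain ⟨n, rfl, q⟩ := m.mv ha hb g2
    exact ⟨n, (mP n).2 g1, q⟩
  refine ⟨rfl, le_antisymm (le_Oc nR (show PiN _ _ from cR ▸ (PiN.prime_pow Nat.prime_two 2).mul h.pg))
    (le _ (Oc_normal _ _) (Oc_pi _ _)), QR, cR, by omega,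
    commg_of_Cm' (by rintro _ ⟨g, hg, rfl⟩; exact ⟨cent1_le_norm_zpowers v ((mP g).2 (rp_pp _ hg)).2, (m.rp hv e g).1 hg⟩),
    fun g hg k => (mem_pr (g := ⟨g, hg.1⟩)).2 ((m.rp hv e ⟨g, hg.1⟩).2 k.2),
    fun X a b => eq_of_prime_index a b (i7 ▸ Nat.prime_seven), irr, fun X a b => ?_, tr, fun E n c s => ?_⟩
  · by_cases q : X ≤ zpowers v
    · by_cases k : v ∈ X
      · exact .inr (.inl (le_antisymm q (zpowers_le.2 k)))
      · exact .inl (eq_bot_iff.2 fun x hx => (mem_zpowers_of_sq (m.sq hv) (q hx)).resolve_right fun c => k (c ▸ hx))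
    obtain ⟨x, hx, q⟩ := SetLike.not_le_iff_exists.1 q
    have k : ∀ y ∈ V, y ∉ zpowers v → y ∈ X := fun y hy c =>
      let ⟨g, g1, g2⟩ := tr x (a hx) y hy q c; g2 ▸ conj_mem_of_norm (b g1) hx
    refine .inr (.inr (le_antisymm a fun y hy => by_contra fun c => c ?_))
    exact (mul_mem_cancel_left hx).1 (k _ (mul_mem (a hx) hy) fun d => q ((mul_mem_cancel_right (not_not.1 (mt (k y hy) c))).1 d))
  · have q : H19.PG 2 E := PiN.of_elt fun x hx => (PiN.prime_pow Nat.prime_two 2).dvd (orderOf_dvd_of_pow_eq_one (by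
      rw [show x ^ 2 ^ 2 = x * x * (x * x) by norm_num [pow_succ, mul_assoc], m.sq (s x hx)]))
    refine by_contra fun d => ?_
    obtain ⟨S, hS, l⟩ := q.exists_syl n.le
    obtain ⟨x, hx, k⟩ := SetLike.not_le_iff_exists.1 d
    exact el (n := 0) (h.syl' (syl_mk (hS.le.trans inf_le_left) hS.pi (by
      rw [← relIndex_mul_relIndex _ _ _ hS.le inf_le_left, i7]
      exact fun k => ((Nat.prime_two.dvd_mul).1 k).elim (hS.not_dvd Nat.prime_two) (by decide)))) (.inl ⟨π, m.sur, m.ker⟩) o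
      ⟨lt.le.trans h.QN, m.nV⟩ lt (n.of_le l hS.le) c s (((irr E n q).resolve_left d).symm ▸ cR) (n.le hx).1 k (s x hx)
end Mz

theorem bd_l7 (mb1 : MB1.{u}) (h : Fr N Q T) (s : Sec N Q ⊥ V) (c : #V = 8) : L7 N Q := by
  have lt : ¬ T ≤ Q := fun k => by
    have h1 := h.syl.quo (K := Q) h.nq.norm
    rw [quo_eq_bot k] at h1
    exact h.ns (sol_of_quo h.nq.norm (sol_mono h.pg.sol inf_le_left) (H20.sol_of_odd (og_iff.1 h1.pi'_of_eq_bot)))
  obtain ⟨z, hz, o⟩ := exists_orderOf_eq_prime Nat.prime_two ((h.syl.pi.quo Q).dvd_of_ne_bot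
    (mt (quo_eq_bot_iff (h.TN.trans h.nq.norm)).1 lt))
  obtain ⟨a, ha, rfl⟩ := hz
  have aN : a.1 ∈ N := h.TN ha
  have a2 : a.1 * a.1 ∈ Q := (QuotientGroup.eq_one_iff (a * a)).1 ((_root_.sq _).symm.trans (o ▸ pow_orderOf_eq_one _))
  refine (mb1 h s aN (fun k => ?_) ?_).1
  · rw [show qmk Q a = 1 from (QuotientGroup.eq_one_iff a).2 k] at o; simp at o
  have c3 := s.ea.card_br (s.nV aN) (s.n0 aN)
  have le := card_le (s.ea.br_le_cm (s.nV aN) (s.n0 aN) (s.cq a2))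
  rw [c, card_bot] at c3
  rw [Eb, c]
  by_contra! k
  have : #(V ⊓ Cm ⊥ (zpowers a.1)) ≤ 3 := by omega
  generalize #(V ⊓ Cm ⊥ (zpowers a.1)) = i at *
  generalize #(cm V a.1 ⊔ ⊥) = j at *
  have : j ≤ 3 := by omega
  interval_cases i <;> omega

theorem bk (ty : Ty.{u}) (mb1 : MB1.{u}) (el : EL.{u}) : BK.{u} := fun {G} _ _ {N Q T V} h => by
  have f := h.toFr
  have l := bd_l7 mb1 f h.sec h.c8
  obtain ⟨π, p, m⟩ := exMz f l h.sec h.c8
  have VQ : V ≤ Q := (cents_symm h.sec.cq').trans h.chr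
  have V0 : V ≠ ⊥ := fun e => by have := h.c8; rw [e, card_bot] at this; omega
  have nV := h.nrm V V0 ⟨VQ.trans f.QN, m.nV⟩
  have cV : C(V) = Q := le_antisymm ((le_inf (nV ▸ cent_le_norm V) le_rfl).trans (h.sec.ker' f)) h.sec.cq'
  have lt : V < Q := VQ.lt_of_ne fun e => by
    obtain ⟨S, hS, k⟩ := (f.pg.of_le VQ).exists_syl le_top
    exact h.hy.r5 S V hS k m.ab h.c8 (inf_le_right.trans (cV.trans e.symm).le)
  refine ⟨l, m.ab, lt, cV, nV, ?_, fun a ha b hb a1 b1 => ?_, fun B b1 b2 => commutator_le.2 fun v hv a ha => mem_cent.2 fun b hb => ?_,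
    fun v hv n => let ⟨_, _, m, e⟩ := m.std hv n; ⟨_, _, m.pt el f (ty f).1 lt hv e⟩⟩
  · obtain ⟨v, hv, n⟩ := exists_ne_one ((f.pg.of_le VQ).meet_cent f.syl.pi (f.TN.trans m.nV) V0)
    obtain ⟨π, p, m, e⟩ := m.std hv.1 n
    have k := m.pt el f (ty f).1 lt hv.1 e
    have RT : pr π R0 ≤ T := k.eR ▸ Oc_le_hall (f.syl.of_le (le_inf f.TN (le_cent1_iff.2 hv.2)) inf_le_left)
    rw [show V ⊓ C(T) = zpowers v from le_antisymm (fun a ha => by_contra fun c => ?_) (zpowers_le.2 hv), Nat.card_zpowers,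
      orderOf_eq_prime (m.ab.2 v hv.1) n]
    obtain ⟨r, r1, r2⟩ := rp_mv _ (mt (m.zp hv.1 e ha.1).2 c)
    obtain ⟨r, rfl⟩ := m.sur r
    exact r2 ((m.fix r ha.1).1 (le_cent1_iff.2 ha.2 (RT (mem_pr.2 r1))))
  · obtain ⟨g, e⟩ := trn _ _ (mt (m.zero a ha).1 a1) (mt (m.zero b hb).1 b1)
    obtain ⟨n, -, q⟩ := m.mv ha hb e
    exact ⟨n, n.2, q⟩
  · have s : ∀ c (hc : c ∈ B), π ⟨c, b1 hc⟩ * π ⟨c, b1 hc⟩ = 1 := fun c hc => by
      rw [← map_mul, ← map_one π]; exact congrArg π (Subtype.ext ((_root_.sq c).symm.trans (b2.2 c hc)))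
    have c := m.cV ⟨a, b1 ha⟩ hv
    rw [show ⁅v, a⁆ = v * (a * v * a⁻¹) by rw [commutatorElement_def, m.inv hv]; group]
    refine mem_cent1.1 ((m.fix ⟨b, b1 hb⟩ (mul_mem hv c)).2 ?_)
    rw [m.add _ hv _ c, m.act _ v hv]
    exact quad _ (s a ha) _ (s b hb) (by
      rw [← map_mul, ← map_mul]; exact congrArg π (Subtype.ext (mul_comm_of_comm b2.1 ha hb))) _

end H8.MS
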