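import Cfsg.Agent.H1.MS2
import Cfsg.Agent.H14.MS1
import Cfsg.Agent.H17.MS1

/-! S5899, part 3: the chunks `CA`, `CB`. -/

set_option autoImplicit false

namespace H8.MS
open Cfsg Subgroup H18 H17.GS H28.S H2.GW H27.MS H12.MS
open H19 hiding eq_bot_mono
open H28.NG hiding Hyp Uniq Ch

universe u

theorem sylP {G : Type u} [Group G] [Finite G] {N Q T V P R : Subgroup G} {p : G} (h : Fr N Q T) (l : L7 N Q)
    (t : Pt N Q V P R p) : ∃ T', Fr N Q T' ∧ T' ≤ P ∧ #P = 3 * #T' := by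
  obtain ⟨S, hS⟩ := exists_syl 2 P
  have PN : P ≤ N := t.eP ▸ inf_le_left
  have i7 : P.relIndex N = 7 := by
    have := card_mul_relIndex PN
    rw [t.cP, t.cR, H14.MS.cN h l] at this
    nlinarith [card_pos Q]
  have f := h.syl' (hS.of_idx PN (i7 ▸ PiN.of_not_dvd (by decide)))
  exact ⟨S, f, hS.le, by rw [t.cP, t.cR, (H17.MS.l7 f l).1]; omega⟩

theorem ca (la : H1.MS.LA.{u}) (g2 : G2.{u}) (bk : BK.{u}) : H1.MS.CA.{u} := fun {G} _ _ {N Q T V p g i n} h pV p1 a iD ii => by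
  obtain ⟨l, -, -, cV, -, -, -, -, pt⟩ := bk h
  obtain ⟨P, R, t⟩ := pt p pV p1
  obtain ⟨S, f, SP, c⟩ := sylP h.toFr l t
  have DP : H26.MS.Dp p ≤ P := t.eP ▸ (g2 h pV p1).1.trans (Oc_le _ _)
  refine le_cent1_iff.1 (Kc_le_of_cj fun x hx => cj_le_iff.2 (by_contra fun k => ?_))
  refine la (i := x⁻¹ * i * x⁻¹⁻¹) f l SP (t.eP ▸ inf_le_left) c ⟨DP, (t.eP ▸ inf_le_right : P ≤ C[p]).trans (Oc_norm _ _)⟩
    (Oc_pi _ _) (fun q => a.nD (a.AQ.trans q)) ((Oc_normal _ _).conj_mem (inv_mem hx) iD)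
    (fun q => k (cj_cent1 x⁻¹ i ▸ le_cent1_iff.2 (cV.ge q))) (by rw [conj_mul, ii, mul_one, mul_inv_cancel])

theorem cb (la : H1.MS.LA.{u}) (lc : LC.{u}) (nf : NF.{u}) (nr : NR.{u}) (g2 : G2.{u}) (bk : BK.{u}) : H1.MS.CB.{u} :=
  fun {G} _ _ {N Q T V A p} h pV p1 cD hA AQ nD k => by_contra fun ns => by
  obtain ⟨l, aV, -, cV, -, -, -, -, pt⟩ := bk h
  obtain ⟨P, R, t⟩ := pt p pV p1
  obtain ⟨S, f, SP, c⟩ := sylP h.toFr l t
  obtain ⟨-, -, -, aU⟩ := g2 h pV p1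
  have PC : P ≤ C[p] := t.eP ▸ inf_le_right
  have QP : Q ≤ P := t.QR.trans (t.eR ▸ Oc_le _ _)
  have zU : zpowers p ≤ H26.MS.Up V p := zpowers_le.2 (le_Kc pV)
  have nZ := cent1_le_norm_zpowers p
  have L := (lc h.hy (zpowers_ne_bot.2 p1) ((ab_pg aV).of_le (zpowers_le.2 pV)) nZ ns
    ((nr (T := S) ⟨{ h.toLc with toFr := f }, h.sec, h.c8⟩).1.of_le (SP.trans PC) le_top)).1
  have e := ea_of aU zU
  have l' := nf L.toFr L.q0 ⟨e, Kc_norm, nZ, le_Cm' ((Oc_le _ _).trans nZ) cD, fun q => by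
      have := card_le (fun g hg => t.ker g hg (Cm_anti le_Kc (q (PC hg))) : P ≤ R)
      have := t.cP
      have := card_pos R
      omega⟩ hA (AQ.trans (QP.trans PC)) nD
    (k.trans (Nat.mul_le_mul_left _ (card_le (le_inf inf_le_left (Cm_of_cent (inf_le_left.trans e.norm) inf_le_right)))))
  obtain ⟨a, ha, n⟩ := SetLike.not_le_iff_exists.1 nD
  have c1 := (H17.MS.l7 f l).1
  have c2 := (H17.MS.l7 L.toFr l').1
  exact la L.toFr l' SP PC c ⟨QP, (t.eP ▸ inf_le_left : P ≤ N).trans f.nq.norm⟩ f.pg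
    (fun q => nD (AQ.trans (eq_of_le_of_card_eq q (by omega)).ge)) (AQ ha) n ((sq a).symm.trans (hA.2 a ha))

end H8.MS
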