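import Cfsg.Agent.H1.Wielandt
import Cfsg.Agent.H1.PSolv

/-! Trivial intersection Sylow subgroups. -/

set_option autoImplicit false
open Cfsg Subgroup
open scoped Pointwise

namespace H8

variable {G : Type*} [Group G] {p : ℕ}

/-- element form of the trivial intersection property -/
def TIe (P : Subgroup G) : Prop :=
  ∀ x ∈ P, x ≠ 1 → ∀ g : G, g * x * g⁻¹ ∈ P → g ∈ normalizer (P : Set G)

theorem tie_iff {P : Subgroup G} : TIe P ↔
    ∀ g : G, g ∉ normalizer (P : Set G) → P ⊓ (MulAut.conj g • P) = ⊥ := by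
  constructor
  · intro h g hg
    rw [eq_bot_iff]
    rintro y ⟨hy1, hy2⟩
    by_contra hne
    have hy2' : g⁻¹ * y * g ∈ P := H1.mem_conj_smul_iff.1 hy2
    refine hg (h _ hy2' ?_ g (by simpa [mul_assoc] using hy1))
    intro h1
    apply hne
    have : y = g * (g⁻¹ * y * g) * g⁻¹ := by group
    rw [mem_bot, this, h1]; group
  · intro h x hx hx1 g hg
    by_contra hn
    have h2 : g * x * g⁻¹ ∈ P ⊓ (MulAut.conj g • P) := ⟨hg, H1.conj_mem_conj_smul hx⟩
    rw [h g hn, mem_bot] at h2
    apply hx1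
    have : x = g⁻¹ * (g * x * g⁻¹) * g := by group
    rw [this, h2]; group

theorem TIe.conj {P : Subgroup G} (h : TIe P) (a : G) : TIe (MulAut.conj a • P) := by
  intro x hx hx1 g hg
  rw [H1.mem_conj_smul_iff] at hx hg
  rw [← H1.conj_smul_normalizer, H1.mem_conj_smul_iff]
  refine h _ hx ?_ _ ?_
  · intro h1
    apply hx1
    have : x = a * (a⁻¹ * x * a) * a⁻¹ := by group
    rw [this, h1]; group
  · convert hg using 1; group

theorem TIe.sylow [Finite G] [Fact p.Prime] {P : Sylow p G} (h : TIe (P : Subgroup G))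
    (Q : Sylow p G) : TIe (Q : Subgroup G) := by
  obtain ⟨g, rfl⟩ := MulAction.exists_smul_eq G P Q
  rw [Sylow.coe_subgroup_smul]
  exact h.conj g

/-- A `p`-element normalizing a Sylow subgroup lies in it. -/
theorem le_sylow_of_le_normalizer [Finite G] [Fact p.Prime] (P : Sylow p G) {X : Subgroup G}
    (hX : IsPGroup p X) (h : X ≤ normalizer ((P : Subgroup G) : Set G)) : X ≤ P := by
  have h1 : IsPGroup p (X ⊔ (P : Subgroup G) : Subgroup G) := hX.to_sup_of_normal_right' P.2 h
  have := P.3 h1 le_sup_right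
  rw [← this]; exact le_sup_left

theorem exists_order_p [Finite G] [Fact p.Prime] (hO' : pPrimeCore p G = ⊥) {A : Subgroup G}
    (hA : A.IsSubnormal) (hA1 : A ≠ ⊥) : ∃ a ∈ A, orderOf a = p := by
  have hd : p ∣ Nat.card A := by
    by_contra hn
    apply hA1
    rw [eq_bot_iff, ← hO']
    exact H1.le_pPrimeCore_of_subnormal hA
      ((Nat.Prime.coprime_iff_not_dvd Fact.out).2 hn).symm
  obtain ⟨a, ha⟩ := exists_prime_orderOf_dvd_card' p hd
  exact ⟨a, a.2, by rw [← ha]; exact (orderOf_coe a)⟩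

theorem isPGroup_zpowers_of_order [Fact p.Prime] {a : G} (h : orderOf a = p) :
    IsPGroup p (zpowers a) :=
  IsPGroup.of_card (n := 1) (by rw [Nat.card_zpowers, h, pow_one])

theorem TIe.not_commute [Finite G] [Fact p.Prime] {P : Sylow p G} (h : TIe (P : Subgroup G))
    (hO : pCore p G = ⊥) (hO' : pPrimeCore p G = ⊥) {A B : Subgroup G}
    (hA : A.IsSubnormal) (hA1 : A ≠ ⊥) (hB : B.IsSubnormal) (hB1 : B ≠ ⊥)
    (hc : B ≤ centralizer (A : Set G)) : False := by
  obtain ⟨a, haA, ha⟩ := exists_order_p hO' hA hA1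
  obtain ⟨b, hbB, hb⟩ := exists_order_p hO' hB hB1
  obtain ⟨Q, hQ⟩ := (isPGroup_zpowers_of_order ha).exists_le_sylow
  have haQ : a ∈ (Q : Subgroup G) := hQ (mem_zpowers a)
  have ha1 : a ≠ 1 := by
    rintro rfl; rw [orderOf_one] at ha; exact (Fact.out : p.Prime).one_lt.ne ha
  have hBN : B ≤ normalizer ((Q : Subgroup G) : Set G) := by
    intro g hg
    refine h.sylow Q a haQ ha1 g ?_
    have := mem_centralizer_iff.1 (hc hg) a haA
    rw [← this]; simpa using haQ
  have hsub : (B ⊓ (Q : Subgroup G)).IsSubnormal :=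
    H1.isSubnormal_of_le_normalizer inf_le_left
      (H1.le_normalizer_inf le_normalizer hBN) hB
  have hle := H1.le_pCore_of_subnormal hsub (Q.2.to_le inf_le_right)
  have hbQ : b ∈ (Q : Subgroup G) :=
    le_sylow_of_le_normalizer Q (isPGroup_zpowers_of_order hb)
      ((zpowers_le.2 hbB).trans hBN) (mem_zpowers b)
  have := hle ⟨hbB, hbQ⟩
  rw [hO, mem_bot] at this
  rw [this, orderOf_one] at hb
  exact (Fact.out : p.Prime).one_lt.ne hb

theorem TIe.subgroup [Finite G] [Fact p.Prime] {P : Sylow p G} (h : TIe (P : Subgroup G))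
    (N : Subgroup G) (Q : Sylow p N) : TIe (Q : Subgroup N) := by
  obtain ⟨R, hR⟩ := Q.exists_comap_subtype_eq
  intro x hx hx1 g hg
  rw [← hR] at hx hg ⊢
  have h1 := h.sylow R x hx (by simpa using hx1) g hg
  refine H1.mem_normalizer_of_conj_mem fun y hy => ?_
  exact H1.conj_mem_of_mem_normalizer (H := (R : Subgroup G)) h1 hy

theorem TIe.structure [Finite G] [Fact p.Prime] {P : Sylow p G} (h : TIe (P : Subgroup G))
    (hO : pCore p G = ⊥) (hO' : pPrimeCore p G = ⊥) [Nontrivial G] :
    ∃ N : Subgroup G, N.Normal ∧ N ≠ ⊥ ∧ (∀ K : Subgroup G, K.Normal → K ≠ ⊥ → N ≤ K) ∧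
      IsSimpleGroup N ∧ ¬ IsMulCommutative N ∧ centralizer (N : Set G) = ⊥ := by
  obtain ⟨N, hN, hN1, hmin⟩ := H1.exists_minimal_normal (G := G)
  have hC : centralizer (N : Set G) = ⊥ := by
    by_contra hne
    exact h.not_commute hO hO' hN.isSubnormal hN1
      (inferInstance : (centralizer (N : Set G)).Normal).isSubnormal hne le_rfl
  refine ⟨N, hN, hN1, fun K hK hK1 => ?_, ?_, fun hc => ?_, hC⟩
  · rcases hmin (K ⊓ N) inferInstance inf_le_right with h1 | h1
    · exfalso
      refine h.not_commute hO hO' hN.isSubnormal hN1 hK.isSubnormal hK1 ?_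
      exact H1.le_centralizer_of_commutator_eq_bot
        (H1.commutator_eq_bot_of_inf_eq_bot le_normalizer_of_normal le_normalizer_of_normal h1)
    · rw [← h1]; exact inf_le_left
  · haveI : Nontrivial N := (nontrivial_iff_ne_bot N).2 hN1
    refine ⟨fun L hL => ?_⟩
    by_contra hcon
    push Not at hcon
    obtain ⟨M, hML, hM⟩ := H1.exists_minNormalIn_le (N := L.map N.subtype) (X := N)
      (map_subtype_le L) (H1.le_normalizer_map_subtype L)
      (fun h1 => hcon.1 (H1.map_subtype_eq_bot_iff.1 h1))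
    have hMs : M.IsSubnormal := H1.isSubnormal_of_le_normalizer hM.1 hM.2.1 hN.isSubnormal
    have hMn : M.Normal := by
      refine H1.normal_of_top_le_normalizer fun g _ => ?_
      rw [H1.mem_normalizer_iff_conj_smul_eq]
      have hg := hM.conj g
      have hgN : MulAut.conj g • N = N :=
        H1.conj_smul_eq_of_mem_normalizer (le_normalizer_of_normal (mem_top g))
      rw [hgN] at hg
      have hgs : (MulAut.conj g • M).IsSubnormal :=
        H1.isSubnormal_of_le_normalizer hg.1 hg.2.1 hN.isSubnormal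
      rcases hM.2.2.2 (MulAut.conj g • M ⊓ M) (H1.le_normalizer_inf hg.2.1 hM.2.1)
        inf_le_right with h1 | h1
      · exfalso
        refine h.not_commute hO hO' hMs hM.2.2.1 hgs hg.2.2.1 ?_
        exact H1.le_centralizer_of_commutator_eq_bot
          (H1.commutator_eq_bot_of_inf_eq_bot (hg.1.trans hM.2.1) (hM.1.trans hg.2.1) h1)
      · symm
        refine eq_of_le_of_card_ge (h1.ge.trans inf_le_left) ?_
        rw [H1.card_conj_smul]
    rcases hmin M hMn hM.1 with h1 | h1
    · exact hM.2.2.1 h1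
    · apply hcon.2
      rw [← H1.map_subtype_eq_self_iff]
      exact le_antisymm (map_subtype_le L) (h1 ▸ hML)
  · apply hN1
    rw [eq_bot_iff, ← hC]
    intro x hx
    rw [mem_centralizer_iff]
    exact fun y hy => H1.isMulCommutative_iff.1 hc y hy x hx

end H8
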