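import Cfsg.Agent.H8.LF2
import Cfsg.Agent.H8.LieSm
import Cfsg.Agent.H19.Amb1
import Cfsg.Agent.S1074

/-!
S5161: the Tits group.
-/

set_option linter.unusedSectionVars false

namespace H8

open Cfsg Subgroup H25 H25.FS H27.FK
open scoped commutatorElement

namespace SB

variable {G : Type*} [Group G] {κ : Type*} [Finite G] {T K : Subgroup G} {c : ℕ}

theorem not_le_V' {p : ℕ} [Fact p.Prime] {S : SB p G κ} (hc : S.Conn) (hR : S.Rad) (hT : SCl S.U T) (h0 : T ≠ ⊥) (j : κ) :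
    ¬ T ≤ S.V j := fun hj => by
  obtain ⟨i, hi⟩ := exists_s_not_mem (B_nz_T hT) fun e => h0 (eq_bot_iff.2 fun x hx =>
    S.opp x (hT.1 hx) (hT.1 (conj_mem_of_mem_nz' (e.ge (mem_top _)) hx)))
  obtain ⟨i, j, a1, a2, a3⟩ := edge hc hR (I := fun i => ¬ T ≤ S.V i) (fun i j a c e => a (V_eq e ▸ not_not.1 c)) (i := i)
    (fun a => hi (Cin.mem_normalizer fun x hx => by simpa using hT.2 x hx (S.s i)⁻¹ (by simpa using (mem_V.1 (a hx)).2)))
    (not_not.2 hj)
  have c : Cin (S.V i ⊓ S.V j) (S.V i ⊓ S.V j) (S.s i) := fun y hy => s_conj_mem hT a1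
    (fun b hb => mem_nz_inf (B_nz_V hb) (B_nz_V hb)) (inf_le_inf_left _ (not_not.1 a2)) hy hy.1
  obtain ⟨y, hy, hne⟩ := S.exists_ne_one j
  exact hne (eq_one_of_XV hy (by simpa [mul_assoc] using (c.inv _ (a3 y hy)).2))

variable {S : SB 2 G κ}

theorem Sm.le_scl (h : S.Sm (commutator G) c) (hT : SCl S.U T) (h0 : T ≠ ⊥) {t : G} (ht : t ∈ S.U) (ht' : t ∉ commutator G) :
    S.U ⊓ commutator G ≤ T := by
  have nT := U_le_B.trans (B_nz_T hT)
  have a1 : S.U ⊓ commutator G ≤ T ⊔ ⁅S.U, S.U⁆ := by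
    have := (sat_ofSub S.pU (syl_sylow S.syl)).foc_le_of_sc (scl_of hT (not_le_V' h.conn h.rad hT h0) (fun b hb =>
      mem_nz_sup (B_nz_T hT hb) (nz_le_nz_commutator B_nz_U B_nz_U hb)) le_sup_left
      (sup_le hT.1 (commutator_le_self' _))).sc le_sup_right fun a ha => ⟨A_le_nz _ _ ha, fun x hx => mem_sup_right (by
        simpa [commutatorElement_def, mul_assoc] using commutator_mem_commutator (inv_mem hx)
          (h.B_eq.le (normalizer_U.le (A_le_nz _ _ ha))))⟩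
    rwa [foc_ofSub S.pU (syl_sylow S.syl)] at this
  have a2 : T ⊔ zpowers t = S.U := eq_of_sup_commutator S.pU (sup_le hT.1 (zpowers_le.2 ht)) fun x hx => by
    have l := a1.trans (sup_le_sup_right (le_sup_left : T ≤ T ⊔ zpowers t) _)
    by_cases e : x ∈ commutator G
    · exact l ⟨hx, e⟩
    · simpa using mul_mem (l (mem_inf.2 ⟨mul_mem hx (inv_mem ht), h.mul_mem_K e (mt inv_mem_iff.1 ht')⟩))
        (mem_sup_left (mem_sup_right (mem_zpowers t)))
  have a3 : S.U ≤ FS.stab S.U T := a2.ge.trans (sup_le (fun a ha => ⟨le_nz_self _ (hT.1 ha), fun x hx => by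
    simpa [mul_assoc] using mul_mem (conj_mem_of_mem_nz' (nT hx) ha) (inv_mem ha)⟩) (zpowers_le.2 ⟨le_nz_self _ ht,
      fun x hx => by
        obtain ⟨a, ha, _, ⟨i, rfl⟩, rfl⟩ := (mem_sup_of_le_nz_left ((zpowers_le.2 ht).trans nT)).1 (a2.ge hx)
        convert conj_mem_of_mem_nz' (nT (zpow_mem ht i)) (mul_mem (inv_mem ha) (conj_mem_of_mem_nz (nT ht) ha)) using 1
        group⟩))
  refine a1.trans (sup_le le_rfl (commutator_le.2 fun x hx y hy => ?_))
  simpa [commutatorElement_def, mul_assoc] using (a3 hy).2 _ (inv_mem hx)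

theorem Sm.sf (h : S.Sm (commutator G) c) (hU : ∀ n, Nat.card S.U ≠ n * n * 2) : SF (commutator G) := fun P => by
  have nK : ∀ g, g ∈ nz (commutator G) := fun g => (normalizer_eq_top_iff.2 inferInstance).ge (mem_top g)
  obtain ⟨R, hR⟩ := (syl_iff_exists_sylow (S.pU.to_inf_left) inf_le_right).1
    (top_inf_eq (commutator G) ▸ (syl_sylow S.syl).inf_normal fun g _ => nK g)
  have m : ∀ x : commutator G, x ∈ R.1 ↔ x.1 ∈ S.U := fun x => by rw [hR]; exact and_iff_left x.2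
  obtain ⟨a, -, h1, -⟩ := h.exists_ab
  obtain ⟨t, ht, ht'⟩ := SetLike.not_le_iff_exists.1 h1
  replace ht := S.X_le a ht
  have cR : Nat.card R * 2 = Nat.card S.U := by
    have := card_inf_mul_relIndex S.U (commutator G)
    rwa [((Nat.dvd_prime Nat.prime_two).1 ((relIndex_dvd_index_of_normal _ _).trans h.idx.dvd)).resolve_left
      fun e => ht' (relIndex_eq_one.1 e ht), ← Nat.card_congr (subgroupOfEquivOfLe inf_le_right).toEquiv, ← hR] at this
  let α : MulAut (commutator G) := MulAut.conjNormal t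
  have key : ∀ W, SCl R.1 W → W ≠ ⊥ → (∀ x ∈ W, α x ∈ W) → R.1 ≤ W := fun W hW h0 hα x hx => by
    obtain ⟨y, hy, e⟩ := h.le_scl (T := W.map (commutator G).subtype) ⟨by
      rintro _ ⟨x, hx, rfl⟩; exact (m x).1 (hW.1 hx), by
      rintro _ ⟨x, hx, rfl⟩ g hg
      by_cases e : g ∈ commutator G
      · exact ⟨_, hW.2 x hx ⟨g, e⟩ ((m _).2 hg), rfl⟩
      · exact ⟨_, hW.2 _ (hα x hx) ⟨_, h.mul_mem_K e (mt inv_mem_iff.1 ht')⟩ ((m _).2 (by
          simpa [α, mul_assoc] using hg)), by simp [α, mul_assoc]⟩⟩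
      (mt (map_eq_bot_iff_of_injective _ (subtype_injective _)).1 h0) ht ht' ⟨(m x).1 hx, x.2⟩
    exact Subtype.ext e ▸ hy
  refine isSimple_group' R P (fun e => h.W_ne a (eq_bot_iff.2 fun x hx =>
    congrArg Subtype.val (mem_bot.1 (e.le ((m ⟨x, hx.2⟩).2 (V_le hx.1)))))) (fun T hT h0 => ?_) fun g hg o => ?_
  · have s2 : SCl R.1 (T.map α.toMonoidHom) := ⟨by
      rintro _ ⟨x, hx, rfl⟩
      exact (m _).2 (mul_mem (mul_mem ht ((m x).1 (hT.1 hx))) (inv_mem ht)), by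
      rintro _ ⟨x, hx, rfl⟩ g hg
      exact ⟨_, hT.2 x hx (α⁻¹ g) ((m _).2 (by
        simpa [α, mul_assoc] using mul_mem (mul_mem (inv_mem ht) ((m _).1 hg)) ht)), by simp⟩⟩
    have s3 : ∀ x ∈ T, α (α x) ∈ T := fun x hx => by
      have := hT.2 x hx ⟨_, h.mul_mem_K ht' ht'⟩ ((m _).2 (mul_mem (mul_mem (mul_mem ht ht) ((m x).1 (hT.1 hx)))
        (inv_mem (mul_mem ht ht))))
      convert this using 1
      ext; simp [α, mul_assoc]
    by_cases e : T ⊓ T.map α.toMonoidHom = ⊥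
    · have s4 := SCl.of_sc ((sat_ofSub R.isPGroup' (syl_sylow R)).sc_sup hT.sc s2.sc)
      have := key _ s4 (fun e => h0 (le_bot_iff.1 (le_sup_left.trans e.le))) fun x hx =>
        (sup_le (fun x hx => mem_sup_right ⟨x, hx, rfl⟩) (by rintro _ ⟨x, hx, rfl⟩; exact mem_sup_left (s3 x hx)) :
          T ⊔ T.map α.toMonoidHom ≤ (T ⊔ T.map α.toMonoidHom).comap α.toMonoidHom) hx
      refine (hU (Nat.card T) ?_).elim
      rw [← cR, le_antisymm this s4.1, H19.card_sup_of_disjoint (s2.1.trans hT.sc.S_le_nz) e, card_map_of_injective (f := α.toMonoidHom) α.injective]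
    · refine (key _ (.of_sc (hT.sc.inf s2.sc)) e ?_).trans inf_le_left
      rintro _ ⟨hx, x, hx', rfl⟩
      exact ⟨s3 x hx', _, hx, rfl⟩
  · have n : g.1 ∈ nz (S.U ⊓ commutator G) := mem_nz_of_conj_mem fun x hx =>
      have a := conj_mem_of_mem_nz hg ((m ⟨x, hx.2⟩).2 hx.1); ⟨(m _).1 a, Subtype.property (g * ⟨x, hx.2⟩ * g⁻¹)⟩
    have nB : S.B ≤ nz (S.U ⊓ commutator G) := fun b hb =>
      mem_nz_inf (B_nz_U hb) (nK b)
    have := h.B_eq.le (le_of_s nB le_rfl (fun i hi => (h.V_not_le i fun v hv => by_contra fun e => ?_).elim) n)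
    · obtain ⟨r, hr⟩ := S.pU ⟨_, this⟩
      have hr' : g.1 ^ 2 ^ r = 1 := congrArg Subtype.val hr
      rw [mem_bot.1 (PEl.mem_of_coprime (C := ⊥) (a := g) ⟨r, Subtype.ext hr'⟩ o)]
      exact one_mem _
    · have l : S.U ⊓ commutator G ≤ S.V i := fun x hx => mem_V.2 ⟨hx.1, (conj_mem_of_mem_nz' hi hx).1⟩
      obtain ⟨y, hy, hne⟩ := S.exists_ne_one i
      refine hne (eq_one_of_XV hy (by_contra fun e' => e' ?_))
      simpa using mul_mem (l (mem_inf.2 ⟨mul_mem (S.X_le i hy) (inv_mem (V_le hv)), h.mul_mem_K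
        (fun k => e' (l ⟨S.X_le i hy, k⟩)) (mt inv_mem_iff.1 e)⟩)) hv

end SB

theorem fk_rf : RF := ⟨fk_rf1, (sm2F4 Agent.S1074.result.1).sf fun n e => by
  rw [card_sb2F4_U] at e
  rcases le_or_gt n 45 with a | a <;> nlinarith⟩

end H8
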