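import Cfsg.Agent.H8.E8F

/-! The two classes of elements of order seven of `E₈(3)`. -/

set_option autoImplicit false
set_option linter.unusedSectionVars false
set_option maxRecDepth 100000

open Cfsg H5 H7 H8 H21 H14 H14.RootSys H14.PreSt H14.St H23.Sec Cfsg.Lie Matrix Module H0.BC

namespace H8.E8

local notation "K" => Kb 3
local notation "κ" => Fin chevE8.rank
local notation "ι" => Fin chevE8.nroots

/-- the twisting word of the second class -/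
def W2 : List κ := [6, 5, 4, 3, 2, 1, 3, 4, 5, 6, 0, 2, 3, 4, 5, 1, 3, 4, 2, 3, 0, 2, 1, 3, 4, 5, 6, 7]

/-- its matrix -/
def M2 : Matrix κ κ ℤ := lmat _ [[0, 0, 0, 0, 0, 1, 0, 0], [0, 1, 0, 0, 0, 0, 0, 0],
  [0, 0, 0, 0, 1, 0, 0, 0], [0, 0, 0, 1, 0, 0, 0, 0], [0, 0, 1, 0, 0, 0, 0, 0],
  [1, 0, 0, 0, 0, 0, 0, 0], [0, 1, 1, 2, 2, 2, 2, 1], [-2, -3, -4, -6, -5, -4, -3, -1]]

/-- the cells of the second class -/
def v2 (j : Fin 6) : List κ := [3] ++ [2, 3, 4, 3, 2] ++ [0, 2, 3, 4, 5, 4, 3, 2, 0] ++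
  [1, 3, 2, 0, 4, 3, 1, 2, 3, 4, 5, 4, 3, 2, 1, 3, 4, 0, 2, 3, 1] ++
  List.getD [[], [1], [3], [1, 3], [3, 1], [1, 3, 1]] j []

/-- the torus of the second class -/
def μ2 (p : Fin 8 × Fin 8 × Fin 2 × Fin 2) : κ → ℤ := H14.vec 0 [91 * p.1, 364 * p.2.2.1, 91 * p.2.1,
  364 * p.2.2.2, 273 * p.2.1, 273 * p.1]

theorem c21 : R8.cm (R8.wprod W2) = M2 := by simp only [RootSys.cm, wprod_apply]; decide +kernel

theorem c22 : Chk W2 M2 63 v2 μ2 36 fun j => List.getD [36, 35, 35, 34, 34, 33] j 0 :=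
  ⟨by decide +kernel, by decide +kernel, by decide +kernel, by decide +kernel, by decide +kernel⟩

theorem c23 : Chk W2 M2 0 (fun _ : Unit => []) (fun _ : Unit => 0) 0 fun _ => 0 :=
  ⟨by decide +kernel, by decide +kernel, by decide +kernel, by decide +kernel, by decide +kernel⟩

theorem c24 : Chk2 ν2 M2 63 0 v2 (fun _ : Unit => []) ⟨142, by decide⟩ :=
  ⟨by decide +kernel, by decide +kernel, by decide +kernel, by decide +kernel, fun _ _ _ => rfl,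
    by decide +kernel⟩

theorem c25 (F : (goodE8.SG K).Fr) (hq : ∀ r, F.p ^ F.e r = 3) (hρ : F.ρ = R8.wprod W2) (j : Fin 6) :
    Rp F {r | R8.InJ (msk _ 63) r} (R8.wprod (v2 j)) := by
  have r1 := rp_word hq hρ (m := 63) [] 1 (by decide +kernel)
  have r3 := rp_word hq hρ (m := 63) [] 3 (by decide +kernel)
  refine (((r3.app (rp_word hq hρ [2, 3] 4 (by decide +kernel))).app
    (rp_word hq hρ [0, 2, 3, 4] 5 (by decide +kernel))).app
    (rp_word hq hρ [1, 3, 2, 0, 4, 3, 1, 2, 3, 4] 5 (by decide +kernel))).app ?_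
  fin_cases j
  exacts [Rp.one _, r1, r3, r1.app r3, r3.app r1, r1.app (r3.app r1)]

theorem c26 (s) (t : Unit) (n : Fin 7) (s') (t' : Unit) (n' : Fin 7)
    (e : ∀ i, (728 : ℤ) ∣ μ2 s' i + (0 : κ → ℤ) i + n' * (104 * ν2 i) -
      (μ2 s i + (0 : κ → ℤ) i + n * (104 * ν2 i))) : s = s' ∧ t = t' ∧ n = n' := by
  obtain ⟨s1, s2, s3, s4⟩ := s
  obtain ⟨t1, t2, t3, t4⟩ := s'
  have a0 : (728 : ℤ) ∣ 91 * t1 + 0 + n' * (104 * 6) - (91 * s1 + 0 + n * (104 * 6)) := e 0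
  have a1 : (728 : ℤ) ∣ 364 * t3 + 0 + n' * (104 * 9) - (364 * s3 + 0 + n * (104 * 9)) := e 1
  have a2 : (728 : ℤ) ∣ 91 * t2 + 0 + n' * (104 * 12) - (91 * s2 + 0 + n * (104 * 12)) := e 2
  have a3 : (728 : ℤ) ∣ 364 * t4 + 0 + n' * (104 * 18) - (364 * s4 + 0 + n * (104 * 18)) := e 3
  have a7 : (728 : ℤ) ∣ 0 + 0 + n' * (104 * 5) - (0 + 0 + n * (104 * 5)) := e 7
  obtain rfl : n = n' := Fin.ext (by omega)
  simp only [Prod.mk.injEq, Fin.ext_iff, and_true]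
  omega

theorem key2 {x : E83} {z : Kˣ} (hz : orderOf z = 728) {a : chevE8.group K}
    (hx : up x = a * tz z ((104 : ℤ) • ν2) * a⁻¹) {v : I → ZMod 3} (hv : x ∈ fixV v) :
    14 < Nat.card ↥(Subgroup.centralizer {x} ⊓ fixV v) :=
  main hz hx hv c21 (d := 6) (d' := 0) (k := 3 ^ 42) (k' := 1) c22 c23
    (fun F hq hρ => ⟨c25 F hq hρ, fun _ => Rp.one _⟩) c24 (by decide +kernel) (by decide +kernel)
    (by norm_num) (by norm_num) c26 (by decide +kernel)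

/-- the twisting word of the first class -/
def W1 : List κ := [5, 4, 3, 2, 1, 3, 4, 5, 6, 7, 5, 4, 3, 2, 1, 3, 4, 5, 6, 5, 4, 3, 2, 1, 3, 4, 5, 0,
  2, 3, 4, 1, 3, 2, 0]

/-- its matrix -/
def M1 : Matrix κ κ ℤ := lmat _ [[-1, -3, -3, -5, -4, -3, -2, -1], [0, 0, 0, 0, 1, 0, 0, 0],
  [0, 1, 0, 0, 0, 0, 0, 0], [0, 0, 0, 1, 0, 0, 0, 0], [0, 0, 1, 0, 0, 0, 0, 0],
  [1, 1, 1, 2, 2, 2, 1, 0], [0, 0, 0, 0, 0, 0, 0, 1], [0, 0, 0, 0, 0, 0, 1, 0]]

/-- the cells of the first class -/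
def v1 (j : Fin 2) : List κ := [3, 1, 2, 3, 4, 3, 2, 1, 3] ++ [1, 4, 2] ++ List.getD [[], [3]] j []

/-- the first torus of the first class -/
def μ1 (s : Fin 8) : κ → ℤ := H14.vec 0 [0, 0, 0, 0, 0, 0, 91 * s, 273 * s]

/-- the second torus of the first class -/
def μ1' (p : Fin 26 × Fin 2) : κ → ℤ := H14.vec 0 [0, 28 * p.1, 252 * p.1, 364 * p.2, 84 * p.1]

theorem c11 : R8.cm (R8.wprod W1) = M1 := by simp only [RootSys.cm, wprod_apply]; decide +kernel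

theorem c12 : Chk W1 M1 192 (fun _ : Unit => [6, 7, 6]) μ1 3 fun _ => 3 :=
  ⟨by decide +kernel, by decide +kernel, by decide +kernel, by decide +kernel, by decide +kernel⟩

theorem c13 : Chk W1 M1 30 v1 μ1' 12 fun j => List.getD [12, 11] j 0 :=
  ⟨by decide +kernel, by decide +kernel, by decide +kernel, by decide +kernel, by decide +kernel⟩

theorem c14 : Chk2 ν1 M1 192 30 (fun _ : Unit => [6, 7, 6]) v1 ⟨130, by decide⟩ :=
  ⟨by decide +kernel, by decide +kernel, by decide +kernel, by decide +kernel, by decide +kernel,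
    by decide +kernel⟩

theorem c15 (F : (goodE8.SG K).Fr) (hq : ∀ r, F.p ^ F.e r = 3) (hρ : F.ρ = R8.wprod W1) (j : Fin 2) :
    Rp F {r | R8.InJ (msk _ 30) r} (R8.wprod (v1 j)) := by
  have r0 := rp_three hq hd8 (A := {r | R8.InJ (msk _ 30) r}) (fun _ h => R8.inJ_neg.2 h)
    (r := R8.simple 1) (s := R8.simple 4) (u := R8.simple 2)
    (by rw [hρ, wprod_apply]; decide +kernel) (by rw [hρ, wprod_apply]; decide +kernel)
    (by rw [hρ, wprod_apply]; decide +kernel) (R8.inJ_simple.2 (by decide))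
    (R8.inJ_simple.2 (by decide)) (R8.inJ_simple.2 (by decide)) (by decide +kernel)
    (by decide +kernel)
  refine ((rp_word hq hρ [3, 1, 2, 3] 4 (by decide +kernel)).app (L' := [1, 4, 2])
    (by simpa [mul_assoc] using r0)).app ?_
  fin_cases j
  exacts [Rp.one _, rp_word hq hρ [] 3 (by decide +kernel)]

theorem c16 (s) (t) (n : Fin 7) (s') (t') (n' : Fin 7)
    (e : ∀ i, (728 : ℤ) ∣ μ1 s' i + μ1' t' i + n' * (104 * ν1 i) -
      (μ1 s i + μ1' t i + n * (104 * ν1 i))) : s = s' ∧ t = t' ∧ n = n' := by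
  obtain ⟨s1, s2⟩ := t
  obtain ⟨t1, t2⟩ := t'
  have a0 : (728 : ℤ) ∣ 0 + 0 + n' * (104 * 10) - (0 + 0 + n * (104 * 10)) := e 0
  have a1 : (728 : ℤ) ∣ 0 + 28 * t1 + n' * (104 * 14) - (0 + 28 * s1 + n * (104 * 14)) := e 1
  have a3 : (728 : ℤ) ∣ 0 + 364 * t2 + n' * (104 * 28) - (0 + 364 * s2 + n * (104 * 28)) := e 3
  have a6 : (728 : ℤ) ∣ 91 * s' + 0 + n' * (104 * 12) - (91 * s + 0 + n * (104 * 12)) := e 6
  obtain rfl : n = n' := Fin.ext (by omega)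
  simp only [Prod.mk.injEq, Fin.ext_iff, and_true]
  omega

theorem key1 {x : E83} {z : Kˣ} (hz : orderOf z = 728) {a : chevE8.group K}
    (hx : up x = a * tz z ((104 : ℤ) • ν1) * a⁻¹) {v : I → ZMod 3} (hv : x ∈ fixV v) :
    42 < Nat.card ↥(Subgroup.centralizer {x} ⊓ fixV v) :=
  main hz hx hv c11 (d := 2) (d' := 4) (k := 3 ^ 5) (k' := 3 ^ 16) c12 c13
    (fun F hq hρ => ⟨fun _ => rp_word hq hρ [6] 7 (by decide +kernel), c15 F hq hρ⟩) c14
    (by decide +kernel) (by decide +kernel) (by norm_num) (by norm_num) c16 (by decide +kernel)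

variable {M : Ideal AlgInt} {δ : K →+* kk M} {β : E83 → ℂ}

/-- the key estimate -/
theorem key7 (h : IsBC (ρ3 δ) β) (hM : IsPModular 3 M) {x : E83} (hx : x ^ 7 = 1) (h1 : x ≠ 1) :
    (β x = 3 ∧ ∀ v, x ∈ fixV v → 42 < Nat.card ↥(Subgroup.centralizer {x} ⊓ fixV v)) ∨
    (β x = 52 ∧ ∀ v, x ∈ fixV v → 14 < Nat.card ↥(Subgroup.centralizer {x} ⊓ fixV v)) := by
  obtain ⟨z, hz, a, e | e⟩ := type7 h hM hx h1
  exacts [Or.inl ⟨e.2, fun _ => key1 hz e.1⟩, Or.inr ⟨e.2, fun _ => key2 hz e.1⟩]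

end H8.E8
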