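import Cfsg.Agent.H8.FA1
import Cfsg.Agent.H21.JFb

/-! The faithful case of S3319: facts on the ten-dimensional modules. -/

set_option autoImplicit false
set_option linter.unusedSectionVars false
set_option linter.unusedVariables false
set_option maxRecDepth 100000
set_option synthInstance.maxSize 2000

namespace H8.FA
open Cfsg Subgroup H19 H15 H10.RF
open H20.J4 (GPm AA)
open H21.JF (InA)
open H9.FA (mkS FM MF MFs M2 ubS dcS ubT dcT)
universe u

/-- the class of an index -/
def t2 (ty i : ℕ) : ℕ := getT ty 2 3 i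
theorem t2_lt (ty i : ℕ) : t2 ty i < 4 := Nat.lt_succ_of_le Nat.and_le_right
/-- the size of a union of classes -/
noncomputable def cn (ty t : ℕ) : ℕ := cntTo2 (fun i => tb t (t2 ty i)) 32 32
/-- the number of decompositions -/
noncomputable def rr (ty t x : ℕ) : ℕ := cntTo2 (fun z => force z fun z => band (tb t (t2 ty z)) (tb t (t2 ty (Nat.xor x z)))) 32 32
/-- three elements of `M22:2` -/
def ga : ℕ := 0xb9e0e22566b2254134a11c6ac9a9e0
def gb : ℕ := 0x4a898d8e85542d9b8662bc8283177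
def gc : ℕ := 0xbc866259a8854478bdca9d0ac4ac20
/-- orbits on the indices -/
noncomputable def ochk (ub dc ty dp R : ℕ) : Bool := force (mt ub dc ga) fun M1 => force (mt ub dc gb) fun M2 =>
  force (mt ub dc gc) fun M3 => allTo2 (fun i => force i fun i => bor (Nat.beq i (cl11 R (t2 ty i))) (anyL (fun M => force (mv M i) fun j =>
    band (band (Nat.blt j 1024) (Nat.beq (t2 ty j) (t2 ty i))) (Nat.blt (getT dp 4 15 j) (getT dp 4 15 i))) [M1, M2, M3])) 32 32
/-- vectors fixed modulo `j0` -/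
noncomputable def fchk (ub dc j0 u0 L : ℕ) : Bool := force (mt ub dc (getP L 0)) fun M => force (mt ub dc (getP L 1)) fun M' =>
  allTo2 (fun y => force y fun y => bimp (memL (Nat.xor y (mv M (mv M y))) [0, j0]) (bimp (memL (Nat.xor y (mv M' (mv M' y))) [0, j0])
    (bor (memL y [0, j0]) (memL (Nat.xor y u0) [0, j0])))) 32 32

/-- the checks on a module -/
structure DM (ub dc j0 u0 ty dp R H A T1 T2 Q1 Q2 L P Q B : ℕ) : Prop where
  r : j0 < 1024 ∧ j0 ≠ 0 ∧ u0 < 1024 ∧ cl11 R 0 = 0 ∧ cl11 R 1 = j0 ∧ ∀ c < 4, cl11 R c < 1024 ∧ t2 ty (cl11 R c) = c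
  o : ochk ub dc ty dp R = true
  c : ∀ t < 16, t.testBit 0 = true → ¬ 31 ∣ cn ty t ∧ (cn ty t ∣ 1024 → cn ty t = 1 ∨ cn ty t = 1024)
  d : ∀ t < 16, t.testBit 0 = false → t.testBit 1 = true → (∀ c < 4, t.testBit c = true → rr ty t (cl11 R c) = rr ty t j0) →
    cn ty t = 1023 ∨ ∀ c < 4, ∀ c' < 4, t.testBit c = t.testBit c' → rr ty t (cl11 R c) = rr ty t (cl11 R c') → c = c'
  h : ∀ j < 10, InA (getP H j) ∧ mv (mt ub dc (getP H j)) j0 = j0 ∧
    mv (mt ub dc (getP H j)) (mv (mt ub dc (getP H j)) u0) = cl11 T1 j ∧ cl11 T1 j < 1024 ∧ cl11 A j < 1024 ∧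
    mv (mt ub dc (getP H j)) (mv (mt ub dc (getP H j)) (cl11 A j)) ^^^ cl11 A j = cl11 T2 j
  q : ∀ j < 10, lin (cl11 T1) 10 (cl11 Q1 j) = 2 ^ j ∧ lin (cl11 T2) 10 (cl11 Q2 j) = 2 ^ j
  l : ∀ j < 2, InA (getP L j) ∧ mv (mt ub dc (getP L j)) j0 = j0 ∧ mv (mt ub dc (getP L j)) (mv (mt ub dc (getP L j)) u0) = u0
  f : fchk ub dc j0 u0 L = true
  ch : chk (t2 ty) P Q B 10 = true
  b : ∏ m ∈ Finset.range 10, cl11 B m = 887040

def tyS : ℕ := 0xfeeffffbfbbfefffef9ebfefffeffefbbffffebffffefbeffbeffffeeffbbffffffbebb6efff9eebfbeffffbbffeeffffbeffffbfebfefffb6fbebfffbffffbebfffeffefffefbbfffebfbffbeffffefffebfbffebffb6fbfeffefbfffbffbfefeeffffbbffbefffbffffebf6bbfbffeef9ebfefffeffbfefbeffffebffefee9fbffefbfb6fbfbfeffebfeffebffffbfffbebf6bebffffbfeffffbbf9eefeffebffefffbfbefeffffeffbfefffbffbfeeffffebffffbbffefbbffffeeffefee9effb9eeffbefeffffbb6effbfffbbffefeffefbfffbffbfebffbfffeeffefee9ffbfebfffeffffbeeffbfffebffefee9fbeffffebffefee9fffebee9fee9e994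
def dpS : ℕ := 0x4244737675638855882476674456768776364355356645587663846486667556547366765773566666175777544866446766256545747764765565555565676767676366645637245376776522766444575675566765665648735563367654575755337567765758675641876477356656562755756675546567525778755586465751677564687554558774745733767665754635425487565566568458647657666165757867657616576467113636747547667557547228762765784477724763837576533556437885467678756528657578566467662637654766747454857733657577746487467556485547667656568655757775565685837474444263466457456546664836664576757644866786575785535765437856657768667676566646772227754676565776687666677768665767664376656665276674647564667646875766457366547578587455576757666677774658734866668665744765474538666366835747553575666846748467465473876573856566536576575754656566774672766755666776666633476647545676764664666553564557675646665776746856775776536655876774557885564746765557654156674457864777656554456786734865757677675778667468357757647563647666567376777575676667767573554346764753226576547373546303630300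
def HS : ℕ := 0x51f52c18351a626ba563a22b49037bb045ac22e45a92491e334d4d59c20bbcb53312d24228129cba58733c8200546294e25791b64514e81ccb62437b9ec4620505ba4a34e8dabca988c200560b935e6892746594e1a4a241c37bbd5043a6c492c28c8e569975a0c20b95139412e3d0646d4d65b15178820045d44c0ed19a4552c8cb22af14c3702a069216f65453b448e38db42a437
def tyT : ℕ := 0x577ff7df57df7ff7d57f7f7f7feffbfe5f777dffff7bffeeffff7ebef6fffffa57f7df7ffdfefefe7ffbfeef7ffeeffb6ffffffaffff7eebffdeffeefaeebeaa7d5f77ff7effffebfff6fffaffffdeeedffefeef7ffebffe7feffefbefbaeaeaffff7beeff6ffffa7effffbebefaeeaaf7fbfefefeaeeabafeeaabeafbeaeaae777d5fffffff6ffadeffffeeff7effbef7fefbfedfeffefe7ffbeffefeeaeaabff7effeb7bffffeefffff6faeebefaaa7ffefebffebaaeeafbaeeaeaefeabaea7fbffefef7fefefb7ffefbeffbeaaeeaffffff6aebeefaaaeefabeaafabeeeaadffeeffefeeabaaeefeaeabafeabeaeafaebeeaaeefaebaabeeefaaaaaaaaaa8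
def dpT : ℕ := 0x4442276556574557425664674745174372553667366836684552547876466466547716375884456665765856357557746687686547657656563357685677674644336747748556577654386346656474367464565785456746663775566676354685866755466457775656563776545857666534646656666424823657535546445315565637787615555775774856576572573656555564746475556277861552767656775566655487754565621655465734777665675766676762664645426758467636475675674255577684684636755655746366565356567564744566753566534655576367552655764564256356344675647644544636655556666426463574444455875744764755656555822367476475665766463555644667668546526486566376835776837766665545666756766874667475666554546666665825654656865456168756674463356644666766416457634666366835646636676577776567677566364575657455266765675666667746773546575674744477756776734566552755665666765833754664746673666854556546737576766465564534365697767556766776568676564754737576665768565477444560525657756647537755776678554663656735347756565685574367753435536756655767656765467787468545276636318535704555466425455646356500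
def HT : ℕ := 0x2aa111a347bad3914f048dac59117bbe54624f12bad51b6645854682040bbe6b08e30728a445a8931db265440bbd62921302b54c3b833a9ac4a0e20038665c5907d8b23b6a20cd4941297028c9091147d8ac83a2b14da3954f7ba93161962696c443c30ad1c33ca60036093863353ed243862254a6a3177bbd1384987b29c659483a05a91562005875918486bdd1615643c153a0537
theorem dmS : DM ubS dcS 1 2 tyS dpS 0xe00c00800 HS
    0x10020040080100200401001002 0x11d02049e801b30047b400880008 0x11c02249a809b20067b01108100a
    0x200024f85d880345002040021a3 0x931644f05c8332272ce5d8b30c5 0x3cd13b58972290b0ca4ace4a58837b8cf4b4dcd4d510289ec8ac8692820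
    0x800800800201436002001001001 0x1782002002003000808001001001 0x801002008040020060500a816 := by
  constructor <;> decide +kernel
theorem dmT : DM ubT dcT 126 129 tyT dpT 0x2c0043f000 HT
    0x20020020040080100200400801 0x142ae1312c494889374441545a43 0x11ea6330a90c290966d24c924044
    0xdd8b261a995c38c22d6b88c5a54 0x19189e0627e8a02975b67eda69d4 0xbba5362604795b43aaa6106d11ad0003e43826b153ac7a342b24ca2620d7
    0x8000800200c08820144019c187e 0x14d2001b06d4080a020031060080 0x8010040080100200603c0804d := by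
  constructor <;> decide +kernel

variable {G : Type u} [Group G] [Finite G] {V X Y : Subgroup G} {v : ℕ → G} {f : G} {π : G → GPm}
  {ub dc j0 u0 ty dp R H A T1 T2 Q1 Q2 L P Q B g i : ℕ}

theorem span10 (hv : VB V v) {T Q : ℕ} (q : ∀ j < 10, lin (cl11 T) 10 (cl11 Q j) = 2 ^ j) (m : ∀ j < 10, v (cl11 T j) ∈ X) :
    VS v 10 ≤ X := fun x hx => by
  obtain ⟨i, hi, rfl⟩ := hv.exVS hx
  have k := lin_induction (fun s => v s ∈ X) (hv.v0 ▸ one_mem _) fun a b ha hb => hv.vx a b ▸ mul_mem ha hb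
  have := k (fun j => 2 ^ j) 10 (fun j hj => q j hj ▸ k _ _ m _) i
  rwa [lin_two_pow, Nat.mod_eq_of_lt hi] at this

section
variable (h : FM f V π v ub dc 1024)
include h
theorem lift (k : InA g) : ∃ n ∈ C[f], Ac v n (mv (mt ub dc g)) := by
  obtain ⟨n, hn, e⟩ := h.sur _ k.mem
  exact ⟨n, hn, by have := h.ac n hn; rwa [e, show codeOf _ = g from k.cd] at this⟩
theorem lift2 (k : InA g) (e : mv (mt ub dc g) j0 = j0) : ∃ n ∈ C[f], n ∈ C[v j0] ∧
    ∀ i, n * n * v i * (n * n)⁻¹ = v (mv (mt ub dc g) (mv (mt ub dc g) i)) := by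
  obtain ⟨n, hn, a⟩ := lift h k
  exact ⟨n, hn, of_cjc ((a j0).trans (by rw [e])), a.mul a⟩
variable (d : DM ub dc j0 u0 ty dp R H A T1 T2 Q1 Q2 L P Q B)
include d
theorem tr (hi : i < 1024) : ∃ n ∈ C[f], n * v i * n⁻¹ = v (cl11 R (t2 ty i)) := by
  have o := d.o
  simp only [ochk, force_eq, allTo2_iff, bor_iff, band_iff, anyL_iff, Nat.beq_eq, Nat.blt_eq] at o
  induction e : getT dp 4 15 i using Nat.strong_induction_on generalizing i with
  | _ k ih =>
    rcases o i hi with q | ⟨M, hM, ⟨q1, q2⟩, q3⟩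
    · exact ⟨1, one_mem _, by rw [← q]; simp⟩
    · obtain ⟨n, hn, r⟩ := ih _ (q3.trans_eq e) q1 rfl
      obtain ⟨a, ha, ac⟩ : ∃ a ∈ C[f], Ac v a (mv M) := by
        simp only [List.mem_cons, List.not_mem_nil, or_false] at hM
        rcases hM with q | q | q <;> rw [q] <;> exact lift h (by decide +kernel)
      exact ⟨_, mul_mem hn ha, by rw [← cjcj, ac, r, q2]⟩
theorem cls {S : Set G} (l : S ⊆ VS v 10) (n : ∀ c ∈ C[f], ∀ x ∈ S, c * x * c⁻¹ ∈ S) : ∃ t < 16,
    (∀ i < 1024, v i ∈ S ↔ t.testBit (t2 ty i) = true) ∧ S.ncard = cn ty t := by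
  classical
  have k : ∀ i < 1024, v i ∈ S ↔ (Nat.ofBits fun c : Fin 4 => decide (v (cl11 R c) ∈ S)).testBit (t2 ty i) = true :=
    fun i hi => by
      obtain ⟨a, ha, e⟩ := tr h d hi
      rw [Nat.testBit_ofBits_lt _ _ (t2_lt ty i), decide_eq_true_iff, ← e]
      exact ⟨n a ha _, fun q => by simpa [mul_assoc] using n _ (inv_mem ha) _ q⟩
  exact ⟨_, Nat.ofBits_lt_two_pow _, k, ncd' h.toVB (by decide) (fun x hx => h.exVS (l hx)) fun i hi => tb_eq _ _ ▸ k i hi⟩
theorem mfs : MFs f (VS v 10) (v j0) := by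
  have hv := h.toVB
  obtain ⟨r1, r2, r3, r4, r5, r6⟩ := d.r
  have t0 : t2 ty 0 = 0 := by have := (r6 0 (by decide)).2; rwa [r4] at this
  have w1 : v j0 ≠ 1 := fun e => r2 (hv.vi _ (by omega) _ (by decide) (e.trans hv.v0.symm))
  have sq : ∀ i, v i * v i = 1 := fun i => h.el _ (hv.vm i)
  have mz : ∀ i < 2048, v i ∈ zpowers (v j0) ↔ i ∈ [0, j0] := fun i hi => by
    rw [zp2 (sq j0), ← hv.v0, List.mem_pair]
    exact or_congr ⟨hv.vi _ hi _ (by decide), congrArg v⟩ ⟨hv.vi _ hi _ (by omega), congrArg v⟩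
  refine ⟨fun X l n => ?_, hv.mVS r1, w1, fun X k => span10 hv (fun j hj => (d.q j hj).2) fun j hj => ?_,
    fun φ m a e => ?_, fun Y l n c => ?_, fun S l o n => ?_⟩
  · obtain ⟨t, ht, k, c⟩ := cls h d (S := X) l fun c hc x hx => conj_mem_of_norm (n hc) hx
    have c' : #X = cn ty t := c
    have cW : #(VS v 10) = 1024 := hv.cVS (by decide)
    refine ((d.c t ht (t0 ▸ (k 0 (by decide)).1 (hv.v0 ▸ one_mem _))).2 (by rw [← c', ← cW]; exact card_dvd l)).imp
      (fun e => card_eq_one.1 (c'.trans e)) fun e => eq_of_le_of_card_eq l (by rw [c', e, cW])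
  · obtain ⟨q1, q2, -, -, q3, q4⟩ := d.h j hj
    obtain ⟨n, hn, hn', e⟩ := lift2 h q1 q2
    have := k n hn hn' _ (hv.mVS (k := 10) q3)
    rwa [e, inv_eq_of_mul_eq_one_right (sq _), ← hv.vx, q4] at this
  · have el : ∀ u ∈ VS v 10, u * u = 1 := fun u hu => h.el u (hv.VS_le hu)
    have cm : ∀ u ∈ VS v 10, ∀ w ∈ VS v 10, u * w = w * u := fun u hu w hw => csq el hu hw
    have p1 : φ 1 ∈ zpowers (v j0) := by
      have := a 1 (one_mem _) 1 (one_mem _)
      rwa [one_mul, el _ (m 1 (one_mem _)), mul_one] at this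
    obtain ⟨K0, k0⟩ := mkS (fun u => u ∈ VS v 10 ∧ φ u ∈ zpowers (v j0)) ⟨one_mem _, p1⟩ fun x y hx hy =>
      ⟨mul_mem hx.1 hy.1, (Subgroup.mul_mem_cancel_right _ (mul_mem hx.2 hy.2)).1 (a x hx.1 y hy.1)⟩
    obtain ⟨K1, k1⟩ := mkS (fun u => u ∈ VS v 10 ∧ φ u * u ∈ zpowers (v j0)) ⟨one_mem _, by rwa [mul_one]⟩ fun x y hx hy =>
      ⟨mul_mem hx.1 hy.1, by
        have := mul_mem (a x hx.1 y hy.1) (mul_mem hy.2 hx.2)
        rwa [mul_assoc, mul_assoc (φ x), ← mul_assoc (φ y), ← mul_assoc (φ y), el _ (m y hy.1), one_mul, ← mul_assoc y,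
          cm y hy.1 _ (m x hx.1), mul_assoc, ← mul_assoc (φ x), el _ (m x hx.1), one_mul, cm y hy.1 x hx.1] at this⟩
    have u0W : v u0 ∈ VS v 10 := hv.mVS r3
    obtain ⟨y, hy, ey⟩ := hv.exVS (m _ u0W)
    have fx : ∀ j < 2, y ^^^ mv (mt ub dc (getP L j)) (mv (mt ub dc (getP L j)) y) ∈ [0, j0] := fun j hj => by
      obtain ⟨q1, q2, q3⟩ := d.l j hj
      obtain ⟨n, hn, hn', r⟩ := lift2 h q1 q2
      have := e n hn hn' _ u0W
      rw [r, q3, ← ey, r, ← hv.vx] at this
      exact (mz _ (Nat.xor_lt_two_pow (n := 11) (by omega) (mv_lt _ _))).1 this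
    have fc := d.f
    simp only [fchk, force_eq, allTo2_iff, bimp_iff, bor_iff, memL_iff, xor_eq'] at fc
    have z : ∀ n ∈ C[v j0], ∀ x ∈ zpowers (v j0), n * n * x * (n * n)⁻¹ ∈ zpowers (v j0) := fun n hn x hx =>
      conj_mem_of_norm (cent1_le_norm_zpowers _ (mul_mem hn hn)) hx
    refine (fc y hy (fx 0 (by decide)) (fx 1 (by decide))).imp (fun q u hu => ((k0 u).1 (span10 hv (fun j hj => (d.q j hj).1)
      (fun j hj => ?_) hu)).2) fun q u hu => ((k1 u).1 (span10 hv (fun j hj => (d.q j hj).1) (fun j hj => ?_) hu)).2 <;>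
    obtain ⟨q1, q2, q3, q4, -⟩ := d.h j hj <;> obtain ⟨n, hn, hn', r⟩ := lift2 h q1 q2 <;> have k := e n hn hn' _ u0W <;>
    rw [r, q3] at k
    · exact (k0 _).2 ⟨hv.mVS q4, (Subgroup.mul_mem_cancel_right _ (z n hn' _ (ey ▸ (mz y (by omega)).2 q))).1 k⟩
    · refine (k1 _).2 ⟨hv.mVS q4, ?_⟩
      have := mul_mem k (z n hn' _ ((mz _ (Nat.xor_lt_two_pow (n := 11) (by omega) (by omega))).2 q))
      rwa [hv.vx, ey, mul_assoc (φ _), ← cjmul, ← mul_assoc (φ (v u0)), el _ (m _ u0W), one_mul, r, q3] at this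
  · have oW : cl Y (v j0) ⊆ VS v 10 := by rintro _ ⟨y, hy, rfl⟩; exact conj_mem_of_norm (n hy) (hv.mVS r1)
    have oY : ∀ y ∈ Y, ∀ x, y * x * y⁻¹ ∈ cl Y (v j0) ↔ x ∈ cl Y (v j0) := fun y hy x =>
      ⟨fun ⟨a, ha, e⟩ => ⟨_, mul_mem (inv_mem hy) ha, by rw [← cjcj, e]; group⟩,
        fun ⟨a, ha, e⟩ => ⟨_, mul_mem hy ha, by rw [← cjcj, e]⟩⟩
    obtain ⟨t, ht, k, ct⟩ := cls h d oW fun c hc x hx => (oY c (l hc) x).2 hx
    have rv : ∀ i < 1024, {z | z ∈ cl Y (v j0) ∧ v i * z ∈ cl Y (v j0)}.ncard = rr ty t i := fun i hi =>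
      ncd' hv (by decide) (fun x hx => hv.exVS (oW hx.1)) fun j hj => by
        simp only [force_eq, band_iff, tb_eq, xor_eq', Set.mem_setOf_eq]
        rw [← hv.vx, k j hj, k _ (Nat.xor_lt_two_pow (n := 10) hi hj)]
    have ri : ∀ y ∈ Y, ∀ i < 1024, ∀ j < 1024, y * v i * y⁻¹ = v j → rr ty t j = rr ty t i := fun y hy i hi j hj e => by
      rw [← rv i hi, ← rv j hj, eq_comm, ← Set.ncard_image_of_injective _ (MulAut.conj y).injective]
      refine congrArg _ (Set.ext fun z => ⟨?_, fun q => ⟨y⁻¹ * z * y, ⟨(oY y hy _).1 (by simpa [mul_assoc] using q.1),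
        (oY y hy _).1 (by rw [cjmul, e]; simpa [mul_assoc] using q.2)⟩, by simp [mul_assoc]⟩⟩)
      rintro ⟨z, q, rfl⟩
      exact ⟨(oY y hy z).2 q.1, by rw [← e, MulAut.conj_apply, ← cjmul]; exact (oY y hy _).2 q.2⟩
    obtain ⟨θ, la, e⟩ := exLA (Y := Y) hv (by decide : 10 ≤ 11) fun y hy i hi => hv.exVS (conj_mem_of_norm (n hy) (hv.mVS hi))
    have t1 : t.testBit 1 = true := by
      have := (k j0 r1).1 ⟨1, one_mem _, by simp⟩
      rwa [← r5, (r6 1 (by decide)).2] at this
    rcases d.d t ht (Bool.eq_false_iff.2 fun q => by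
      obtain ⟨a, -, e⟩ := (k 0 (by decide)).2 (t0.symm ▸ q)
      exact w1 (conj_eq_one_iff.1 (e.trans hv.v0))) t1 (fun c hc q => by
      obtain ⟨a, ha, e⟩ := (k _ (r6 c hc).1).2 ((r6 c hc).2.symm ▸ q)
      exact ri a ha _ r1 _ (r6 c hc).1 e) with q | q
    · exact absurd (Dvd.dvd.trans (by rw [ct, q]; exact ⟨33 * _, by ring⟩) (cl_card Y (v j0)).dvd) c
    · refine d.b ▸ la.chain (by decide) (fun y hy i hi => ?_) d.ch fun y hy q => mem_cent.2 fun w hw => ?_
      · have lt := la.lt y hy i hi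
        obtain ⟨a, ha, ea⟩ := tr h d hi
        obtain ⟨b, hb, eb⟩ := tr h d lt
        refine q _ (t2_lt _ _) _ (t2_lt _ _) (Bool.eq_iff_iff.2 ?_) ?_
        · rw [← k _ lt, ← k i hi, e y hy i hi, oY y hy]
        · rw [ri a (l ha) i hi _ (r6 _ (t2_lt _ _)).1 ea, ri b (l hb) _ lt _ (r6 _ (t2_lt _ _)).1 eb,
            ri y hy i hi _ lt (e y hy i hi).symm]
      · obtain ⟨i, hi, rfl⟩ := hv.exVS hw
        rw [mul_inv_eq_iff_eq_mul.1 (e y hy i hi).symm, q i hi]
  · obtain ⟨t, ht, k, c⟩ := cls h d l n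
    exact c ▸ (d.c t ht (t0 ▸ (k 0 (by decide)).1 (hv.v0 ▸ o))).1
end

theorem mf : MF.{u} := by
  intro G _ _ f V π v ub dc j0 h m
  rcases m with ⟨rfl, rfl, rfl⟩ | ⟨rfl, rfl, rfl⟩
  exacts [mfs h dmS, mfs h dmT]

end H8.FA
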