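import Cfsg.Agent.H10.Syl
import Cfsg.Agent.H1.Frattini

/-! Nilpotent fixed-point-free complements: every nilpotent supplement is a conjugate. -/

set_option autoImplicit false

namespace H8.FP

open Subgroup H10 Cfsg
open scoped Pointwise

universe u

variable {X : Type u} [Group X]

/-- nilpotent supplement of `N` -/
def NS (N Y : Subgroup X) : Prop := Group.IsNilpotent Y ∧ Y ⊔ N = ⊤

/-- the conjugacy statement for one group -/
def St (X : Type u) [Group X] : Prop :=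
  ∀ N F Y : Subgroup X, N.Normal → NS N F → NS N Y → N ⊓ centralizer (F : Set X) = ⊥ →
    ∃ n ∈ N, Y = MulAut.conj n • F

theorem NS.conj {N Y : Subgroup X} [N.Normal] (h : NS N Y) (g : X) :
    NS N (MulAut.conj g • Y) := by
  refine ⟨by rw [H1.conj_smul_eq_map]; exact H1.isNilpotent_map h.1 _, ?_⟩
  have := congrArg (fun K : Subgroup X => MulAut.conj g • K) h.2
  simp only [smul_sup] at this
  rwa [H1.conj_smul_eq_of_mem_normalizer (H := N) (by rw [normalizer_eq_top]; trivial),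
    H1.conj_smul_eq_of_mem_normalizer (H := ⊤) (by rw [normalizer_eq_top]; trivial)] at this

theorem fpf_conj {N F : Subgroup X} [N.Normal] (h : N ⊓ centralizer (F : Set X) = ⊥) (g : X) :
    N ⊓ centralizer ((MulAut.conj g • F : Subgroup X) : Set X) = ⊥ := by
  have := congrArg (fun K : Subgroup X => MulAut.conj g • K) h
  simp only [smul_inf, smul_bot, H1.conj_smul_centralizer] at this
  rwa [H1.conj_smul_eq_of_mem_normalizer (H := N) (by rw [normalizer_eq_top]; trivial)] at this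

theorem NS.dec {N Y : Subgroup X} [N.Normal] (h : NS N Y) (x : X) :
    ∃ y ∈ Y, ∃ n ∈ N, y * n = x :=
  mem_sup_of_normal_right.1 (h.2 ▸ mem_top x)

variable [Finite X]

theorem inf_bot {N F : Subgroup X} [N.Normal] (hF : Group.IsNilpotent F)
    (h : N ⊓ centralizer (F : Set X) = ⊥) : N ⊓ F = ⊥ := by
  by_contra hne
  refine H1.inf_centralizer_ne_bot_of_isNilpotent hF inf_le_right
    (H1.le_normalizer_inf (by rw [normalizer_eq_top]; exact le_top) le_normalizer) hne ?_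
  exact le_bot_iff.1 (h ▸ inf_le_inf_right _ inf_le_left)

theorem eq_one_of_norm {N F : Subgroup X} [hN : N.Normal] (hF : Group.IsNilpotent F)
    (h : N ⊓ centralizer (F : Set X) = ⊥) {n : X} (hn : n ∈ N)
    (h2 : MulAut.conj n • F = F) : n = 1 := by
  have h3 : n ∈ N ⊓ centralizer (F : Set X) := by
    refine ⟨hn, mem_centralizer_iff.2 fun f hf => ?_⟩
    have h4 : n * f * n⁻¹ * f⁻¹ ∈ N ⊓ F := by
      refine mem_inf.2 ⟨?_, F.mul_mem (h2 ▸ H1.conj_mem_conj_smul hf) (F.inv_mem hf)⟩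
      have := mul_mem hn (hN.conj_mem _ (inv_mem hn) f)
      simpa [mul_assoc] using this
    rw [inf_bot hF h, mem_bot, mul_inv_eq_one, mul_inv_eq_iff_eq_mul] at h4
    exact h4.symm
  rwa [h, mem_bot] at h3

omit [Finite X] in
theorem adj {N F Y L : Subgroup X} [N.Normal] (ih : St L) (hF : NS N F) (hY : NS N Y)
    (h0 : N ⊓ centralizer (F : Set X) = ⊥) (h1 : F ≤ L) (h2 : Y ≤ L) :
    ∃ n ∈ N ⊓ L, Y = MulAut.conj n • F := by
  have ns : ∀ Z : Subgroup X, NS N Z → Z ≤ L → NS (N.subgroupOf L) (Z.subgroupOf L) := by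
    intro Z hZ hL
    haveI := hZ.1
    refine ⟨Group.nilpotent_of_mulEquiv (subgroupOfEquivOfLe hL).symm, eq_top_iff.2 fun x _ => ?_⟩
    obtain ⟨y, hy, n, hn, e⟩ := hZ.dec x
    have hnL : n ∈ L := by
      have := mul_mem (inv_mem (hL hy)) x.2
      rwa [← e, inv_mul_cancel_left] at this
    have : x = (⟨y, hL hy⟩ : L) * ⟨n, hnL⟩ := Subtype.ext e.symm
    rw [this]
    exact mul_mem (mem_sup_left hy) (mem_sup_right hn)
  obtain ⟨n, hn, e⟩ := ih (N.subgroupOf L) (F.subgroupOf L) (Y.subgroupOf L) inferInstance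
    (ns F hF h1) (ns Y hY h2) (by
      rw [H1.centralizer_subgroupOf h1, subgroupOf, subgroupOf, ← comap_inf, h0]
      exact bot_subgroupOf L)
  refine ⟨n, ⟨hn, n.2⟩, ?_⟩
  rw [conj_smul_subgroupOf h1] at e
  have h3 : MulAut.conj (n : X) • F ≤ L := H1.conj_smul_le_of_le_of_mem h1 (le_normalizer n.2)
  rw [← map_subgroupOf_eq_of_le h2, e, map_subgroupOf_eq_of_le h3]

/-- a supplement contains a nilpotent supplement -/
theorem minsup {N F L : Subgroup X} [N.Normal] (hF : NS N F) (hL : L ⊔ N = ⊤) :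
    ∃ Y ≤ L, NS N Y := by
  obtain ⟨Y, h1, h2, h3⟩ := H1.exists_minimal_le (P := fun Y : Subgroup X => Y ⊔ N = ⊤) hL
  have sj : ∀ Z : Subgroup X, Z ⊔ N = ⊤ →
      Function.Surjective ((QuotientGroup.mk' N).comp Z.subtype) := by
    intro Z hZ q
    obtain ⟨x, rfl⟩ := QuotientGroup.mk_surjective q
    obtain ⟨y, hy, n, hn, rfl⟩ := mem_sup_of_normal_right.1 (hZ ▸ mem_top x)
    exact ⟨⟨y, hy⟩, by simp [hn]⟩
  haveI := hF.1
  haveI : Group.IsNilpotent (X ⧸ N) := nilpotent_of_surjective _ (sj F hF.2)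
  refine ⟨Y, h1, ?_, h2⟩
  have := H1.isNilpotent_of_map_of_ker_le_frattini (sj Y h2) (by
    refine le_iInf₂ fun M hM => ?_
    by_contra hne
    have h4 : M ⊔ ((QuotientGroup.mk' N).comp Y.subtype).ker = ⊤ :=
      hM.2 _ (left_lt_sup.2 hne)
    have h5 : M.map Y.subtype ⊔ N = ⊤ := by
      rw [eq_top_iff, ← h2]
      refine sup_le (fun y hy => ?_) le_sup_right
      obtain ⟨m, hm, k, hk, e⟩ := mem_sup_of_normal_right.1 (h4 ▸ mem_top (⟨y, hy⟩ : Y))
      have : y = m * k := (congrArg Subtype.val e).symm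
      rw [this]
      refine mul_mem (mem_sup_left ⟨m, hm, rfl⟩) (mem_sup_right ?_)
      simpa using hk
    exact hM.1 (H1.map_subtype_eq_self_iff.1 (h3 _ h5 (map_subtype_le _)))) ⊤ inferInstance
  exact Group.nilpotent_of_mulEquiv topEquiv

/-- the quotient step -/
theorem quot {N F Y S : Subgroup X} [N.Normal] [S.Normal] (ih : ∀ L : Subgroup X, L ≠ ⊤ → St L)
    (iq : St (X ⧸ S)) (hF : NS N F) (hY : NS N Y) (h0 : N ⊓ centralizer (F : Set X) = ⊥)
    (hN : N ≠ ⊥) (hS : S < N ∨ S ⊓ N = ⊥) : ∃ n ∈ N, Y = MulAut.conj n • F := by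
  have hb := inf_bot hF.1 h0
  have hNS : ¬ N ≤ S := fun h => hS.elim (fun a => a.not_ge h)
    fun a => hN (le_bot_iff.1 (a ▸ le_inf h le_rfl))
  let π := QuotientGroup.mk' S
  have ns : ∀ Z : Subgroup X, NS N Z → NS (N.map π) (Z.map π) := fun Z hZ =>
    ⟨H1.isNilpotent_map hZ.1 _, by
      rw [← Subgroup.map_sup, hZ.2, map_top_of_surjective _ (QuotientGroup.mk'_surjective S)]⟩
  haveI : (N.map π).Normal := Normal.map inferInstance _ (QuotientGroup.mk'_surjective S)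
  have h1 : N.map π ⊓ centralizer ((F.map π : Subgroup _) : Set (X ⧸ S)) = ⊥ := by
    rw [eq_bot_iff]
    rintro _ ⟨⟨n, hn, rfl⟩, hc⟩
    have h2 : ∀ f ∈ F, n * f * n⁻¹ * f⁻¹ ∈ S := fun f hf => by
      have := mem_centralizer_iff.1 hc _ ⟨f, hf, rfl⟩
      rw [← QuotientGroup.eq_one_iff]
      simp only [π, QuotientGroup.mk'_apply] at this
      simp [← this]
    rw [mem_bot]
    refine (QuotientGroup.eq_one_iff n).2 ?_
    rcases hS with hS | hS
    · have h3 : ∀ x ∈ N ⊓ (F ⊔ S), x ∈ S := by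
        intro x hx
        obtain ⟨f, hf, s, hs, rfl⟩ := mem_sup_of_normal_right.1 hx.2
        have : f ∈ N ⊓ F :=
          mem_inf.2 ⟨by simpa using N.mul_mem (mem_inf.1 hx).1 (N.inv_mem (hS.le hs)), hf⟩
        rw [hb, mem_bot] at this
        rwa [this, one_mul]
      obtain ⟨m, hm, e⟩ := adj (ih (F ⊔ S) fun e => hNS fun x hx => h3 x ⟨hx, e ▸ mem_top x⟩)
        hF (hF.conj n) h0 le_sup_left (by
          intro x hx
          have h4 := H1.mem_conj_smul_iff.1 hx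
          have h5 := h2 _ h4
          have : x = (n * (n⁻¹ * x * n) * n⁻¹ * (n⁻¹ * x * n)⁻¹) * (n⁻¹ * x * n) := by group
          rw [this]
          exact mul_mem (mem_sup_right h5) (mem_sup_left h4))
      have h4 := eq_one_of_norm hF.1 h0 (mul_mem (inv_mem hm.1) hn) (by
        rw [← H1.conj_smul_conj_smul, e, H1.conj_inv_smul_conj_smul])
      rw [← inv_mul_eq_one.1 h4]
      exact h3 m hm
    · have : n ∈ N ⊓ centralizer (F : Set X) := by
        refine ⟨hn, mem_centralizer_iff.2 fun f hf => ?_⟩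
        have h4 : n * f * n⁻¹ * f⁻¹ ∈ S ⊓ N := ⟨h2 f hf, by
          have := mul_mem hn (Normal.conj_mem inferInstance _ (inv_mem hn) f)
          simpa [mul_assoc] using this⟩
        rw [hS, mem_bot, mul_inv_eq_one, mul_inv_eq_iff_eq_mul] at h4
        exact h4.symm
      rw [h0, mem_bot] at this
      rw [this]; exact one_mem _
  obtain ⟨_, ⟨n, hn, rfl⟩, e⟩ := iq _ _ _ inferInstance (ns F hF) (ns Y hY) h1
  have e2 : MulAut.conj (π n) • F.map π = (MulAut.conj n • F).map π := by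
    rw [H1.conj_smul_eq_map, H1.conj_smul_eq_map, map_map, map_map]
    congr 1
  have h3 : MulAut.conj n • F ⊔ S ≠ ⊤ := by
    intro e3
    have h4 := inf_bot (ns _ (hF.conj n)).1 (N := N.map π) (by rw [← e2]; exact fpf_conj h1 _)
    have h5 : (MulAut.conj n • F).map π = ⊤ := by
      rw [eq_top_iff, ← map_top_of_surjective _ (QuotientGroup.mk'_surjective S),
        H1.map_mk'_le_map_mk'_iff, e3]
    rw [h5, inf_top_eq, H1.map_mk'_eq_bot_iff] at h4
    exact hNS h4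
  obtain ⟨m, hm, e4⟩ := adj (ih _ h3) (hF.conj n) hY (fpf_conj h0 n) le_sup_left
    (H1.map_mk'_le_map_mk'_iff.1 (e.trans e2).le)
  exact ⟨m * n, mul_mem hm.1 hn, by rw [e4, H1.conj_smul_conj_smul]⟩

/-- the `s`-part of a subgroup -/
def Os (s : ℕ) (F : Subgroup X) : Subgroup X := (pCore s F).map F.subtype

theorem Os_syl (s : ℕ) [Fact s.Prime] {F : Subgroup X} (hF : Group.IsNilpotent F) :
    IsSylowIn s (Os s F) F := by
  refine isSylowIn_of_not_dvd (map_subtype_le _) (H1.pCoreOf_isPGroup F) ?_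
  rw [Os, relIndex, H1.map_subtype_subgroupOf]
  exact H1.isNilpotent_iff_pCore.1 hF s Fact.out

theorem syl_ne_bot {s : ℕ} [Fact s.Prime] {P K : Subgroup X} (h : IsSylowIn s P K)
    (hd : s ∣ Nat.card K) : P ≠ ⊥ := fun e => h.not_dvd_relIndex (by rwa [e, relIndex_bot_left])

theorem dvd_fix {s : ℕ} [Fact s.Prime] {N S : Subgroup X} [N.Normal] (hS : IsPGroup s S)
    (hd : s ∣ Nat.card N) : s ∣ Nat.card (N ⊓ centralizer (S : Set X) : Subgroup X) := by
  obtain ⟨Q, h1, h2⟩ := exists_isSylowIn_ge hS (le_top (a := S))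
  have h3 := h2.inf_of_le_normalizer (N := N) le_top (by rw [normalizer_eq_top])
  obtain ⟨z, hz, o, hc⟩ := exists_mem_center_of_le_normalizer h2.isPGroup h3.isPGroup
    (H1.le_normalizer_inf le_normalizer (by rw [normalizer_eq_top]; exact le_top))
    (syl_ne_bot h3 hd)
  rw [← o]
  exact Subgroup.orderOf_dvd_natCard _
    (show z ∈ N ⊓ centralizer (S : Set X) from
      ⟨hz.2, mem_centralizer_iff.2 fun x hx => hc x (h1 hx)⟩)

section Chain

variable {N F : Subgroup X} [N.Normal] (ih : ∀ L : Subgroup X, L ≠ ⊤ → St L) (hF : NS N F)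
  (h0 : N ⊓ centralizer (F : Set X) = ⊥)

/-- conjugate to `F` under `N` -/
def Gd (N F Z : Subgroup X) : Prop := ∃ n ∈ N, Z = MulAut.conj n • F

include ih hF h0

omit [Finite X] in
theorem gd_adj {Z Z' L : Subgroup X} (h : Gd N F Z) (h' : NS N Z') (h1 : Z ≤ L) (h2 : Z' ≤ L)
    (hL : L ≠ ⊤) : Gd N F Z' := by
  obtain ⟨n, hn, rfl⟩ := h
  obtain ⟨m, hm, e⟩ := adj (ih L hL) (hF.conj n) h' (fpf_conj h0 n) h1 h2
  exact ⟨m * n, mul_mem hm.1 hn, by rw [e, H1.conj_smul_conj_smul]⟩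

theorem step {s : ℕ} [Fact s.Prime] {Z K Q : Subgroup X} (hZ : NS N Z)
    (h1 : Z ≤ normalizer (K : Set X)) (h2 : K ≤ N) (h3 : normalizer (K : Set X) ≠ ⊤)
    (hQ : IsSylowIn s Q K) :
    ∃ Z', NS N Z' ∧ Z' ≤ normalizer (Q : Set X) ∧ (Gd N F Z ↔ Gd N F Z') := by
  obtain ⟨Z', h4, h5⟩ := minsup (L := normalizer (K : Set X) ⊓ normalizer (Q : Set X)) hF (by
    rw [eq_top_iff, ← hZ.2]
    refine sup_le (fun z hz => ?_) le_sup_right
    obtain ⟨n, hn, h⟩ := hQ.frattini (h1 hz)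
    have : z = n⁻¹ * (n * z) := by group
    rw [this]
    exact mul_mem (mem_sup_right (inv_mem (h2 hn)))
      (mem_sup_left ⟨mul_mem (le_normalizer hn) (h1 hz), h⟩))
  exact ⟨Z', h5, h4.trans inf_le_right,
    fun h => gd_adj ih hF h0 h h5 h1 (h4.trans inf_le_left) h3,
    fun h => gd_adj ih hF h0 h hZ (h4.trans inf_le_left) h1 h3⟩

theorem climb (hmin : ∀ S : Subgroup X, S.Normal → S ≠ ⊥ → N ≤ S) {s : ℕ} [Fact s.Prime]
    (hd : s ∣ Nat.card N) (hN : ¬ IsPGroup s N) {Z : Subgroup X} (hZ : NS N Z)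
    (hZd : s ∣ Nat.card Z) :
    ∃ P Z', IsSylowIn s P N ∧ NS N Z' ∧ Z' ≤ normalizer (P : Set X) ∧
      (Gd N F Z ↔ Gd N F Z') := by
  have nn : ∀ K : Subgroup X, K ≠ ⊥ → ¬ N ≤ K → normalizer (K : Set X) ≠ ⊤ :=
    fun K a b e => b (hmin K (normalizer_eq_top_iff.1 e) a)
  have h1 := Os_syl s hZ.1
  have h2 := dvd_fix (N := N) h1.isPGroup hd
  obtain ⟨Q, hQ⟩ := exists_isSylowIn s (N ⊓ centralizer ((Os s Z : Subgroup X) : Set X))
  obtain ⟨Z1, a1, a2, a3⟩ := step ih hF h0 hZ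
    (H1.le_normalizer_inf (by rw [normalizer_eq_top]; exact le_top)
      (H1.le_normalizer_centralizer (H1.le_normalizer_pCoreOf Z))) inf_le_left
    (nn _ (fun e => (Fact.out : s.Prime).one_lt.ne' (by
      rw [show N ⊓ centralizer ((Os s Z : Subgroup X) : Set X) = ⊥ from e, card_bot,
        Nat.dvd_one] at h2; exact h2))
      fun h => hN (h1.isPGroup.to_le (hmin _ (H1.normal_of_top_le_normalizer (by
        rw [← hZ.2]
        exact sup_le (H1.le_normalizer_pCoreOf Z)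
          ((h.trans inf_le_right).trans (centralizer_le_normalizer _)))) (syl_ne_bot h1 hZd))))
    hQ
  obtain ⟨P, -, ⟨b1, b2, b3, Z2, c1, c2, c3⟩, hm⟩ := H1.exists_maximal_ge
    (P := fun P : Subgroup X => P ≠ ⊥ ∧ P ≤ N ∧ IsPGroup s P ∧
      ∃ Z', NS N Z' ∧ Z' ≤ normalizer (P : Set X) ∧ (Gd N F Z ↔ Gd N F Z'))
    (H := Q) ⟨syl_ne_bot hQ h2, hQ.le.trans inf_le_left, hQ.isPGroup, Z1, a1, a2, a3⟩
  refine ⟨P, Z2, ?_, c1, c2, c3⟩
  obtain ⟨R, r1, r2⟩ := exists_isSylowIn_ge b3 (H := N ⊓ normalizer (P : Set X))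
    (le_inf b2 le_normalizer)
  obtain ⟨Z3, d1, d2, d3⟩ := step ih hF h0 c1
    (H1.le_normalizer_inf (by rw [normalizer_eq_top]; exact le_top)
      (H1.le_normalizer_normalizer c2)) inf_le_left
    (nn _ (fun e => b1 (le_bot_iff.1 (e ▸ le_inf b2 le_normalizer)))
      fun h => hN (b3.to_le (hmin _ (H1.normal_of_top_le_normalizer (by
        rw [← c1.2]
        exact sup_le c2 (h.trans inf_le_right))) b1))) r2
  have e := hm R ⟨fun e => b1 (le_bot_iff.1 (e ▸ r1)), r2.le.trans inf_le_left, r2.isPGroup,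
    Z3, d1, d2, c3.trans d3⟩ r1
  exact isSylowIn_of_normalizer b2 (e ▸ r2)

end Chain

theorem main (X : Type u) [Group X] [Finite X] : St X := by
  refine H1.induction_card (P := fun X _ _ => St X) (fun X _ _ IH => ?_) X
  intro N F Y _ hF hY h0
  have ih : ∀ L : Subgroup X, L ≠ ⊤ → St L := fun L h => IH L (H1.card_lt_of_ne_top h)
  by_cases hN : N = ⊥
  · refine ⟨1, one_mem _, ?_⟩
    have h1 := hF.2
    have h2 := hY.2
    rw [hN, sup_bot_eq] at h1 h2
    rw [H1.conj_one_smul, h1, h2]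
  by_cases hq : ∃ S : Subgroup X, S.Normal ∧ S ≠ ⊥ ∧ (S < N ∨ S ⊓ N = ⊥)
  · obtain ⟨S, _, h1, h2⟩ := hq
    exact quot ih (IH _ (H1.card_quotient_lt h1)) hF hY h0 hN h2
  have hmin : ∀ S : Subgroup X, S.Normal → S ≠ ⊥ → N ≤ S := by
    intro S _ h1
    by_contra h2
    by_cases h3 : S ⊓ N = ⊥
    · exact hq ⟨S, inferInstance, h1, Or.inr h3⟩
    · exact hq ⟨S ⊓ N, inferInstance, h3,
        Or.inl (lt_of_le_of_ne inf_le_right fun e => h2 (e ▸ inf_le_left))⟩
  have nt : ∀ Z : Subgroup X, Z ≤ normalizer (N : Set X) := fun Z => by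
    rw [normalizer_eq_top]; exact le_top
  have hFY : Nat.card F ∣ Nat.card Y := by
    have h1 := H1.card_sup_of_disjoint (nt F) (by rw [inf_comm]; exact inf_bot hF.1 h0)
    have h2 := H1.card_sup_dvd (nt Y)
    rw [hY.2, ← hF.2, h1] at h2
    exact Nat.dvd_of_mul_dvd_mul_right Nat.card_pos h2
  by_cases hc : ∃ s : ℕ, s.Prime ∧ s ∣ Nat.card F ∧ ¬ s ∣ Nat.card N
  · obtain ⟨s, hs, h1, h2⟩ := hc
    haveI := Fact.mk hs
    have sy : ∀ Z : Subgroup X, NS N Z → IsSylowIn s (Os s Z) ⊤ := by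
      intro Z hZ
      have h3 := Os_syl s hZ.1
      refine isSylowIn_of_not_dvd le_top h3.isPGroup ?_
      rw [relIndex_top_right, ← relIndex_mul_index h3.le, hs.dvd_mul]
      rintro (h | h)
      · exact h3.not_dvd_relIndex h
      · have h4 := H1.card_sup_dvd (nt Z)
        rw [hZ.2, card_top, ← card_mul_index Z] at h4
        exact h2 (h.trans (Nat.dvd_of_mul_dvd_mul_left Nat.card_pos h4))
    obtain ⟨g, -, e⟩ := (sy Y hY).exists_conj_eq (sy F hF)
    have h3 : MulAut.conj g • F ≤ normalizer ((Os s Y : Subgroup X) : Set X) := by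
      rw [← e, ← H1.conj_smul_normalizer]
      exact pointwise_smul_le_pointwise_smul_iff.2 (H1.le_normalizer_pCoreOf F)
    have h4 : Gd N F (MulAut.conj g • F) := by
      obtain ⟨f, hf, n, hn, e⟩ := hF.dec g⁻¹
      refine ⟨n⁻¹, inv_mem hn, ?_⟩
      rw [← inv_inv g, ← e, mul_inv_rev, ← H1.conj_smul_conj_smul,
        H1.conj_smul_eq_of_mem_normalizer (le_normalizer (inv_mem hf))]
    refine gd_adj ih hF h0 h4 hY h3 (H1.le_normalizer_pCoreOf Y) fun e => ?_
    have h5 := (sy Y hY).isPGroup.to_le (hmin _ (normalizer_eq_top_iff.1 e)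
      (syl_ne_bot (Os_syl s hY.1) (h1.trans hFY)))
    obtain ⟨k, hk⟩ := IsPGroup.iff_card.1 h5
    rcases k with _ | k
    · exact hN (card_eq_one.1 hk)
    · exact h2 (hk ▸ dvd_pow_self s k.succ_ne_zero)
  push Not at hc
  have hF1 : Nat.card F ≠ 1 := fun e => hN (by
    rw [card_eq_one.1 e] at h0
    refine le_bot_iff.1 (h0 ▸ le_inf le_rfl fun x _ => mem_centralizer_iff.2 fun y hy => ?_)
    rw [mem_bot.1 hy, one_mul, mul_one])
  obtain ⟨s, hs, h1⟩ := Nat.exists_prime_and_dvd hF1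
  haveI := Fact.mk hs
  have h2 := hc s hs h1
  have h3 : ¬ IsPGroup s N := fun h => by
    have h4 : IsPGroup s F := H1.isPGroup_iff_forall_prime.2 fun q hq hd =>
      H1.isPGroup_iff_forall_prime.1 h q hq (hc q hq hd)
    have := dvd_fix (N := N) h4 h2
    rw [h0, card_bot, Nat.dvd_one] at this
    exact hs.one_lt.ne' this
  obtain ⟨P, F1, a1, a2, a3, a4⟩ := climb ih hF h0 hmin h2 h3 hF h1
  obtain ⟨Q, Y1, b1, b2, b3, b4⟩ := climb ih hF h0 hmin h2 h3 hY (h1.trans hFY)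
  obtain ⟨g, hg, e⟩ := b1.exists_conj_eq a1
  obtain ⟨n, hn, rfl⟩ := a4.1 ⟨1, one_mem _, (H1.conj_one_smul F).symm⟩
  refine b4.2 (gd_adj ih hF h0 (Z := MulAut.conj g • MulAut.conj n • F)
    ⟨g * n, mul_mem hg hn, H1.conj_smul_conj_smul _ _ _⟩ b2 ?_ b3 fun e => ?_)
  · rw [← e, ← H1.conj_smul_normalizer]
    exact pointwise_smul_le_pointwise_smul_iff.2 a3
  · exact h3 (b1.isPGroup.to_le (hmin _ (normalizer_eq_top_iff.1 e) (syl_ne_bot b1 h2)))

end H8.FP
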