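import Cfsg.Agent.H8.FS0

/-! Fixed point free operator groups: the basic fixed point lemmas. -/

set_option autoImplicit false
set_option linter.unusedVariables false
set_option linter.unusedSectionVars false

namespace H8.FS
open Cfsg Subgroup H18 H17.GS
open H19 hiding eq_bot_mono
open scoped commutatorElement

universe u
variable {X : Type u} [Group X] [Finite X] {A B D E F G H K L M N O P Q R S T U V W Y Z : Subgroup X}
  {a b c d e g k n s t u v w x y z : X} {p r : ℕ}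

/-- `A` acts fixed point freely on `N` -/
structure Fx (A N : Subgroup X) : Prop where
  ok : Ok A N
  n : A ≤ N(N)
  f : N ⊓ C(A) = ⊥

theorem lcs_le (A : Subgroup X) (m : ℕ) : A.lowerCentralSeries m ≤ A :=
  A.lowerCentralSeries_antitone (Nat.zero_le m)

theorem lcs_mono (h : A ≤ B) (m : ℕ) : A.lowerCentralSeries m ≤ B.lowerCentralSeries m := by
  induction m with
  | zero => exact h
  | succ m ih => exact commutator_mono ih h

theorem lcs_im {Y : Type*} [Group Y] {f : D →* Y} (h : A ≤ D) (m : ℕ) :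
    im f (A.lowerCentralSeries m) = (im f A).lowerCentralSeries m := by
  induction m with
  | zero => rfl
  | succ m ih => rw [Subgroup.lowerCentralSeries_succ, Subgroup.lowerCentralSeries_succ, im_comm ((lcs_le A m).trans h) h, ih]

theorem Ok.mono (h : Ok A G) (h1 : B ≤ A) (h2 : #N ∣ #G) : Ok B N := by
  obtain ⟨C, l, nC, c, m, hm⟩ := h
  exact ⟨C ⊓ B, inf_le_right, norms_inf (h1.trans nC) le_normalizer,
    (c.coprime_dvd_left (card_dvd inf_le_left)).coprime_dvd_right h2, m,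
    le_inf ((lcs_mono h1 m).trans hm) (lcs_le B m)⟩

theorem Ok.im {Y : Type u} [Group Y] [Finite Y] {f : D →* Y} {N' : Subgroup Y} (h : Ok A G) (h1 : A ≤ D)
    (h2 : #N' ∣ #G) : Ok (im f A) N' := by
  obtain ⟨C, l, nC, c, m, hm⟩ := h
  exact ⟨H19.im f C, im_mono l, im_norms nC, (c.coprime_dvd_left (card_im_dvd f C)).coprime_dvd_right h2, m,
    lcs_im (f := f) h1 m ▸ im_mono hm⟩

theorem Fx.mono (h : Fx A N) (l : M ≤ N) (nM : A ≤ N(M)) : Fx A M :=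
  ⟨h.ok.mono le_rfl (card_dvd l), nM, le_bot_iff.1 (h.f ▸ inf_le_inf_right _ l)⟩

theorem Fx.one (h : Fx A N) (hx : x ∈ N) (hc : x ∈ C(A)) : x = 1 := mem_bot.1 (h.f ▸ mem_inf.2 ⟨hx, hc⟩)

theorem Fx.inf (h : Fx A N) : N ⊓ A = ⊥ := by
  obtain ⟨C, l, nC, c, m, hm⟩ := h.ok
  have k : ∀ i, N ⊓ A.lowerCentralSeries i = ⊥ → N ⊓ A = ⊥ := fun i => by
    induction i with
    | zero => exact id
    | succ i ih =>
      refine fun e => ih (le_bot_iff.1 (h.f ▸ le_inf inf_le_left (commg_eq_bot.1 (le_bot_iff.1 (e ▸ le_inf ?_ ?_)))))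
      · exact (commutator_mono inf_le_left le_rfl).trans (commg_le_left h.n)
      · exact commutator_mono inf_le_right le_rfl
  exact k m (le_bot_iff.1 ((inf_eq_bot_of_cop c.symm) ▸ inf_le_inf_left _ hm))

theorem sol_cop (c : (#A).Coprime #B) : Sol A ∨ Sol B := by
  by_cases o : OG A
  · exact .inl o.sol
  · refine .inr (OG.sol (PiN.of_not_dvd fun d => o (PiN.of_not_dvd fun d' => ?_)))
    exact absurd (Nat.eq_one_of_dvd_coprimes c d' d) (by decide)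

/-- supplements of `N` in `A N` containing the coprime part -/
theorem Fx.fix2 (h : Fx A N) (l : B ≤ A) (nB : A ≤ N(B)) (c : (#B).Coprime #N) (m : ℕ)
    (hm : A.lowerCentralSeries m ≤ B) (hB : B ≤ L) (nL : L ≤ N(B)) (h1 : L ≤ N ⊔ A) (h2 : A ≤ N ⊔ L) :
    ∃ n ∈ N, cj n A ≤ L := by
  have d : N ⊓ B = ⊥ := inf_eq_bot_of_cop c.symm
  have cB : N ⊓ N(B) ≤ C(B) := commg_eq_bot.1 (le_bot_iff.1 (d ▸ le_inf
    ((commutator_mono inf_le_left le_rfl).trans (commg_le_left (l.trans h.n))) (commg_le_right inf_le_right)))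
  have nN : A ≤ N(N ⊓ N(B)) := norms_inf h.n (norms_norm nB)
  have nL' : L ≤ N(N) := h1.trans (sup_le le_normalizer h.n)
  have e1 : L ≤ A ⊔ (N ⊓ N(B)) := by
    have := sup_inf_modr h.n nB
    rw [sup_comm, ← this]; exact le_inf h1 nL
  have e2 : A ≤ L ⊔ (N ⊓ N(B)) := by
    have := sup_inf_modr nL' nL
    rw [sup_comm, ← this]; exact le_inf h2 nB
  obtain ⟨n, hn, k⟩ := H8.FP.fixpt (N := quo B (N ⊓ N(B))) (F := quo B A) (L := quo B L)
    ((isNilpotent_iff_lowerCentralSeries _).2 ⟨m, by rw [← lcs_im nB]; exact quo_eq_bot hm⟩) (quo_norms nN)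
    (by
      refine le_bot_iff.1 fun y ⟨hy, cy⟩ => ?_
      obtain ⟨y, hy', rfl⟩ := mem_im.1 hy
      have : (y : X) = 1 := h.one hy'.1 (mem_cent.2 fun a ha => by
        have h3 : ⁅zpowers (y : X), A⁆ ≤ B := (quo_cents_iff (zpowers_le.2 y.2) nB).1
          (by rw [quo_zpowers y.2]; exact zpowers_le.2 cy)
        have h4 : ⁅zpowers (y : X), A⁆ ≤ N :=
          (commutator_mono (zpowers_le.2 hy'.1) le_rfl).trans (commg_le_left h.n)
        exact mem_cent.1 (commg_eq_bot.1 (le_bot_iff.1 (d ▸ le_inf h4 h3)) (mem_zpowers _)) a ha)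
      exact mem_bot.2 (qmk_eq_one.2 (this ▸ one_mem _)))
    (by rw [← quo_sup nB inf_le_right]; exact quo_mono _ e1)
    (by rw [← quo_sup nL inf_le_right]; exact quo_mono _ e2)
  obtain ⟨n, hn', rfl⟩ := mem_im.1 hn
  refine ⟨n, hn'.1, le_of_quo_le (K := B) (cj_le_of_mem_norm (mem_norm_iff_cj.2 ?_) nB) hB ?_⟩
  · rw [cj_norm, cj_of_mem_norm n.2]
  · rw [quo_cj n.2]; exact k

/-- the fixed point principle -/
theorem Fx.fix (h : Fx A N) (hL : ∀ a ∈ A, ∃ n ∈ N, n * a ∈ L) : ∃ n ∈ N, cj n A ≤ L := by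
  obtain ⟨B, l, nB, c, m, hm⟩ := h.ok
  have nBN : B ≤ N(N) := l.trans h.n
  have nM : N ⊔ A ≤ N(N) := sup_le le_normalizer h.n
  have nBM : N ⊔ A ≤ N(N ⊔ B) := sup_le (norms_of_le le_sup_left) (norms_sup h.n nB)
  set L1 := L ⊓ (N ⊔ B) with hL1
  have d : N ⊓ B = ⊥ := inf_eq_bot_of_cop c.symm
  have n1 : L1 ≤ N(N) := inf_le_right.trans (sup_le le_normalizer nBN)
  have e1 : N ⊔ L1 = N ⊔ B := le_antisymm (sup_le le_sup_left inf_le_right) (sup_le le_sup_left fun b hb => by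
    obtain ⟨n, hn, k⟩ := hL b (l hb)
    rw [← inv_mul_cancel_left n b]
    exact mul_mem_sup (inv_mem hn) ⟨k, mul_mem_sup hn hb⟩)
  have i1 : (N ⊓ L1).relIndex L1 = #B := by
    rw [inf_relIndex_right, ← relIndex_sup_of_norm n1, e1, (sdprod_sup nBN d).relIndex_left]
  obtain ⟨B1, s1⟩ := (hall_of_coprime (H := N ⊓ L1) (M := L1) inf_le_right
    (i1 ▸ c.symm.coprime_dvd_left (card_dvd inf_le_left))).exists_compl (norms_inf n1 le_normalizer)
  have c1 : #B1 = #B := s1.relIndex_left.symm.trans i1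
  obtain ⟨n, hn, k⟩ := exists_cj_le_of_le_sup nBN (s1.right_le.trans inf_le_right) (c1 ▸ c.symm)
    (sol_cop (c1 ▸ c))
  have k' : cj n B1 = B := eq_of_le_of_card_eq k ((card_cj _ _).trans c1)
  -- replace `L` by a conjugate
  set L2 := cj n L ⊓ (N ⊔ A) with hL2
  have hB : B ≤ L2 := le_inf (k' ▸ cj_mono n (s1.right_le.trans inf_le_left)) (l.trans le_sup_right)
  have n2 : L2 ≤ N(N) := inf_le_right.trans nM
  have hL' : ∀ a ∈ A, ∃ n ∈ N, n * a ∈ L2 ⊓ N(B) := fun a ha => by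
    obtain ⟨n1, hn1, k1⟩ := hL a ha
    have m1 : n * (n1 * a) * n⁻¹ ∈ L2 := mem_inf.2 ⟨conj_mem_cj.2 k1, mul_mem (mul_mem (mem_sup_left hn)
      (mul_mem_sup hn1 ha)) (inv_mem (mem_sup_left hn))⟩
    generalize hx : n * (n1 * a) * n⁻¹ = x at m1
    have nx : L2 ≤ N(N ⊓ L2) := norms_inf n2 le_normalizer
    have : cj x B ≤ (N ⊓ L2) ⊔ B := by
      rw [← sup_inf_modr nBN hB]
      exact le_inf (cj_le_of_mem_norm (nBM m1.2) le_sup_right) (cj_le_of_mem m1 hB)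
    obtain ⟨n2, hn2, k2⟩ := exists_cj_le_of_le_sup (hB.trans nx) this
      (card_cj x B ▸ c.symm.coprime_dvd_left (card_dvd inf_le_left))
      ((sol_cop c).imp (sol_J · x) (sol_mono · inf_le_left))
    refine ⟨n2 * n * n1 * (a * n⁻¹ * a⁻¹), mul_mem (mul_mem (mul_mem hn2.1 hn) hn1)
      (conj_mem_of_norm (h.n ha) (inv_mem hn)), ?_⟩
    have : n2 * n * n1 * (a * n⁻¹ * a⁻¹) * a = n2 * x := by rw [← hx]; group
    rw [this]
    exact ⟨mul_mem hn2.2 m1, mem_norm_of_cj_le (cj_mul n2 x B ▸ k2)⟩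
  obtain ⟨n3, hn3, k3⟩ := h.fix2 l nB c m hm (le_inf hB le_normalizer) inf_le_right (inf_le_left.trans inf_le_right)
    fun a ha => by
      obtain ⟨n1, hn1, k1⟩ := hL' a ha
      rw [← inv_mul_cancel_left n1 a]
      exact mul_mem_sup (inv_mem hn1) k1
  exact ⟨n⁻¹ * n3, mul_mem (inv_mem hn) hn3, by
    rw [cj_mul]; exact le_cj_iff.1 (k3.trans (inf_le_left.trans inf_le_left))⟩

/-- a conjugate of `w` is fixed -/
theorem Fx.elt (h : Fx A N) (hw : ∀ a ∈ A, ∃ n ∈ N, a * w * a⁻¹ = n * w * n⁻¹) :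
    ∃ n ∈ N, n * w * n⁻¹ ∈ C(A) := by
  obtain ⟨n, hn, k⟩ := h.fix (L := C[w]) fun a ha => by
    obtain ⟨n, hn, e⟩ := hw a ha
    refine ⟨n⁻¹, inv_mem hn, mem_cent1.2 ?_⟩
    calc n⁻¹ * a * w = n⁻¹ * (a * w * a⁻¹) * a := by group
      _ = _ := by rw [e]; group
  refine ⟨n⁻¹, inv_mem hn, le_cent1_iff.1 ?_⟩
  rw [← cj_cent1]; exact cj_le_iff.1 k

/-- a conjugate of `P` is invariant -/
theorem Fx.sub (h : Fx A N) (hw : ∀ a ∈ A, ∃ n ∈ N, cj n P = cj a P) : ∃ n ∈ N, A ≤ N(cj n P) := by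
  obtain ⟨n, hn, k⟩ := h.fix (L := N(P)) fun a ha => by
    obtain ⟨n, hn, e⟩ := hw a ha
    exact ⟨n⁻¹, inv_mem hn, mem_norm_iff_cj.2 (by rw [cj_mul, ← e, cj_inv_cj])⟩
  exact ⟨n⁻¹, inv_mem hn, by rw [← cj_norm]; exact cj_le_iff.1 k⟩

theorem Fx.syl (h : Fx A N) (p : ℕ) : ∃ P, Syl p P N ∧ A ≤ N(P) := by
  obtain ⟨P, hP⟩ := exists_syl p N
  obtain ⟨n, hn, k⟩ := h.sub fun a ha => hP.sconj (hP.Jnorm (h.n ha))
  exact ⟨_, hP.Jmem hn, k⟩

/-- fixed cosets contain fixed points -/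
theorem Fx.coset (h : Fx A N) (hy : ∀ a ∈ A, a * y * a⁻¹ * y⁻¹ ∈ N) : ∃ n ∈ N, n * y ∈ C(A) := by
  obtain ⟨n, hn, k⟩ := h.fix (L := cj y A) fun a ha =>
    ⟨_, inv_mem (hy a ha), mem_cj'.2 ⟨a, ha, by group⟩⟩
  have k1 : n⁻¹ * y ∈ N(A) := mem_norm_of_le_cj (by rw [cj_mul]; exact cj_le_iff.1 k)
  refine ⟨n⁻¹, inv_mem hn, mem_cent.2 fun a ha => ?_⟩
  have : a * (n⁻¹ * y) * a⁻¹ * (n⁻¹ * y)⁻¹ ∈ N ⊓ A := mem_inf.2 ⟨by
    have := mul_mem (mul_mem (conj_mem_of_norm (h.n ha) (inv_mem hn)) (hy a ha)) hn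
    convert this using 1; group, by
    have := mul_mem ha (conj_mem_of_norm k1 (inv_mem ha))
    convert this using 1; group⟩
  rw [h.inf, mem_bot] at this
  calc _ = a * (n⁻¹ * y) * a⁻¹ * (n⁻¹ * y)⁻¹ * (n⁻¹ * y * a) := by group
    _ = _ := by rw [this, one_mul]

theorem Fx.mem (h : Fx A N) (l : M ≤ N) (nM : A ≤ N(M)) (hy : y ∈ N) (k : ∀ a ∈ A, a * y * a⁻¹ * y⁻¹ ∈ M) :
    y ∈ M := by
  obtain ⟨n, hn, c⟩ := (h.mono l nM).coset k
  exact eq_inv_of_mul_eq_one_right (h.one (mul_mem (l hn) hy) c) ▸ inv_mem hn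

theorem Fx.le_comm (h : Fx A N) : N ≤ ⁅A, N⁆ := fun y hy =>
  h.mem (commg_le_right h.n) (commg_norml _ _) hy fun a ha => comm_mem ha hy

theorem Fx.im {Y : Type u} [Group Y] [Finite Y] (h : Fx A N) (f : D →* Y) (h1 : A ≤ D) (h2 : N ≤ D) :
    Fx (im f A) (im f N) := by
  refine ⟨h.ok.im h1 (card_im_dvd f N), im_norms h.n, le_bot_iff.1 fun y ⟨hy, cy⟩ => ?_⟩
  obtain ⟨y, hy', rfl⟩ := mem_im.1 hy
  have : (y : X) ∈ N ⊓ pre f ⊥ := h.mem inf_le_left
    (norms_inf h.n (norms_pre h1 (norms_of_cents (by simp)))) hy' fun a ha =>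
      mem_inf.2 ⟨mul_mem (conj_mem_of_norm (h.n ha) hy') (inv_mem hy'), by
        have := mem_cent.1 cy _ (mem_im_of (f := f) (x := ⟨a, h1 ha⟩) ha)
        refine (coe_mem_pre (f := f) (x := (⟨a, h1 ha⟩ : D) * y * (⟨a, h1 ha⟩ : D)⁻¹ * y⁻¹)).2 ?_
        simp [this]⟩
  exact coe_mem_pre.1 this.2

theorem Fx.quo (h : Fx A N) (h1 : A ≤ N(K)) (h2 : N ≤ N(K)) : Fx (quo K A) (quo K N) := h.im _ h1 h2

theorem Fx.J (h : Fx A N) (hg : g ∈ N(N)) : Fx (cj g A) N := by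
  obtain ⟨B, l, nB, c, m, hm⟩ := h.ok
  refine ⟨⟨cj g B, cj_mono g l, cj_norm g B ▸ cj_mono g nB, card_cj g B ▸ c, m, ?_⟩,
    cj_of_mem_norm hg ▸ cj_norm g N ▸ cj_mono g h.n, ?_⟩
  · rw [cj_def, ← map_lowerCentralSeries]; exact cj_mono g hm
  · rw [← H19.cj_cent, ← cj_of_mem_norm hg, ← cj_inf, h.f]; simp

/-- the product over an orbit -/
theorem op (nN : A ≤ N(N)) (f : N ⊓ C(A) = ⊥) (hy : y ∈ N)
    (h : ∀ a ∈ A, a * y * a⁻¹ ≠ y → a * y * a⁻¹ ∈ H ⊓ C[y]) : y ∈ H := by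
  classical
  have := Fintype.ofFinite X
  set s : Finset X := Finset.univ.filter fun x => ∃ a ∈ A, a * y * a⁻¹ = x with hs
  have ms : ∀ x, x ∈ s ↔ ∃ a ∈ A, a * y * a⁻¹ = x := fun x => by simp [hs]
  have cm : (s : Set X).Pairwise (Function.onFun Commute id) := fun x hx x' hx' ne => by
    obtain ⟨a, ha, rfl⟩ := (ms _).1 hx
    obtain ⟨b, hb, rfl⟩ := (ms _).1 hx'
    have := mem_cent1.1 (h _ (mul_mem (inv_mem hb) ha) fun e => ne (by
      calc _ = b * (b⁻¹ * a * y * (b⁻¹ * a)⁻¹) * b⁻¹ := by group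
        _ = _ := by rw [e])).2
    show _ * _ = _ * _
    simp only [id]
    calc _ = b * (b⁻¹ * a * y * (b⁻¹ * a)⁻¹ * y) * b⁻¹ := by group
      _ = _ := by rw [this]; group
  have ys : y ∈ s := (ms y).2 ⟨1, one_mem _, by simp⟩
  have p1 : s.noncommProd id cm = 1 := mem_bot.1 (f ▸ mem_inf.2 ⟨noncommProd_mem _ cm fun x hx => by
    obtain ⟨a, ha, rfl⟩ := (ms _).1 hx
    exact conj_mem_of_norm (nN ha) hy, mem_cent.2 fun a ha => by
      have e := Finset.map_noncommProd s id cm (MulAut.conj a).toMonoidHom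
      have e2 : s.map (MulAut.conj a).toEquiv.toEmbedding = s := by
        refine Finset.eq_of_subset_of_card_le (fun x hx => ?_) (by simp)
        obtain ⟨x, hx', rfl⟩ := Finset.mem_map.1 hx
        obtain ⟨b, hb, rfl⟩ := (ms _).1 hx'
        exact (ms _).2 ⟨a * b, mul_mem ha hb, by simp [mul_assoc]⟩
      have e3 : a * s.noncommProd id cm * a⁻¹ = s.noncommProd id cm := by
        refine e.trans ?_
        unfold Finset.noncommProd
        congr 1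
        rw [Multiset.map_id]
        exact congrArg Finset.val e2
      calc _ = a * s.noncommProd id cm * a⁻¹ * a := by group
        _ = _ := by rw [e3]⟩)
  rw [← Finset.mul_noncommProd_erase s ys id cm] at p1
  rw [show y = _ from eq_inv_of_mul_eq_one_left p1]
  refine inv_mem (noncommProd_mem _ _ fun x hx => ?_)
  obtain ⟨a, ha, rfl⟩ := (ms _).1 (Finset.mem_of_mem_erase hx)
  exact (h a ha (Finset.ne_of_mem_erase hx)).1

end H8.FS
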