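import Cfsg.Agent.H8.FS1

/-! Elements of odd order acting transitively on the nontrivial elements of `[V, x]`. -/

set_option autoImplicit false
set_option linter.unusedVariables false
set_option linter.unusedSectionVars false

namespace H8.FS
open Cfsg Subgroup H18 H17.GS
open H19 hiding eq_bot_mono
open scoped commutatorElement

universe u
variable {X : Type u} [Group X] [Finite X] {A B D E F G H K L M N O P Q R S T U V W Y Z : Subgroup X}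
  {a b c d e g k n s t u v w x y z : X} {p r : ℕ}

local notation "p2" => Nat.prime_two

/-- elements normalising `W` and acting trivially on `V / W` -/
def cq (V W : Subgroup X) : Subgroup X where
  carrier := {g | g ∈ N(W) ∧ ∀ v ∈ V, g * v * g⁻¹ * v⁻¹ ∈ W}
  one_mem' := ⟨one_mem _, fun v _ => by simp⟩
  mul_mem' := fun {g h} hg hh => ⟨mul_mem hg.1 hh.1, fun v hv => by
    have := mul_mem (conj_mem_of_norm hg.1 (hh.2 v hv)) (hg.2 v hv)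
    convert this using 1; group⟩
  inv_mem' := fun {g} hg => ⟨inv_mem hg.1, fun v hv => by
    have := conj_mem_of_norm' hg.1 (inv_mem (hg.2 v hv))
    convert this using 1; group⟩

theorem mem_cq : g ∈ cq V W ↔ g ∈ N(W) ∧ ∀ v ∈ V, g * v * g⁻¹ * v⁻¹ ∈ W := Iff.rfl

theorem norm_cq (h1 : g ∈ N(V)) (h2 : g ∈ N(W)) : g ∈ N(cq V W) := mem_norm_of_cj_le fun x hx => by
  obtain ⟨y, hy, rfl⟩ := mem_cj'.1 hx
  refine ⟨mul_mem (mul_mem h2 hy.1) (inv_mem h2), fun v hv => ?_⟩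
  have := conj_mem_of_norm h2 (hy.2 _ (conj_mem_of_norm' h1 hv))
  convert this using 1; group

theorem norms_cq (h1 : A ≤ N(V)) (h2 : A ≤ N(W)) : A ≤ N(cq V W) := fun _ ha => norm_cq (h1 ha) (h2 ha)

theorem le_cq (l : W ≤ V) (h : ⁅V, K⁆ ≤ W) : K ≤ cq V W := fun g hg =>
  ⟨norms_of_commg_le ((commutator_mono l le_rfl).trans h) hg, fun v hv => h (commg_comm K V ▸ comm_mem hg hv)⟩

theorem comm_cq : ⁅V, cq V W⁆ ≤ W := commg_comm (cq V W) V ▸ commg_le_iff.2 fun g hg v hv => hg.2 v hv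

theorem abelem_of_sq (h : ∀ t ∈ T, t * t = 1) : Abelem 2 T :=
  ⟨comm_iff_le_cent.2 fun a ha => mem_cent.2 fun b hb => by
    have i : ∀ t ∈ T, t⁻¹ = t := fun t ht => inv_eq_of_mul_eq_one_right (h t ht)
    rw [← i _ (mul_mem hb ha), mul_inv_rev, i a ha, i b hb], fun a ha => by rw [pow_two, h a ha]⟩

theorem four_le (hY : PG 2 Y) (h1 : Y ≠ ⊥) (hz : z ∈ N(Y)) (h : Y ⊓ C[z] = ⊥) : 4 ≤ #Y := by
  rcases pg_card_cases hY with c | c | c | c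
  · exact absurd (card_eq_one.1 c) h1
  · obtain ⟨y, hy, y1⟩ := exists_ne_one h1
    have e := eq_zpowers_of_prime (c ▸ p2) hy y1
    have y2 : y * y = 1 := by rw [← pow_two, ← c]; exact orderOf_dvd_iff_pow_eq_one.1 (orderOf_dvd_card' hy)
    rcases (mem_zp y2).1 (e ▸ conj_mem_of_norm hz hy) with k | k
    · exact absurd (by simpa using k) y1
    · exact absurd (mem_bot.1 (h ▸ mem_inf.2 ⟨hy, mem_cent1.2 (mul_inv_eq_iff_eq_mul.1 k).symm⟩)) y1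
  all_goals omega

theorem exists4 (h : 4 ≤ #Y) (a b c : X) : ∃ u ∈ Y, u ≠ a ∧ u ≠ b ∧ u ≠ c := by
  by_contra! k
  have : (Y : Set X) ⊆ {a, b, c} := fun u hu => by
    by_cases h1 : u = a
    · simp [h1]
    by_cases h2 : u = b
    · simp [h2]
    simp [k u hu h1 h2]
  have h1 := Set.ncard_le_ncard this (Set.toFinite _)
  have h2 : ({a, b, c} : Set X).ncard ≤ 3 := (Set.ncard_insert_le _ _).trans
    (Nat.succ_le_succ ((Set.ncard_insert_le _ _).trans (by simp)))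
  have h3 : (Y : Set X).ncard = #Y := (Nat.card_coe_set_eq _).symm
  omega

/-- `[V, x]` -/
abbrev bx (V : Subgroup X) (x : X) : Subgroup X := ⁅V, zpowers x⁆

theorem cj_bx (hg : g ∈ N(V)) : cj g (bx V x) = bx V (g * x * g⁻¹) := by
  rw [cj_comm, cj_of_mem_norm hg, cj_zpowers]

/-- `x` is an element of odd order normalising the elementary abelian group `V` -/
structure Od (V : Subgroup X) (x : X) : Prop where
  ea : Abelem 2 V
  n : x ∈ N(V)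
  o : PiE {2}ᶜ x

theorem Od.cop (h : Od V x) : (#V).Coprime #(zpowers x) := PiN.coprime (ab_pg h.ea) (piG_zpowers.2 h.o)
theorem Od.zn (h : Od V x) : zpowers x ≤ N(V) := zpowers_le.2 h.n
theorem Od.le (h : Od V x) : bx V x ≤ V := commg_le_left h.zn
theorem Od.dp (h : Od V x) : Dprod (V ⊓ C[x]) (bx V x) V := cent_zpowers x ▸ ab_cent_dprod h.ea.1 h.zn h.cop
theorem Od.inf (h : Od V x) : bx V x ⊓ C[x] = ⊥ := cent_zpowers x ▸ ab_commg_inf_cent h.ea.1 h.zn h.cop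
theorem Od.one (h : Od V x) (h1 : u ∈ bx V x) (h2 : u ∈ C[x]) : u = 1 := mem_bot.1 (h.inf ▸ mem_inf.2 ⟨h1, h2⟩)
theorem Od.dec (h : Od V x) (hv : v ∈ V) : ∃ c ∈ V ⊓ C[x], ∃ u ∈ bx V x, v = c * u := h.dp.sd.mem hv
theorem Od.J (h : Od V x) (hg : g ∈ N(V)) : Od V (g * x * g⁻¹) :=
  ⟨h.ea, mul_mem (mul_mem hg h.n) (inv_mem hg), h.o.e_conj g⟩
theorem Od.nb (h : Od V x) : x ∈ N(bx V x) := commg_normr _ _ (mem_zpowers x)
theorem Od.pg (h : Od V x) : PG 2 (bx V x) := (ab_pg h.ea).of_le h.le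
theorem Od.mono (h : Od V x) (l : W ≤ V) (hn : x ∈ N(W)) : Od W x := ⟨abelem_mono h.ea l, hn, h.o⟩
theorem Od.cent (h : Od V x) (h1 : bx V x ≤ C[g]) (h2 : V ⊓ C[x] ≤ C[g]) : g ∈ C(V) :=
  le_cent1_iff.1 (h.dp.sup ▸ sup_le h2 h1)
theorem Od.four (h : Od V x) (h1 : x ∉ C(V)) : 4 ≤ #(bx V x) :=
  four_le h.pg (fun e => h1 (cents_symm (commg_eq_bot.1 e) (mem_zpowers x))) h.nb h.inf

/-- conjugate by an element of `L` -/
def Cn (L : Subgroup X) (u v : X) : Prop := ∃ k ∈ L, k * u * k⁻¹ = v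

theorem Cn.trans (h1 : Cn L u v) (h2 : Cn L v w) : Cn L u w := by
  obtain ⟨k, hk, rfl⟩ := h1
  obtain ⟨k', hk', rfl⟩ := h2
  exact ⟨k' * k, mul_mem hk' hk, by group⟩

theorem Cn.mono (h : Cn L u v) (l : L ≤ M) : Cn M u v := h.imp fun _ k => ⟨l k.1, k.2⟩

/-- `x` is transitive on the nontrivial elements of `[V, x]` -/
structure Sg (V : Subgroup X) (x : X) : Prop extends Od V x where
  tr : ∀ u ∈ bx V x, ∀ w ∈ bx V x, u ≠ 1 → w ≠ 1 → Cn (zpowers x) u w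

theorem Sg.J (h : Sg V x) (hg : g ∈ N(V)) : Sg V (g * x * g⁻¹) := ⟨h.toOd.J hg, fun u hu w hw u1 w1 => by
  rw [← cj_bx hg] at hu hw
  obtain ⟨u, hu', rfl⟩ := mem_cj'.1 hu
  obtain ⟨w, hw', rfl⟩ := mem_cj'.1 hw
  obtain ⟨k, hk, rfl⟩ := h.tr u hu' w hw' (fun e => u1 (by simp [e])) (fun e => w1 (by simp [e]))
  exact ⟨g * k * g⁻¹, cj_zpowers g x ▸ conj_mem_cj.2 hk, by group⟩⟩

theorem Sg.orb (h : Sg V x) (hw : w ∈ V) (hu : u ∈ bx V x) (h1 : w ∉ C[x]) (h2 : w * u ∉ C[x]) :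
    Cn (zpowers x) w (w * u) := by
  obtain ⟨c, hc, v, hv, rfl⟩ := h.dec hw
  obtain ⟨k, hk, e⟩ := h.tr v hv (v * u) (mul_mem hv hu) (fun e => h1 (by simpa [e] using hc.2))
    (fun e => h2 (by rw [mul_assoc, e, mul_one]; exact hc.2))
  have := mem_cent.1 (cent_zpowers x ▸ hc.2 : c ∈ C(zpowers x)) k hk
  exact ⟨k, hk, by rw [← mul_assoc, this, mul_assoc c, mul_assoc c, e, mul_assoc]⟩

theorem link1 (h : Od V x) (h' : Od V y) (x1 : x ∉ C(V)) (n1 : ¬ bx V x ≤ C[y]) (n2 : ¬ bx V y ≤ C[x])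
    (i : bx V y ⊓ C[x] ≠ ⊥) : ∃ u ∈ bx V x, ∃ v ∈ bx V y, u ∉ C[y] ∧ v ∉ C[x] ∧ u * v ∉ C[x] ∧ u * v ∉ C[y] := by
  obtain ⟨v0, ⟨hv0, c0⟩, v01⟩ := exists_ne_one i
  obtain ⟨v1, hv1, c1⟩ := SetLike.not_le_iff_exists.1 n2
  obtain ⟨u1, hu1, d1⟩ := SetLike.not_le_iff_exists.1 n1
  obtain ⟨u, hu, d, c⟩ : ∃ u ∈ bx V x, u ∉ C[y] ∧ u * v1 ∉ C[x] := by
    by_cases c : u1 * v1 ∈ C[x]
    · have k : ∀ u ∈ bx V x, u ≠ u1 → u * v1 ∉ C[x] := fun u hu ne c' => ne (mul_inv_eq_one.1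
        (h.one (mul_mem hu (inv_mem hu1)) (by simpa using mul_mem c' (inv_mem c))))
      obtain ⟨w, hw, w1, w2, -⟩ := exists4 (h.four x1) 1 u1 1
      by_cases d : w ∈ C[y]
      · exact ⟨u1 * w, mul_mem hu1 hw, fun d' => d1 (by simpa using mul_mem d' (inv_mem d)),
          k _ (mul_mem hu1 hw) (by simpa using w1)⟩
      · exact ⟨w, hw, d, k w hw w2⟩
    · exact ⟨u1, hu1, d1, c⟩
  by_cases e : u * v1 ∈ C[y]
  · refine ⟨u, hu, v1 * v0, mul_mem hv1 hv0, d, fun k => c1 (by simpa using mul_mem k (inv_mem c0)),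
      fun k => c (by simpa [mul_assoc] using mul_mem k (inv_mem c0)), fun k => v01 (h'.one hv0 ?_)⟩
    simpa [mul_assoc] using mul_mem (inv_mem e) k
  · exact ⟨u, hu, v1, hv1, d, c1, c, e⟩

theorem link2 (h : Od V x) (h' : Od V y) (x1 : x ∉ C(V)) (y1 : y ∉ C(V)) (n1 : ¬ bx V x ≤ C[y])
    (n2 : ¬ bx V y ≤ C[x]) :
    ∃ u ∈ bx V x, ∃ v ∈ bx V y, u ∉ C[y] ∧ v ∉ C[x] ∧ u * v ∉ C[x] ∧ u * v ∉ C[y] := by
  by_cases i : bx V y ⊓ C[x] = ⊥
  swap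
  · exact link1 h h' x1 n1 n2 i
  by_cases i' : bx V x ⊓ C[y] = ⊥
  swap
  · obtain ⟨v, hv, u, hu, k1, k2, k3, k4⟩ := link1 h' h y1 n2 n1 i'
    rw [ab_comm h.ea (h'.le hv) (h.le hu)] at k3 k4
    exact ⟨u, hu, v, hv, k2, k1, k4, k3⟩
  obtain ⟨v, hv, c⟩ := SetLike.not_le_iff_exists.1 n2
  have k : ∀ z : X, bx V x ⊓ C[z] = ⊥ → ∃ a, ∀ u ∈ bx V x, u ≠ a → u * v ∉ C[z] := fun z hz => by
    by_cases k : ∃ a ∈ bx V x, a * v ∈ C[z]
    · obtain ⟨a, ha, k⟩ := k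
      exact ⟨a, fun u hu ne c' => ne (mul_inv_eq_one.1 (mem_bot.1 (hz ▸ mem_inf.2
        ⟨mul_mem hu (inv_mem ha), by simpa using mul_mem c' (inv_mem k)⟩)))⟩
    · exact ⟨1, fun u hu _ c' => k ⟨u, hu, c'⟩⟩
  obtain ⟨a, ha⟩ := k x h.inf
  obtain ⟨b, hb⟩ := k y i'
  obtain ⟨u, hu, u1, u2, u3⟩ := exists4 (h.four x1) 1 a b
  exact ⟨u, hu, v, hv, fun d => u1 (mem_bot.1 (i' ▸ mem_inf.2 ⟨hu, d⟩)), c, ha u hu u2, hb u hu u3⟩

theorem link (h : Sg V x) (h' : Sg V y) (x1 : x ∉ C(V)) (y1 : y ∉ C(V)) (n1 : ¬ bx V x ≤ C[y])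
    (n2 : ¬ bx V y ≤ C[x]) (hx : x ∈ L) (hy : y ∈ L) (hu : u ∈ bx V x) (hv : v ∈ bx V y) (u1 : u ≠ 1)
    (v1 : v ≠ 1) : Cn L u v := by
  obtain ⟨u0, hu0, v0, hv0, k1, k2, k3, k4⟩ := link2 h.toOd h'.toOd x1 y1 n1 n2
  have a1 := (h.tr u hu u0 hu0 u1 fun e => k1 (e ▸ one_mem _)).mono (zpowers_le.2 hx)
  have a2 := (h'.orb (h.le hu0) hv0 k1 k4).mono (zpowers_le.2 hy)
  have e : u0 * v0 * u0 = v0 := by
    rw [ab_comm h.ea (h.le hu0) (h'.le hv0), mul_assoc, sq_one h.ea (h.le hu0), mul_one]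
  have a3 := (h.orb (mul_mem (h.le hu0) (h'.le hv0)) hu0 k3 (e.symm ▸ k2)).mono (zpowers_le.2 hx)
  have a4 := (h'.tr v0 hv0 v hv (fun e => k2 (e ▸ one_mem _)) v1).mono (zpowers_le.2 hy)
  exact a1.trans (a2.trans ((e ▸ a3).trans a4))

theorem sq_of_cq (hV : Abelem 2 V) (l : W ≤ V) (h1 : t ∈ cq V W) (h2 : t ∈ C(W)) : t * t ∈ C(V) :=
  mem_cent.2 fun v hv => by
    have k := h1.2 v hv
    have k1 := mem_cent.1 h2 _ k
    have k2 := sq_one hV (l k)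
    generalize hc : t * v * t⁻¹ * v⁻¹ = c at k1 k2
    have e : t * v = c * v * t := by rw [← hc]; group
    calc v * (t * t) = c * c * v * t * t := by rw [k2]; group
      _ = c * (t * v) * t := by rw [e]; group
      _ = t * (c * v * t) := by rw [← mul_assoc, k1]; group
      _ = _ := by rw [← e]; group

/-- the triangular configuration produces an offender -/
theorem tri (h : Od V x) (h' : Sg V y) (nK : K ≤ N(V)) (ff : K ⊓ C(V) = ⊥) (hx : x ∈ K) (hy : y ∈ K)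
    (n1 : bx V x ≤ C[y]) (n2 : ¬ bx V y ≤ C[x]) :
    ∃ T ≤ K, T ≠ ⊥ ∧ (∀ t ∈ T, t * t = 1) ∧ #V ≤ #T * #(V ⊓ C(T)) := by
  have one : ∀ k ∈ K, k ∈ C(V) → k = 1 := fun k h1 h2 => mem_bot.1 (ff ▸ mem_inf.2 ⟨h1, h2⟩)
  set W := V ⊓ C[y] with hW
  set T := K ⊓ (cq V W ⊓ C(W)) with hT
  have xq : x ∈ cq V W := le_cq inf_le_left (le_inf h.le n1) (mem_zpowers x)
  have yW : y ∈ C(W) := le_cent1_iff.1 inf_le_right
  have yT : zpowers y ≤ N(T) := by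
    have : zpowers y ≤ N(W) := norms_of_cents (zpowers_le.2 yW)
    exact norms_inf (norms_of_le (zpowers_le.2 hy)) (norms_inf (norms_cq h'.zn this) (norms_cent this))
  have nU : ∀ t ∈ cq V W, t ∈ N(bx V y) → bx V y ≤ C[t] := fun t ht n u hu => mem_cent1.2 (by
    have := h'.one (mul_mem (conj_mem_of_norm n hu) (inv_mem hu)) (ht.2 u (h'.le hu)).2
    rw [mul_inv_eq_one, mul_inv_eq_iff_eq_mul] at this
    exact this.symm)
  have ht : y⁻¹ * (x * y * x⁻¹) ∈ T := by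
    refine mem_inf.2 ⟨mul_mem (inv_mem hy) (mul_mem (mul_mem hx hy) (inv_mem hx)), mem_inf.2 ⟨?_,
      mul_mem (inv_mem yW) (conj_mem_of_norm (norm_le_norm_cent _ xq.1) yW)⟩⟩
    have := mul_mem (conj_mem_of_norm' (norm_cq h'.n (cent_le_norm _ yW)) xq) (inv_mem xq)
    convert this using 1; group
  have t1 : y⁻¹ * (x * y * x⁻¹) ≠ 1 := fun e => n2 (nU x xq (mem_norm_iff_cj.2 (by
    rw [cj_bx h.n, ← inv_mul_eq_one.1 e])))
  generalize y⁻¹ * (x * y * x⁻¹) = t at ht t1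
  have key : ∀ k ∈ zpowers y, k ∈ C[t] → k = 1 := fun k hk c => by_contra fun k1 => by
    have zc : zpowers y ≤ C[k] := le_cent1_iff.2 (cents_of_comm (comm_zpowers y) le_rfl le_rfl hk)
    have e1 : bx V y ⊓ C(zpowers k) = ⊥ := by_contra fun m => by
      obtain ⟨u, ⟨hu, cu⟩, u1⟩ := exists_ne_one m
      rw [cent_zpowers] at cu
      refine k1 (one k (zpowers_le.2 hy hk) (h'.cent (fun w hw => ?_)
        (inf_le_right.trans (cent1_le_cent1_of_mem_zpowers hk))))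
      by_cases w1 : w = 1
      · exact w1 ▸ one_mem _
      obtain ⟨j, hj, rfl⟩ := h'.tr u hu w hw u1 w1
      exact mul_mem (mul_mem (zc hj) cu) (inv_mem (zc hj))
    have zl : zpowers k ≤ zpowers y := zpowers_le.2 hk
    have e2 : bx V k = bx V y := le_antisymm (commutator_mono le_rfl zl) 
      ((commg_eq_of_cent_eq_bot (zl.trans (commg_normr _ _)) ((h'.cop.coprime_dvd_left
        (card_dvd h'.le)).coprime_dvd_right (card_dvd zl)) (.inl (sol_zpowers k)) e1).ge.trans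
        (commutator_mono h'.le le_rfl))
    refine t1 (one t ht.1 (h'.cent (nU t ht.2.1 ?_) (le_cent1_iff.2 ht.2.2)))
    exact e2 ▸ norms_comm (zpowers_le.2 (nK ht.1)) (zpowers_le.2 (cent1_le_norm_zpowers k
      (mem_cent1_symm.1 c))) (mem_zpowers t)
  refine ⟨T, inf_le_left, ne_bot_of_mem ht t1, fun s hs => one _ (mul_mem hs.1 hs.1)
    (sq_of_cq h.ea inf_le_left hs.2.1 hs.2.2), ?_⟩
  rw [← h'.dp.card, mul_comm]
  refine Nat.mul_le_mul ?_ (card_le (le_inf inf_le_left (cents_symm (inf_le_right.trans inf_le_right))))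
  obtain ⟨u0, hu0, c0⟩ := SetLike.not_le_iff_exists.1 n2
  have u01 : u0 ≠ 1 := fun e => c0 (e ▸ one_mem _)
  have ex : ∀ u : bx V y, ∃ s : T, (u = 1 ∧ s = 1) ∨ ∃ k ∈ zpowers y, k * u0 * k⁻¹ = u ∧ k * t * k⁻¹ = s :=
    fun u => by
      by_cases u1 : u = 1
      · exact ⟨1, .inl ⟨u1, rfl⟩⟩
      · obtain ⟨k, hk, e⟩ := h'.tr u0 hu0 u u.2 u01 fun e => u1 (Subtype.ext e)
        exact ⟨⟨_, conj_mem_of_norm (yT hk) ht⟩, .inr ⟨k, hk, e, rfl⟩⟩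
  choose f hf using ex
  refine Nat.card_le_card_of_injective f fun u w e => ?_
  rcases hf u with ⟨a1, a2⟩ | ⟨k, hk, a1, a2⟩ <;> rcases hf w with ⟨b1, b2⟩ | ⟨j, hj, b1, b2⟩
  · rw [a1, b1]
  · rw [← e, a2] at b2; exact absurd (by simpa using b2) t1
  · rw [e, b2] at a2; exact absurd (by simpa using a2) t1
  · have := key _ (mul_mem (inv_mem hj) hk) (mem_cent1.2 (by
      calc _ = j⁻¹ * (k * t * k⁻¹) * k := by group
        _ = _ := by rw [a2, e, ← b2]; group))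
    rw [inv_mul_eq_one] at this
    exact Subtype.ext (by rw [← a1, ← b1, this])

/-- a faithful `2`-reduced module with fixed point free operators -/
structure Md (V K A : Subgroup X) : Prop where
  ea : Abelem 2 V
  n : K ≤ N(V)
  ff : K ⊓ C(V) = ⊥
  sol : Sol K
  o2 : Oc {2} K = ⊥
  fK : Fx A K
  nV : A ≤ N(V)
  fV : V ⊓ C(A) = ⊥

theorem Md.one (h : Md V K A) (h1 : k ∈ K) (h2 : k ∈ C(V)) : k = 1 := mem_bot.1 (h.ff ▸ mem_inf.2 ⟨h1, h2⟩)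

theorem Md.mono (h : Md V K A) (n : L ⊴ K) (nA : A ≤ N(L)) : Md V L A :=
  ⟨h.ea, n.le.trans h.n, le_bot_iff.1 (h.ff ▸ inf_le_inf_right _ n.le), sol_mono h.sol n.le,
    le_bot_iff.1 (h.o2 ▸ Oc_le_Oc n), h.fK.mono n.le nA, h.nV, h.fV⟩

theorem Fx.blk (h : Fx A K) (l : L ≤ K) (lA : B ≤ A) (nB : B ≤ N(L)) (hf : L ⊓ H = ⊥)
    (hb : ∀ a ∈ A, a ∉ B → cj a L ≤ H ⊓ C(L)) : Fx B L :=
  ⟨h.ok.mono lA (card_dvd l), nB, le_bot_iff.1 fun y hy => hf ▸ mem_inf.2 ⟨hy.1, op h.n h.f (l hy.1) fun a ha ne => by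
    have := hb a ha (fun m => ne (by rw [mem_cent.1 hy.2 a m]; group)) (conj_mem_cj.2 hy.1)
    exact ⟨this.1, cent_le_cent1 hy.1 this.2⟩⟩⟩

theorem comm_closure {s : Set X} (l : W ≤ V) (h : ∀ x ∈ s, bx V x ≤ W) : ⁅V, closure s⁆ ≤ W :=
  (commutator_mono le_rfl ((closure_le _).2 fun x hx => le_cq l (h x hx) (mem_zpowers x))).trans comm_cq

theorem norm_closure {s : Set X} (h : ∀ x ∈ s, g * x * g⁻¹ ∈ s) : g ∈ N(closure s) :=
  mem_norm_of_cj_le (by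
    rw [cj_closure]
    exact closure_mono (by rintro _ ⟨x, hx, rfl⟩; exact h x hx))

theorem Md.comm (h : Md V K A) (h1 : L ≤ K) (h2 : M ≤ K) (c1 : ⁅V, L⁆ ≤ C(M)) (c2 : ⁅V, M⁆ ≤ C(L)) :
    L ≤ C(M) := commg_eq_bot.1 (le_bot_iff.1 (h.ff ▸ le_inf (commg_le_of_le h1 h2) (commg_eq_bot.1
      (three_subgroup (by rw [commg_comm M]; exact commg_eq_bot.2 c2) (commg_eq_bot.2 c1)))))

theorem Md.sing0 (h : Md V K A) (ff : ∀ T ≤ K, (∀ t ∈ T, t * t = 1) → #V ≤ #T * #(V ⊓ C(T)) → T = ⊥)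
    (hx : x ∈ K) (sx : Sg V x) : x = 1 := by
  by_contra x1
  set M := K ⊔ A with hM
  have nM : M ≤ N(V) := sup_le h.n h.nV
  have nK : M ≤ N(K) := sup_le le_normalizer h.fK.n
  have xC : ∀ g ∈ M, g * x * g⁻¹ ∉ C(V) := fun g hg c =>
    x1 (by simpa using h.one (conj_mem_of_norm (nK hg) hx) c)
  obtain ⟨u, hu, u1, -⟩ := exists4 (sx.four (by simpa using xC 1 (one_mem _))) 1 1 1
  set K0 := closure {y | ∃ g ∈ M, g * x * g⁻¹ = y} with hK0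
  have n0 : M ≤ N(K0) := fun g hg => norm_closure (by
    rintro _ ⟨k, hk, rfl⟩; exact ⟨g * k, mul_mem hg hk, by group⟩)
  have l0 : K0 ≤ K := (closure_le _).2 (by rintro _ ⟨k, hk, rfl⟩; exact conj_mem_of_norm (nK hk) hx)
  have m0 : ∀ g ∈ M, g * x * g⁻¹ ∈ K0 := fun g hg => subset_closure ⟨g, hg, rfl⟩
  set L := K0 ⊔ (M ⊓ C[u]) with hL
  have lL : L ≤ M := sup_le (l0.trans le_sup_left) inf_le_left
  have mL : ∀ g ∈ L, ∃ k ∈ K0, g * u * g⁻¹ = k * u * k⁻¹ := fun g hg => by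
    obtain ⟨k, hk, c, hc, rfl⟩ := (mem_sup_of_norm (inf_le_left.trans n0)).1 hg
    exact ⟨k, hk, by rw [mul_assoc k, mem_cent1.1 hc.2]; group⟩
  set K1 := closure {y | ∃ g ∈ L, g * x * g⁻¹ = y} with hK1
  set K2 := closure {y | ∃ g ∈ M, g ∉ L ∧ g * x * g⁻¹ = y} with hK2
  have n1 : L ≤ N(K1) := fun g hg => norm_closure (by
    rintro _ ⟨k, hk, rfl⟩; exact ⟨g * k, mul_mem hg hk, by group⟩)
  have l1 : K1 ≤ K0 := closure_mono (by rintro _ ⟨k, hk, rfl⟩; exact ⟨k, lL hk, rfl⟩)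
  have l2 : K2 ≤ K0 := closure_mono (by rintro _ ⟨k, hk, -, rfl⟩; exact ⟨k, hk, rfl⟩)
  have e0 : K0 ≤ K1 ⊔ K2 := (closure_le _).2 (by
    rintro _ ⟨k, hk, rfl⟩
    by_cases m : k ∈ L
    · exact mem_sup_left (subset_closure ⟨k, m, rfl⟩)
    · exact mem_sup_right (subset_closure ⟨k, hk, m, rfl⟩))
  have sep : ∀ g ∈ L, ∀ k ∈ M, k ∉ L → bx V (g * x * g⁻¹) ≤ C[k * x * k⁻¹] ∧ bx V (k * x * k⁻¹) ≤ C[g * x * g⁻¹] :=
    fun g hg k hk m => by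
      have s1 := sx.J (nM (lL hg))
      have s2 := sx.J (nM hk)
      have t1 := fun a b => tri s1.toOd s2 h.n h.ff (l0 (m0 g (lL hg))) (l0 (m0 k hk)) a b
      have t2 := fun a b => tri s2.toOd s1 h.n h.ff (l0 (m0 k hk)) (l0 (m0 g (lL hg))) a b
      by_cases a : bx V (g * x * g⁻¹) ≤ C[k * x * k⁻¹]
      · refine ⟨a, by_contra fun b => ?_⟩
        obtain ⟨T, l, ne, k1, k2⟩ := t1 a b
        exact ne (ff T l k1 k2)
      by_cases b : bx V (k * x * k⁻¹) ≤ C[g * x * g⁻¹]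
      · obtain ⟨T, l, ne, k1, k2⟩ := t2 b a
        exact absurd (ff T l k1 k2) ne
      obtain ⟨j, hj, e⟩ := link s1 s2 (xC g (lL hg)) (xC k hk) a b (m0 g (lL hg)) (m0 k hk)
        (cj_bx (nM (lL hg)) ▸ conj_mem_cj.2 hu) (cj_bx (nM hk) ▸ conj_mem_cj.2 hu) (by simpa) (by simpa)
      refine absurd ?_ m
      have : (j * g)⁻¹ * k ∈ L := mem_sup_right (mem_inf.2 ⟨mul_mem (inv_mem (mul_mem (mem_sup_left (l0 hj)) (lL hg))) hk,
        mem_cent1.2 (by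
          calc _ = (j * g)⁻¹ * (k * u * k⁻¹) * k := by group
            _ = _ := by rw [← e]; group)⟩)
      simpa only [mul_inv_cancel_left] using mul_mem (mul_mem (mem_sup_left hj) hg) this
  have c1 : ⁅V, K1⁆ ≤ V ⊓ C(K2) := comm_closure inf_le_left (by
    rintro _ ⟨g, hg, rfl⟩
    refine le_inf (sx.J (nM (lL hg))).le (cents_symm ((closure_le _).2 ?_))
    rintro _ ⟨k, hk, m, rfl⟩
    exact le_cent1_iff.1 (sep g hg k hk m).1)
  have c2 : ⁅V, K2⁆ ≤ V ⊓ C(K1) := comm_closure inf_le_left (by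
    rintro _ ⟨k, hk, m, rfl⟩
    refine le_inf (sx.J (nM hk)).le (cents_symm ((closure_le _).2 ?_))
    rintro _ ⟨g, hg, rfl⟩
    exact le_cent1_iff.1 (sep g hg k hk m).2)
  have c3 : K2 ≤ C(K1) := h.comm (l2.trans l0) (l1.trans l0) (c2.trans inf_le_right) (c1.trans inf_le_right)
  have cjK : ∀ a ∈ A, a ∉ A ⊓ L → cj a K1 ≤ K2 := fun a ha m => by
    rw [cj_closure]
    refine closure_mono ?_
    rintro _ ⟨_, ⟨g, hg, rfl⟩, rfl⟩
    exact ⟨a * g, mul_mem (mem_sup_right ha) (lL hg), fun k => m ⟨ha, by simpa using mul_mem k (inv_mem hg)⟩,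
      by group⟩
  have lU : ⁅V, K1⁆ ≤ V := c1.trans inf_le_left
  have f1 : Fx (A ⊓ L) K1 := h.fK.blk (H := C(⁅V, K1⁆)) (l1.trans l0) inf_le_left (inf_le_right.trans n1) (by
    have k0 : K0 ≤ N(K1) := le_sup_left.trans n1
    refine le_bot_iff.1 ((h.mono ⟨l0, le_sup_left.trans n0⟩ (le_sup_right.trans n0)).o2 ▸ le_Oc
      ⟨inf_le_left.trans l1, norms_inf k0 (norms_cent (norms_comm (l0.trans h.n) k0))⟩
      (ab_pg (abelem_of_sq fun t ht => h.one (l0 (l1 (mul_mem ht.1 ht.1)))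
        (sq_of_cq h.ea lU (le_cq lU le_rfl ht.1) ht.2)))))
    fun a ha m => (cjK a ha m).trans (le_inf (cents_symm (c1.trans inf_le_right)) c3)
  have x1' : x ∈ K1 := subset_closure ⟨1, one_mem _, by simp⟩
  have uU : u ∈ ⁅V, K1⁆ := commutator_mono le_rfl (zpowers_le.2 x1') hu
  obtain ⟨n, hn, c⟩ := f1.elt (w := u) fun a ha => by
    obtain ⟨k, hk, e⟩ := mL a ha.2
    obtain ⟨k1, h1, k2, h2, rfl⟩ := (mem_sup_of_norm (norms_of_cents c3)).1 (e0 hk)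
    exact ⟨k1, h1, by rw [e, mul_assoc k1, mem_cent.1 (c1 uU).2 k2 h2]; group⟩
  have wU : n * u * n⁻¹ ∈ ⁅V, K1⁆ := conj_mem_of_norm (commg_normr _ _ hn) uU
  have := op (H := C(K1)) h.nV h.fV (lU wU) fun a ha ne => ⟨by
    have m : a ∉ A ⊓ L := fun m => ne (by rw [mem_cent.1 c a m]; group)
    have : cj a ⁅V, K1⁆ ≤ C(K1) := by
      rw [cj_comm, cj_of_mem_norm (h.nV ha)]
      exact (commutator_mono le_rfl (cjK a ha m)).trans (c2.trans inf_le_right)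
    exact this (conj_mem_cj.2 wU), ab_cent1 h.ea (lU wU) (conj_mem_of_norm (h.nV ha) (lU wU))⟩
  refine u1 (sx.one hu (cent_le_cent1 x1' ?_))
  simpa [mul_assoc] using conj_mem_of_norm' (norm_le_norm_cent _ (le_normalizer hn)) this

end H8.FS
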