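import Cfsg.Agent.H8.FS2

/-! Involutions with large centraliser in the module: preliminaries and the abelian case. -/

set_option autoImplicit false
set_option linter.unusedVariables false
set_option linter.unusedSectionVars false

namespace H8.FS
open Cfsg Subgroup H18 H17.GS
open H19 hiding eq_bot_mono
open scoped commutatorElement

theorem det_neg {r : ℕ} [Fact r.Prime] {W : Type*} [AddCommGroup W] [Module (ZMod r) W] [Finite W]
    (φ : W →ₗ[ZMod r] W) {d : W} (d0 : d ≠ 0) (h1 : φ d = -d) (h : ∀ c, ∃ k : ℤ, φ c - c = k • d) :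
    LinearMap.det φ = -1 := by
  have hm : ∀ c, (φ - LinearMap.id : W →ₗ[ZMod r] W) c ∈ Submodule.span (ZMod r) {d} := fun c => by
    obtain ⟨k, e⟩ := h c
    rw [LinearMap.sub_apply, LinearMap.id_apply, e]
    exact Submodule.smul_of_tower_mem _ k (Submodule.mem_span_singleton_self d)
  set f : Module.Dual (ZMod r) W := (LinearEquiv.coord (ZMod r) W d d0).toLinearMap ∘ₗ
    LinearMap.codRestrict _ (φ - LinearMap.id) hm with hf
  have k : ∀ c, f c • d = φ c - c := fun c => LinearEquiv.coord_apply_smul (ZMod r) W d d0 _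
  have e : φ = LinearMap.transvection f d := by
    ext c; rw [LinearMap.transvection.apply, k]; abel
  have e2 : f d = -2 := smul_left_injective (ZMod r) d0 (by
    show f d • d = (-2 : ZMod r) • d
    rw [k, h1, neg_smul, two_smul]; abel)
  rw [e, LinearMap.transvection.det, e2]; ring

theorem det_hom {r : ℕ} (hr : r.Prime) (r2 : r ≠ 2) (C : Type*) [CommGroup C] [Finite C] (ex : ∀ c : C, c ^ r = 1) :
    ∃ δ : MulAut C →* (ZMod r)ˣ, ∀ (φ : MulAut C) (d : C), d ≠ 1 → φ d = d⁻¹ →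
      (∀ c, φ c * c⁻¹ ∈ zpowers d) → δ φ ≠ 1 := by
  have := Fact.mk hr
  letI : Module (ZMod r) (Additive C) := AddCommGroup.zmodModule fun x => ex x.toMul
  let L : MulAut C → Additive C →ₗ[ZMod r] Additive C := fun φ =>
    (MonoidHom.toAdditive φ.toMonoidHom).toZModLinearMap r
  let δ : MulAut C →* ZMod r :=
    { toFun := fun φ => LinearMap.det (L φ)
      map_one' := LinearMap.det_id
      map_mul' := fun φ ψ => LinearMap.det_comp (L φ) (L ψ) }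
  refine ⟨δ.toHomUnits, fun φ d d1 h1 h e => ?_⟩
  have e1 : LinearMap.det (L φ) = 1 := congrArg Units.val e
  rw [det_neg (L φ) (d := Additive.ofMul d) d1 (congrArg Additive.ofMul h1) fun c => by
    obtain ⟨k, hk⟩ := h c.toMul
    exact ⟨k, by rw [sub_eq_add_neg]; exact congrArg Additive.ofMul hk.symm⟩] at e1
  have : ((2 : ℕ) : ZMod r) = 0 := by push_cast; linear_combination -e1
  exact r2 ((Nat.prime_dvd_prime_iff_eq hr Nat.prime_two).1 ((ZMod.natCast_eq_zero_iff 2 r).1 this))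

universe u
variable {X : Type u} [Group X] [Finite X] {A B C D E F G H K L M N O P Q R S T U V W Y Z : Subgroup X}
  {a b c d e g k n s t u v w x y z : X} {p r : ℕ}

local notation "p2" => Nat.prime_two

theorem det_false (hr : r.Prime) (r2 : r ≠ 2) (hC : Abelem r C) (nK : K ≤ N(C)) (nA : A ≤ N(C))
    (hK : K ≤ ⁅A, K⁆) (he : e ∈ K) (hd : d ∈ C) (d1 : d ≠ 1) (i : e * d * e⁻¹ = d⁻¹)
    (h : ∀ c ∈ C, e * c * e⁻¹ * c⁻¹ ∈ zpowers d) : False := by
  letI : CommGroup C := { (inferInstance : Group C) with mul_comm := hC.1.is_comm.comm }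
  obtain ⟨δ, hδ⟩ := det_hom hr r2 C fun c => Subtype.ext (hC.2 c c.2)
  set f := δ.comp C.normalizerMonoidHom with hf
  have k : im f K = ⊥ := le_bot_iff.1 ((im_mono hK).trans (by
    rw [im_comm nA nK]
    exact commg_le_iff.2 fun x _ y _ => by simp [mul_comm]))
  refine hδ (C.normalizerMonoidHom ⟨e, nK he⟩) ⟨d, hd⟩ (fun e => d1 (congrArg Subtype.val e)) (Subtype.ext i)
    (fun c => ?_) (mem_bot.1 (k ▸ mem_im_of (f := f) (x := ⟨e, nK he⟩) he))
  obtain ⟨j, hj⟩ := h c c.2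
  exact ⟨j, Subtype.ext (by simpa using hj)⟩

theorem mem_zp_sq (h : PiE {2}ᶜ d) : d ∈ zpowers (d * d) := by
  rw [← pow_two, mem_zpowers_pow_iff]
  exact (h.coprime_prime p2).symm

theorem odd_sq (h : PiE {2}ᶜ d) (h2 : d * d ∈ H) : d ∈ H := zpowers_le.2 h2 (mem_zp_sq h)

theorem inv_norm (i : e * d * e⁻¹ = d⁻¹) : e ∈ N(zpowers d) :=
  mem_norm_iff_cj.2 (by rw [cj_zpowers, i, zpowers_inv])

theorem inv_sq (e2 : e * e = 1) (i : e * d * e⁻¹ = d⁻¹) : d * e * d⁻¹ * e = d * d := by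
  have : e⁻¹ = e := inv_eq_of_mul_eq_one_right e2
  calc _ = d * (e * d * e⁻¹)⁻¹ := by rw [mul_inv_rev, mul_inv_rev, inv_inv, this]; group
    _ = _ := by rw [i, inv_inv]

theorem inv_cent (e2 : e * e = 1) (o : PiE {2}ᶜ d) (i : e * d * e⁻¹ = d⁻¹) (he : e ∈ C(W)) (hd : d ∈ N(W)) :
    d ∈ C(W) := odd_sq o (inv_sq e2 i ▸ mul_mem (conj_mem_of_norm (norm_le_norm_cent _ hd) he) he)

theorem inv_one (o : PiE {2}ᶜ d) (i : e * d * e⁻¹ = d⁻¹) (c : d ∈ C[e]) : d = 1 :=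
  mem_bot.1 (odd_sq o (by
    rw [← mem_cent1.1 c, mul_inv_cancel_right] at i
    exact mem_bot.2 (mul_eq_one_iff_eq_inv.2 i)))

theorem comm_inv (e2 : e * e = 1) : e * (c * e * c⁻¹ * e⁻¹) * e⁻¹ = (c * e * c⁻¹ * e⁻¹)⁻¹ := by
  have : e⁻¹ = e := inv_eq_of_mul_eq_one_right e2
  calc _ = e * c * e * c⁻¹ * (e * e)⁻¹ := by group
    _ = e * c * e⁻¹ * c⁻¹ := by rw [e2, this]; group
    _ = _ := by group

theorem inv_bound (h : Od V d) (ne : e ∈ N(V)) (e2 : e * e = 1) (b : #V ≤ 4 * #(V ⊓ C[e]))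
    (i : e * d * e⁻¹ = d⁻¹) : #(bx V d) ≤ 16 ∧ (V ⊓ C[d] ≤ C[e] ∨ #(bx V d) ≤ 4) := by
  have n1 : zpowers e ≤ N(zpowers d) := zpowers_le.2 (inv_norm i)
  have n0 : zpowers e ≤ N(V) := zpowers_le.2 ne
  have e1 := sup_inf_cent_of_disjoint (X := V ⊓ C[d]) (Y := bx V d)
    (norms_inf n0 (cent_zpowers d ▸ norms_cent n1)) (norms_comm n0 n1) (norms_of_cents (cents_symm h.dp.cent)) h.dp.inf
  rw [h.dp.sup, cent_zpowers] at e1
  have c1 : #(V ⊓ C[e]) ≤ #(V ⊓ C[d] ⊓ C[e]) * #(bx V d ⊓ C[e]) := e1 ▸ Nat.le_of_dvd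
    (Nat.mul_pos (card_pos _) (card_pos _)) (card_sup_dvd (norms_of_comm h.ea.1 (inf_le_left.trans h.le)
      (inf_le_left.trans inf_le_left)))
  have c2 : #(bx V d ⊓ C[e]) * #(bx V d ⊓ C[e]) ≤ #(bx V d) := by
    have l : cj d (bx V d ⊓ C[e]) ≤ bx V d := cj_le_of_mem_norm h.nb inf_le_left
    have := card_sup_of_disjoint (A := cj d (bx V d ⊓ C[e])) (B := bx V d ⊓ C[e])
      (norms_of_comm h.ea.1 (inf_le_left.trans h.le) (l.trans h.le)) (le_bot_iff.1 fun u ⟨h1, h2⟩ =>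
        h.one h2.1 (mem_cent1_symm.1 (odd_sq h.o (inv_sq e2 i ▸ mul_mem (mem_cent1_symm.1
          (H19.cj_cent1 d e ▸ cj_mono d inf_le_right h1)) (mem_cent1_symm.1 h2.2)))))
    rw [card_cj] at this
    exact this ▸ card_le (sup_le l inf_le_left)
  have c3 := h.dp.card
  have c4 : #(V ⊓ C[d] ⊓ C[e]) ≤ #(V ⊓ C[d]) := card_le inf_le_left
  have p1 := card_pos (V ⊓ C[d])
  have p3 := card_pos (bx V d ⊓ C[e])
  have c5 : V ⊓ C[d] ≤ C[e] ∨ #(V ⊓ C[d] ⊓ C[e]) * 2 ≤ #(V ⊓ C[d]) := by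
    by_cases m : V ⊓ C[d] ≤ C[e]
    · exact .inl m
    · exact .inr (pg_lt_card ((ab_pg h.ea).of_le inf_le_left) (lt_of_le_of_ne inf_le_left fun e => m (e ▸ inf_le_right)))
  generalize #(V ⊓ C[d] ⊓ C[e]) = x0 at *
  generalize #(V ⊓ C[d]) = x1 at *
  generalize #(bx V d ⊓ C[e]) = y0 at *
  generalize #(bx V d) = y1 at *
  have k1 : y1 ≤ 4 * y0 := Nat.le_of_mul_le_mul_left (a := y1) (c := x1) (by nlinarith) p1
  refine ⟨by nlinarith, c5.imp_right fun c5 => ?_⟩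
  have k2 : y1 ≤ 2 * y0 := Nat.le_of_mul_le_mul_left (a := y1) (c := x1) (by nlinarith) p1
  nlinarith

theorem Od.sg (h : Od V d) (c : #(bx V d) ≤ 4) : Sg V d := ⟨h, fun u hu w hw u1 w1 => by
  by_contra k
  have k' : ∀ j ∈ zpowers d, j * u * j⁻¹ ≠ w := fun j hj e => k ⟨j, hj, e⟩
  have m := mem_zpowers d
  have f : ∀ j, d ∈ zpowers j → j * u * j⁻¹ ≠ u := fun j hj e => u1 (h.one hu
    (cent1_le_cent1_of_mem_zpowers hj (mem_cent1.2 (mul_inv_eq_iff_eq_mul.1 e).symm)))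
  have a1 := f d m
  have a2 := f _ (mem_zp_sq h.o)
  have a3 : d * d * u * (d * d)⁻¹ ≠ d * u * d⁻¹ := fun e => a1 (by
    calc _ = d⁻¹ * (d * d * u * (d * d)⁻¹) * d := by group
      _ = _ := by rw [e]; group)
  have b1 : u ≠ w := by simpa using k' 1 (one_mem _)
  have b2 := k' d m
  have b3 := k' _ (mul_mem m m)
  have d1 : d * u * d⁻¹ ≠ 1 := by simpa
  have d2 : d * d * u * (d * d)⁻¹ ≠ 1 := by simpa only [ne_eq, conj_eq_one_iff]
  have m1 := conj_mem_of_norm h.nb hu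
  have m2 := conj_mem_of_norm (mul_mem h.nb h.nb) hu
  generalize d * d * u * (d * d)⁻¹ = u2 at *
  generalize d * u * d⁻¹ = u1' at *
  have : ({u2, u1', u, w, 1} : Set X) ⊆ bx V d := by
    rintro _ (rfl | rfl | rfl | rfl | rfl)
    exacts [m2, m1, hu, hw, one_mem _]
  have h1 := Set.ncard_le_ncard this (Set.toFinite _)
  rw [Set.ncard_insert_of_notMem (by simp [*]), Set.ncard_insert_of_notMem (by simp [*]),
    Set.ncard_insert_of_notMem (by simp [*]), Set.ncard_pair w1] at h1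
  have h3 : (bx V d : Set X).ncard = #(bx V d) := (Nat.card_coe_set_eq _).symm
  omega⟩

theorem og_Fit (h : Oc {2} K = ⊥) : OG (Fit K) := (h ▸ Oc_Fit_syl 2 K).pi'_of_eq_bot

theorem Md.t4 (h : Md V K A) (hd : d ∈ Fit K) (c : #(bx V d) ≤ 4) : d = 1 :=
  (h.mono (Fit_normal K) (norms_Fit h.fK.n)).sing0 (fun T l k _ => le_bot_iff.1 fun t ht =>
    (og_Fit h.o2).eq_one (l ht) (k t ht)) hd (Od.sg ⟨h.ea, h.n (Fit_le K hd), (og_Fit h.o2).elt hd⟩ c)

/-- a minimal invariant `r`-subgroup not centralised by `e` -/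
structure Mc (V K A C : Subgroup X) (e : X) (r : ℕ) : Prop extends Md V K A where
  he : e ∈ K
  e2 : e * e = 1
  b : #V ≤ 4 * #(V ⊓ C[e])
  pr : r.Prime
  r2 : r ≠ 2
  le : C ≤ Fit K
  nC : K ⊔ A ≤ N(C)
  ne : e ∉ C(C)
  ex : ∀ c ∈ C, c ^ r = 1
  min : ∀ D < C, K ⊔ A ≤ N(D) → D ≤ C(C) ⊓ C[e]

theorem pow_cls {a b c : X} (h : b * a = a * b * c) (h1 : Commute a c) (h2 : Commute b c) (n : ℕ) :
    (a * b) ^ n = a ^ n * b ^ n * c ^ n.choose 2 ∧ b ^ n * a = a * b ^ n * c ^ n := by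
  induction n with
  | zero => simp
  | succ n ih =>
    have c1 : ∀ k, c ^ k * a = a * c ^ k := fun k => (h1.symm.pow_left k).eq
    have c2 : ∀ k, c ^ k * b = b * c ^ k := fun k => (h2.symm.pow_left k).eq
    constructor
    · rw [pow_succ, ih.1, Nat.choose_succ_succ' n 1, Nat.choose_one_right, pow_add]
      calc _ = a ^ n * b ^ n * (c ^ n.choose 2 * a) * b := by group
        _ = a ^ n * (b ^ n * a) * (c ^ n.choose 2 * b) := by rw [c1]; group
        _ = a ^ n * a * b ^ n * (c ^ n * b) * c ^ n.choose 2 := by rw [ih.2, c2]; group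
        _ = _ := by rw [c2]; group
    · calc _ = b * (b ^ n * a) := by group
        _ = b * a * b ^ n * c ^ n := by rw [ih.2]; group
        _ = a * b * (c * b ^ n) * c ^ n := by rw [h]; group
        _ = _ := by rw [(h2.symm.pow_right n).eq]; group

theorem exists_comm (h : e ∉ C(C)) : ∃ c ∈ C, c * e * c⁻¹ * e⁻¹ ≠ 1 := by
  by_contra! k
  exact h (mem_cent.2 fun c hc => by rw [← mul_inv_eq_one, ← k c hc]; group)

theorem Md.mc (h : Md V K A) (he : e ∈ K) (e2 : e * e = 1) (e1 : e ≠ 1) (b : #V ≤ 4 * #(V ⊓ C[e])) :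
    ∃ C r, Mc V K A C e r := by
  have oF := og_Fit h.o2
  obtain ⟨r, hr, nr⟩ : ∃ r, r.Prime ∧ ¬ Oc {r} K ≤ C[e] := by
    by_contra! k
    exact e1 (oF.eq_one (cent_Fit_le h.sol ⟨he, le_cent1_iff.1 (Fit_le_of_Oc k)⟩) e2)
  have r2 : r ≠ 2 := fun e => nr (e ▸ h.o2 ▸ bot_le)
  have nK : K ⊔ A ≤ N(K) := sup_le le_normalizer h.fK.n
  obtain ⟨C, ⟨lC, nC, ne⟩, mn⟩ := (wellFounded_lt (α := Subgroup X)).has_min
    {C | C ≤ Oc {r} K ∧ K ⊔ A ≤ N(C) ∧ e ∉ C(C)} ⟨_, le_rfl, norms_Oc _ nK, fun k => nr (le_cent1_iff.2 k)⟩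
  have lF := lC.trans (Oc_le_Fit r K)
  have lK := lF.trans (Fit_le K)
  have oC : OG C := oF.of_le lF
  have eM : zpowers e ≤ K ⊔ A := zpowers_le.2 (mem_sup_left he)
  have m1 : ∀ D < C, K ⊔ A ≤ N(D) → Kc (zpowers e) (K ⊔ A) ≤ C(D) := fun D l n =>
    Kc_cents (zpowers_le.2 (by_contra fun k => mn D ⟨l.le.trans lC, n, k⟩ l)) n
  have m2 : ⁅C, Kc (zpowers e) (K ⊔ A)⁆ = C := by_contra fun k => ne (cents_of_commg_le_cent (eM.trans nC)
    (oC.cop (pg_zpowers e2)) ((commutator_mono le_rfl le_Kc).trans (cents_symm (le_Kc.trans (m1 _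
      (lt_of_le_of_ne (commg_le_left ((Kc_le eM).trans nC)) k) (norms_comm nC Kc_norm))))) (mem_zpowers e))
  have m3 : ∀ D < C, K ⊔ A ≤ N(D) → D ≤ C(C) ⊓ C[e] := fun D l n => by
    refine le_inf (cents_symm (commg_eq_bot.1 ?_)) (le_cent1_iff.2 (m1 D l n (le_Kc (mem_zpowers e))))
    rw [← m2]
    refine three_subgroup (by rw [commg_eq_bot.2 (m1 D l n)]; simp) (commg_eq_bot.2 ?_)
    exact (commg_le_left (lK.trans (le_sup_left.trans n))).trans (cents_symm (m1 D l n))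
  refine ⟨C, r, h, he, e2, b, hr, r2, lF, nC, ne, ?_, m3⟩
  have pC : PG r C := (Oc_pi _ K).of_le lC
  have d1 : ⁅C, C⁆ ≤ C(C) := (m3 _ (sol_der_lt pC.sol fun e => ne (by simp [e])) (norms_der nC)).trans inf_le_left
  obtain ⟨c, hc, c1⟩ := exists_comm ne
  have hd : c * e * c⁻¹ * e⁻¹ ∈ C := by
    have := mul_mem hc (conj_mem_of_norm (nC (mem_sup_left he)) (inv_mem hc))
    simpa only [mul_assoc] using this
  obtain ⟨d, hd', o⟩ := exists_orderOf_eq_prime hr ((pC.of_le (zpowers_le.2 hd)).dvd_of_ne_bot (by simpa))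
  obtain ⟨j, rfl⟩ := mem_zpowers_iff.1 hd'
  have m4 : Ohm1 r C = C := by_contra fun k => by
    have := inv_one (oC.elt (zpow_mem hd j)) (by rw [← conj_zpow, comm_inv e2, inv_zpow]) (m3 _ (lt_of_le_of_ne
      (Ohm1_le r C) k) (norms_Ohm1 r nC) (H19.mem_Ohm1 (zpow_mem hd j) (o ▸ pow_orderOf_eq_one _))).2
    rw [this, orderOf_one] at o
    exact hr.one_lt.ne o
  let Ω : Subgroup X :=
    { carrier := {x | x ∈ C ∧ x ^ r = 1}
      one_mem' := ⟨one_mem _, one_pow _⟩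
      inv_mem' := fun {x} (hx : x ∈ C ∧ x ^ r = 1) => ⟨inv_mem hx.1, (inv_pow x r).trans (inv_eq_one.2 hx.2)⟩
      mul_mem' := fun {x y} hx hy => ⟨mul_mem hx.1 hy.1, by
        have m := d1 (comm_mem (inv_mem hy.1) (inv_mem hx.1))
        obtain ⟨k1, k2⟩ := pow_cls (a := x) (b := y) (c := y⁻¹ * x⁻¹ * y⁻¹⁻¹ * x⁻¹⁻¹) (by group)
          (mem_cent.1 m x hx.1) (mem_cent.1 m y hy.1) r
        rw [hy.2, one_mul, mul_one, left_eq_mul] at k2
        obtain ⟨i, hi⟩ : r ∣ r.choose 2 := hr.dvd_choose_self two_ne_zero (lt_of_le_of_ne hr.two_le r2.symm)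
        rw [k1, hx.2, hy.2, hi, pow_mul, k2]; simp⟩ }
  exact fun x hx => ((Ohm1_le_iff (K := Ω)).2 (fun x h1 h2 => ⟨h1, h2⟩) (m4.symm ▸ hx)).2

theorem Mc.lK (h : Mc V K A C e r) : C ≤ K := h.le.trans (Fit_le K)
theorem Mc.og (h : Mc V K A C e r) : OG C := (og_Fit h.o2).of_le h.le
theorem Mc.od (h : Mc V K A C e r) (hd : d ∈ C) : Od V d := ⟨h.ea, h.n (h.lK hd), h.og.elt hd⟩
theorem Mc.eN (h : Mc V K A C e r) : e ∈ N(C) := h.nC (mem_sup_left h.he)
theorem Mc.cm (h : Mc V K A C e r) (hc : c ∈ C) : c * e * c⁻¹ * e⁻¹ ∈ C := by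
  simpa only [mul_assoc] using mul_mem hc (conj_mem_of_norm h.eN (inv_mem hc))

theorem Mc.ab (h : Mc V K A C e r) (ha : Ab C) : False := by
  have zn : zpowers e ≤ N(C) := zpowers_le.2 h.eN
  have lE : ⁅C, zpowers e⁆ ≤ C := commg_le_left zn
  have iv : ∀ d ∈ ⁅C, zpowers e⁆, e * d * e⁻¹ = d⁻¹ := fun d hd => by
    have m := conj_mem_of_norm (commg_normr _ _ (mem_zpowers e)) hd
    refine eq_inv_of_mul_eq_one_left (mem_bot.1 (ab_commg_inf_cent ha zn (h.og.cop (pg_zpowers h.e2)) ▸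
      mem_inf.2 ⟨mul_mem m hd, ?_⟩))
    rw [cent_zpowers, mem_cent1, mul_comm_of_comm ha (lE m) (lE hd)]
    have : e⁻¹ = e := inv_eq_of_mul_eq_one_right h.e2
    calc _ = d * e * d := by group
      _ = e * e * d * e * d := by rw [h.e2]; group
      _ = e * (e * d * e⁻¹ * d) := by rw [this]; group
      _ = _ := by rw [mul_comm_of_comm ha (lE m) (lE hd)]
  have k : ∀ d ∈ ⁅C, zpowers e⁆, d ≠ 1 → ∀ d' ∈ ⁅C, zpowers e⁆, V ⊓ C[d] ≤ C[d'] := fun d hd d1 d' hd' => by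
    have := (inv_bound (h.od (lE hd)) (h.n h.he) h.e2 h.b (iv d hd)).2.resolve_right
      fun c => d1 (h.toMd.t4 (h.le (lE hd)) c)
    exact le_cent1_iff.2 (inv_cent h.e2 (h.og.elt (lE hd')) (iv d' hd') (le_cent1_iff.1 this)
      (norms_inf (zpowers_le.2 (h.od (lE hd')).n) (norms_cent1 (zpowers_le.2
        (mem_cent1.2 (mul_comm_of_comm ha (lE hd') (lE hd))))) (mem_zpowers d')))
  obtain ⟨c, hc, c1⟩ := exists_comm h.ne
  have hd := comm_mem hc (mem_zpowers e)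
  generalize c * e * c⁻¹ * e⁻¹ = d at c1 hd
  have cy : Cyc ⁅C, zpowers e⁆ := by_contra fun m => c1 (h.one (h.lK (lE hd)) (le_cent1_iff.1
    (le_of_cent1_le (comm_mono ha lE) m (lE.trans (h.lK.trans h.n)) (OG.cop (h.og.of_le lE) (ab_pg h.ea)).symm
      fun x hx x1 => k x hx x1 d hd)))
  obtain ⟨x, hx⟩ := cyc_iff.1 cy
  have mx : x ∈ ⁅C, zpowers e⁆ := hx ▸ mem_zpowers x
  refine det_false h.pr h.r2 ⟨ha, h.ex⟩ (le_sup_left.trans h.nC) (le_sup_right.trans h.nC) h.fK.le_comm h.he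
    (lE mx) (fun e => c1 (by rw [← hx] at hd; simpa [e] using hd)) (iv x mx) fun c hc => ?_
  rw [hx, commg_comm]
  exact comm_mem (mem_zpowers e) hc

end H8.FS
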