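import Cfsg.Agent.H8.FS4

/-! The module lemmas for non faithful actions. -/

set_option autoImplicit false
set_option linter.unusedVariables false
set_option linter.unusedSectionVars false

namespace H8.FS
open Cfsg Subgroup H18 H17.GS
open H19 hiding eq_bot_mono
open scoped commutatorElement

universe u
variable {X : Type u} [Group X] [Finite X] {A B C D E F G H K L M N O P Q R S T U V W Y Z : Subgroup X}
  {a b c d e g k n s t u v w x y z : X} {p r : ℕ}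

local notation "p2" => Nat.prime_two

/-- the holomorph of `V` -/
structure Hol (V : Subgroup X) {Y : Type u} [Group Y] (f : N(V) →* Y) (ι : V →* Y) : Prop where
  inj : Function.Injective ι
  act : ∀ (g : N(V)) (v : V), f g * ι v * (f g)⁻¹ = ι ⟨g * v * g⁻¹, conj_mem_of_norm g.2 v.2⟩
  ker : ∀ g : N(V), (g : X) ∈ C(V) → f g = 1

theorem exists_hol (V : Subgroup X) : ∃ (Y : Type u) (_ : Group Y) (_ : Finite Y) (f : N(V) →* Y) (ι : V →* Y),
    Hol V f ι := by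
  have : Finite (MulAut V) := Finite.of_injective _ MulEquiv.toEquiv_injective
  have : Finite (V ⋊[MonoidHom.id (MulAut V)] MulAut V) := Finite.of_equiv _ SemidirectProduct.equivProd.symm
  refine ⟨V ⋊[MonoidHom.id (MulAut V)] MulAut V, inferInstance, inferInstance,
    SemidirectProduct.inr.comp V.normalizerMonoidHom, SemidirectProduct.inl, SemidirectProduct.inl_injective,
    fun g v => ?_, fun g hg => ?_⟩
  · rw [MonoidHom.comp_apply, ← map_inv, ← SemidirectProduct.inl_aut]; rfl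
  · have : V.normalizerMonoidHom g = 1 := MulEquiv.ext fun v => Subtype.ext (by
      show (g : X) * v * g⁻¹ = v
      rw [← mem_cent.1 hg v v.2]; simp)
    rw [MonoidHom.comp_apply, this, map_one]

namespace Hol
variable {Y : Type u} [Group Y] [Finite Y] {f : N(V) →* Y} {ι : V →* Y} (h : Hol V f ι)
include h

theorem card (l : W ≤ V) : #(im ι W) = #W :=
  (Nat.card_congr (im_equiv_self l fun x hx e => congrArg Subtype.val (h.inj (e.trans (map_one ι).symm))).some.toEquiv).symm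

theorem c1 (g : N(V)) (v : V) : ι v ∈ C[f g] ↔ (v : X) ∈ C[(g : X)] := by
  rw [mem_cent1, mem_cent1, eq_comm, ← mul_inv_eq_iff_eq_mul, h.act, h.inj.eq_iff, Subtype.ext_iff, eq_comm (b := (g : X) * v),
    ← mul_inv_eq_iff_eq_mul]
  rfl

theorem cent (l : E ≤ N(V)) : im ι V ⊓ C(im f E) = im ι (V ⊓ C(E)) := by
  ext y
  constructor
  · rintro ⟨h1, h2⟩
    obtain ⟨v, hv, rfl⟩ := mem_im.1 h1
    exact mem_im_of ⟨hv, mem_cent.2 fun g hg => (mem_cent1.1 ((h.c1 ⟨g, l hg⟩ v).1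
      (cent_le_cent1 (mem_im_of hg) h2))).symm⟩
  · intro h1
    obtain ⟨v, hv, rfl⟩ := mem_im.1 h1
    refine ⟨mem_im_of hv.1, mem_cent.2 fun g hg => ?_⟩
    obtain ⟨g, hg', rfl⟩ := mem_im.1 hg
    exact (mem_cent1.1 ((h.c1 g v).2 (cent_le_cent1 hg' hv.2))).symm

theorem cent1 (g : N(V)) : im ι V ⊓ C[f g] = im ι (V ⊓ C[(g : X)]) := by
  rw [← cent_zpowers, ← im_zpowers, h.cent (zpowers_le.2 g.2), cent_zpowers]

theorem ker' (g : N(V)) (c : f g ∈ C(im ι V)) : (g : X) ∈ C(V) := mem_cent.2 fun v hv =>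
  mem_cent1.1 ((h.c1 g ⟨v, hv⟩).1 (le_cent1_iff.2 c (mem_im_of hv)))

theorem eq_one (g : N(V)) : f g = 1 ↔ (g : X) ∈ C(V) := ⟨fun e => h.ker' g (e ▸ one_mem _), h.ker g⟩

theorem norm (E : Subgroup X) : im f E ≤ N(im ι V) := fun g hg => mem_norm_of_cj_le fun y hy => by
  obtain ⟨g, -, rfl⟩ := mem_im.1 hg
  obtain ⟨y, hy', rfl⟩ := mem_cj'.1 hy
  obtain ⟨v, -, rfl⟩ := mem_im.1 hy'
  rw [h.act]; exact mem_im_of (conj_mem_of_norm g.2 v.2)

theorem card' (l : E ≤ N(V)) : #(E ⊓ C(V)) * #(im f E) = #E := by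
  have l' := l.trans (norm_le_norm_cent V)
  rw [Nat.card_congr (im_equiv (f := f) (f' := qmk C(V)) l l' fun x hx => by
    rw [h.eq_one, qmk_eq_one]).some.toEquiv, card_quo l', inf_comm, card_inf_mul_relIndex]

theorem sg (x : N(V)) (s : Sg V x) : Sg (im ι V) (f x) := by
  have l : bx (im ι V) (f x) ≤ im ι (bx V x) := commg_le_iff.2 fun v hv k hk => by
    rw [← im_zpowers] at hk
    obtain ⟨k, hk', rfl⟩ := mem_im.1 hk
    obtain ⟨v, -, rfl⟩ := mem_im.1 hv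
    rw [← map_inv, mul_assoc, mul_assoc, ← mul_assoc (f k), h.act, ← map_mul]
    refine mem_im_of ?_
    have := comm_mem v.2 hk'
    rw [mul_assoc, mul_assoc, ← mul_assoc (k : X)] at this
    exact this
  refine ⟨⟨abelem_im s.ea ι, h.norm ⊤ (mem_im_of trivial), s.o.dvd ((orderOf_map_dvd f x).trans (by simp))⟩,
    fun u hu w hw u1 w1 => ?_⟩
  obtain ⟨u, hu', rfl⟩ := mem_im.1 (l hu)
  obtain ⟨w, hw', rfl⟩ := mem_im.1 (l hw)
  obtain ⟨k, hk, e⟩ := s.tr u hu' w hw' (fun e => u1 (by rw [show u = 1 from Subtype.ext e, map_one]))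
    (fun e => w1 (by rw [show w = 1 from Subtype.ext e, map_one]))
  exact ⟨f ⟨k, s.zn hk⟩, im_zpowers (f := f) x ▸ mem_im_of hk, by rw [h.act]; exact congrArg ι (Subtype.ext e)⟩

end Hol

/-- `V` is a `2`-reduced module for the solvable group `H` -/
structure Rd (V H A : Subgroup X) : Prop where
  ea : Abelem 2 V
  le : V ≤ H
  n : H ≤ N(V)
  nA : A ≤ N(V)
  fx : Fx A H
  sol : Sol H
  red : ∃ S, Syl 2 S H ∧ ∀ D, D ⊴ H → D ≤ C(V) ⊔ S → D ≤ C(V)

theorem Rd.md {Y : Type u} [Group Y] [Finite Y] {f : N(V) →* Y} {ι : V →* Y} (h : Rd V H A) (k : Hol V f ι) :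
    Md (im ι V) (im f H) (im f A) := by
  refine ⟨abelem_im h.ea ι, k.norm H, le_bot_iff.1 fun y hy => ?_, sol_im h.sol f, ?_, h.fx.im f h.nA h.n,
    k.norm A, ?_⟩
  · obtain ⟨g, -, rfl⟩ := mem_im.1 hy.1
    exact k.ker g (k.ker' g hy.2)
  · obtain ⟨S, hS, r⟩ := h.red
    have := r (H ⊓ pre f (Oc {2} (im f H))) (inf_normal_of_norm' (norms_pre h.n (Oc_norm _ _))) fun g hg => by
      obtain ⟨m, k1⟩ := mem_pre.1 hg.2
      obtain ⟨s, hs, e⟩ := mem_im.1 (Oc_le_hall (hS.im h.n f) k1)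
      have := (k.eq_one (⟨g, m⟩ * s⁻¹)).1 (by rw [map_mul, map_inv, e, mul_inv_cancel])
      rw [← inv_mul_cancel_right g s]
      exact mul_mem_sup this hs
    refine le_bot_iff.1 fun y hy => ?_
    obtain ⟨g, hg, rfl⟩ := mem_im.1 (Oc_le _ _ hy)
    exact k.ker g (this ⟨hg, coe_mem_pre.2 hy⟩)
  · rw [k.cent h.nA, (h.fx.mono h.le h.nA).f, im_bot]

theorem Rd.off (h : Rd V H A) (l : E ≤ H) (hE : ∀ x ∈ E, x * x ∈ C(V))
    (b : #V * #(E ⊓ C(V)) ≤ 2 * #E * #(V ⊓ C(E))) : E ≤ C(V) := by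
  obtain ⟨Y, _, _, f, ι, k⟩ := exists_hol V
  have l' := l.trans h.n
  have := (h.md k).off (im_mono l) (abelem_of_sq fun t ht => by
    obtain ⟨g, hg, rfl⟩ := mem_im.1 ht
    rw [← map_mul]; exact k.ker _ (hE g hg)) (by
      rw [k.cent l', k.card le_rfl, k.card inf_le_left]
      refine Nat.le_of_mul_le_mul_right (b.trans ?_) (card_pos (E ⊓ C(V)))
      rw [← k.card' l']; exact le_of_eq (by ring))
  exact fun g hg => (k.eq_one ⟨g, l' hg⟩).1 (mem_bot.1 (this ▸ mem_im_of hg))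

theorem Rd.n1 (h : Rd V H A) (hy : y ∈ H) (y2 : PiE {2} y) (b : #V ≤ 4 * #(V ⊓ C[y])) : y ∈ C(V) := by
  obtain ⟨Y, _, _, f, ι, k⟩ := exists_hol V
  refine (k.eq_one ⟨y, h.n hy⟩).1 (by_contra fun m => ?_)
  obtain ⟨t, ht, t2⟩ := exists_inv_pg (H := zpowers (f ⟨y, h.n hy⟩))
    (piG_zpowers.2 (y2.dvd ((orderOf_map_dvd f _).trans (by simp)))) (by simpa)
  refine ne_one_of_ord2 t2 ((h.md k).n1 (zpowers_le.2 (mem_im_of hy) ht) (mul_self_of_ord2 t2) ?_)
  rw [k.card le_rfl]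
  refine b.trans (Nat.mul_le_mul_left _ ?_)
  rw [← k.card inf_le_left, ← k.cent1 ⟨y, h.n hy⟩]
  exact card_le (inf_le_inf_left _ (cent1_le_cent1_of_mem_zpowers ht))

theorem Rd.sing (h : Rd V H A) (hx : x ∈ H) (s : Sg V x) : x ∈ C(V) := by
  obtain ⟨Y, _, _, f, ι, k⟩ := exists_hol V
  exact (k.eq_one ⟨x, h.n hx⟩).1 ((h.md k).sing (mem_im_of hx) (k.sg ⟨x, h.n hx⟩ s))

end H8.FS
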