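import Cfsg.Agent.H8.FS5

/-! Solvable overgroups of the Sylow `2`-subgroup normalise `V` modulo the centraliser of `O₂`. -/

set_option autoImplicit false
set_option linter.unusedVariables false
set_option linter.unusedSectionVars false

namespace H8.FS
open Cfsg Subgroup H18 H17.GS
open H19 hiding eq_bot_mono
open H29.PU (zj bm)
open scoped commutatorElement

universe u
variable {X : Type u} [Group X] [Finite X] {A B C D E F G H K L M N O P Q R S T U V W Y Z : Subgroup X}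
  {a b c d e g k n s t u v w x y z : X} {p r : ℕ}

local notation "p2" => Nat.prime_two
local notation:max "Ω(" S ")" => Ohm1 2 Z(S)

theorem rd_kc (hS : Syl 2 S H) (fx : Fx A H) (sol : Sol H) (nA : A ≤ N(S)) (ea : Abelem 2 (Kc Ω(S) H)) :
    Rd (Kc Ω(S) H) H A :=
  ⟨ea, Kc_le ((Ohm1_le _ _).trans (inf_le_left.trans hS.le)), Kc_norm,
    norms_Kc (nA.trans (norm_le_norm_Ohm1_center 2 S)) fx.n, fx, sol, S, hS, fun D n l => cents_symm (Kc_cents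
      (cents_symm (l.trans (sup_le (cent_mono le_Kc) (cents_symm ((Ohm1_le _ _).trans inf_le_right))))) n.norm)⟩

theorem max_bound (hE : H9.MaxAb 2 R E) (hB : B ≤ R) (b : Abelem 2 B) (hV : Abelem 2 V) (l : V ≤ R) :
    #V * #(B ⊓ C(V)) ≤ #E * #(V ⊓ C(B)) := by
  have c : V ≤ C(B ⊓ C(V)) := cents_symm inf_le_right
  rw [← card_sup_mul_inf (norms_of_cents (cents_symm c))]
  exact Nat.mul_le_mul (hE.card_le (sup_le l (inf_le_left.trans hB))
    (H9.abE_iff_ea.2 (abelem_sup hV (abelem_mono b inf_le_left) c)))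
    (card_le (inf_le_inf_left _ (inf_le_left.trans (ab_cent b))))

theorem Rd.le_zj (h : Rd V H A) (l1 : V ≤ R) (l2 : R ≤ H) : V ≤ zj 2 R := fun v hv =>
  H9.mem_omegaOneCenter_JJ_iff.2 fun E hE => hE.le_of_le_centralizer l1 (H9.abE_iff_ea.2 h.ea) (cents_symm
    (h.off (hE.le.trans l2) (fun x hx => sq_one hE.ea hx ▸ one_mem _)
      ((max_bound hE hE.le hE.ea h.ea l1).trans (Nat.mul_le_mul_right _ (by omega))))) hv

theorem ab2 (hQ : PG 2 Q) (ny : y ∈ N(Q)) (o : PiE {2}ᶜ y) (h : Z(Q) ≤ C[y]) : Q ⊓ C(⁅Q, zpowers y⁆) ≤ C[y] := by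
  have zn := zpowers_le.2 ny
  have cp : (#Q).Coprime #(zpowers y) := hQ.coprime (piG_zpowers.2 o)
  have l1 : ⁅Q, zpowers y⁆ ≤ Q := commg_le_left zn
  have n1 := commg_normr Q (zpowers y)
  have n2 : zpowers y ≤ N(Z(⁅Q, zpowers y⁆)) := n1.trans (norm_le_norm_center _)
  have l2 : ⁅Z(⁅Q, zpowers y⁆), zpowers y⁆ ≤ Z(⁅Q, zpowers y⁆) := commg_le_left n2
  have cp2 := cp.coprime_dvd_left (card_dvd (inf_le_left.trans l1 : Z(⁅Q, zpowers y⁆) ≤ Q))
  have e : ⁅Z(⁅Q, zpowers y⁆), zpowers y⁆ = ⊥ := by_contra fun m => hQ.of_le (l2.trans (inf_le_left.trans l1))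
    |>.meet_cent hQ (by
      have := sup_le (norms_of_cents (cents_symm (l2.trans inf_le_right))) (norms_comm (A := Q ⊓ C(zpowers y))
        (inf_le_left.trans ((commg_norml Q _).trans (norm_le_norm_center _))) (norms_of_cents inf_le_right))
      rwa [commg_sup_cent zn cp (.inl (sol_zpowers y))] at this) m
    (le_bot_iff.1 (ab_commg_inf_cent (comm_center _) n2 cp2 ▸ le_inf inf_le_left ((inf_le_inf_right _
      (l2.trans (inf_le_left.trans l1))).trans (cent_zpowers y ▸ h))))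
  have n3 : zpowers y ≤ N(Q ⊓ C(⁅Q, zpowers y⁆)) := norms_inf zn (norms_cent n1)
  exact le_cent1_iff.2 (cents_of_commg_le_cent n3 (cp.coprime_dvd_left (card_dvd inf_le_left))
    ((le_inf (commutator_mono inf_le_left le_rfl) ((commg_le_left n3).trans inf_le_right)).trans
      (commg_eq_bot.1 e)) (mem_zpowers y))

theorem odd_part (x : X) : ∃ k : ℕ, PiE {2}ᶜ (x ^ 2 ^ k) := by
  obtain ⟨k, m, hm, e⟩ := Nat.exists_eq_two_pow_mul_odd (orderOf_pos x).ne'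
  refine ⟨k, (PiN.of_not_dvd (n := m) (by rwa [← even_iff_two_dvd, Nat.not_even_iff_odd])).dvd
    (orderOf_dvd_of_pow_eq_one ?_)⟩
  rw [← pow_mul, ← e, pow_orderOf_eq_one]

theorem odd_pow (o : PiE {2}ᶜ d) (k : ℕ) (h : d ^ 2 ^ k = 1) : d = 1 :=
  o.e_eq_one (π := {2}ᶜ) ((PiN.prime_pow p2 k).dvd (orderOf_dvd_of_pow_eq_one h)).compl_compl

/-- properties of `V` inside `S` -/
structure Vs (S V A : Subgroup X) : Prop where
  le : V ≤ zj 2 S
  nS : S ≤ N(V)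
  nA : A ≤ N(V)
  nAS : A ≤ N(S)
  off : ∀ E ≤ S, Abelem 2 E → #V * #(E ⊓ C(V)) ≤ 2 * #E * #(V ⊓ C(E)) → E ≤ C(V)
  n1 : ∀ y ∈ S, #V ≤ 4 * #(V ⊓ C[y]) → y ∈ C(V)

theorem Vs.ea (h : Vs S V A) : Abelem 2 V := abelem_mono (H28.ea_omegaOneCenter 2 _) h.le
theorem Vs.lS (h : Vs S V A) : V ≤ S := h.le.trans H29.PU.zj_le

theorem Vs.offJ (h : Vs S V A) (g : X) (l : E ≤ cj g S) (hE : Abelem 2 E)
    (b : #V * #(E ⊓ C(cj g V)) ≤ 2 * #E * #(cj g V ⊓ C(E))) : E ≤ C(cj g V) := by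
  obtain ⟨E, rfl⟩ : ∃ E', E = cj g E' := ⟨cj g⁻¹ E, by simp⟩
  rw [← H19.cj_cent, ← H19.cj_cent, ← cj_inf, ← cj_inf, card_cj, card_cj, card_cj] at b
  rw [← H19.cj_cent]
  exact cj_mono g (h.off E (cj_le_cj.1 l) (by simpa using abelem_J hE g⁻¹) b)

theorem Vs.sym (h : Vs S V A) (l : W ≤ V) (c : #V ≤ 2 * #W) (h1 : W ≤ cj g S) (h2 : cj g W ≤ S) :
    cj g W ≤ C(V) ∧ W ≤ C(cj g V) := by
  have eW := abelem_mono h.ea l
  rcases le_total #(cj g W ⊓ C(V)) #(W ⊓ C(cj g V)) with k | k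
  · have := h.off _ h2 (abelem_J eW g) (Nat.mul_le_mul (by rwa [card_cj]) (k.trans
      (card_le (inf_le_inf l (cent_mono (cj_mono g l))))))
    refine ⟨this, inf_eq_left.1 (eq_of_le_of_card_eq inf_le_left (le_antisymm (card_le inf_le_left) ?_))⟩
    rwa [inf_eq_left.2 this, card_cj] at k
  · have := h.offJ g h1 eW (Nat.mul_le_mul c (k.trans (card_le (inf_le_inf (cj_mono g l) (cent_mono l)))))
    refine ⟨inf_eq_left.1 (eq_of_le_of_card_eq inf_le_left (le_antisymm (card_le inf_le_left) ?_)), this⟩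
    rwa [inf_eq_left.2 this, ← card_cj g] at k

/-- the class of overgroups -/
structure Lk (S V A H : Subgroup X) : Prop where
  syl : Syl 2 S H
  fx : Fx A H
  sol : Sol H
  ch : S ⊓ C(Oc {2} H) ≤ Oc {2} H
  nb : H ⊓ N(bm 2 S) ≤ N(V)

abbrev Mx (H V : Subgroup X) : Subgroup X := (H ⊓ N(V)) ⊔ (H ⊓ C(Oc {2} H))

/-- a minimal counterexample -/
structure Cx (S V A H N : Subgroup X) : Prop extends Vs S V A, Lk S V A H where
  ne : ¬ H ≤ Mx H V
  min : ∀ L, S ≤ L → L ≤ H → A ≤ N(L) → L = H ∨ L ≤ Mx H V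
  lN : N ≤ Mx H V
  nN : H ≤ N(N)
  aN : A ≤ N(N)
  max : ∀ D ≤ Mx H V, H ≤ N(D) → A ≤ N(D) → D ≤ N

namespace Cx
variable (h : Cx S V A H N)
include h

theorem lM : Mx H V ≤ H := sup_le inf_le_left inf_le_left
theorem sM : S ≤ Mx H V := (le_inf h.syl.le h.nS).trans le_sup_left
theorem aQ : A ≤ N(Oc {2} H) := norms_Oc _ h.fx.n
theorem aM : A ≤ N(Mx H V) :=
  norms_sup (norms_inf h.fx.n (norms_norm h.nA)) (norms_inf h.fx.n (norms_cent h.aQ))
theorem QS : Oc {2} H ≤ S := Oc_le_hall h.syl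
theorem nrm : N ⊴ H := ⟨h.lN.trans h.lM, h.nN⟩
theorem QN : Oc {2} H ≤ N := h.max _ (h.QS.trans h.sM) (Oc_norm _ _) h.aQ
theorem CN : H ⊓ C(Oc {2} H) ≤ N := h.max _ le_sup_right (Oc_normal _ H).inf_cent.norm
  (norms_inf h.fx.n (norms_cent h.aQ))

theorem norm (h1 : S ≤ N(Y)) (h2 : A ≤ N(Y)) : H ≤ N(Y) ∨ H ⊓ N(Y) ≤ Mx H V :=
  (h.min _ (le_inf h.syl.le h1) inf_le_left (norms_inf h.fx.n (norms_norm h2))).imp_left inf_eq_left.1

theorem s1 : S ⊓ N ≤ Oc {2} H :=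
  le_Oc ⟨inf_le_left.trans h.syl.le, (h.norm (norms_inf le_normalizer (h.syl.le.trans h.nN))
    (norms_inf h.nAS h.aN)).resolve_right fun k => h.ne (((h.syl.inf_normal h.nrm).frattini h.nrm).ge.trans
      (sup_le h.lN k))⟩ (h.syl.pi.of_le inf_le_left)

theorem s2 : Oc {2} (quo N H) = ⊥ := by
  have := h.max (qpre N (Oc {2} (quo N H))) ((qpre_mono (Oc_le_hall (h.syl.quo h.nN))).trans
    (by rw [qpre_quo (h.syl.le.trans h.nN)]; exact sup_le h.lN h.sM)) (qpre_normal h.nrm (Oc_normal _ _)).norm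
    (norms_qpre h.aN (norms_Oc _ (quo_norms h.fx.n)))
  rw [← quo_qpre (Oc {2} (quo N H))]; exact quo_eq_bot this

theorem nF : qpre N (Fit (quo N H)) ⊴ H := qpre_normal h.nrm (Fit_normal _)
theorem aF : A ≤ N(qpre N (Fit (quo N H))) := norms_qpre h.aN (norms_Fit (quo_norms h.fx.n))

theorem s3 : Mx H V ⊓ qpre N (Fit (quo N H)) ≤ N := by
  have a0 := norms_inf h.aM h.aF
  refine h.max _ inf_le_left ((h.norm (norms_inf (norms_of_le h.sM) (h.nF.norms h.syl.le)) a0).elim id fun k => ?_) a0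
  have l : N ≤ Mx H V ⊓ qpre N (Fit (quo N H)) := le_inf h.lN (le_qpre _)
  have := nil_eq_of_norm_le (Fit_nil (quo N H)) (H := quo N (Mx H V ⊓ qpre N (Fit (quo N H))))
    ((quo_mono _ inf_le_right).trans (quo_qpre _).le) fun x hx => by
      obtain ⟨x, rfl⟩ := qmk_surj N x
      have m : (x : X) ∈ qpre N (Fit (quo N H)) := coe_mem_pre.2 hx.1
      refine mem_im_of ⟨k ⟨h.nF.le m, norms_of_quo' (zpowers_le.2 x.2) (inf_le_right.trans (qpre_le_norm _)) l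
        (by rw [quo_zpowers x.2]; exact zpowers_le.2 hx.2) (mem_zpowers _)⟩, m⟩
  rw [← qpre_quo_of_le (inf_le_right.trans (qpre_le_norm _)) l, this]
  exact h.nF.norm

theorem s4 : S ⊓ qpre N (Fit (quo N H)) ≤ Oc {2} H :=
  (le_inf inf_le_left (quo_eq_bot_of_pi (inf_le_right.trans (qpre_le_norm _)) (h.syl.pi.of_le inf_le_left)
    ((og_Fit h.s2).of_le ((quo_mono _ inf_le_right).trans (quo_qpre _).le)))).trans h.s1

theorem hg (l : E ≤ S) (hE : Abelem 2 E) (m : ¬ E ≤ Oc {2} H) : ∃ B, Hyp B E ∧ E ⊓ Oc {2} H ≤ B ∧ ∃ e ∈ E,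
    ∃ g ∈ H ⊓ N(B ⊔ Oc {2} H), ∃ y ∈ zpowers (e * (g * e * g⁻¹)), PiE {2}ᶜ y ∧ y ∈ qpre N (Fit (quo N H)) ∧
      y ∉ Mx H V := by
  have lH := l.trans h.syl.le
  have nE := lH.trans h.nN
  obtain ⟨B', hB, e', he, d, hd, d1, i⟩ := exists_hyp_inv (abelem_quo hE N) (og_Fit h.s2)
    ((quo_mono N lH).trans (Fit_norm _)) fun c => m ((le_inf l ((quo_le_iff nE).1
      ((le_inf (quo_mono N lH) c).trans (cent_Fit_le (sol_quo h.sol N))))).trans h.s4)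
  obtain ⟨e, he', rfl⟩ := mem_im.1 he
  obtain ⟨g0, rfl⟩ := qmk_surj N d
  have g0F : (g0 : X) ∈ qpre N (Fit (quo N H)) := coe_mem_pre.2 hd.1
  set B := E ⊓ qpre N B' with hBd
  have qB : quo N B = B' := by rw [hBd, quo_inf_qpre, inf_eq_right.2 hB.le]
  have nB : B ≤ N(N) := inf_le_left.trans nE
  have nQ : B ≤ N(Oc {2} H) := inf_le_left.trans (lH.trans (Oc_norm _ _))
  have nR : B ⊔ Oc {2} H ≤ N(N) := sup_le nB ((Oc_le _ _).trans h.nN)
  have eY : N ⊔ (B ⊔ Oc {2} H) = N ⊔ B := le_antisymm (sup_le le_sup_left (sup_le le_sup_right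
    (h.QN.trans le_sup_left))) (sup_le_sup_left le_sup_left _)
  have sQ : Syl 2 (Oc {2} H) N := le_antisymm h.s1 (le_inf h.QS h.QN) ▸ h.syl.inf_normal h.nrm
  have sR : Syl 2 (B ⊔ Oc {2} H) (N ⊔ B) := eY ▸ syl_mk le_sup_right
    (h.syl.pi.of_le (sup_le (inf_le_left.trans l) h.QS))
    (by rw [relIndex_sup_right_of_norm nR]; exact sQ.not_dvd_relIndex p2 le_sup_right)
  have gY : (g0 : X) ∈ N(N ⊔ B) := norms_of_quo (zpowers_le.2 g0.2) nB
    (by rw [quo_zpowers g0.2, qB]; exact zpowers_le.2 (cent_le_norm _ hd.2)) (mem_zpowers _)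
  obtain ⟨y, hy, ey⟩ := (sR.Jnorm gY).sconj sR
  obtain ⟨r, hr, n, hn, rfl⟩ := (mem_sup_of_norm' nR).1 (by rw [sup_comm, eY]; exact hy)
  have nn := le_normalizer hn
  have eg : qmk N (⟨n, nn⟩ * g0) = qmk N g0 := by rw [map_mul, qmk_eq_one.2 hn, one_mul]
  obtain ⟨k, o⟩ := odd_part ((e : X) * (n * g0 * e * (n * g0)⁻¹))
  have q : qmk N ((e * (⟨n, nn⟩ * g0 * e * (⟨n, nn⟩ * g0)⁻¹)) ^ 2 ^ k) = (qmk N g0)⁻¹ ^ 2 ^ (k + 1) := by
    have e2 : (qmk N e)⁻¹ = qmk N e := inv_eq (abelem_quo hE N) he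
    rw [map_pow, map_mul, map_mul, map_mul, map_inv, eg, pow_succ', pow_mul, pow_two]
    congr 1
    nth_rw 2 [← e2]
    rw [← mul_assoc, ← mul_assoc, i]
  have yF : ((e : X) * (n * g0 * e * (n * g0)⁻¹)) ^ 2 ^ k ∈ qpre N (Fit (quo N H)) :=
    (coe_mem_pre (x := (e * (⟨n, nn⟩ * g0 * e * (⟨n, nn⟩ * g0)⁻¹)) ^ 2 ^ k)).2 (q ▸ pow_mem ((Fit _).inv_mem hd.1) _)
  refine ⟨B, ⟨inf_le_left, ?_⟩, inf_le_inf_left _ (h.QN.trans (le_qpre _)), e, he', n * g0,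
    ⟨mul_mem (h.nrm.le hn) (h.nF.le g0F), mem_norm_iff_cj.2 ?_⟩, _, pow_mem (mem_zpowers _) _, o, yF, fun k => d1 ?_⟩
  · have n1 : E ≤ N(qpre N B') := norms_qpre nE (norms_of_comm (abelem_quo hE N).1 le_rfl hB.le)
    have e1 : qpre N B' ⊔ E = N ⊔ E := le_antisymm (sup_le ((qpre_mono hB.le).trans (qpre_quo nE).le) le_sup_right)
      (sup_le_sup_right (le_qpre _) _)
    rw [hBd, inf_comm, inf_relIndex_right, ← relIndex_sup_of_norm n1, e1, relIndex_qpre' (left_normal_sup nE),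
      quo_sup_left nE, hB.idx]
  · rw [cj_mul, cj_eq_iff, cj_of_mem (inv_mem hr)] at ey
    rw [cj_mul, ey]
  · exact inv_eq_one.1 (odd_pow ((og_Fit h.s2).elt ((Fit _).inv_mem hd.1)) _ (q ▸ qmk_eq_one.2 (h.s3 ⟨k, yF⟩)))

theorem cΩ : H ≤ C(Ω(S)) := by
  have nQ := Oc_norm {2} H
  have l : Kc Ω(S) H ≤ Ω(Oc {2} H) := Kc_le_of (Ohm1_mono 2 (le_inf
    ((inf_le_inf_left _ (cent_mono h.QS)).trans h.ch) (inf_le_right.trans (cent_mono h.QS))))
    (nQ.trans (norm_le_norm_Ohm1_center 2 _))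
  have r := rd_kc h.syl h.fx h.sol h.nAS (abelem_mono (abelem_Ohm1_center 2 _) l)
  have l2 := r.le_zj (l.trans ((Ohm1_le _ _).trans (inf_le_left.trans h.QS))) h.syl.le
  have n : H ⊓ C(Kc Ω(S) H) ⊴ H := inf_cent_normal r.n
  have := Fact.mk p2
  have e := H29.BB.bm_eq_of_le (p := 2) (T := S) (S := S ⊓ (H ⊓ C(Kc Ω(S) H))) (le_inf H29.PU.bm_le
    (le_inf (H29.PU.bm_le.trans h.syl.le) (inf_le_right.trans (cent_mono l2)))) inf_le_left
  rcases h.min ((H ⊓ C(Kc Ω(S) H)) ⊔ S) le_sup_right (sup_le inf_le_left h.syl.le)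
    (norms_sup (norms_inf h.fx.n (norms_cent r.nA)) h.nAS) with k | k
  · exact k.ge.trans (sup_le (inf_le_right.trans (cent_mono le_Kc)) (cents_symm ((Ohm1_le _ _).trans inf_le_right)))
  · refine absurd (((h.syl.inf_normal n).frattini n).ge.trans (sup_le (le_sup_left.trans k) ?_)) h.ne
    exact (le_inf inf_le_left ((le_inf inf_le_left (e ▸ H29.PU.nrm_bm inf_le_right)).trans h.nb)).trans le_sup_left

theorem cZ : Z(Oc {2} H) ≤ C(qpre N (Fit (quo N H))) := by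
  set F := qpre N (Fit (quo N H)) with hF
  obtain ⟨P, hP⟩ := exists_hall {2}ᶜ (sol_mono h.sol h.nF.le)
  have sQ : Syl 2 (Oc {2} H) F := le_antisymm h.s4 (le_inf h.QS (h.QN.trans (le_qpre _))) ▸ h.syl.inf_normal h.nF
  have nZ : H ≤ N(Z(Oc {2} H)) := (Oc_norm _ _).trans (norm_le_norm_center _)
  have pH := hP.le.trans h.nF.le
  have l1 : ⁅Z(Oc {2} H), P⁆ ≤ Z(Oc {2} H) := commg_le_left (pH.trans nZ)
  have l : ⁅Z(Oc {2} H), F⁆ ≤ ⁅Z(Oc {2} H), P⁆ := sQ.sup_compl hP ▸ commg_sup_right_le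
    ((commg_eq_bot.2 inf_le_right).le.trans bot_le) le_rfl (norms_of_cents (cents_symm (l1.trans inf_le_right)))
    (commg_normr _ _)
  have lS := l.trans (l1.trans (inf_le_left.trans h.QS))
  refine commg_eq_bot.1 (by_contra fun m => ?_)
  obtain ⟨t, ht, t2⟩ := exists_inv_pg (h.syl.pi.of_le (inf_le_left.trans lS)) ((h.syl.pi.of_le lS).meet_cent h.syl.pi
    (h.syl.le.trans (norms_comm nZ h.nF.norm)) m)
  exact ne_one_of_ord2 t2 (mem_bot.1 (ab_commg_inf_cent (comm_center _) (pH.trans nZ)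
    (((Oc_pi _ H).of_le inf_le_left).coprime hP.pi) ▸ mem_inf.2 ⟨l ht.1, cents_symm (pH.trans h.cΩ)
      (H19.mem_Ohm1 ⟨lS ht.1, ht.2⟩ (t2 ▸ pow_orderOf_eq_one t))⟩))

theorem case1 : V ≤ Oc {2} H := by
  by_contra m
  obtain ⟨B, hB, lB, e, he, g, hg, y, hy, o, yF, yM⟩ := h.hg h.lS h.ea m
  have nQ := Oc_norm {2} H
  have lR : B ⊔ Oc {2} H ≤ S := sup_le (hB.le.trans h.lS) h.QS
  obtain ⟨k1, k2⟩ := h.sym hB.le (by rw [hB.card, mul_comm]) (le_sup_left.trans (cj_of_mem_norm hg.2 ▸ cj_mono g lR))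
    ((cj_le_of_mem_norm hg.2 le_sup_left).trans lR)
  have c1 : V ≤ C(B ⊔ cj g B) := cents_sup (cents_of_comm h.ea.1 le_rfl hB.le) (cents_symm k1)
  have c2 : cj g V ≤ C(B ⊔ cj g B) := cents_sup (cents_symm k2)
    (cents_of_comm (abelem_J h.ea g).1 le_rfl (cj_mono g hB.le))
  have d1 : ⁅Oc {2} H, V⁆ ≤ B := (commg_le_inf (h.lS.trans (h.syl.le.trans nQ)) (h.QS.trans h.nS)).trans
    (inf_comm V _ ▸ lB)
  have d2 : ⁅Oc {2} H, cj g V⁆ ≤ cj g B := by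
    rw [← cj_of_mem_norm (nQ hg.1), ← cj_comm]; exact cj_mono g d1
  have zl : zpowers y ≤ V ⊔ cj g V := zpowers_le.2 (zpowers_le.2 (mul_mem_sup he (conj_mem_cj.2 he)) hy)
  have yH := h.nF.le yF
  exact yM (mem_sup_right ⟨yH, cents_of_commg_le_cent (zpowers_le.2 (nQ yH)) ((Oc_pi _ H).coprime (piG_zpowers.2 o))
    (((commutator_mono le_rfl zl).trans (commg_sup_right_le (d1.trans le_sup_left) (d2.trans le_sup_right)
      (norms_of_cents c1) (norms_of_cents c2))).trans (cents_symm (zl.trans (sup_le c1 c2)))) (mem_zpowers y)⟩)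

theorem exJ : ∃ E, H9.MaxAb 2 S E ∧ ¬ E ≤ Oc {2} H := by
  by_contra! k
  have e : zj 2 (Oc {2} H) = zj 2 S := by rw [zj, H9.JJ_eq_of_le (H9.JJ_le_iff.2 k) h.QS, zj]
  have n : H ⊓ C(zj 2 S) ⊴ H := inf_cent_normal (e ▸ H29.PU.nrm_zj (Oc_norm _ _))
  have f := (h.syl.inf_normal n).frattini n
  rw [← inf_assoc, inf_eq_left.2 h.syl.le] at f
  exact h.ne ((le_inf le_rfl (f.ge.trans (sup_le (inf_le_right.trans ((cent_mono h.le).trans (cent_le_norm _)))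
    h.nb))).trans le_sup_left)

theorem false : False := by
  obtain ⟨E, hE, m⟩ := h.exJ
  obtain ⟨B, hB, lB, e, he, g, hg, y, hy, o, yF, yM⟩ := h.hg hE.le hE.ea m
  have nQ := Oc_norm {2} H
  have yH := h.nF.le yF
  have yV : y ∉ N(V) := fun k => yM (mem_sup_left ⟨yH, k⟩)
  have lR : B ⊔ Oc {2} H ≤ S := sup_le (hB.le.trans hE.le) h.QS
  have eB := abelem_mono hE.ea hB.le
  have eV := abelem_J h.ea g⁻¹
  have l1 : cj g⁻¹ V ≤ S := (cj_le_of_mem_norm (inv_mem (nQ hg.1)) h.case1).trans h.QS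
  have k1 : B ≤ C(cj g⁻¹ V) := h.offJ g⁻¹ (le_sup_left.trans (cj_of_mem_norm (inv_mem hg.2) ▸ cj_mono _ lR)) eB (by
    have := max_bound hE (hB.le.trans hE.le) eB eV l1
    rwa [card_cj, hB.card, mul_comm _ 2] at this)
  have k2 : #V ≤ 2 * #(V ⊓ C[g * e * g⁻¹]) := by
    have c1 := card_sup_mul_inf (norms_of_cents k1)
    have c2 := hE.card_le (sup_le l1 (hB.le.trans hE.le)) (H9.abE_iff_ea.2 (abelem_sup eV eB (cents_symm k1)))
    have c3 : #(cj g⁻¹ V ⊓ B) ≤ #(V ⊓ C[g * e * g⁻¹]) := by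
      rw [← card_cj g, cj_inf, cj_cj_inv, ← H19.cj_cent1]
      exact card_le (inf_le_inf_left _ (cj_mono g (hB.le.trans (ab_cent1 hE.ea he))))
    rw [card_cj] at c1
    rw [hB.card] at c2
    exact Nat.le_of_mul_le_mul_right (c1.ge.trans ((Nat.mul_le_mul c2 c3).trans (le_of_eq (by ring)))) (card_pos B)
  have k3 : V ⊓ C[g * e * g⁻¹] ≤ C[y] := le_cent1_iff.2 (zpowers_le.2 (mul_mem (le_cent1_iff.1 (inf_le_left.trans
    (h.le.trans (hE.omegaOneCenter_JJ_le.trans (ab_cent1 hE.ea he))))) (le_cent1_iff.1 inf_le_right)) hy)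
  have k4 : V ⊓ C[g * e * g⁻¹] = V ⊓ cj y V := by
    have l : V ⊓ C[g * e * g⁻¹] ≤ V ⊓ cj y V := le_inf inf_le_left
      (cj_of_mem_cent (le_cent1_iff.1 k3) ▸ cj_mono y inf_le_left)
    have := pg_lt_card (ab_pg h.ea) (lt_of_le_of_ne (inf_le_left (b := cj y V)) fun e =>
      yV (mem_norm_of_le_cj (e.ge.trans inf_le_right)))
    exact eq_of_le_of_card_eq l (le_antisymm (card_le l) (by omega))
  have n0 : Oc {2} H ≤ N(V ⊓ C[g * e * g⁻¹]) := k4 ▸ norms_inf (h.QS.trans h.nS) (by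
    rw [← cj_of_mem_norm (nQ yH), ← cj_norm]; exact cj_mono y (h.QS.trans h.nS))
  have c0 : V ⊓ C[g * e * g⁻¹] ≤ C(zpowers y) := zp_cent k3
  have c1 := commg_eq_bot.1 (three_subgroup (H := Oc {2} H) (by rw [commg_eq_bot.2 (cents_symm c0)]; simp)
    (commg_eq_bot.2 ((commg_le_left n0).trans c0)))
  have c2 : ⁅Oc {2} H, zpowers y⁆ ≤ C(V) := fun q hq => h.n1 q (h.QS (commg_le_left (zpowers_le.2 (nQ yH)) hq))
    (k2.trans (Nat.mul_le_mul (by omega) (card_le (le_inf inf_le_left (le_cent1_iff.2 (c1 hq))))))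
  exact yV (cent_le_norm _ (le_cent1_iff.1 ((le_inf h.case1 (cents_symm c2)).trans
    (ab2 (Oc_pi _ H) (nQ yH) o (h.cZ.trans (cent_le_cent1 yF))))))

end Cx

theorem Vs.ab (hV : Vs S V A) (h : Lk S V A H) : H ≤ Mx H V := by
  induction H using (wellFounded_lt (α := Subgroup X)).induction with
  | _ H ih =>
  by_contra ne
  obtain ⟨N, ⟨l, n1, n2⟩, mx⟩ := (wellFounded_gt (α := Subgroup X)).has_min
    {D | D ≤ Mx H V ∧ H ≤ N(D) ∧ A ≤ N(D)} ⟨⊥, bot_le, norms_of_cents (by simp), norms_of_cents (by simp)⟩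
  refine Cx.false (N := N) ⟨hV, h, ne, fun L l1 l2 nL => or_iff_not_imp_left.2 fun m => ?_, l, n1, n2,
    fun D k1 k2 k3 => by_contra fun m => mx (D ⊔ N) ⟨sup_le k1 l, norms_sup k2 n1, norms_sup k3 n2⟩
      (lt_of_le_of_ne le_sup_right fun e => m (le_sup_left.trans e.ge))⟩
  have q : Oc {2} H ≤ Oc {2} L := Oc_le_Oc_of_le l2 ((Oc_le_hall h.syl).trans l1)
  exact (ih L (lt_of_le_of_ne l2 m) ⟨h.syl.of_le l1 l2, h.fx.mono l2 nL, sol_mono h.sol l2,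
    ((inf_le_inf_left _ (cent_mono q)).trans h.ch).trans q, (inf_le_inf_right _ l2).trans h.nb⟩).trans
    (sup_le_sup (inf_le_inf_right _ l2) (inf_le_inf l2 (cent_mono q)))

end H8.FS
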