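import Cfsg.Agent.H8.FS6

/-! The main theorem, given strong closure. -/

set_option autoImplicit false
set_option linter.unusedVariables false
set_option linter.unusedSectionVars false

namespace H8.FS
open Cfsg Subgroup H18 H17.GS
open H19 hiding eq_bot_mono
open H29.PU (zj bm)
open scoped commutatorElement

universe u
variable {X : Type u} [Group X] [Finite X] {A B C D E F G H K L M N O P Q R S T U V W Y Z : Subgroup X}
  {a b c d e g k n s t u v w x y z : X} {p r : ℕ}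

local notation "p2" => Nat.prime_two
local notation:max "Ω(" S ")" => Ohm1 2 Z(S)

theorem Vs.gen (hV : Vs S V A) (hS : Syl 2 S H) (fx : Fx A H) (sol : Sol H) (nb : H ⊓ N(bm 2 S) ≤ N(V)) :
    H ≤ O(H) ⊔ (H ⊓ N(V)) := by
  have nO : O(H) ⊴ H := Oc_normal _ H
  set D := qpre O(H) (Oc {2} (quo O(H) H)) with hD
  have nD : D ⊴ H := qpre_normal nO (Oc_normal _ _)
  have aD : A ≤ N(D) := norms_qpre (norms_Oc _ fx.n) (norms_Oc _ (quo_norms fx.n))
  have sT := hS.inf_normal nD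
  have l1 : D ≤ O(H) ⊔ (H ⊓ N(V)) := (qpre_mono (Oc_le_hall (hS.quo nO.norm))).trans (by
    rw [qpre_quo (hS.le.trans nO.norm)]; exact sup_le_sup_left (le_inf hS.le hV.nS) _)
  have q : quo O(H) (S ⊓ D) = Oc {2} (quo O(H) H) := by
    have := sT.quo (nD.le.trans nO.norm)
    rw [hD, quo_qpre] at this
    exact this.eq_self (Oc_pi _ _)
  have l2 : H ⊓ C(S ⊓ D) ≤ D := (quo_le_iff (inf_le_left.trans nO.norm)).1 (by
    have e := Fit_eq_Oc (Oc_quo_Oc {2}ᶜ H)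
    rw [← e] at q ⊢
    exact (le_inf (quo_mono _ inf_le_left) (q ▸ quo_cents inf_le_right)).trans (cent_Fit_le (sol_quo sol _)))
  have nT : S ≤ N(S ⊓ D) := norms_inf le_normalizer (nD.norms hS.le)
  have l3 : S ⊓ D ≤ Oc {2} (H ⊓ N(S ⊓ D)) := le_Oc ⟨le_inf (inf_le_left.trans hS.le) le_normalizer, inf_le_right⟩ sT.pi
  refine (sT.frattini nD).ge.trans (sup_le l1 ((hV.ab ⟨hS.of_le (le_inf hS.le nT) inf_le_left,
    fx.mono inf_le_left (norms_inf fx.n (norms_norm (norms_inf hV.nAS aD))), sol_mono sol inf_le_left,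
    (le_inf inf_le_left ((inf_le_inf hS.le (cent_mono l3)).trans l2)).trans l3,
    (inf_le_inf_right _ inf_le_left).trans nb⟩).trans (sup_le ((inf_le_inf_right _ inf_le_left).trans le_sup_right)
      ((inf_le_inf inf_le_left (cent_mono l3)).trans (l2.trans l1)))))

theorem exists_hv (h : Fx A G) (hG : Sim G) (n : ⊤ ≤ N(G)) (hS : Syl 2 S G) (nS : A ≤ N(S)) (s1 : S ≠ ⊥)
    (ih : ∀ H, H < G → Fx A H → Sol H) : ∃ V, V ≠ ⊥ ∧ HV G S V A := by
  have := Fact.mk p2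
  have k : ∀ Y ≤ S, Y ≠ ⊥ → A ≤ N(Y) → Fx A (G ⊓ N(Y)) ∧ Sol (G ⊓ N(Y)) := fun Y l y1 nY => by
    have f := h.mono inf_le_left (norms_inf h.n (norms_norm nY))
    refine ⟨f, ih _ (lt_of_le_of_ne inf_le_left fun e => ?_) f⟩
    exact hG.nsol (((hG.cases (l.trans hS.le) (e.ge.trans inf_le_right)).resolve_left y1) ▸ (hS.pi.of_le l).sol)
  set V := Kc Ω(S) (G ⊓ N(bm 2 S)) with hV
  have o1 : Ω(S) ≠ ⊥ := hS.pi.Ohm1_center_ne_bot s1
  have oS : Ω(S) ≤ S := (Ohm1_le _ _).trans inf_le_left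
  have v1 : V ≠ ⊥ := ne_bot_mono le_Kc o1
  have lz : V ≤ zj 2 S := Kc_le_of (H9.omegaOneCenter_le_omegaOneCenter_JJ 2 S) (by
    have e : zj 2 (bm 2 S) = zj 2 S := by rw [zj, H9.JJ_eq_of_le H29.PU.JJ_le_bm H29.PU.bm_le, zj]
    exact e ▸ H29.PU.nrm_zj inf_le_right)
  have lS : V ≤ S := lz.trans H29.PU.zj_le
  have ea : Abelem 2 V := abelem_mono (H28.ea_omegaOneCenter 2 _) lz
  have nV : N(S) ≤ N(V) := norms_Kc (norm_le_norm_Ohm1_center 2 S)
    (norms_inf (le_top.trans n) (norms_norm (H29.PU.nrm_bm le_rfl)))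
  have sV : S ≤ G ⊓ N(V) := le_inf hS.le (le_normalizer.trans nV)
  have e : Kc Ω(S) (G ⊓ N(V)) = V := le_antisymm (Kc_le_of le_Kc inf_le_right)
    (Kc_mono le_rfl (le_inf inf_le_left Kc_norm))
  obtain ⟨f1, s2⟩ := k V lS v1 (nS.trans nV)
  have r : Rd V (G ⊓ N(V)) A := by
    have := rd_kc (hS.of_le sV inf_le_left) f1 s2 nS (e.symm ▸ ea)
    rwa [e] at this
  have vs : Vs S V A := ⟨lz, le_normalizer.trans nV, nS.trans nV, nS, fun E l hE b => r.off (l.trans sV)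
    (fun x hx => sq_one hE hx ▸ one_mem _) b, fun y hy b => r.n1 (sV hy) (hS.pi.elt hy) b⟩
  have gen : ∀ H, S ≤ H → H ≤ G → A ≤ N(H) → Sol H → H ≤ O(H) ⊔ (H ⊓ N(V)) := fun H l1 l2 nH s =>
    vs.gen (hS.of_le l1 l2) (h.mono l2 nH) s ((inf_le_inf_right _ l2).trans Kc_norm)
  have aΩ : A ≤ N(Ω(S)) := nS.trans (norm_le_norm_Ohm1_center 2 S)
  have sC : Sol (G ⊓ C(Ω(S))) := sol_mono (k _ oS o1 aΩ).2 (inf_le_inf_left _ (cent_le_norm _))
  refine ⟨V, v1, n, H2.GW.syl_isSylowIn p2 hS, le_Kc, lS, ea, nV, sC, ⟨O(G ⊓ C(Ω(S))), Oc_le _ _,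
    fun x hx => ((O_og _).elt hx).coprime_prime p2, Oc_norm _ _, ?_⟩, fun Y l1 l2 nY => ?_,
    fun R l1 l2 => r.le_zj l1 (l2.trans sV), fun x hx o tr => r.sing hx ⟨⟨ea, hx.2, PiN.of_coprime o⟩, tr⟩, nS,
    (h.mono hS.le nS).f⟩
  · refine (gen _ (le_inf hS.le (cents_symm ((Ohm1_le _ _).trans inf_le_right))) inf_le_left
      (norms_inf h.n (norms_cent aΩ)) sC).trans (sup_le (norms_of_le le_sup_right)
      (norms_sup inf_le_right (inf_le_left.trans (Oc_norm _ _))))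
  · have sY : S ≤ G ⊓ N(Y) := le_inf hS.le (le_normalizer.trans nY)
    refine (gen _ sY inf_le_left (norms_inf h.n (norms_norm (nS.trans nY)))
      (k Y l2 (ne_bot_mono l1 v1) (nS.trans nY)).2).trans (sup_le ?_ inf_le_right)
    exact (Oc_cents' ⟨l2.trans sY, inf_le_right⟩ (hS.pi.of_le l2)).trans ((cent_mono l1).trans (cent_le_norm _))

theorem Fx.simple (sc : SC.{u}) (h : Fx A G) (hG : Sim G) (n : ⊤ ≤ N(G))
    (ih : ∀ H, H < G → Fx A H → Sol H) : False := by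
  have ev : ¬ OG G := fun o => hG.nsol o.sol
  obtain ⟨S, hS, nS⟩ := h.syl 2
  have s1 : S ≠ ⊥ := fun e => ev (Hall.pi'_of_eq_bot (e ▸ hS))
  obtain ⟨V, v1, hV⟩ := exists_hv h hG n hS nS s1 ih
  have gt := gold hG hV.ea.1 (SCl.of_syl hS hV.le (sc X G S V A hV)) v1
  obtain ⟨t, ht, t2⟩ := exists_inv ev
  obtain ⟨g, hg, c⟩ := h.elt (w := t) fun a ha => by
    obtain ⟨g, hg, e⟩ := gt.conj hG ht (conj_mem_of_norm (h.n ha) ht) t2 ((orderOf_conj' a t).trans t2)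
    exact ⟨g, hg, e.symm⟩
  exact ne_one_of_ord2 t2 (by simpa using h.one (mul_mem (mul_mem hg ht) (inv_mem hg)) c)

theorem main_aux (sc : SC.{u}) (n : ℕ) : ∀ {X : Type u} [Group X] [Finite X] {A G : Subgroup X}, #G = n → Fx A G →
    Sol G := by
  induction n using Nat.strong_induction_on with
  | _ n ih =>
  intro X _ _ A G e h
  subst e
  by_contra s
  have g1 : G ≠ ⊥ := fun e => s (e ▸ sol_of_nil nil_bot)
  have nG := left_normal_sup h.n
  obtain ⟨V, lV, mV⟩ := H18.minnormal_exists g1 nG.norm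
  have nV := le_sup_left.trans mV.norm
  have aV := le_sup_right.trans mV.norm
  obtain rfl : V = G := by_contra fun m => s (sol_of_quo nV (sol_mono (ih _ (card_lt (lt_of_le_of_ne lV m)) rfl
    (h.mono lV aV)) inf_le_left) (ih _ (by
      rw [card_quo nV, ← card_mul_relIndex lV]
      exact lt_mul_left (relIndex_pos _ _) (ne_bot_iff_one_lt_card.1 mV.ne)) rfl (h.quo aV nV)))
  have hS : Sim V := ⟨simple_iff.2 ⟨g1, fun M l n => by_contra fun m => by
    rw [not_or] at m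
    obtain ⟨T, lT, mT⟩ := H18.minnormal_exists m.1 n
    have lV := lT.trans l
    have ns := H4.OZ.min_nsol mV h.n s mT lV
    refine ns (ih _ (card_lt (lt_of_le_of_lt lT (lt_of_le_of_ne l m.2))) rfl (h.blk (H := C(T)) lV inf_le_left
      (inf_le_right (a := A)) (H4.OZ.min_center mT ns) fun a ha k => ?_))
    have m' := H4.OZ.MinNormal.cj mT (h.n ha)
    rw [inf_idem]
    exact cents_symm (cents_of_norms_disjoint ((cj_le_of_mem_norm (h.n ha) lV).trans mT.norm) (lV.trans m'.norm)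
      ((mT.min _ inf_le_left (norms_inf mT.norm m'.norm)).resolve_right fun e =>
        k ⟨ha, mem_norm_of_le_cj (e.ge.trans inf_le_right)⟩))⟩, fun a => s (sol_of_ab a)⟩
  have f : Fx (A.subgroupOf (V ⊔ A)) (V.subgroupOf (V ⊔ A)) := by
    simpa [im] using h.im (MonoidHom.id ↥(V ⊔ A)) le_sup_right le_sup_left
  exact f.simple sc (hS.of_equiv (subgroupOfEquivOfLe le_sup_left).symm)
    (@normalIn_top _ _ _ nG.subgroupOf).norm fun H l f => ih _ (card_subgroupOf' nG.le ▸ card_lt l) rfl f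

theorem main_of (sc : SC.{u}) : Main.{u} := fun X _ _ A G h1 h2 h3 => main_aux sc _ rfl ⟨h1, h2, h3⟩

end H8.FS
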