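import Cfsg.Agent.H8.FS7

/-! The main theorem for operator groups. -/

set_option autoImplicit false

namespace H8.FS
open Cfsg Subgroup
open H19 hiding eq_bot_mono

universe u v

theorem Main.op (hM : Main.{u}) {G : Type u} {A : Type v} [Group G] [Finite G] [Group A] [Finite A]
    (φ : A →* MulAut G) (B : Subgroup A) [nB : B.Normal] (c : (Nat.card B).Coprime (Nat.card G))
    (hn : Group.IsNilpotent (A ⧸ B)) (f : ∀ g : G, (∀ a, φ a g = g) → g = 1) : Group.IsSolvable G := by
  have : Finite (MulAut G) := Finite.of_injective _ MulEquiv.toEquiv_injective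
  have : Finite (G ⋊[MonoidHom.id (MulAut G)] MulAut G) := Finite.of_equiv _ SemidirectProduct.equivProd.symm
  let ι : G →* G ⋊[MonoidHom.id (MulAut G)] MulAut G := SemidirectProduct.inl
  let ψ : A →* G ⋊[MonoidHom.id (MulAut G)] MulAut G := SemidirectProduct.inr.comp φ
  have act : ∀ a g, ψ a * ι g * (ψ a)⁻¹ = ι (φ a g) := fun a g => by
    rw [← map_inv]; exact Eq.trans (by simp [ψ, ι]) (SemidirectProduct.inl_aut (φ := MonoidHom.id _) (φ a) g).symm
  have e := MonoidHom.ofInjective (f := ι) SemidirectProduct.inl_injective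
  obtain ⟨n, hn⟩ := Subgroup.nilpotent_iff_lowerCentralSeries.1 hn
  have := hM _ ((⊤ : Subgroup A).map ψ) ι.range ⟨B.map ψ, map_mono le_top, ?_,
    (Nat.card_congr e.toEquiv ▸ c).coprime_dvd_left (card_map_dvd _ _), n, ?_⟩ ?_ ?_
  · exact Group.isSolvable_of_isSolvable_injective (f := e.toMonoidHom) e.injective
  · rintro _ ⟨a, -, rfl⟩
    refine mem_norm_of_cj_le fun y hy => ?_
    obtain ⟨_, ⟨b, hb, rfl⟩, rfl⟩ := mem_cj'.1 hy
    exact ⟨_, nB.conj_mem b hb a, by simp⟩
  · rw [← map_lowerCentralSeries]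
    refine map_mono ?_
    rw [← QuotientGroup.ker_mk' B, ← Subgroup.map_eq_bot_iff, map_lowerCentralSeries,
      map_top_of_surjective _ (QuotientGroup.mk'_surjective B), hn]
  · rintro _ ⟨a, -, rfl⟩
    refine mem_norm_of_cj_le fun y hy => ?_
    obtain ⟨_, ⟨g, rfl⟩, rfl⟩ := mem_cj'.1 hy
    exact ⟨_, (act a g).symm⟩
  · refine le_bot_iff.1 ?_
    rintro _ ⟨⟨g, rfl⟩, k⟩
    rw [f g fun a => SemidirectProduct.inl_injective ((act a g).symm.trans (by
      rw [mem_cent.1 k _ ⟨a, trivial, rfl⟩, mul_inv_cancel_right]))]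
    simp

theorem Main.nil (hM : Main.{u}) {G : Type u} {A : Type v} [Group G] [Finite G] [Group A] [Finite A]
    (φ : A →* MulAut G) (hn : Group.IsNilpotent A) (f : ∀ g : G, (∀ a, φ a g = g) → g = 1) : Group.IsSolvable G :=
  hM.op φ ⊥ (by simp) inferInstance f

theorem Main.cop (hM : Main.{u}) {G : Type u} {A : Type v} [Group G] [Finite G] [Group A] [Finite A]
    (φ : A →* MulAut G) (c : (Nat.card A).Coprime (Nat.card G)) (f : ∀ g : G, (∀ a, φ a g = g) → g = 1) :
    Group.IsSolvable G :=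
  have := QuotientGroup.subsingleton_quotient_top (G := A)
  hM.op φ ⊤ (by simpa) inferInstance f

theorem Main.aut (hM : Main.{u}) {G : Type u} [Group G] [Finite G] (α : MulAut G) (f : ∀ g : G, α g = g → g = 1) :
    Group.IsSolvable G :=
  have : Finite (MulAut G) := Finite.of_injective _ MulEquiv.toEquiv_injective
  have := (inferInstance : IsCyclic (zpowers α)).isMulCommutative
  hM.nil (zpowers α).subtype (nil_of_ab this) fun g k => f g (k ⟨α, mem_zpowers α⟩)

theorem Main.s4042 (hM : Main.{u}) {G : Type u} {A : Type v} [Group G] [Finite G]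
    [Group A] [Finite A] (φ : A →* MulAut G) (hfpf : ∀ g : G, (∀ a : A, φ a g = g) → g = 1)
    (hHall : ∃ H : Subgroup A, Cfsg.IsPiHall {r : ℕ | r.Prime ∧ r ∣ Nat.card G} H ∧ IsCyclic H)
    (hcomp : ∃ K : Subgroup A, K.Normal ∧ (∀ r : ℕ, r.Prime → r ∣ Nat.card K → ¬ r ∣ Nat.card G) ∧
      ∀ r : ℕ, r.Prime → r ∣ K.index → r ∣ Nat.card G) : Group.IsSolvable G := by
  obtain ⟨H, hH, cH⟩ := hHall
  obtain ⟨K, nK, h1, h2⟩ := hcomp
  have e : K ⊔ H = ⊤ := (hall_top_iff.2 hH).sup_eq le_top fun r hr d => ⟨hr, h2 r hr (by simpa using d)⟩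
  have : IsCyclic (A ⧸ K) := isCyclic_of_surjective ((QuotientGroup.mk' K).comp H.subtype) (by
    rw [← MonoidHom.range_eq_top, MonoidHom.range_comp, range_subtype, ← top_le_iff,
      ← map_top_of_surjective _ (QuotientGroup.mk'_surjective K), ← e, Subgroup.map_sup]
    simp)
  have := this.isMulCommutative
  exact hM.op φ K (Nat.coprime_of_dvd h1) (nil_of_ab (H := ⊤) inferInstance |> Group.isNilpotent_top.1) hfpf

end H8.FS
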