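import Cfsg.Agent.H8.FS8
import Cfsg.Agent.H4.SC8
/-! Fixed-point-free operator groups: the unconditional form. -/
set_option autoImplicit false
namespace H8.FS
universe u
theorem main : Main.{u} := main_of H4.SC.sc
end H8.FS
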