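import Cfsg.Agent.H8.FS8

/-! Cosets consisting of elements of odd order: the basic lemmas. -/

set_option autoImplicit false
set_option linter.unusedVariables false
set_option linter.unusedSectionVars false

namespace H8.FT
open Cfsg Subgroup H18 H17.GS
open H19 hiding eq_bot_mono
open scoped commutatorElement

universe u
variable {X : Type u} [Group X] [Finite X] {A B D E F G H K L M N O P Q R S T U V W Y Z : Subgroup X}
  {a b c d e g k n s t u v w x y z : X} {p r : ℕ}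

local notation "p2" => Nat.prime_two

/-- `A = ⟨α⟩` and all elements of `N α` have odd order -/
structure Fx (A N : Subgroup X) : Prop where
  n : A ≤ N(N)
  ex : ∃ α, zpowers α = A ∧ ∀ x ∈ N, PiE {2}ᶜ (x * α)

theorem Fx.mono (h : Fx A N) (l : M ≤ N) (nM : A ≤ N(M)) : Fx A M :=
  ⟨nM, h.ex.imp fun _ k => ⟨k.1, fun x hx => k.2 x (l hx)⟩⟩

theorem Fx.one (h : Fx A N) (hx : x ∈ N) (hc : x ∈ C(A)) (x2 : PiE {2} x) : x = 1 := by
  obtain ⟨α, rfl, k⟩ := h.ex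
  have c := mem_cent.1 hc α (mem_zpowers α)
  have := (k x hx).e_mul (y := α⁻¹) (by simpa using (k 1 (one_mem _)).e_inv) (by rw [mul_inv_cancel_right, ← c, inv_mul_cancel_left])
  exact x2.e_eq_one (by simpa using this)

theorem pi2 (h : x * x = 1) : PiE {2} x := piG_zpowers.1 (pg_zpowers h)

theorem Fx.f (h : Fx A N) (l : P ≤ N) (hP : PG 2 P) : P ⊓ C(A) = ⊥ :=
  le_bot_iff.1 fun x hx => h.one (l hx.1) hx.2 (hP.elt hx.1)

theorem Fx.im {Y : Type u} [Group Y] [Finite Y] (h : Fx A N) (f : D →* Y) (h1 : A ≤ D) (h2 : N ≤ D) :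
    Fx (im f A) (im f N) := by
  obtain ⟨α, rfl, k⟩ := h.ex
  refine ⟨im_norms h.n, f ⟨α, h1 (mem_zpowers α)⟩, (im_zpowers _).symm, fun y hy => ?_⟩
  obtain ⟨y, hy', rfl⟩ := mem_im.1 hy
  rw [← map_mul]
  exact (k y hy').dvd ((orderOf_map_dvd f _).trans (orderOf_coe _).symm.dvd)

theorem Fx.quo (h : Fx A N) (h1 : A ≤ N(K)) (h2 : N ≤ N(K)) : Fx (quo K A) (quo K N) := h.im _ h1 h2

theorem Fx.mem (h : Fx A N) (nM : A ≤ N(M)) (n : N ≤ N(M)) (hy : y ∈ N) (y2 : y * y = 1)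
    (k : ∀ a ∈ A, a * y * a⁻¹ * y⁻¹ ∈ M) : y ∈ M :=
  qmk_eq_one.1 ((h.quo nM n).one (x := qmk M ⟨y, n hy⟩) (mem_im_of hy) (mem_cent.2 fun a ha => by
    obtain ⟨a, ha', rfl⟩ := mem_im.1 ha
    rw [← map_mul, ← map_mul, eq_comm, ← mul_inv_eq_one, ← map_inv, ← map_mul, qmk_eq_one]
    simpa [mul_assoc] using inv_mem (k a ha')) (pi2 (by rw [← map_mul, qmk_eq_one]; simp [y2])))

theorem Fx.le_comm (h : Fx A N) (hy : y ∈ N) (y2 : y * y = 1) : y ∈ ⁅A, N⁆ :=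
  h.mem (commg_norml _ _) (commg_normr _ _) hy y2 fun a ha => comm_mem ha hy

theorem Fx.rep (h : Fx A N) (hL : ∀ a ∈ A, ∃ n ∈ N, n * a ∈ L) : ∃ B, Fx B N ∧ B ≤ L := by
  obtain ⟨α, rfl, k⟩ := h.ex
  obtain ⟨n, hn, e⟩ := hL α (mem_zpowers α)
  exact ⟨zpowers (n * α), ⟨zpowers_le.2 (mul_mem (le_normalizer hn) (h.n (mem_zpowers α))), _, rfl,
    fun x hx => mul_assoc x n α ▸ k _ (mul_mem hx hn)⟩, zpowers_le.2 e⟩

theorem Fx.syl (h : Fx A N) (p : ℕ) : ∃ B P, Fx B N ∧ Syl p P N ∧ B ≤ N(P) := by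
  obtain ⟨P, hP⟩ := exists_syl p N
  obtain ⟨B, k, l⟩ := h.rep (L := N(P)) fun a ha => by
    obtain ⟨n, hn, e⟩ := (hP.Jnorm (h.n ha)).sconj hP
    exact ⟨n, hn, mem_norm_iff_cj.2 (cj_mul n a P ▸ e)⟩
  exact ⟨B, P, k, hP, l⟩

theorem exists_min (α : X) (L : Subgroup X) : ∃ m, 0 < m ∧ α ^ m ∈ L ∧ ∀ i, 0 < i → i < m → α ^ i ∉ L := by
  classical
  have ex : ∃ m, 0 < m ∧ α ^ m ∈ L := ⟨_, orderOf_pos α, by simp⟩
  exact ⟨_, (Nat.find_spec ex).1, (Nat.find_spec ex).2, fun i i0 h m => Nat.find_min ex h ⟨i0, m⟩⟩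

theorem inf_le_zp {α : X} {m : ℕ} (m0 : 0 < m) (h1 : α ^ m ∈ L) (h2 : ∀ i, 0 < i → i < m → α ^ i ∉ L) :
    zpowers α ⊓ L ≤ zpowers (α ^ m) := fun x hx => by
  obtain ⟨i, rfl⟩ := mem_powers_iff_mem_zpowers.2 hx.1
  have h3 : α ^ i ∈ L := hx.2
  show α ^ i ∈ _
  rw [← Nat.div_add_mod i m, pow_add, pow_mul] at h3 ⊢
  rw [mul_mem_cancel_left (pow_mem h1 _)] at h3
  rw [(Nat.eq_zero_or_pos (i % m)).resolve_right fun c => h2 _ c (Nat.mod_lt _ m0) h3, pow_zero, mul_one]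
  exact pow_mem (mem_zpowers _) _

theorem pow_form {α : X} {m : ℕ} (h : ∀ i, 0 < i → i < m → α ^ i * x * (α ^ i)⁻¹ ∈ W) (j : ℕ) (hj : j < m) :
    ∃ y ∈ W, (x * α) ^ (j + 1) = x * y * α ^ (j + 1) := by
  induction j with
  | zero => exact ⟨1, one_mem _, by simp⟩
  | succ j ih =>
    obtain ⟨y, hy, e⟩ := ih (by omega)
    exact ⟨_, mul_mem hy (h (j + 1) j.succ_pos hj), by rw [pow_succ, e, pow_succ α (j + 1)]; group⟩

theorem pow_form' {α : X} {m : ℕ} (m0 : 0 < m) (h : ∀ i, 0 < i → i < m → α ^ i * x * (α ^ i)⁻¹ ∈ W) :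
    ∃ y ∈ W, (x * α) ^ m = x * y * α ^ m := by
  obtain ⟨j, rfl⟩ := Nat.exists_eq_succ_of_ne_zero m0.ne'
  exact pow_form h j j.lt_succ_self

theorem pow_mod (hy : y ∈ W) (hg : g ∈ N(W)) (j : ℕ) : (y * g) ^ j * (g ^ j)⁻¹ ∈ W := by
  induction j with
  | zero => simp
  | succ j ih =>
    have := mul_mem ih (conj_mem_of_norm (pow_mem hg j) hy)
    convert this using 1
    rw [pow_succ, pow_succ]; group

theorem Fx.blk (h : Fx A K) (l : L ≤ K) (lA : B ≤ A) (nB : B ≤ N(L)) (hf : L ⊓ H = ⊥)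
    (hb : ∀ a ∈ A, a ∉ B → cj a L ≤ H ⊓ C(L)) : Fx B L := by
  obtain ⟨α, rfl, k⟩ := h.ex
  obtain ⟨m, m0, h1, h2⟩ := exists_min α B
  refine ⟨nB, α ^ m, le_antisymm (zpowers_le.2 h1) ((le_inf lA le_rfl).trans (inf_le_zp m0 h1 h2)), fun x hx => ?_⟩
  set W := closure {y | ∃ a ∈ zpowers α, a ∉ B ∧ y ∈ cj a L} with hW
  have lW : W ≤ H ⊓ C(L) := (closure_le _).2 fun y ⟨a, ha, m, hy⟩ => hb a ha m hy
  have nW : α ^ m ∈ N(W) := FS.norm_closure fun y ⟨a, ha, m', hy⟩ => ⟨_, mul_mem (lA h1) ha,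
    fun c => m' ((mul_mem_cancel_left h1).1 c), by rw [cj_mul]; exact conj_mem_cj.2 hy⟩
  obtain ⟨y, hy, e⟩ := pow_form' (W := W) m0 fun i i0 im =>
    subset_closure ⟨_, pow_mem (mem_zpowers α) i, h2 i i0 im, conj_mem_cj.2 hx⟩
  rw [mem_cent.1 (lW hy).2 x hx, mul_assoc] at e
  have o1 := k x (l hx)
  have o2 : PiE {2}ᶜ α := by simpa using k 1 (one_mem _)
  refine (o1.mul o2).dvd (orderOf_dvd_of_pow_eq_one (mem_bot.1 (hf ▸ mem_inf.2 ⟨?_, ?_⟩)))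
  · have := pow_mod hx (nB h1) (orderOf (x * α) * orderOf α)
    rwa [← pow_mul α, orderOf_dvd_iff_pow_eq_one.1 ((dvd_mul_left _ _).mul_left m), inv_one, mul_one] at this
  · have := pow_mod hy (mul_mem (norms_of_cents (cents_symm (lW.trans inf_le_right)) hx) nW)
      (orderOf (x * α) * orderOf α)
    rw [← e, ← pow_mul, mul_left_comm, pow_mul, pow_orderOf_eq_one, one_pow, one_mul, inv_mem_iff] at this
    exact (lW this).1

theorem Fx.blkfix (h : Fx A N) (l : K ≤ N) (h1 : K ≤ L) (h2 : W ≤ L) (hb : ∀ a ∈ A, a ∉ L → cj a K ≤ W)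
    (c1 : W ≤ C[u]) (c2 : W ≤ C(K)) (hw : ∀ a ∈ A ⊓ L, ∃ k ∈ K, k * a ∈ C[u]) :
    ∃ B ≤ K ⊔ A, Fx B N ∧ B ⊓ L ≤ C[u] := by
  obtain ⟨α, rfl, o⟩ := h.ex
  obtain ⟨m, m0, m1, m2⟩ := exists_min α L
  obtain ⟨k, hk, c⟩ := hw _ ⟨pow_mem (mem_zpowers α) m, m1⟩
  have f : ∀ i, 0 < i → i < m → α ^ i * k * (α ^ i)⁻¹ ∈ W := fun i i0 im =>
    hb _ (pow_mem (mem_zpowers α) i) (m2 i i0 im) (conj_mem_cj.2 hk)
  obtain ⟨y, hy, e⟩ := pow_form' m0 f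
  refine ⟨zpowers (k * α), zpowers_le.2 (mul_mem_sup hk (mem_zpowers α)),
    ⟨zpowers_le.2 (mul_mem (le_normalizer (l hk)) (h.n (mem_zpowers α))), _, rfl,
      fun x hx => mul_assoc x k α ▸ o _ (mul_mem hx (l hk))⟩,
    (inf_le_zp m0 (e ▸ mul_mem (mul_mem (h1 hk) (h2 hy)) m1) fun i i0 im c' => ?_).trans (zpowers_le.2 ?_)⟩
  · obtain ⟨j, rfl⟩ := Nat.exists_eq_succ_of_ne_zero i0.ne'
    obtain ⟨y, hy, e⟩ := pow_form f j (by omega)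
    rw [e, mul_mem_cancel_left (mul_mem (h1 hk) (h2 hy))] at c'
    exact m2 _ i0 im c'
  · rw [e, mem_cent.1 (c2 hy) k hk, mul_assoc]
    exact mul_mem (c1 hy) c

end H8.FT
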