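import Cfsg.Agent.H8.FT2

/-! Module lemmas II (version for cosets of elements of odd order). -/

set_option autoImplicit false
set_option linter.unusedVariables false
set_option linter.unusedSectionVars false

namespace H8.FT
open Cfsg Subgroup H18 H17.GS
open H19 hiding eq_bot_mono
open H8.FS hiding Fx Md Mc Nb Rd Lk Cx det_false rd_kc exists_hv main_aux main_of Main
open H29.PU (zj bm)
open scoped commutatorElement

universe u
variable {X : Type u} [Group X] [Finite X] {A B C D E F G H K L M N O P Q R S T U V W Y Z : Subgroup X}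
  {a b c d e f g k n s t u v w x y z : X} {p r : ℕ}

local notation "p2" => Nat.prime_two
local notation:max "Ω(" S ")" => Ohm1 2 Z(S)

theorem Mc.gen2 (h : Mc V K A C e r) (hz : z ∈ C) (hc : c ∈ C) (cz : c ∈ C[z]) (z1 : z ≠ 1) (m : c ∉ zpowers z)
    (l : W ≤ V) (n1 : z ∈ N(W)) (n2 : c ∈ N(W)) (k0 : W ⊓ C[z] ≤ L) (k : ∀ i : ℕ, W ⊓ C[z ^ i * c] ≤ L) :
    W ≤ L := by
  have e1 := el1_zpowers' h.pr hz (h.ex z hz) z1
  have e2 := el1_zpowers' h.pr hc (h.ex c hc) fun e => m (e ▸ one_mem _)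
  have cc : zpowers z ≤ C(zpowers c) := zpowers_le.2 (cent_zpowers c ▸ mem_cent1_symm.1 cz)
  have e3 := e1.sup2 e2 cc fun e => m (e ▸ mem_zpowers c)
  refine e3.le_of_cent_le (sup_le (zpowers_le.2 n1) (zpowers_le.2 n2))
    (((ab_pg h.ea).of_le l).sing_ne h.r2.symm) fun Y hY => ?_
  by_cases e : zpowers z = Y
  · rw [← e, cent_zpowers]; exact k0
  have e4 := e3.sup_eq (e1.of_le le_sup_left) hY e
  obtain ⟨j, hj, y, hy, rfl⟩ := (mem_sup_of_norm (norms_of_comm e3.comm hY.le le_sup_left)).1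
    (e4.symm ▸ mem_sup_right (mem_zpowers c))
  obtain ⟨i, hi⟩ := mem_powers_iff_mem_zpowers.2 (inv_mem hj)
  exact (inf_le_inf_left _ (cent_le_cent1 (by simpa [show z ^ i = j⁻¹ from hi] using hy))).trans (k i)

/-- the extraspecial configuration -/
structure Nb (V K A C : Subgroup X) (e : X) (r : ℕ) (d f z : X) : Prop extends Mc V K A C e r where
  hd : d ∈ C
  hf : f ∈ C
  id : e * d * e⁻¹ = d⁻¹
  iff : e * f * e⁻¹ = f⁻¹
  hz : f * d * f⁻¹ = z * d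
  z1 : z ≠ 1
  zZ : z ∈ C ⊓ C(C)
  dZ : d ∉ C(C)
  na : ⁅C, C⁆ ≤ C(C) ⊓ C[e]
  Ze : C ⊓ C(C) ≤ C[e]

theorem Mc.nb (h : Mc V K A C e r) (ha : ¬ Ab C) : ∃ d f z, Nb V K A C e r d f z := by
  have pC : Sol C := sol_mono h.sol h.lK
  have na := h.min _ (sol_der_lt pC fun e => h.ne (by simp [e])) (norms_der h.nC)
  have Ze := (h.min _ (lt_of_le_of_ne (inf_le_left (b := C(C))) fun e => ha (comm_iff_le_cent.2 (e.ge.trans inf_le_right)))
    (norms_inf h.nC (norms_cent h.nC))).trans inf_le_right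
  obtain ⟨c, hc, c1⟩ := exists_comm h.ne
  have hd := h.cm hc
  have i := comm_inv (c := c) h.e2
  generalize c * e * c⁻¹ * e⁻¹ = d at c1 hd i
  have dZ : d ∉ C(C) := fun m => c1 (inv_one (h.og.elt hd) i (Ze ⟨hd, m⟩))
  obtain ⟨c, hc, m⟩ : ∃ c ∈ C, c * e * c⁻¹ * e⁻¹ ∉ C[d] := by
    by_contra! k
    refine dZ (le_cent1_iff.1 ?_)
    rw [← commg_sup_cent (zpowers_le.2 h.eN) (h.og.cop (pg_zpowers h.e2)) (.inr pC), cent_zpowers]
    refine sup_le (commg_le_iff.2 fun x hx y hy => ?_) fun x hx => cc h.og na hx.1 hx.2 hd i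
    rcases (mem_zp h.e2).1 hy with rfl | rfl
    · simp
    · exact k x hx
  refine ⟨d, _, _, h, hd, h.cm hc, i, comm_inv h.e2, (inv_mul_cancel_right _ d).symm, fun e => m (mem_cent1.2 ?_),
    ⟨der_le C (comm_mem (h.cm hc) hd), (na (comm_mem (h.cm hc) hd)).1⟩, dZ, na, Ze⟩
  rwa [mul_inv_eq_one, mul_inv_eq_iff_eq_mul] at e

namespace Nb
variable (h : Nb V K A C e r d f z)
include h

theorem oz : Od V z := h.od h.zZ.1
theorem cz (hc : c ∈ C) : c ∈ C[z] := le_cent1_iff.2 h.zZ.2 hc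
theorem nU (h1 : c ∈ N(V)) (hc : c ∈ C[z]) : c ∈ N(bx V z) :=
  norms_comm (zpowers_le.2 h1) (zpowers_le.2 (cent1_le_norm_zpowers z hc)) (mem_zpowers c)
theorem nU' (hc : c ∈ C) : c ∈ N(bx V z) := h.nU (h.n (h.lK hc)) (h.cz hc)
theorem U1 : bx V z ≠ ⊥ := fun e => h.z1 (h.one (h.lK h.zZ.1) (cents_symm (commg_eq_bot.1 e) (mem_zpowers z)))

theorem cj_pow (i : ℕ) : f ^ i * d * (f ^ i)⁻¹ = z ^ i * d := by
  induction i with
  | zero => simp
  | succ i ih =>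
    have : f * z ^ i = z ^ i * f := (Commute.pow_right (mem_cent1.1 (h.cz h.hf)) i).eq
    calc _ = f * (f ^ i * d * (f ^ i)⁻¹) * f⁻¹ := by group
      _ = z ^ i * (f * d * f⁻¹) := by rw [ih, ← mul_assoc, this]; group
      _ = _ := by rw [h.hz]; group

theorem card (n : f ∈ N(W)) (i : ℕ) : #(W ⊓ C[z ^ i * d]) = #(W ⊓ C[d]) := by
  rw [← h.cj_pow, ← H19.cj_cent1, ← card_cj (f ^ i) (W ⊓ C[d]), cj_inf, cj_of_mem_norm (pow_mem n i)]

theorem gen (l : W ≤ bx V z) (n0 : z ∈ N(W)) (n1 : d ∈ N(W)) (k : ∀ i : ℕ, W ⊓ C[z ^ i * d] ≤ L) : W ≤ L :=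
  h.gen2 h.zZ.1 h.hd (h.cz h.hd) h.z1 (fun m => h.dZ (zpowers_le.2 h.zZ.2 m)) (l.trans h.oz.le) n0 n1
    ((inf_le_inf_right _ l).trans (h.oz.inf ▸ bot_le)) k

theorem nz (n1 : d ∈ N(W)) (n2 : f ∈ N(W)) : z ∈ N(W) := by
  simpa [h.hz] using mul_mem (mul_mem (mul_mem n2 n1) (inv_mem n2)) (inv_mem n1)

theorem four (l : W ≤ bx V z) (w1 : W ≠ ⊥) (n1 : d ∈ N(W)) (n2 : f ∈ N(W)) (i : ℕ) : 4 ≤ #(W ⊓ C[z ^ i * d]) := by
  have n0 := h.nz n1 n2
  refine four_le (h.oz.pg.of_le (inf_le_left.trans l)) (fun e => w1 (le_bot_iff.1 (h.gen l n0 n1 fun j => ?_)))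
    (norms_inf (zpowers_le.2 n0) (norms_cent1 (zpowers_le.2 (mem_cent1_symm.1 (h.cz
      (mul_mem (pow_mem h.zZ.1 i) h.hd))))) (mem_zpowers z))
    (le_bot_iff.1 ((inf_le_inf_right _ (inf_le_left.trans l)).trans h.oz.inf.le))
  rw [le_bot_iff, ← card_eq_one, h.card n2, ← h.card n2 i, e, card_bot]

theorem sub (i : ℕ) (hi : z ∈ zpowers (z ^ i)) : bx V z ⊓ C[z ^ i * d] ≤ bx V d := by
  have n : zpowers d ≤ N(bx V z ⊓ C[z ^ i * d]) := norms_inf (zpowers_le.2 (h.nU' h.hd)) (norms_cent1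
    (zpowers_le.2 (mem_cent1_symm.1 (mul_mem (pow_mem (mem_cent1_symm.1 (h.cz h.hd)) i) (mem_cent1_self d)))))
  have l : bx V z ⊓ C[z ^ i * d] ≤ V := inf_le_left.trans h.oz.le
  refine (commg_eq_of_cent_eq_bot n ((h.od h.hd).cop.coprime_dvd_left (card_dvd l)) (.inl (sol_zpowers d))
    (le_bot_iff.1 fun u hu => h.oz.one hu.1.1 (cent1_le_cent1_of_mem_zpowers hi (mem_cent1_symm.1 ?_)))).ge.trans
    (commutator_mono l le_rfl)
  have := mul_mem (mem_cent1_symm.1 hu.1.2) (inv_mem (mem_cent1_symm.1 (cent_zpowers d ▸ hu.2)))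
  rwa [mul_inv_cancel_right] at this

theorem key : #(bx V z ⊓ C[d]) ≤ 4 ∧ bx V d ≤ bx V z ∧ V ⊓ C[d] ≤ C[e] := by
  have s1 := h.sub 1 (by simp)
  have s2 := h.sub 2 (by rw [pow_two]; exact mem_zp_sq h.oz.o)
  have c := card_sup_of_disjoint (A := bx V z ⊓ C[z ^ 1 * d]) (B := bx V z ⊓ C[z ^ 2 * d])
    (norms_of_comm h.ea.1 (inf_le_left.trans h.oz.le) (inf_le_left.trans h.oz.le))
    (le_bot_iff.1 fun u hu => h.oz.one hu.1.1 (mem_cent1_symm.1 (by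
      have := mul_mem (mem_cent1_symm.1 hu.2.2) (inv_mem (mem_cent1_symm.1 hu.1.2))
      convert this using 1; group)))
  rw [h.card (h.nU' h.hf), h.card (h.nU' h.hf)] at c
  have f4 := h.four le_rfl h.U1 (h.nU' h.hd) (h.nU' h.hf) 0
  rw [pow_zero, one_mul] at f4
  obtain ⟨b1, b2⟩ := inv_bound (h.od h.hd) (h.n h.he) h.e2 h.b h.id
  have c1 := card_le (sup_le s1 s2)
  refine ⟨by nlinarith, ?_, b2.resolve_right (by nlinarith)⟩
  rw [← eq_of_le_of_card_eq (sup_le s1 s2) (by nlinarith)]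
  exact sup_le inf_le_left inf_le_left

theorem irr (l : W ≤ bx V z) (w1 : W ≠ ⊥) (n1 : d ∈ N(W)) (n2 : f ∈ N(W)) : bx V z ≤ W :=
  h.gen le_rfl h.oz.nb (h.nU' h.hd) fun i => by
    rw [← eq_of_le_of_card_eq (inf_le_inf_right C[z ^ i * d] l) (le_antisymm (card_le (inf_le_inf_right _ l))
      ((h.card (h.nU' h.hf) i).le.trans (h.key.1.trans (h.four l w1 n1 n2 i))))]
    exact inf_le_left

theorem dich (h1 : w ∈ C[d]) (h2 : w ∈ C[f]) : bx V z ≤ C[w] ∨ bx V z ⊓ C[w] = ⊥ := by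
  by_contra k
  rw [not_or] at k
  exact k.1 ((h.irr inf_le_left k.2
    (norms_inf (zpowers_le.2 (h.nU' h.hd)) (norms_cent1 (zpowers_le.2 (mem_cent1_symm.1 h1))) (mem_zpowers d))
    (norms_inf (zpowers_le.2 (h.nU' h.hf)) (norms_cent1 (zpowers_le.2 (mem_cent1_symm.1 h2))) (mem_zpowers f))).trans
    inf_le_right)

theorem cen (n : w ∈ N(V)) (c : w ∈ C[z]) (l : bx V w ≤ bx V z) : w ∈ C(V ⊓ C[z]) :=
  cents_symm (commg_eq_bot.1 (le_bot_iff.1 (h.oz.inf ▸ le_inf ((commutator_mono inf_le_left le_rfl).trans l)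
    ((commg_le_left (norms_inf (zpowers_le.2 n) (norms_cent1 (zpowers_le.2 c)))).trans inf_le_right)))) (mem_zpowers w)

theorem blk (ha : a ∈ A) (m : a ∉ N(V ⊓ C[z])) : bx V z ≤ cj a (V ⊓ C[z]) := by
  have nC := h.nC (mem_sup_right ha)
  have wZ : a * z * a⁻¹ ∈ C ⊓ C(C) := ⟨conj_mem_of_norm nC h.zZ.1, conj_mem_of_norm (norm_le_norm_cent _ nC) h.zZ.2⟩
  have e : cj a (V ⊓ C[z]) = V ⊓ C[a * z * a⁻¹] := by rw [cj_inf, H19.cj_cent1, cj_of_mem_norm (h.nV ha)]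
  have ow := h.od wZ.1
  rw [e]
  refine le_inf h.oz.le ((h.dich (cent_le_cent1 h.hd wZ.2) (cent_le_cent1 h.hf wZ.2)).resolve_right fun k => m ?_)
  have l : bx V z ≤ bx V (a * z * a⁻¹) := (commg_eq_of_cent_eq_bot (zpowers_le.2 (h.nU' wZ.1))
    (ow.cop.coprime_dvd_left (card_dvd h.oz.le)) (.inl (sol_zpowers _)) (cent_zpowers (a * z * a⁻¹) ▸ k)).ge.trans
    (commutator_mono h.oz.le le_rfl)
  have := eq_of_le_of_card_eq l (by rw [← cj_bx (h.nV ha), card_cj])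
  exact mem_norm_of_le_cj (e ▸ le_inf inf_le_left (le_cent1_iff.2 (h.cen ow.n (h.cz wZ.1) this.ge)))

theorem false : False := by
  set K1 := K ⊓ (C(V ⊓ C[z]) ⊓ C(C ⊓ C(C))) with hK1
  set A1 := A ⊓ N(V ⊓ C[z]) with hA1
  have nA : A ≤ N(C) := le_sup_right.trans h.nC
  have nZ : A ≤ N(C ⊓ C(C)) := norms_inf nA (norms_cent nA)
  have n1 : A1 ≤ N(K1) := norms_inf (inf_le_left.trans h.fK.n)
    (norms_inf (norms_cent inf_le_right) (norms_cent (inf_le_left.trans nZ)))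
  have kz : K1 ≤ C[z] := inf_le_right.trans (inf_le_right.trans (cent_le_cent1 h.zZ))
  have kU : ⁅V, K1⁆ ≤ bx V z := by
    have := commg_sup_left_le (A := V ⊓ C[z]) (B := bx V z) (K := K1) (X := bx V z)
      ((commg_eq_bot.2 (cents_symm (inf_le_right.trans inf_le_left))).le.trans bot_le)
      (commg_le_left fun k hk => h.nU (h.n hk.1) (kz hk)) (norms_of_cents h.oz.dp.cent) le_normalizer
    rwa [h.oz.dp.sup] at this
  have ff : K1 ⊓ C(bx V z) = ⊥ := le_bot_iff.1 fun k hk => h.one hk.1.1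
    (h.oz.cent (le_cent1_iff.2 hk.2) (le_cent1_iff.2 hk.1.2.1))
  have b1 : ∀ a ∈ A, a ∉ A1 → cj a K1 ≤ C(bx V z) := fun a ha m =>
    (cj_mono a (inf_le_right.trans inf_le_left)).trans (H19.cj_cent a _ ▸ cent_mono (h.blk ha fun k => m ⟨ha, k⟩))
  have fx : Fx A1 K1 := h.fK.blk inf_le_left inf_le_left n1 ff fun a ha m => le_inf (b1 a ha m)
    (h.comm (cj_le_of_mem_norm (h.fK.n ha) inf_le_left) inf_le_left (by
      rw [← cj_of_mem_norm (h.nV ha), ← cj_comm, cj_le_iff, H19.cj_cent]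
      exact kU.trans (cents_symm (b1 _ (inv_mem ha) fun k => m (inv_mem_iff.1 k))))
      (kU.trans (cents_symm (b1 a ha m))))
  have dC : d ∈ C(V ⊓ C[z]) := h.cen (h.od h.hd).n (h.cz h.hd) h.key.2.1
  have eC : e ∈ C(V ⊓ C[z]) := le_cent1_iff.1 ((le_inf inf_le_left (le_cent1_iff.2 dC)).trans h.key.2.2)
  have eK : e ∈ K1 := ⟨h.he, eC, le_cent1_iff.1 h.Ze⟩
  have cZ : C ≤ C(C ⊓ C(C)) := cents_symm inf_le_right
  have dK : d ∈ K1 := ⟨h.lK h.hd, dC, cZ h.hd⟩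
  have zK : z ∈ K1 := ⟨h.lK h.zZ.1, le_cent1_iff.1 inf_le_right, cZ h.zZ.1⟩
  have c1 : ∀ c ∈ C ⊓ K1, c ∈ C[e] → c ∈ C(C) := fun c hc ce => by_contra fun m => h.U1 (le_bot_iff.1
    (h.gen2 h.zZ.1 hc.1 (h.cz hc.1) h.z1 (fun k => m (zpowers_le.2 h.zZ.2 k)) h.oz.le h.oz.nb (h.nU' hc.1)
      h.oz.inf.le fun i => ((h.dich
        (mul_mem (pow_mem (mem_cent1_symm.1 (h.cz h.hd)) i) (cc h.og h.na hc.1 ce h.hd h.id))
        (mul_mem (pow_mem (mem_cent1_symm.1 (h.cz h.hf)) i) (cc h.og h.na hc.1 ce h.hf h.iff))).resolve_left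
        fun k => m (by
          have := mem_bot.1 (ff ▸ mem_inf.2 ⟨mul_mem (pow_mem zK i) hc.2, le_cent1_iff.1 k⟩)
          exact eq_inv_of_mul_eq_one_right this ▸ inv_mem (pow_mem h.zZ.2 i))).le))
  set C1 := C ⊓ K1 with hC1
  set Z1 := C1 ⊓ C(C) with hZ1
  have kC : K1 ≤ N(C1) := norms_inf (inf_le_left.trans (le_sup_left.trans h.nC)) le_normalizer
  have kZ : K1 ≤ N(Z1) := norms_inf kC (norms_cent (inf_le_left.trans (le_sup_left.trans h.nC)))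
  have aC : A1 ≤ N(C1) := norms_inf (inf_le_left.trans nA) n1
  have aZ : A1 ≤ N(Z1) := norms_inf aC (norms_cent (inf_le_left.trans nA))
  have c2 : ∀ c ∈ C1, e * c * e⁻¹ * c ∈ Z1 := fun c hc => by
    have m := conj_mem_of_norm (kC eK) hc
    have e' : e⁻¹ = e := inv_eq_of_mul_eq_one_right h.e2
    obtain ⟨n, hn, k⟩ := exists_mul_mem_cent (A := zpowers e) (H := Z1) (zpowers_le.2 (kZ eK))
      (OG.cop (h.og.of_le (inf_le_left.trans inf_le_left)) (pg_zpowers h.e2)) (.inl (sol_zpowers e))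
      (k := e * c * e⁻¹ * c) fun a ha => by
        rcases (mem_zp h.e2).1 ha with rfl | rfl
        · simp
        · have : a * (a * c * a⁻¹ * c) * a⁻¹ * (a * c * a⁻¹ * c)⁻¹ = c * (a * c * a⁻¹) * c⁻¹ * (a * c * a⁻¹)⁻¹ := by
            calc _ = a * a * c * (a * a)⁻¹ * (a * c * a⁻¹) * c⁻¹ * (a * c * a⁻¹)⁻¹ := by group
              _ = _ := by rw [h.e2]; group
          rw [this]
          exact ⟨der_le C1 (comm_mem hc m), (h.na (comm_mem hc.1 m.1)).1⟩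
    have := c1 _ (mul_mem hn.1 (mul_mem m hc)) (cent_zpowers e ▸ k)
    exact ⟨mul_mem m hc, by simpa using mul_mem (C(C).inv_mem hn.2) this⟩
  have := fx.mem (M := K1 ⊓ cq C1 Z1) (norms_inf n1 (norms_cq aC aZ)) (norms_inf le_normalizer (norms_cq kC kZ)) eK h.e2 fun a ha => by
    have m := conj_mem_of_norm (n1 ha) eK
    refine mem_inf.2 ⟨mul_mem m (inv_mem eK), kZ (mul_mem m (inv_mem eK)), fun c hc => ?_⟩
    have k1 := conj_mem_of_norm (aZ ha) (c2 _ (conj_mem_of_norm' (aC ha) hc))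
    have k2 := conj_mem_of_norm (kZ m) (c2 c hc)
    have := mul_mem k2 (conj_mem_of_norm (kZ hc.2) (inv_mem k1))
    have e' : e⁻¹ = e := inv_eq_of_mul_eq_one_right h.e2
    have e3 : a * e * a⁻¹ * e⁻¹ = a * e * a⁻¹ * e := by rw [e']
    rw [e3]
    convert this using 1; group
  refine h.dZ (odd_sq (h.og.elt h.hd) ?_)
  have := C(C).inv_mem (this.2.2 d ⟨h.hd, dK⟩).2
  rwa [h.id, mul_inv_rev, inv_inv] at this

end Nb

theorem Md.n1 (h : Md V K A) (he : e ∈ K) (e2 : e * e = 1) (b : #V ≤ 4 * #(V ⊓ C[e])) : e = 1 := by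
  by_contra e1
  obtain ⟨C, r, hC⟩ := h.mc he e2 e1 b
  by_cases ha : Ab C
  · exact hC.ab ha
  · obtain ⟨d, f, z, k⟩ := hC.nb ha
    exact k.false

theorem Md.off (h : Md V K A) (l : E ≤ K) (hE : Abelem 2 E) (b : #V ≤ 2 * #E * #(V ⊓ C(E))) : E = ⊥ := by
  induction E using (wellFounded_lt (α := Subgroup X)).induction with
  | _ E ih =>
  by_contra e1
  obtain ⟨B, hB, e, he, d, hd, d1, i⟩ := exists_hyp_inv hE (og_Fit h.o2) (l.trans (Fit_norm K)) fun c => e1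
    (PiN.eq_bot (ab_pg hE) ((og_Fit h.o2).of_le ((le_inf l c).trans (cent_Fit_le h.sol))))
  have od := (og_Fit h.o2).elt hd.1
  have eB : e ∉ B := fun m => d1 (inv_one od i (cent_le_cent1 m hd.2))
  have c := hB.card
  by_cases b1 : B = ⊥
  · refine eB (h.n1 (l he) (sq_one hE he) (b.trans ?_) ▸ one_mem _)
    rw [c, b1, card_bot]
    exact Nat.mul_le_mul_left _ (card_le (inf_le_inf_left _ (cent_le_cent1 he)))
  have k : V ⊓ C(E) = V ⊓ C(B) := by_contra fun m => b1 (ih B (lt_of_le_of_ne hB.le hB.ne) (hB.le.trans l)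
    (abelem_mono hE hB.le) (b.trans (by
      have := pg_lt_card ((ab_pg h.ea).of_le inf_le_left) (lt_of_le_of_ne (inf_le_inf_left V (cent_mono hB.le)) m)
      rw [c]; nlinarith)))
  have nd := h.n (Fit_le K hd.1)
  have cB : B ≤ C(zpowers d) := cents_symm (zpowers_le.2 hd.2)
  exact d1 (h.one (Fit_le K hd.1) (PxQ (ab_pg h.ea) (ab_pg (abelem_mono hE hB.le)) (piG_zpowers.2 od) cB
    (hB.le.trans (l.trans h.n)) (zpowers_le.2 nd) (cents_symm (zpowers_le.2 (inv_cent (sq_one hE he) od i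
      (k ▸ cents_symm inf_le_right he) (norms_inf (zpowers_le.2 nd) (norms_cent (norms_of_cents
        (zpowers_le.2 hd.2))) (mem_zpowers d))))) (mem_zpowers d)))

theorem Md.sing (h : Md V K A) (hx : x ∈ K) (sx : Sg V x) : x = 1 :=
  h.sing0 (fun T l k b => h.off l (FS.abelem_of_sq k) (b.trans (by nlinarith))) hx sx

end H8.FT
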