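import Cfsg.Agent.H25.FB7

/-! Coprime operator groups with nilpotent fixed points (FU1). -/

set_option autoImplicit false
set_option linter.unusedVariables false
set_option linter.unusedSectionVars false

namespace H8.FU
open Cfsg Subgroup H18 H17.GS
open H19 hiding eq_bot_mono
open H8.FS hiding Fx Md Mc Nb Rd Lk Cx det_false rd_kc exists_hv main_aux main_of Main
open H25.FB (cfix celt ccos csyl orbp pi2 cop_im det_false hol_comm hol_norm card_quo_lt sol_ext)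
open H29.PU (zj bm)
open scoped commutatorElement

universe u
variable {X : Type u} [Group X] [Finite X] {A B C D E F G H K L M N O P Q R S T U V W Y Z : Subgroup X}
  {a b c d e f g k n s t u v w x y z : X} {p r : ℕ} {π : Set ℕ}

local notation "p2" => Nat.prime_two
local notation:max "Ω(" S ")" => Ohm1 2 Z(S)

theorem modc (hB : PG p B) (hl : p.Prime) (hn : B ≤ N(K)) : #K ≡ #(K ⊓ C(B)) [MOD p] :=
  have := Fact.mk hl
  H1.card_modEq_card_inf_centralizer hB.isPGroup hn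

theorem pi_part (π : Set ℕ) (x : X) : ∃ m : ℕ, PiN πᶜ m ∧ PiE π (x ^ m) := by
  obtain ⟨a, b, e, h1, h2⟩ := exists_pi_factor π (orderOf_pos x).ne'
  exact ⟨b, h2, h1.dvd (orderOf_dvd_of_pow_eq_one (by rw [← pow_mul, mul_comm, ← e, pow_orderOf_eq_one]))⟩

theorem mem_zp_pi {Y : Type u} [Group Y] {y : Y} {m : ℕ} (h : PiE π y) (hm : PiN πᶜ m) :
    y ∈ zpowers (y ^ m) := mem_zpowers_pow_iff.2 (Nat.Coprime.symm (PiN.coprime h hm))

/-- fixed `π`-elements lift to fixed `π`-elements -/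
theorem plift {Y : Type u} [Group Y] [Finite Y] (f : D →* Y) (nN : A ≤ N(N)) (c : (#A).Coprime #N) (h1 : A ≤ D)
    (h2 : N ≤ D) {y : Y} (hy : y ∈ im f N) (cy : y ∈ C(im f A)) (y2 : PiE π y) :
    ∃ x : D, (x : X) ∈ N ∧ (x : X) ∈ C(A) ∧ PiE π (x : X) ∧ f x = y := by
  obtain ⟨y, hy', rfl⟩ := mem_im.1 hy
  obtain ⟨n, hn, k⟩ := ccos (N := N ⊓ pre f ⊥) (y := y)
    (norms_inf nN (norms_pre h1 (norms_of_cents (by simp)))) (c.coprime_dvd_right (card_dvd inf_le_left))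
    fun a ha => mem_inf.2 ⟨mul_mem (conj_mem_of_norm (nN ha) hy') (inv_mem hy'), by
        have := mem_cent.1 cy _ (mem_im_of (f := f) (x := ⟨a, h1 ha⟩) ha)
        refine (coe_mem_pre (f := f) (x := (⟨a, h1 ha⟩ : D) * y * (⟨a, h1 ha⟩ : D)⁻¹ * y⁻¹)).2 ?_
        simp [this]⟩
  have e : f (⟨n, h2 hn.1⟩ * y) = f y := by
    rw [map_mul, mem_bot.1 ((coe_mem_pre (x := ⟨n, h2 hn.1⟩)).1 hn.2), one_mul]
  obtain ⟨m, hm, o⟩ := pi_part π (n * y)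
  obtain ⟨j, hj⟩ := mem_powers_iff_mem_zpowers.2 (mem_zp_pi y2 hm)
  refine ⟨((⟨n, h2 hn.1⟩ * y) ^ m) ^ j, pow_mem (pow_mem (mul_mem hn.1 hy') m) j, pow_mem (pow_mem k m) j,
    o.e_pow j, by rw [map_pow, map_pow, e]; exact hj⟩

/-- `A` acts coprimely on `N`; fixed `2`-elements commute with fixed elements of odd order -/
structure Dx (A N : Subgroup X) : Prop where
  n : A ≤ N(N)
  c : (#A).Coprime #N
  d : ∀ x ∈ N, x ∈ C(A) → PiE {2} x → ∀ y ∈ N, y ∈ C(A) → PiE {2}ᶜ y → y ∈ C[x]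

theorem Dx.mono (h : Dx A N) (l : M ≤ N) (nM : A ≤ N(M)) : Dx A M :=
  ⟨nM, h.c.coprime_dvd_right (card_dvd l), fun x hx c x2 y hy => h.d x (l hx) c x2 y (l hy)⟩

theorem Dx.map {Y : Type u} [Group Y] [Finite Y] (h : Dx A N) (f : D →* Y) (h1 : A ≤ D) (h2 : N ≤ D) :
    Dx (im f A) (im f N) := ⟨im_norms h.n, cop_im h.c f, fun x hx cx x2 y hy cy y2 => by
  obtain ⟨x, a, b, c, rfl⟩ := plift f h.n h.c h1 h2 hx cx x2
  obtain ⟨y, a', b', c', rfl⟩ := plift f h.n h.c h1 h2 hy cy y2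
  rw [mem_cent1, ← map_mul, ← map_mul]
  exact congrArg f (Subtype.ext (mem_cent1.1 (h.d x a b c y a' b' c')))⟩

theorem Dx.quo (h : Dx A N) (h1 : A ≤ N(K)) (h2 : N ≤ N(K)) : Dx (quo K A) (quo K N) := h.map _ h1 h2

theorem orb2 (π : Set ℕ) (hx : PiE π x) (h : ∀ a ∈ A, a * x * a⁻¹ ≠ x → a * x * a⁻¹ ∈ H ⊓ C[x]) :
    ∃ m : ℕ, ∃ k ∈ H, x ∈ zpowers (x ^ m) ∧ x ^ m * k ∈ C(A) ∧ PiE π (x ^ m * k) := by
  obtain ⟨k, hk, c⟩ := orbp (A := A) (y := x) (H := H ⊓ C[x]) fun a ha ne => ⟨h a ha ne, (h a ha ne).2⟩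
  obtain ⟨m, hm, o⟩ := pi_part π (x * k)
  have e := Commute.mul_pow (mem_cent1.1 hk.2).symm m
  exact ⟨m, k ^ m, pow_mem hk.1 m, mem_zp_pi hx hm, e ▸ pow_mem c m, e ▸ o⟩

theorem Dx.blk (h : Dx A K) (l : L ≤ K) (lA : B ≤ A) (nB : B ≤ N(L)) (hf : L ⊓ H = ⊥)
    (hb : ∀ a ∈ A, a ∉ B → cj a L ≤ H ⊓ C(L)) : Dx B L := by
  refine ⟨nB, (h.c.coprime_dvd_left (card_dvd lA)).coprime_dvd_right (card_dvd l), fun x hx cx x2 y hy cy y2 => ?_⟩
  have k : ∀ x ∈ L, x ∈ C(B) → ∀ a ∈ A, a * x * a⁻¹ ≠ x → a * x * a⁻¹ ∈ (K ⊓ (H ⊓ C(L))) ⊓ C[x] :=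
    fun x hx cx a ha ne => by
      have := hb a ha (fun m => ne (by rw [mem_cent.1 cx a m]; group)) (conj_mem_cj.2 hx)
      exact ⟨⟨conj_mem_of_norm (h.n ha) (l hx), this⟩, cent_le_cent1 hx this.2⟩
  obtain ⟨i, k1, a1, a2, a3, a4⟩ := orb2 _ x2 (k x hx cx)
  obtain ⟨j, k2, b1, b2, b3, b4⟩ := orb2 _ y2 (k y hy cy)
  have hx' := pow_mem hx i
  have hy' := pow_mem hy j
  have e := mem_cent1.1 (h.d _ (mul_mem (l hx') a1.1) a3 a4 _ (mul_mem (l hy') b1.1) b3 b4)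
  refine cent1_le_cent1_of_mem_zpowers a2 (zpowers_le.2 (?_ : y ^ j ∈ C[x ^ i]) b2)
  generalize x ^ i = x' at hx' e
  generalize y ^ j = y' at hy' e
  have c1 := mem_cent.1 a1.2.2 y' hy'
  have c2 := mem_cent.1 b1.2.2 x' hx'
  have e' : (x' * y')⁻¹ * (y' * x') = k1 * k2 * (k2 * k1)⁻¹ := by
    calc _ = (x' * y')⁻¹ * (y' * (x' * k2) * k1) * (k2 * k1)⁻¹ := by group
      _ = (x' * y')⁻¹ * (x' * (y' * k1) * k2) * (k2 * k1)⁻¹ := by
        rw [c2, c1]; congr 2; simpa only [mul_assoc] using e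
      _ = _ := by group
  have := mem_bot.1 (hf ▸ mem_inf.2 ⟨mul_mem (inv_mem (mul_mem hx' hy')) (mul_mem hy' hx'),
    e' ▸ H.mul_mem (H.mul_mem a1.2.1 b1.2.1) (H.inv_mem (H.mul_mem b1.2.1 a1.2.1))⟩)
  exact mem_cent1.2 (inv_mul_eq_one.1 this).symm

/-- a faithful module -/
structure Mo (V K A : Subgroup X) : Prop where
  ea : Abelem 2 V
  n : K ≤ N(V)
  ff : K ⊓ C(V) = ⊥
  nK : A ≤ N(K)
  c : (#A).Coprime #K
  nV : A ≤ N(V)
  oA : OG A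
  dV : ∀ y ∈ K, y ∈ C(A) → PiE {2}ᶜ y → V ⊓ C(A) ≤ C[y]

theorem Mo.one (h : Mo V K A) (h1 : k ∈ K) (h2 : k ∈ C(V)) : k = 1 := mem_bot.1 (h.ff ▸ mem_inf.2 ⟨h1, h2⟩)

theorem Mo.mono (h : Mo V K A) (l : L ≤ K) (nA : A ≤ N(L)) : Mo V L A :=
  ⟨h.ea, l.trans h.n, le_bot_iff.1 (h.ff ▸ inf_le_inf_right _ l), nA, h.c.coprime_dvd_right (card_dvd l), h.nV, h.oA,
    fun y hy => h.dV y (l hy)⟩

theorem Mo.comm (h : Mo V K A) (h1 : L ≤ K) (h2 : M ≤ K) (c1 : ⁅V, L⁆ ≤ C(M)) (c2 : ⁅V, M⁆ ≤ C(L)) :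
    L ≤ C(M) := commg_eq_bot.1 (le_bot_iff.1 (h.ff ▸ le_inf (commg_le_of_le h1 h2) (commg_eq_bot.1
      (three_subgroup (by rw [commg_comm M]; exact commg_eq_bot.2 c2) (commg_eq_bot.2 c1)))))

theorem card_fpf (hr : r.Prime) (hP : PG r P) (n : P ≤ N(W)) (f : W ⊓ C(P) = ⊥) : r ∣ #W - 1 := by
  have := modc hP hr n
  rw [f, card_bot] at this
  exact (Nat.modEq_iff_dvd' (card_pos W)).1 this.symm

/-- two supports of order four that meet are equal -/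
theorem sup4 (hr : r.Prime) (pK : PG r K) (hx : x ∈ K) (hy : y ∈ K) (ox : Od V x) (oy : Od V y) (o : OG K)
    (n : K ≤ N(V)) (cx : #(bx V x) = 4) (cy : #(bx V y) = 4) (h1 : w ∈ bx V x) (h2 : w ∈ bx V y) (w1 : w ≠ 1) :
    bx V x = bx V y := by
  by_contra ne
  have r3 : r ∣ 3 := by
    have := card_fpf hr (pK.of_le (zpowers_le.2 hx)) (zpowers_le.2 ox.nb) (cent_zpowers x ▸ ox.inf)
    rwa [cx] at this
  have lP : zpowers x ⊔ zpowers y ≤ K := sup_le (zpowers_le.2 hx) (zpowers_le.2 hy)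
  have lU : bx V x ⊔ bx V y ≤ V := sup_le ox.le oy.le
  have e : ⁅V, zpowers x ⊔ zpowers y⁆ = bx V x ⊔ bx V y := le_antisymm (commg_sup_right_le le_sup_left le_sup_right
    (norms_of_commg_le ((commutator_mono lU le_rfl).trans le_sup_left))
    (norms_of_commg_le ((commutator_mono lU le_rfl).trans le_sup_right)))
    (sup_le (commutator_mono le_rfl le_sup_left) (commutator_mono le_rfl le_sup_right))
  have := card_fpf hr (pK.of_le lP) (commg_normr _ _) (ab_commg_inf_cent ox.ea.1 (lP.trans n)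
    ((ab_pg ox.ea).coprime (o.of_le lP)))
  rw [e] at this
  have c1 := card_sup_mul_inf (norms_of_comm ox.ea.1 oy.le ox.le)
  have c2 := card_lt (lt_of_le_of_ne (inf_le_left (a := bx V x) (b := bx V y)) fun e =>
    ne (eq_of_le_of_card_eq (e.ge.trans inf_le_right) (cx.trans cy.symm)))
  have c3 := ne_bot_iff_one_lt_card.1 (ne_bot_of_mem (mem_inf.2 ⟨h1, h2⟩) w1)
  rw [cx, cy] at c1
  rw [cx] at c2
  obtain rfl := (Nat.prime_dvd_prime_iff_eq hr Nat.prime_three).1 r3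
  generalize #(bx V x ⊓ bx V y) = i at *
  interval_cases i <;> omega

theorem Mo.t4 (h : Mo V K A) (hr : r.Prime) (r2 : r ≠ 2) (pK : PG r K) (hx : x ∈ K) (c4 : #(bx V x) ≤ 4) : x = 1 := by
  by_contra x1
  have oK : OG K := pK.sing_ne r2
  have sx : Sg V x := Od.sg ⟨h.ea, h.n hx, oK.elt hx⟩ c4
  have ff : ∀ T ≤ K, (∀ t ∈ T, t * t = 1) → T = ⊥ := fun T l k => le_bot_iff.1 fun t ht => oK.eq_one (l ht) (k t ht)
  set M := K ⊔ A with hM
  have nM : M ≤ N(V) := sup_le h.n h.nV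
  have nK : M ≤ N(K) := sup_le le_normalizer h.nK
  have xC : ∀ g ∈ M, g * x * g⁻¹ ∉ C(V) := fun g hg c =>
    x1 (by simpa using h.one (conj_mem_of_norm (nK hg) hx) c)
  have f4 := sx.four (by simpa using xC 1 (one_mem _))
  obtain ⟨u, hu, u1, -⟩ := exists4 f4 1 1 1
  set K0 := closure {y | ∃ g ∈ M, g * x * g⁻¹ = y} with hK0
  have n0 : M ≤ N(K0) := fun g hg => norm_closure (by
    rintro _ ⟨k, hk, rfl⟩; exact ⟨g * k, mul_mem hg hk, by group⟩)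
  have l0 : K0 ≤ K := (closure_le _).2 (by rintro _ ⟨k, hk, rfl⟩; exact conj_mem_of_norm (nK hk) hx)
  have m0 : ∀ g ∈ M, g * x * g⁻¹ ∈ K0 := fun g hg => subset_closure ⟨g, hg, rfl⟩
  set L := K0 ⊔ (M ⊓ C[u]) with hL
  have lL : L ≤ M := sup_le (l0.trans le_sup_left) inf_le_left
  have mL : ∀ g ∈ L, ∃ k ∈ K0, g * u * g⁻¹ = k * u * k⁻¹ := fun g hg => by
    obtain ⟨k, hk, c, hc, rfl⟩ := (mem_sup_of_norm (inf_le_left.trans n0)).1 hg
    exact ⟨k, hk, by rw [mul_assoc k, mem_cent1.1 hc.2]; group⟩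
  set K1 := closure {y | ∃ g ∈ L, g * x * g⁻¹ = y} with hK1
  set K2 := closure {y | ∃ g ∈ M, g ∉ L ∧ g * x * g⁻¹ = y} with hK2
  have n1 : L ≤ N(K1) := fun g hg => norm_closure (by
    rintro _ ⟨k, hk, rfl⟩; exact ⟨g * k, mul_mem hg hk, by group⟩)
  have l1 : K1 ≤ K0 := closure_mono (by rintro _ ⟨k, hk, rfl⟩; exact ⟨k, lL hk, rfl⟩)
  have l2 : K2 ≤ K0 := closure_mono (by rintro _ ⟨k, hk, -, rfl⟩; exact ⟨k, hk, rfl⟩)
  have e0 : K0 ≤ K1 ⊔ K2 := (closure_le _).2 (by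
    rintro _ ⟨k, hk, rfl⟩
    by_cases m : k ∈ L
    · exact mem_sup_left (subset_closure ⟨k, m, rfl⟩)
    · exact mem_sup_right (subset_closure ⟨k, hk, m, rfl⟩))
  have sep : ∀ g ∈ L, ∀ k ∈ M, k ∉ L → bx V (g * x * g⁻¹) ≤ C[k * x * k⁻¹] ∧ bx V (k * x * k⁻¹) ≤ C[g * x * g⁻¹] :=
    fun g hg k hk m => by
      have s1 := sx.J (nM (lL hg))
      have s2 := sx.J (nM hk)
      have t1 := fun a b => tri s1.toOd s2 h.n h.ff (l0 (m0 g (lL hg))) (l0 (m0 k hk)) a b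
      have t2 := fun a b => tri s2.toOd s1 h.n h.ff (l0 (m0 k hk)) (l0 (m0 g (lL hg))) a b
      by_cases a : bx V (g * x * g⁻¹) ≤ C[k * x * k⁻¹]
      · refine ⟨a, by_contra fun b => ?_⟩
        obtain ⟨T, l, ne, k1, k2⟩ := t1 a b
        exact ne (ff T l k1)
      by_cases b : bx V (k * x * k⁻¹) ≤ C[g * x * g⁻¹]
      · obtain ⟨T, l, ne, k1, k2⟩ := t2 b a
        exact absurd (ff T l k1) ne
      obtain ⟨j, hj, e⟩ := link s1 s2 (xC g (lL hg)) (xC k hk) a b (m0 g (lL hg)) (m0 k hk)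
        (cj_bx (nM (lL hg)) ▸ conj_mem_cj.2 hu) (cj_bx (nM hk) ▸ conj_mem_cj.2 hu) (by simpa) (by simpa)
      refine absurd ?_ m
      have : (j * g)⁻¹ * k ∈ L := mem_sup_right (mem_inf.2 ⟨mul_mem (inv_mem (mul_mem (mem_sup_left (l0 hj)) (lL hg))) hk,
        mem_cent1.2 (by
          calc _ = (j * g)⁻¹ * (k * u * k⁻¹) * k := by group
            _ = _ := by rw [← e]; group)⟩)
      simpa only [mul_inv_cancel_left] using mul_mem (mul_mem (mem_sup_left hj) hg) this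
  have c1 : ⁅V, K1⁆ ≤ V ⊓ C(K2) := comm_closure inf_le_left (by
    rintro _ ⟨g, hg, rfl⟩
    refine le_inf (sx.J (nM (lL hg))).le (cents_symm ((closure_le _).2 ?_))
    rintro _ ⟨k, hk, m, rfl⟩
    exact le_cent1_iff.1 (sep g hg k hk m).1)
  have c2 : ⁅V, K2⁆ ≤ V ⊓ C(K1) := comm_closure inf_le_left (by
    rintro _ ⟨k, hk, m, rfl⟩
    refine le_inf (sx.J (nM hk)).le (cents_symm ((closure_le _).2 ?_))
    rintro _ ⟨g, hg, rfl⟩
    exact le_cent1_iff.1 (sep g hg k hk m).2)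
  have c3 : K2 ≤ C(K1) := h.comm (l2.trans l0) (l1.trans l0) (c2.trans inf_le_right) (c1.trans inf_le_right)
  have cjK : ∀ a ∈ A, a ∉ A ⊓ L → cj a K1 ≤ K2 := fun a ha m => by
    rw [cj_closure]
    refine closure_mono ?_
    rintro _ ⟨_, ⟨g, hg, rfl⟩, rfl⟩
    exact ⟨a * g, mul_mem (mem_sup_right ha) (lL hg), fun k => m ⟨ha, by simpa using mul_mem k (inv_mem hg)⟩,
      by group⟩
  have lU : ⁅V, K1⁆ ≤ V := c1.trans inf_le_left
  have x1' : x ∈ K1 := subset_closure ⟨1, one_mem _, by simp⟩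
  have uU : u ∈ ⁅V, K1⁆ := commutator_mono le_rfl (zpowers_le.2 x1') hu
  obtain ⟨n, hn, c⟩ := celt (A := A ⊓ L) (N := K1) (w := u) (inf_le_right.trans n1)
    ((h.c.coprime_dvd_left (card_dvd inf_le_left)).coprime_dvd_right (card_dvd (l1.trans l0))) fun a ha => by
    obtain ⟨k, hk, e⟩ := mL a ha.2
    obtain ⟨k1, h1, k2, h2, rfl⟩ := (mem_sup_of_norm (norms_of_cents c3)).1 (e0 hk)
    exact ⟨k1, h1, by rw [e, mul_assoc k1, mem_cent.1 (c1 uU).2 k2 h2]; group⟩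
  have wU : n * u * n⁻¹ ∈ ⁅V, K1⁆ := conj_mem_of_norm (commg_normr _ _ hn) uU
  have ob : ∀ a ∈ A, a * (n * u * n⁻¹) * a⁻¹ ≠ n * u * n⁻¹ →
      a * (n * u * n⁻¹) * a⁻¹ ∈ (V ⊓ C(K1)) ⊓ C[n * u * n⁻¹] := fun a ha ne => ⟨⟨conj_mem_of_norm (h.nV ha) (lU wU), by
    have m : a ∉ A ⊓ L := fun m => ne (by rw [mem_cent.1 c a m]; group)
    have : cj a ⁅V, K1⁆ ≤ C(K1) := by
      rw [cj_comm, cj_of_mem_norm (h.nV ha)]
      exact (commutator_mono le_rfl (cjK a ha m)).trans (c2.trans inf_le_right)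
    exact this (conj_mem_cj.2 wU)⟩, ab_cent1 h.ea (lU wU) (conj_mem_of_norm (h.nV ha) (lU wU))⟩
  have nM' : n ∈ M := mem_sup_left (l0 (l1 hn))
  have s' := sx.J (nM nM')
  have hw : n * u * n⁻¹ ∈ bx V (n * x * n⁻¹) := cj_bx (nM nM') ▸ conj_mem_cj.2 hu
  have xK : n * x * n⁻¹ ∈ K1 := mul_mem (mul_mem hn x1') (inv_mem hn)
  have w0 : n * u * n⁻¹ ≠ 1 := by simpa using u1
  have c4' : #(bx V (n * x * n⁻¹)) = 4 := by rw [← cj_bx (nM nM'), card_cj]; omega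
  generalize n * x * n⁻¹ = x' at s' hw xK c4'
  generalize n * u * n⁻¹ = w at ob hw w0 wU c
  have xK' := l0 (l1 xK)
  have cx : ∀ a ∈ A ⊓ L, a * x' * a⁻¹ = x' := fun a ha => by
    have ax := conj_mem_of_norm (h.nK ha.1) xK'
    have e : bx V (a * x' * a⁻¹) = bx V x' := sup4 hr pK ax xK' (s'.toOd.J (h.nV ha.1)) s'.toOd oK h.n
      (by rw [← cj_bx (h.nV ha.1), card_cj, c4']) c4'
      (by rw [← cj_bx (h.nV ha.1), mem_cj, mem_cent.1 c _ (inv_mem ha)]; simpa using hw) hw w0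
    have nW : zpowers a ≤ N(bx V x') := zpowers_le.2 (mem_norm_iff_cj.2 ((cj_bx (h.nV ha.1)).trans e))
    have oa := h.oA.of_le (zpowers_le.2 ha.1)
    have aw : zpowers a ≤ C(zpowers w) := zpowers_le.2 (cent_zpowers w ▸ mem_cent1_symm.1 (cent_le_cent1 ha c))
    have cW : a ∈ C(bx V x') := cents_of_stable (H := zpowers w) ((s'.pg.of_le (zpowers_le.2 hw)).coprime oa) aw (by
      have d := ab_cent_dprod (comm_mono h.ea.1 s'.le) nW (s'.pg.coprime oa)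
      by_contra m
      have := four_le (s'.pg.of_le d.right_le) (fun e => m (e ▸ bot_le)) (commg_normr _ _ (mem_zpowers a))
        (cent_zpowers a ▸ ab_commg_inf_cent (comm_mono h.ea.1 s'.le) nW (s'.pg.coprime oa))
      have h1 := d.card
      have h2 := ne_bot_iff_one_lt_card.1 (ne_bot_of_mem (mem_inf.2 ⟨hw, cents_symm aw (mem_zpowers w)⟩) w0)
      nlinarith) (mem_zpowers a)
    have m := mul_mem ax (inv_mem xK')
    refine mul_inv_eq_one.1 (h.one m (cents_of_stable (H := bx V x') (s'.pg.coprime (oK.of_le (zpowers_le.2 m)))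
      (zpowers_le.2 ?_) ((commutator_mono le_rfl (zpowers_le.2 ?_)).trans comm_cq) (mem_zpowers _)))
    · have := mul_mem cW (conj_mem_of_norm (norm_le_norm_cent _ s'.nb) (inv_mem cW))
      simpa only [mul_assoc] using this
    · exact mul_mem (le_cq s'.le e.le (mem_zpowers _)) (inv_mem (le_cq s'.le le_rfl (mem_zpowers _)))
  obtain ⟨k, hk, ck⟩ := orbp ob
  obtain ⟨j, hj, cj'⟩ := orbp (A := A) (y := x') (H := K2) fun a ha ne => by
    have := cjK a ha (fun m => ne (cx a m)) (conj_mem_cj.2 xK)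
    exact ⟨this, cent_le_cent1 xK (c3 this)⟩
  have jK := l0 (l2 hj)
  have e := mem_cent1.1 (h.dV _ (mul_mem xK' jK) cj' (oK.elt (mul_mem xK' jK)) ⟨mul_mem (lU wU) hk.1, ck⟩)
  have m1 : j * k * j⁻¹ ∈ C[x'] := cent_le_cent1 xK (conj_mem_of_norm (norm_le_norm_cent _ (cent_le_norm _ (c3 hj))) hk.2)
  have e1 : w⁻¹ * (x' * w * x'⁻¹) = k * (j * k * j⁻¹)⁻¹ := by
    have h1 := mem_cent.1 (c1 wU).2 j hj
    have h2 := mem_cent1.1 m1
    calc _ = w⁻¹ * (x' * (w * j) * k) * (x' * j)⁻¹ * (x' * (j * k * j⁻¹)⁻¹ * x'⁻¹) := by group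
      _ = w⁻¹ * (x' * j * (w * k)) * (x' * j)⁻¹ * (x' * (j * k * j⁻¹)⁻¹ * x'⁻¹) := by rw [← h1]; group
      _ = k * (x' * (j * k * j⁻¹)⁻¹ * x'⁻¹) := by rw [← e]; group
      _ = k * ((j * k * j⁻¹)⁻¹ * (j * k * j⁻¹ * x') * (j * k * j⁻¹)⁻¹ * x'⁻¹) := by group
      _ = _ := by rw [h2]; group
  have := s'.one (mul_mem (inv_mem hw) (conj_mem_of_norm s'.nb hw)) (e1 ▸ mul_mem (cent_le_cent1 xK hk.2) (inv_mem m1))
  exact w0 (s'.one hw (mem_cent1.2 (by rw [inv_mul_eq_one, eq_mul_inv_iff_mul_eq] at this; exact this)))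

theorem Dx.mo {Y : Type u} [Group Y] [Finite Y] {f : N(V) →* Y} {ι : V →* Y} (h : Dx A H) (k : Hol V f ι)
    (ea : Abelem 2 V) (l : V ≤ H) (n : H ≤ N(V)) (nA : A ≤ N(V)) (v1 : V ≠ ⊥) : Mo (im ι V) (im f H) (im f A) := by
  refine ⟨abelem_im ea ι, k.norm H, le_bot_iff.1 fun y hy => ?_, im_norms h.n, cop_im h.c f, k.norm A, PiN.im ?_ f,
    fun y hy cy o => ?_⟩
  · obtain ⟨g, -, rfl⟩ := mem_im.1 hy.1
    exact k.ker g (k.ker' g hy.2)
  · exact PiN.of_coprime (h.c.coprime_dvd_right (((ab_pg ea).dvd_of_ne_bot v1).trans (card_dvd l)))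
  · obtain ⟨x, a, b, c, rfl⟩ := plift f h.n h.c nA n hy cy o
    rw [k.cent nA]
    intro v hv
    obtain ⟨v, hv', rfl⟩ := mem_im.1 hv
    exact (k.c1 x v).2 (mem_cent1_symm.1 (h.d v (l hv'.1) hv'.2 ((ab_pg ea).elt hv'.1) x a b c))

/-- elements of odd order have large support -/
theorem Dx.t4 (h : Dx A H) (ea : Abelem 2 V) (l : V ≤ H) (n : H ≤ N(V)) (nA : A ≤ N(V)) (hx : x ∈ H)
    (o : PiE {2}ᶜ x) (c : #(bx V x) ≤ 4) : x ∈ C(V) := by
  by_cases v1 : V = ⊥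
  · simp [v1]
  obtain ⟨Y, _, _, f, ι, k⟩ := exists_hol V
  have m := h.mo k ea l n nA v1
  refine le_of_syl (M := zpowers x) (fun r P hr hP y hy => ?_) (mem_zpowers x)
  have yx := hP.le hy
  by_cases r2 : r = 2
  · exact (r2 ▸ hP.pi.elt hy).e_eq_one (o.e_of_mem_zpowers yx) ▸ one_mem _
  obtain ⟨R, hR, nR⟩ := csyl h.n h.c r
  have yH := zpowers_le.2 hx yx
  obtain ⟨g, hg, lg⟩ := hR.scj_le (zpowers_le.2 yH) (piG_zpowers.2 (hP.pi.elt hy))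
  have yR := lg (conj_mem_cj.2 (mem_zpowers y))
  have := (m.mono (im_mono hR.le) (im_norms nR)).t4 hr r2 (hR.pi.im f) (x := f ⟨_, n (hR.le yR)⟩) (mem_im_of yR) (by
    rw [bx, ← im_zpowers]
    refine (card_le (hol_comm k)).trans ?_
    rw [k.card (commg_le_left (zpowers_le.2 (n (hR.le yR))))]
    change #(bx V (g * y * g⁻¹)) ≤ 4
    rw [← cj_bx (n hg), card_cj]
    exact (card_le (commutator_mono le_rfl (zpowers_le.2 yx))).trans c)
  simpa [mul_assoc] using conj_mem_of_norm' (norm_le_norm_cent _ (n hg)) ((k.eq_one _).1 this)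

end H8.FU
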