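import Cfsg.Agent.H8.FU1

/-! Coprime operator groups with nilpotent fixed points (FU2). -/

set_option autoImplicit false
set_option linter.unusedVariables false
set_option linter.unusedSectionVars false

namespace H8.FU
open Cfsg Subgroup H18 H17.GS
open H19 hiding eq_bot_mono
open H8.FS hiding Fx Md Mc Nb Rd Lk Cx det_false rd_kc exists_hv main_aux main_of Main
open H25.FB (cfix celt ccos csyl orbp pi2 cop_im det_false hol_comm hol_norm card_quo_lt sol_ext)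
open H29.PU (zj bm)
open scoped commutatorElement

universe u
variable {X : Type u} [Group X] [Finite X] {A B C D E F G H K L M N O P Q R S T U V W Y Z : Subgroup X}
  {a b c d e f g k n s t u v w x y z : X} {p r : ℕ} {π : Set ℕ}

local notation "p2" => Nat.prime_two
local notation:max "Ω(" S ")" => Ohm1 2 Z(S)

/-- a faithful `2`-reduced module -/
structure Md (V K A : Subgroup X) : Prop extends Mo V K A where
  sol : Sol K
  o2 : Oc {2} K = ⊥
  dx : ∀ x ∈ K, x ∈ C(A) → PiE {2} x → ∀ y ∈ K, y ∈ C(A) → PiE {2}ᶜ y → y ∈ C[x]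

theorem Md.fK (h : Md V K A) : Dx A K := ⟨h.nK, h.c, h.dx⟩

/-- a minimal invariant `r`-subgroup not centralised by `e` -/
structure Mc (V K A C : Subgroup X) (e : X) (r : ℕ) : Prop extends Md V K A where
  he : e ∈ K
  e2 : e * e = 1
  b : #V ≤ 4 * #(V ⊓ C[e])
  pr : r.Prime
  r2 : r ≠ 2
  le : C ≤ Fit K
  nC : K ⊔ A ≤ N(C)
  ne : e ∉ C(C)
  ex : ∀ c ∈ C, c ^ r = 1
  min : ∀ D < C, K ⊔ A ≤ N(D) → D ≤ C(C) ⊓ C[e]

theorem Md.mc (h : Md V K A) (he : e ∈ K) (e2 : e * e = 1) (e1 : e ≠ 1) (b : #V ≤ 4 * #(V ⊓ C[e])) :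
    ∃ C r, Mc V K A C e r := by
  have oF := og_Fit h.o2
  obtain ⟨r, hr, nr⟩ : ∃ r, r.Prime ∧ ¬ Oc {r} K ≤ C[e] := by
    by_contra! k
    exact e1 (oF.eq_one (cent_Fit_le h.sol ⟨he, le_cent1_iff.1 (Fit_le_of_Oc k)⟩) e2)
  have r2 : r ≠ 2 := fun e => nr (e ▸ h.o2 ▸ bot_le)
  have nK : K ⊔ A ≤ N(K) := sup_le le_normalizer h.nK
  obtain ⟨C, ⟨lC, nC, ne⟩, mn⟩ := (wellFounded_lt (α := Subgroup X)).has_min
    {C | C ≤ Oc {r} K ∧ K ⊔ A ≤ N(C) ∧ e ∉ C(C)} ⟨_, le_rfl, norms_Oc _ nK, fun k => nr (le_cent1_iff.2 k)⟩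
  have lF := lC.trans (Oc_le_Fit r K)
  have lK := lF.trans (Fit_le K)
  have oC : OG C := oF.of_le lF
  have eM : zpowers e ≤ K ⊔ A := zpowers_le.2 (mem_sup_left he)
  have m1 : ∀ D < C, K ⊔ A ≤ N(D) → Kc (zpowers e) (K ⊔ A) ≤ C(D) := fun D l n =>
    Kc_cents (zpowers_le.2 (by_contra fun k => mn D ⟨l.le.trans lC, n, k⟩ l)) n
  have m2 : ⁅C, Kc (zpowers e) (K ⊔ A)⁆ = C := by_contra fun k => ne (cents_of_commg_le_cent (eM.trans nC)
    (oC.cop (pg_zpowers e2)) ((commutator_mono le_rfl le_Kc).trans (cents_symm (le_Kc.trans (m1 _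
      (lt_of_le_of_ne (commg_le_left ((Kc_le eM).trans nC)) k) (norms_comm nC Kc_norm))))) (mem_zpowers e))
  have m3 : ∀ D < C, K ⊔ A ≤ N(D) → D ≤ C(C) ⊓ C[e] := fun D l n => by
    refine le_inf (cents_symm (commg_eq_bot.1 ?_)) (le_cent1_iff.2 (m1 D l n (le_Kc (mem_zpowers e))))
    rw [← m2]
    refine three_subgroup (by rw [commg_eq_bot.2 (m1 D l n)]; simp) (commg_eq_bot.2 ?_)
    exact (commg_le_left (lK.trans (le_sup_left.trans n))).trans (cents_symm (m1 D l n))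
  refine ⟨C, r, h, he, e2, b, hr, r2, lF, nC, ne, ?_, m3⟩
  have pC : PG r C := (Oc_pi _ K).of_le lC
  have d1 : ⁅C, C⁆ ≤ C(C) := (m3 _ (sol_der_lt pC.sol fun e => ne (by simp [e])) (norms_der nC)).trans inf_le_left
  obtain ⟨c, hc, c1⟩ := exists_comm ne
  have hd : c * e * c⁻¹ * e⁻¹ ∈ C := by
    have := mul_mem hc (conj_mem_of_norm (nC (mem_sup_left he)) (inv_mem hc))
    simpa only [mul_assoc] using this
  obtain ⟨d, hd', o⟩ := exists_orderOf_eq_prime hr ((pC.of_le (zpowers_le.2 hd)).dvd_of_ne_bot (by simpa))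
  obtain ⟨j, rfl⟩ := mem_zpowers_iff.1 hd'
  have m4 : Ohm1 r C = C := by_contra fun k => by
    have := inv_one (oC.elt (zpow_mem hd j)) (by rw [← conj_zpow, comm_inv e2, inv_zpow]) (m3 _ (lt_of_le_of_ne
      (Ohm1_le r C) k) (norms_Ohm1 r nC) (H19.mem_Ohm1 (zpow_mem hd j) (o ▸ pow_orderOf_eq_one _))).2
    rw [this, orderOf_one] at o
    exact hr.one_lt.ne o
  let Ω : Subgroup X :=
    { carrier := {x | x ∈ C ∧ x ^ r = 1}
      one_mem' := ⟨one_mem _, one_pow _⟩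
      inv_mem' := fun {x} (hx : x ∈ C ∧ x ^ r = 1) => ⟨inv_mem hx.1, (inv_pow x r).trans (inv_eq_one.2 hx.2)⟩
      mul_mem' := fun {x y} hx hy => ⟨mul_mem hx.1 hy.1, by
        have m := d1 (comm_mem (inv_mem hy.1) (inv_mem hx.1))
        obtain ⟨k1, k2⟩ := pow_cls (a := x) (b := y) (c := y⁻¹ * x⁻¹ * y⁻¹⁻¹ * x⁻¹⁻¹) (by group)
          (mem_cent.1 m x hx.1) (mem_cent.1 m y hy.1) r
        rw [hy.2, one_mul, mul_one, left_eq_mul] at k2
        obtain ⟨i, hi⟩ : r ∣ r.choose 2 := hr.dvd_choose_self two_ne_zero (lt_of_le_of_ne hr.two_le r2.symm)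
        rw [k1, hx.2, hy.2, hi, pow_mul, k2]; simp⟩ }
  exact fun x hx => ((Ohm1_le_iff (K := Ω)).2 (fun x h1 h2 => ⟨h1, h2⟩) (m4.symm ▸ hx)).2

theorem Mc.lK (h : Mc V K A C e r) : C ≤ K := h.le.trans (Fit_le K)
theorem Mc.og (h : Mc V K A C e r) : OG C := (og_Fit h.o2).of_le h.le
theorem Mc.od (h : Mc V K A C e r) (hd : d ∈ C) : Od V d := ⟨h.ea, h.n (h.lK hd), h.og.elt hd⟩
theorem Mc.eN (h : Mc V K A C e r) : e ∈ N(C) := h.nC (mem_sup_left h.he)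
theorem Mc.cm (h : Mc V K A C e r) (hc : c ∈ C) : c * e * c⁻¹ * e⁻¹ ∈ C := by
  simpa only [mul_assoc] using mul_mem hc (conj_mem_of_norm h.eN (inv_mem hc))

theorem Mc.pg (h : Mc V K A C e r) : PG r C := pg_of_pow h.pr h.ex
theorem Mc.t4 (h : Mc V K A C e r) (hd : d ∈ C) (c : #(bx V d) ≤ 4) : d = 1 :=
  (h.toMo.mono h.lK (le_sup_right.trans h.nC)).t4 h.pr h.r2 h.pg hd c

theorem stab2 (hg : PiE π g) (o : PiE πᶜ c) (h1 : g ∈ C[c]) (h2 : g * y * g⁻¹ = c * y) : c = 1 := by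
  have k : ∀ n : ℕ, g ^ n * y * (g ^ n)⁻¹ = c ^ n * y := fun n => by
    induction n with
    | zero => simp
    | succ n ih =>
      calc _ = g * (g ^ n * y * (g ^ n)⁻¹) * g⁻¹ := by group
        _ = g * c ^ n * g⁻¹ * (g * y * g⁻¹) := by rw [ih]; group
        _ = _ := by rw [h2, (Commute.pow_right (mem_cent1.1 h1) n).eq]; group
  have := k (orderOf g)
  rw [pow_orderOf_eq_one, one_mul, _root_.inv_one, mul_one, right_eq_mul] at this
  exact PiN.e_eq_one (hg.dvd (orderOf_dvd_of_pow_eq_one this)) o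

theorem card_le_cent (hV : Abelem 2 V) (hu : u ∈ N(V)) (h1 : u * u = 1) : #V ≤ #(V ⊓ C[u]) * #(V ⊓ C[u]) := by
  have hm : ∀ v ∈ V, u * v * u⁻¹ * v⁻¹ ∈ V ⊓ C[u] := fun v hv => by
    have k := conj_mem_of_norm hu hv
    refine ⟨V.mul_mem k (V.inv_mem hv), mem_cent1.2 (Eq.symm (mul_inv_eq_iff_eq_mul.1 ?_))⟩
    calc _ = u * u * v * (u * u)⁻¹ * (u * v * u⁻¹)⁻¹ := by group
      _ = _ := by rw [h1, inv_eq hV k, inv_eq hV hv, ab_comm hV k hv]; simp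
  let φ : V →* ↥(V ⊓ C[u]) := MonoidHom.mk' (fun v => ⟨_, hm v v.2⟩) fun x y => Subtype.ext (by
    have := ab_comm hV (hm y y.2).1 (inv_mem x.2)
    simp only [coe_mul]
    calc _ = u * x * u⁻¹ * (u * y * u⁻¹ * (y : X)⁻¹ * (x : X)⁻¹) := by group
      _ = _ := by rw [this]; group)
  rw [← φ.ker.card_mul_index, index_ker]
  refine Nat.mul_le_mul ?_ (Nat.le_of_dvd Nat.card_pos (card_subgroup_dvd_card _))
  rw [← card_subgroupOf' (inf_le_left : V ⊓ C[u] ≤ V)]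
  refine card_le fun x hx => ⟨x.2, mem_cent1.2 (Eq.symm (mul_inv_eq_iff_eq_mul.1 ?_))⟩
  exact mul_inv_eq_one.1 (congrArg Subtype.val hx)

theorem odd_cent (o : OG A) (n : A ≤ N(Y)) (hY : (#Y).Prime) (d : #Y - 1 ∣ 4) : A ≤ C(Y) :=
  le_of_syl fun s P hs hP => cents_symm ((inf_eq_bot_or_le_of_prime hY C(P)).resolve_left fun e => by
    have := (card_fpf hs hP.pi (hP.le.trans n) e).trans d
    obtain rfl := (Nat.prime_dvd_prime_iff_eq hs p2).1 (hs.dvd_of_dvd_pow (n := 2) this)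
    rw [PiN.eq_bot hP.pi (o.of_le hP.le)] at e
    exact ne_bot_of_prime hY (by simpa using e))

/-- four lines in a plane with small supports -/
theorem lines {L₁ L₂ L₃ L₄ : Subgroup X} (ea : Abelem 2 V) (r2 : r ≠ 2) (hP : El r 2 P C) (n : P ≤ N(V))
    (t4 : ∀ d ∈ P, #(bx V d) ≤ 4 → d = 1) (h1 : El r 1 L₁ P) (h2 : El r 1 L₂ P) (h3 : El r 1 L₃ P) (h4 : El r 1 L₄ P)
    (n2 : L₂ ≠ L₁) (n3 : L₃ ≠ L₁) (n4 : L₄ ≠ L₁) (n23 : L₂ ≠ L₃) (n24 : L₂ ≠ L₄) (n34 : L₃ ≠ L₄)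
    (c : #⁅V, L₁⁆ ≤ 16) (c2 : #⁅V, L₂⁆ = #⁅V, L₁⁆) (c3 : #⁅V, L₃⁆ = #⁅V, L₁⁆) (c4 : #⁅V, L₄⁆ = #⁅V, L₁⁆) : False := by
  have oP : OG P := hP.pg.sing_ne r2
  have pV := ab_pg ea
  have lU : ⁅V, P⁆ ≤ V := commg_le_left n
  have nU : P ≤ N(⁅V, P⁆) := commg_normr _ _
  have f := ab_commg_inf_cent ea.1 n (pV.coprime oP)
  have eU : ∀ {L}, L ≤ P → ⁅⁅V, P⁆, L⁆ = ⁅V, L⁆ := fun l => le_antisymm (commutator_mono lU le_rfl)
    ((commg_commg (l.trans n) (pV.coprime (oP.of_le l))).ge.trans (commutator_mono (commutator_mono le_rfl l) le_rfl))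
  generalize ⁅V, P⁆ = U at lU nU f eU
  have pU := pV.of_le lU
  have cd : ∀ {L}, L ≤ P → #(U ⊓ C(L)) * #⁅V, L⁆ = #U := fun l =>
    eU l ▸ (ab_cent_dprod (comm_mono ea.1 lU) (l.trans nU) (pU.coprime (oP.of_le l))).card
  have nD : ∀ {L}, L ≤ P → P ≤ N(U ⊓ C(L)) := fun l => norms_inf nU (norms_cent (norms_of_comm hP.comm le_rfl l))
  have bot : ∀ {L L'}, El r 1 L P → El r 1 L' P → L ≠ L' → U ⊓ C(L) ⊓ C(L') = ⊥ := fun a b ne => by
    rw [inf_assoc, ← cent_sup, hP.sup_eq a b ne, f]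
  have four : ∀ {L L'}, El r 1 L P → El r 1 L' P → L ≠ L' → U ⊓ C(L) ≠ ⊥ → 4 ≤ #(U ⊓ C(L)) := fun a b ne m => by
    obtain ⟨z, -, -, rfl⟩ := b.exists_gen
    exact four_le (pU.of_le inf_le_left) m (nD a.le (b.le (mem_zpowers z))) (cent_zpowers z ▸ bot a b ne)
  by_cases m : U ⊓ C(L₂) = ⊥
  · have := cd h2.le
    rw [m, card_bot, one_mul] at this
    have e := hP.le_of_cent_le (L := ⊥) nU (pU.sing_ne r2.symm) fun Y hY => le_bot_iff.2 (by_contra fun m' => by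
      have k1 := four hY h2 (fun e => m' (e ▸ m)) m'
      have k2 := cd hY.le
      obtain ⟨z, z1, -, rfl⟩ := hY.exists_gen
      exact z1 (t4 z (hY.le (mem_zpowers z)) (by change #⁅V, zpowers z⁆ ≤ 4; nlinarith)))
    obtain ⟨z, z1, -, rfl⟩ := h2.exists_gen
    exact z1 (t4 z (h2.le (mem_zpowers z)) (by change #⁅V, zpowers z⁆ ≤ 4; rw [this, le_bot_iff.1 e]; simp))
  have k2 := four h2 h1 n2 m
  have e2 := cd h2.le
  have e3 := cd h3.le
  have e4 := cd h4.le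
  rw [c2] at e2; rw [c3] at e3; rw [c4] at e4
  have e3' := Nat.eq_of_mul_eq_mul_right (card_pos _) (e3.trans e2.symm)
  have e4' := Nat.eq_of_mul_eq_mul_right (card_pos _) (e4.trans e2.symm)
  have lW : ∀ {L}, El r 1 L P → L ≠ L₁ → U ⊓ C(L) ≤ ⁅V, L₁⁆ := fun a ne =>
    (commg_eq_of_cent_eq_bot (h1.le.trans (nD a.le)) ((pU.of_le inf_le_left).coprime (oP.of_le h1.le))
      (.inl h1.pg.sol) (bot a h1 ne)).ge.trans (commutator_mono (inf_le_left.trans lU) le_rfl)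
  have nn : ∀ {D D' : Subgroup X}, D ≤ U → D' ≤ U → D ≤ N(D') := fun a b => norms_of_comm ea.1 (a.trans lU) (b.trans lU)
  have d23 : U ⊓ C(L₂) ⊓ (U ⊓ C(L₃)) = ⊥ := le_bot_iff.1 (bot h2 h3 n23 ▸ inf_le_inf_left _ inf_le_right)
  have s1 := card_sup_of_disjoint (nn inf_le_left inf_le_left) d23
  have s2 := card_sup_of_disjoint (A := U ⊓ C(L₂) ⊔ U ⊓ C(L₃)) (B := U ⊓ C(L₄))
    (nn inf_le_left (sup_le inf_le_left inf_le_left)) (le_bot_iff.1 ((inf_le_inf_left _ inf_le_right).trans (by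
      rw [sup_inf_cent_of_disjoint (h4.le.trans (nD h2.le)) (h4.le.trans (nD h3.le)) (nn inf_le_left inf_le_left) d23,
        bot h2 h4 n24, bot h3 h4 n34]; simp)))
  have := card_le (sup_le (sup_le (lW h2 n2) (lW h3 n3)) (lW h4 n4))
  rw [s2, s1, e3', e4'] at this
  nlinarith

/-- reflections -/
structure Rf (C : Subgroup X) (e x : X) : Prop where
  hx : x ∈ C
  x1 : x ≠ 1
  i : e * x * e⁻¹ = x⁻¹
  r : ∀ c ∈ C, e * c * e⁻¹ * c⁻¹ ∈ zpowers x

theorem Rf.J (h : Rf C e x) (ha : a ∈ N(C)) : Rf C (a * e * a⁻¹) (a * x * a⁻¹) :=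
  ⟨conj_mem_of_norm ha h.hx, by simpa using h.x1, by
    calc _ = a * (e * x * e⁻¹) * a⁻¹ := by group
      _ = _ := by rw [h.i]; group, fun c hc => by
    have := conj_mem_cj (g := a).2 (h.r _ (conj_mem_of_norm' ha hc))
    rw [cj_zpowers] at this
    convert this using 1; group⟩

theorem Rf.cent (h : Rf C e x) (hy : El r 1 (zpowers y) C) (n : e ∈ N(zpowers y)) (m : y ∉ zpowers x) : y ∈ C[e] := by
  have := mem_bot.1 (inf_eq_bot_of_prime hy.prime_card (fun l => m (l (mem_zpowers y))) ▸ mem_inf.2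
    ⟨mul_mem (conj_mem_of_norm n (mem_zpowers y)) (inv_mem (mem_zpowers y)), h.r y (hy.le (mem_zpowers y))⟩)
  rw [mul_inv_eq_one, mul_inv_eq_iff_eq_mul] at this
  exact mem_cent1.2 this.symm

theorem Rf.nrm (h : Rf C e x) (h' : Rf C f y) (hC : Abelem r C) (hr : r.Prime) (r2 : r ≠ 2) (o : PiE {2} (e * f))
    (n : f ∈ N(zpowers x)) (m : x ∉ zpowers y) : e ∈ N(zpowers y) := by
  have c := mem_cent1.1 (h'.cent (el1_zpowers' hr h.hx (hC.2 x h.hx) h.x1) n m)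
  obtain ⟨j, hj⟩ := h.r y h'.hx
  have oC : OG C := (H19.abelem_pg hr hC).sing_ne r2
  have e1 : e * y * e⁻¹ = x ^ j * y := by rw [show x ^ j = _ from hj]; group
  have e2 : e * f * x * (e * f)⁻¹ = x⁻¹ := by rw [← h.i, mul_assoc e, ← c]; group
  have cm := mul_comm_of_comm hC.1 (zpow_mem h.hx j) h'.hx
  have e3 : e * f * y * (e * f)⁻¹ = y⁻¹ * (x ^ j)⁻¹ := by
    calc _ = e * (f * y * f⁻¹) * e⁻¹ := by group
      _ = _ := by rw [h'.i, ← mul_inv_rev, ← e1]; group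
  have e4 : x ^ j * x ^ j = 1 := stab2 (g := e * f * (e * f)) (y := y) (o.e_mul o rfl)
    (oC.elt (mul_mem (zpow_mem h.hx j) (zpow_mem h.hx j))) (mem_cent1_symm.1 (by
      have : x ∈ C[e * f * (e * f)] := mem_cent1.2 (by
        calc _ = (e * f * x * (e * f)⁻¹)⁻¹ * (e * f * (e * f)) := by rw [e2, inv_inv]
          _ = e * f * x⁻¹ * (e * f) := by group
          _ = _ := by rw [← e2]; group)
      exact mul_mem (zpow_mem this j) (zpow_mem this j))) (by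
    calc _ = e * f * (e * f * y * (e * f)⁻¹) * (e * f)⁻¹ := by group
      _ = (e * f * y * (e * f)⁻¹)⁻¹ * ((e * f * x * (e * f)⁻¹) ^ j)⁻¹ := by rw [conj_zpow]; nth_rw 1 [e3]; group
      _ = _ := by rw [e3, e2, mul_assoc (x ^ j), cm]; group)
  rw [oC.eq_one (zpow_mem h.hx j) e4, one_mul] at e1
  exact mem_norm_iff_cj.2 (by rw [cj_zpowers, e1])

theorem Mc.ab (h : Mc V K A C e r) (pT : PG 2 T) (lT : T ≤ K) (nT : A ≤ N(T)) (eT : e ∈ T) (ha : Ab C) :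
    False := by
  have zn : zpowers e ≤ N(C) := zpowers_le.2 h.eN
  have lE : ⁅C, zpowers e⁆ ≤ C := commg_le_left zn
  have iv : ∀ d ∈ ⁅C, zpowers e⁆, e * d * e⁻¹ = d⁻¹ := fun d hd => by
    have m := conj_mem_of_norm (commg_normr _ _ (mem_zpowers e)) hd
    refine eq_inv_of_mul_eq_one_left (mem_bot.1 (ab_commg_inf_cent ha zn (h.og.cop (pg_zpowers h.e2)) ▸
      mem_inf.2 ⟨mul_mem m hd, ?_⟩))
    rw [cent_zpowers, mem_cent1, mul_comm_of_comm ha (lE m) (lE hd)]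
    have : e⁻¹ = e := inv_eq_of_mul_eq_one_right h.e2
    calc _ = d * e * d := by group
      _ = e * e * d * e * d := by rw [h.e2]; group
      _ = e * (e * d * e⁻¹ * d) := by rw [this]; group
      _ = _ := by rw [mul_comm_of_comm ha (lE m) (lE hd)]
  have k : ∀ d ∈ ⁅C, zpowers e⁆, d ≠ 1 → ∀ d' ∈ ⁅C, zpowers e⁆, V ⊓ C[d] ≤ C[d'] := fun d hd d1 d' hd' => by
    have := (inv_bound (h.od (lE hd)) (h.n h.he) h.e2 h.b (iv d hd)).2.resolve_right
      fun c => d1 (h.t4 (lE hd) c)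
    exact le_cent1_iff.2 (inv_cent h.e2 (h.og.elt (lE hd')) (iv d' hd') (le_cent1_iff.1 this)
      (norms_inf (zpowers_le.2 (h.od (lE hd')).n) (norms_cent1 (zpowers_le.2
        (mem_cent1.2 (mul_comm_of_comm ha (lE hd') (lE hd))))) (mem_zpowers d')))
  obtain ⟨c, hc, c1⟩ := exists_comm h.ne
  have hd := comm_mem hc (mem_zpowers e)
  generalize c * e * c⁻¹ * e⁻¹ = d at c1 hd
  have cy : Cyc ⁅C, zpowers e⁆ := by_contra fun m => c1 (h.one (h.lK (lE hd)) (le_cent1_iff.1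
    (le_of_cent1_le (comm_mono ha lE) m (lE.trans (h.lK.trans h.n)) (OG.cop (h.og.of_le lE) (ab_pg h.ea)).symm
      fun x hx x1 => k x hx x1 d hd)))
  obtain ⟨x, hx⟩ := cyc_iff.1 cy
  have mx : x ∈ ⁅C, zpowers e⁆ := hx ▸ mem_zpowers x
  have rf : Rf C e x := ⟨lE mx, fun e => c1 (by rw [← hx] at hd; simpa [e] using hd), iv x mx, fun c hc => by
    rw [hx, commg_comm]; exact comm_mem (mem_zpowers e) hc⟩
  clear hx mx k iv hd c1 cy hc lE
  have hC : Abelem r C := ⟨ha, h.ex⟩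
  have nA : A ≤ N(C) := le_sup_right.trans h.nC
  have ox := h.od rf.hx
  have b16 := (inv_bound ox (h.n h.he) h.e2 h.b rf.i).1
  have el : ∀ {y}, y ∈ C → y ≠ 1 → El r 1 (zpowers y) C := fun hy y1 => el1_zpowers' h.pr hy (h.ex _ hy) y1
  have ex := el rf.hx rf.x1
  have r4 : r - 1 ∣ 4 := by
    have d := card_fpf h.pr ex.pg (zpowers_le.2 ox.nb) (cent_zpowers x ▸ ox.inf)
    have c1 := card_le_cent (abelem_mono h.ea ox.le) (norms_comm (zpowers_le.2 (h.n h.he))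
      (zpowers_le.2 (inv_norm rf.i)) (mem_zpowers e)) h.e2
    have l : cj x (bx V x ⊓ C[e]) ≤ bx V x := cj_le_of_mem_norm ox.nb inf_le_left
    have c2 := card_sup_of_disjoint (A := cj x (bx V x ⊓ C[e])) (B := bx V x ⊓ C[e])
      (norms_of_comm h.ea.1 (inf_le_left.trans ox.le) (l.trans ox.le)) (le_bot_iff.1 fun u ⟨h1, h2⟩ =>
        ox.one h2.1 (mem_cent1_symm.1 (odd_sq ox.o (inv_sq h.e2 rf.i ▸ mul_mem (mem_cent1_symm.1
          (H19.cj_cent1 x e ▸ cj_mono x inf_le_right h1)) (mem_cent1_symm.1 h2.2)))))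
    have c3 := c2 ▸ card_le (sup_le l inf_le_left)
    have c4 := mt (h.t4 rf.hx) rf.x1
    obtain ⟨i, hi⟩ := ox.pg.exists_card
    rw [card_cj] at c3
    generalize #(bx V x ⊓ C[e]) = y0 at c1 c3
    have y4 : y0 ≤ 4 := by nlinarith
    have i5 : i < 5 := (Nat.pow_lt_pow_iff_right one_lt_two).1 (by omega)
    have : #(bx V x) = 16 := by interval_cases i <;> interval_cases y0 <;> omega
    rw [this] at d
    have r2 := h.r2
    have := Nat.le_of_dvd (by norm_num) d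
    have := h.pr
    interval_cases r <;> simp_all (config := { decide := true })
  have fx : ∀ a ∈ A, a * x * a⁻¹ ∈ zpowers x → a * x * a⁻¹ = x := fun a ha' m => by
    have := odd_cent (h.oA.of_le (zpowers_le.2 ha')) (zpowers_le.2 (mem_norm_of_cj_le (cj_zpowers a x ▸ zpowers_le.2 m)))
      ex.prime_card (ex.card1.symm ▸ r4) (mem_zpowers a)
    rw [← mem_cent.1 this x (mem_zpowers x)]; group
  have nr : ∀ a ∈ A, e ∈ N(zpowers (a * x * a⁻¹)) := fun a ha' => by_contra fun m => by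
    have rf' := rf.J (nA ha')
    have fT := conj_mem_of_norm (nT ha') eT
    have cb : ∀ g ∈ N(V), ∀ y, #⁅V, cj g (zpowers y)⁆ = #⁅V, zpowers y⁆ := fun g hg y => by
      rw [← card_cj g ⁅V, zpowers y⁆, cj_comm, cj_of_mem_norm hg]
    have cy : #⁅V, zpowers (a * x * a⁻¹)⁆ = #⁅V, zpowers x⁆ := cj_zpowers a x ▸ cb a (h.nV ha') x
    have g2 : a * e * a⁻¹ * (a * e * a⁻¹) = 1 := by rw [conj_mul, h.e2]; group
    generalize a * x * a⁻¹ = y at m rf' cy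
    generalize a * e * a⁻¹ = f at rf' fT g2
    have ey := el rf'.hx rf'.x1
    have ex' := inv_norm rf.i
    have fy := inv_norm rf'.i
    have ne : zpowers y ≠ zpowers x := fun e => m (e ▸ ex')
    have m' : f ∉ N(zpowers x) := fun n => m (rf.nrm rf' hC h.pr h.r2 (pT.elt (mul_mem eT fT)) n
      fun k => ne (eq_zpowers_of_prime ey.prime_card k rf.x1).symm)
    have eP := ex.sup2 ey (cents_of_comm ha ex.le ey.le) ne.symm
    have ee : ∀ {e z : X}, Rf C e z → z ∈ zpowers x ⊔ zpowers y → ∀ {L}, El r 1 L (zpowers x ⊔ zpowers y) →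
        El r 1 (cj e L) (zpowers x ⊔ zpowers y) := fun {e z} a b L c => el1_mk h.pr (fun u hu => by
      obtain ⟨u, hu', rfl⟩ := mem_cj'.1 hu
      simpa using mul_mem (zpowers_le.2 b (a.r u (eP.le (c.le hu')))) (c.le hu')) ((card_cj _ _).trans c.card1)
    have e1 := ex.of_le (le_sup_left (b := zpowers y))
    have e2 := ey.of_le (le_sup_right (a := zpowers x))
    have f2 := h.e2
    refine lines h.ea h.r2 eP (eP.le.trans (h.lK.trans h.n)) (fun d hd => h.t4 (eP.le hd)) e1 e2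
      (ee rf (e1.le (mem_zpowers x)) e2) (ee rf' (e2.le (mem_zpowers y)) e1) ne
      (fun k => ne (by rw [cj_eq_iff.1 k, cj_of_mem_norm (inv_mem ex')])) (fun k => m' (mem_norm_iff_cj.2 k))
      (fun k => m (mem_norm_iff_cj.2 k.symm)) (fun k => ne (by rw [cj_eq_iff.1 k.symm, cj_of_mem_norm (inv_mem fy)]))
      (fun k => ?_) b16 cy ((cb e (h.n h.he) y).trans cy) (cb f (h.n (lT fT)) x)
    have k1 : cj (e * f) (zpowers x) = zpowers y := by rw [cj_mul, ← k, cj_cj, f2, cj_one]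
    have k2 : (e * f) ^ 3 ∈ N(zpowers x) := mem_norm_iff_cj.2 (by
      rw [pow_succ, pow_two, cj_mul, k1, cj_mul, cj_mul e f (zpowers y), cj_of_mem_norm fy, k, cj_mul, cj_cj f, g2,
        cj_one, cj_of_mem_norm ex'])
    exact ne (k1.symm.trans (cj_of_mem_norm (zpowers_le.2 k2 (mem_zp_pi (pT.elt (mul_mem eT fT))
      (PiN.of_not_dvd (by decide))))))
  set T0 := T ⊓ ⨅ a : A, N(zpowers (a * x * (a : X)⁻¹)) with hT0
  have mT : ∀ t, t ∈ T0 ↔ t ∈ T ∧ ∀ a ∈ A, t ∈ N(zpowers (a * x * a⁻¹)) := fun t => by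
    rw [hT0, mem_inf, mem_iInf, Subtype.forall]
  have n0 : A ≤ N(T0) := fun g hg => mem_norm_of_cj_le fun t ht => by
    obtain ⟨t, ht', rfl⟩ := mem_cj'.1 ht
    refine (mT _).2 ⟨conj_mem_of_norm (nT hg) ((mT t).1 ht').1, fun a ha' => ?_⟩
    have := conj_mem_cj (g := g).2 (((mT t).1 ht').2 _ (mul_mem (inv_mem hg) ha'))
    rwa [cj_norm, cj_zpowers, show g * (g⁻¹ * a * x * (g⁻¹ * a)⁻¹) * g⁻¹ = a * x * a⁻¹ by group] at this
  have l0 : T0 ≤ K := inf_le_left.trans lT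
  have p0 : PG 2 T0 := pT.of_le inf_le_left
  have e0 : e ∈ T0 := (mT e).2 ⟨eT, nr⟩
  obtain ⟨k, hk, t, ht, rfl⟩ := (mem_sup_of_norm (inf_le_left.trans (commg_norml _ _))).1
    ((commg_sup_cent n0 (h.c.symm.coprime_dvd_left (card_dvd l0)) (.inr p0.sol)).ge e0)
  have tx := ((mT t).1 ht.1).2 1 (one_mem _)
  rw [one_mul, _root_.inv_one, mul_one] at tx
  have ta : ∀ a ∈ A, t * (a * x * a⁻¹) * t⁻¹ = a * (t * x * t⁻¹) * a⁻¹ := fun a ha' => by
    calc _ = t * a * x * (t * a)⁻¹ := by group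
      _ = _ := by rw [← mem_cent.1 ht.2 a ha']; group
  by_cases c : x ∈ C[t]
  · set C' := closure {y | ∃ a ∈ A, a * x * a⁻¹ = y} with hC'
    have l : C' ≤ C := (closure_le _).2 (by rintro _ ⟨a, ha', rfl⟩; exact conj_mem_of_norm (nA ha') rf.hx)
    have cc : C' ≤ C[t] := (closure_le _).2 (by
      rintro _ ⟨a, ha', rfl⟩
      exact mul_mem (mul_mem (mem_cent1_symm.1 (cent_le_cent1 ha' ht.2)) c) (inv_mem (mem_cent1_symm.1
        (cent_le_cent1 ha' ht.2))))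
    have e1 : ∀ c ∈ C', k * c * k⁻¹ = k * t * c * (k * t)⁻¹ := fun c hc => by
      rw [mul_assoc k t, ← mem_cent1.1 (cc hc)]; group
    have xC : x ∈ C' := subset_closure ⟨1, one_mem _, by simp⟩
    refine det_false h.pr h.r2 (abelem_mono hC l) (K := T0) (fun g hg => mem_norm_of_cj_le ?_)
      (fun g hg => norm_closure (by rintro _ ⟨a, ha', rfl⟩; exact ⟨g * a, mul_mem hg ha', by group⟩))
      (commg_comm T0 A ▸ hk) (commg_le_left n0 hk) xC rf.x1 (e1 x xC ▸ rf.i) fun c hc => e1 c hc ▸ rf.r c (l hc)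
    rw [cj_closure]
    refine (closure_le _).2 ?_
    rintro _ ⟨_, ⟨a, ha', rfl⟩, rfl⟩
    exact zpowers_le.2 (show a * x * a⁻¹ ∈ C' from Subgroup.subset_closure ⟨a, ha', rfl⟩) (conj_mem_of_norm (((mT g).1 hg).2 a ha') (mem_zpowers _))
  obtain ⟨j, hj⟩ := conj_mem_of_norm tx (mem_zpowers x)
  replace hj : x ^ j = t * x * t⁻¹ := hj
  let Sj : Subgroup X :=
    { carrier := {c | c ∈ C ∧ t * c * t⁻¹ = c ^ j}
      one_mem' := ⟨one_mem _, by simp⟩
      inv_mem' := fun {c} hc => ⟨inv_mem hc.1, by rw [inv_zpow, ← hc.2]; group⟩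
      mul_mem' := fun {c d} hc hd => ⟨mul_mem hc.1 hd.1, by
        rw [Commute.mul_zpow (mul_comm_of_comm ha hc.1 hd.1), ← hc.2, ← hd.2]; group⟩ }
  obtain ⟨u, hu, cu⟩ := orbp (A := A) (y := x) (H := Sj ⊓ C[k * t]) fun a ha' ne =>
    have m := conj_mem_of_norm (nA ha') rf.hx
    ⟨⟨⟨m, by rw [ta a ha', ← hj, conj_zpow]⟩, rf.cent (el m (rf.J (nA ha')).x1) (nr a ha') fun k => ne (fx a ha' k)⟩,
      cents_of_comm ha le_rfl (zpowers_le.2 rf.hx) m x (mem_zpowers x) |>.symm |> mem_cent1.2⟩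
  have m : x * u ∈ Sj := mul_mem (show x ∈ Sj from ⟨rf.hx, hj.symm⟩) hu.1
  have c1 := mem_cent1.1 (h.dx t (l0 ht.1) ht.2 (p0.elt ht.1) _ (h.lK m.1) cu (h.og.elt m.1))
  have c2 := m.2
  rw [← c1, mul_inv_cancel_right] at c2
  by_cases e1 : x * u = 1
  · exact rf.x1 (inv_one ox.o rf.i (eq_inv_of_mul_eq_one_left e1 ▸ inv_mem hu.2))
  have o1 := orderOf_of_pow h.pr (h.ex _ m.1) e1
  have o2 := orderOf_of_pow h.pr (h.ex _ rf.hx) rf.x1
  refine c (mem_cent1.2 ?_)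
  have : x ^ (1 : ℤ) = x ^ j := by
    rw [zpow_eq_zpow_iff_modEq, o2, ← o1, ← zpow_eq_zpow_iff_modEq, zpow_one]; exact c2
  rw [zpow_one, hj] at this
  exact eq_mul_inv_iff_mul_eq.1 this

end H8.FU
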