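import Cfsg.Agent.H8.FU2

/-! Coprime operator groups with nilpotent fixed points (FU3). -/

set_option autoImplicit false
set_option linter.unusedVariables false
set_option linter.unusedSectionVars false

namespace H8.FU
open Cfsg Subgroup H18 H17.GS
open H19 hiding eq_bot_mono
open H8.FS hiding Fx Md Mc Nb Rd Lk Cx det_false rd_kc exists_hv main_aux main_of Main
open H25.FB (cfix celt ccos csyl orbp pi2 cop_im det_false hol_comm hol_norm card_quo_lt sol_ext)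
open H29.PU (zj bm)
open scoped commutatorElement

universe u
variable {X : Type u} [Group X] [Finite X] {A B C D E F G H K L M N O P Q R S T U V W Y Z : Subgroup X}
  {a b c d e f g k n s t u v w x y z : X} {p r : ℕ} {π : Set ℕ}

local notation "p2" => Nat.prime_two
local notation:max "Ω(" S ")" => Ohm1 2 Z(S)

theorem idx_le (h : ∀ g ∈ P, g * w * g⁻¹ * w⁻¹ ∈ W) : C[w].relIndex P ≤ #W := by
  refine Nat.card_le_card_of_injective (fun q : P ⧸ C[w].subgroupOf P => (⟨_, h _ q.out.2⟩ : W)) fun q r e => ?_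
  rw [← q.out_eq, ← r.out_eq]
  have := mul_right_cancel (congrArg Subtype.val e)
  refine QuotientGroup.eq.2 (mem_cent1.2 (?_ : (q.out : X)⁻¹ * r.out * w = w * ((q.out : X)⁻¹ * r.out)))
  calc _ = (q.out : X)⁻¹ * (r.out * w * (r.out : X)⁻¹) * r.out := by group
    _ = _ := by rw [← this]; group

theorem cls3 (hP : PG 3 P) (h : ∀ g ∈ P, g * w * g⁻¹ * w⁻¹ ∈ W) (c : #W ≤ 4) : #P ≤ 3 * #(P ⊓ C[w]) := by
  have h1 := (idx_le h).trans c
  obtain ⟨i, hi⟩ := (PiN.relIndex hP C[w]).exists_pow (relIndex_ne_zero' _ _)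
  rw [← card_inf_mul_relIndex C[w] P, inf_comm, mul_comm]
  refine Nat.mul_le_mul_right _ ?_
  rw [hi] at h1 ⊢
  have : i < 2 := (Nat.pow_lt_pow_iff_right (by norm_num : 1 < 3)).1 (by omega)
  interval_cases i <;> norm_num

theorem fix4 (ea : Abelem 2 W) (c : #W ≤ 4) (o : PiE {2}ᶜ a) (n : a ∈ N(W)) (hw : w ∈ W) (w1 : w ≠ 1)
    (aw : a ∈ C[w]) : a ∈ C(W) := by
  have od : Od W a := ⟨ea, n, o⟩
  by_contra m
  have h1 := od.dp.card
  have h2 := ne_bot_iff_one_lt_card.1 (ne_bot_of_mem (mem_inf.2 ⟨hw, mem_cent1_symm.1 aw⟩) w1)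
  have := od.four m
  nlinarith

theorem Mc.gen2 (h : Mc V K A C e r) (hz : z ∈ C) (hc : c ∈ C) (cz : c ∈ C[z]) (z1 : z ≠ 1) (m : c ∉ zpowers z)
    (l : W ≤ V) (n1 : z ∈ N(W)) (n2 : c ∈ N(W)) (k0 : W ⊓ C[z] ≤ L) (k : ∀ i : ℕ, W ⊓ C[z ^ i * c] ≤ L) :
    W ≤ L := by
  have e1 := el1_zpowers' h.pr hz (h.ex z hz) z1
  have e2 := el1_zpowers' h.pr hc (h.ex c hc) fun e => m (e ▸ one_mem _)
  have cc : zpowers z ≤ C(zpowers c) := zpowers_le.2 (cent_zpowers c ▸ mem_cent1_symm.1 cz)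
  have e3 := e1.sup2 e2 cc fun e => m (e ▸ mem_zpowers c)
  refine e3.le_of_cent_le (sup_le (zpowers_le.2 n1) (zpowers_le.2 n2))
    (((ab_pg h.ea).of_le l).sing_ne h.r2.symm) fun Y hY => ?_
  by_cases e : zpowers z = Y
  · rw [← e, cent_zpowers]; exact k0
  have e4 := e3.sup_eq (e1.of_le le_sup_left) hY e
  obtain ⟨j, hj, y, hy, rfl⟩ := (mem_sup_of_norm (norms_of_comm e3.comm hY.le le_sup_left)).1
    (e4.symm ▸ mem_sup_right (mem_zpowers c))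
  obtain ⟨i, hi⟩ := mem_powers_iff_mem_zpowers.2 (inv_mem hj)
  exact (inf_le_inf_left _ (cent_le_cent1 (by simpa [show z ^ i = j⁻¹ from hi] using hy))).trans (k i)

/-- the extraspecial configuration -/
structure Nb (V K A C : Subgroup X) (e : X) (r : ℕ) (d f z : X) : Prop extends Mc V K A C e r where
  hd : d ∈ C
  hf : f ∈ C
  id : e * d * e⁻¹ = d⁻¹
  iff : e * f * e⁻¹ = f⁻¹
  hz : f * d * f⁻¹ = z * d
  z1 : z ≠ 1
  zZ : z ∈ C ⊓ C(C)
  dZ : d ∉ C(C)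
  na : ⁅C, C⁆ ≤ C(C) ⊓ C[e]
  Ze : C ⊓ C(C) ≤ C[e]

theorem Mc.nb (h : Mc V K A C e r) (ha : ¬ Ab C) : ∃ d f z, Nb V K A C e r d f z := by
  have pC : Sol C := sol_mono h.sol h.lK
  have na := h.min _ (sol_der_lt pC fun e => h.ne (by simp [e])) (norms_der h.nC)
  have Ze := (h.min _ (lt_of_le_of_ne (inf_le_left (b := C(C))) fun e => ha (comm_iff_le_cent.2 (e.ge.trans inf_le_right)))
    (norms_inf h.nC (norms_cent h.nC))).trans inf_le_right
  obtain ⟨c, hc, c1⟩ := exists_comm h.ne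
  have hd := h.cm hc
  have i := comm_inv (c := c) h.e2
  generalize c * e * c⁻¹ * e⁻¹ = d at c1 hd i
  have dZ : d ∉ C(C) := fun m => c1 (inv_one (h.og.elt hd) i (Ze ⟨hd, m⟩))
  obtain ⟨c, hc, m⟩ : ∃ c ∈ C, c * e * c⁻¹ * e⁻¹ ∉ C[d] := by
    by_contra! k
    refine dZ (le_cent1_iff.1 ?_)
    rw [← commg_sup_cent (zpowers_le.2 h.eN) (h.og.cop (pg_zpowers h.e2)) (.inr pC), cent_zpowers]
    refine sup_le (commg_le_iff.2 fun x hx y hy => ?_) fun x hx => cc h.og na hx.1 hx.2 hd i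
    rcases (mem_zp h.e2).1 hy with rfl | rfl
    · simp
    · exact k x hx
  refine ⟨d, _, _, h, hd, h.cm hc, i, comm_inv h.e2, (inv_mul_cancel_right _ d).symm, fun e => m (mem_cent1.2 ?_),
    ⟨der_le C (comm_mem (h.cm hc) hd), (na (comm_mem (h.cm hc) hd)).1⟩, dZ, na, Ze⟩
  rwa [mul_inv_eq_one, mul_inv_eq_iff_eq_mul] at e

namespace Nb
variable (h : Nb V K A C e r d f z)
include h

theorem oz : Od V z := h.od h.zZ.1
theorem cz (hc : c ∈ C) : c ∈ C[z] := le_cent1_iff.2 h.zZ.2 hc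
theorem nU (h1 : c ∈ N(V)) (hc : c ∈ C[z]) : c ∈ N(bx V z) :=
  norms_comm (zpowers_le.2 h1) (zpowers_le.2 (cent1_le_norm_zpowers z hc)) (mem_zpowers c)
theorem nU' (hc : c ∈ C) : c ∈ N(bx V z) := h.nU (h.n (h.lK hc)) (h.cz hc)
theorem U1 : bx V z ≠ ⊥ := fun e => h.z1 (h.one (h.lK h.zZ.1) (cents_symm (commg_eq_bot.1 e) (mem_zpowers z)))

theorem cj_pow (i : ℕ) : f ^ i * d * (f ^ i)⁻¹ = z ^ i * d := by
  induction i with
  | zero => simp
  | succ i ih =>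
    have : f * z ^ i = z ^ i * f := (Commute.pow_right (mem_cent1.1 (h.cz h.hf)) i).eq
    calc _ = f * (f ^ i * d * (f ^ i)⁻¹) * f⁻¹ := by group
      _ = z ^ i * (f * d * f⁻¹) := by rw [ih, ← mul_assoc, this]; group
      _ = _ := by rw [h.hz]; group

theorem card (n : f ∈ N(W)) (i : ℕ) : #(W ⊓ C[z ^ i * d]) = #(W ⊓ C[d]) := by
  rw [← h.cj_pow, ← H19.cj_cent1, ← card_cj (f ^ i) (W ⊓ C[d]), cj_inf, cj_of_mem_norm (pow_mem n i)]

theorem gen (l : W ≤ bx V z) (n0 : z ∈ N(W)) (n1 : d ∈ N(W)) (k : ∀ i : ℕ, W ⊓ C[z ^ i * d] ≤ L) : W ≤ L :=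
  h.gen2 h.zZ.1 h.hd (h.cz h.hd) h.z1 (fun m => h.dZ (zpowers_le.2 h.zZ.2 m)) (l.trans h.oz.le) n0 n1
    ((inf_le_inf_right _ l).trans (h.oz.inf ▸ bot_le)) k

theorem nz (n1 : d ∈ N(W)) (n2 : f ∈ N(W)) : z ∈ N(W) := by
  simpa [h.hz] using mul_mem (mul_mem (mul_mem n2 n1) (inv_mem n2)) (inv_mem n1)

theorem four (l : W ≤ bx V z) (w1 : W ≠ ⊥) (n1 : d ∈ N(W)) (n2 : f ∈ N(W)) (i : ℕ) : 4 ≤ #(W ⊓ C[z ^ i * d]) := by
  have n0 := h.nz n1 n2
  refine four_le (h.oz.pg.of_le (inf_le_left.trans l)) (fun e => w1 (le_bot_iff.1 (h.gen l n0 n1 fun j => ?_)))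
    (norms_inf (zpowers_le.2 n0) (norms_cent1 (zpowers_le.2 (mem_cent1_symm.1 (h.cz
      (mul_mem (pow_mem h.zZ.1 i) h.hd))))) (mem_zpowers z))
    (le_bot_iff.1 ((inf_le_inf_right _ (inf_le_left.trans l)).trans h.oz.inf.le))
  rw [le_bot_iff, ← card_eq_one, h.card n2, ← h.card n2 i, e, card_bot]

theorem sub (i : ℕ) (hi : z ∈ zpowers (z ^ i)) : bx V z ⊓ C[z ^ i * d] ≤ bx V d := by
  have n : zpowers d ≤ N(bx V z ⊓ C[z ^ i * d]) := norms_inf (zpowers_le.2 (h.nU' h.hd)) (norms_cent1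
    (zpowers_le.2 (mem_cent1_symm.1 (mul_mem (pow_mem (mem_cent1_symm.1 (h.cz h.hd)) i) (mem_cent1_self d)))))
  have l : bx V z ⊓ C[z ^ i * d] ≤ V := inf_le_left.trans h.oz.le
  refine (commg_eq_of_cent_eq_bot n ((h.od h.hd).cop.coprime_dvd_left (card_dvd l)) (.inl (sol_zpowers d))
    (le_bot_iff.1 fun u hu => h.oz.one hu.1.1 (cent1_le_cent1_of_mem_zpowers hi (mem_cent1_symm.1 ?_)))).ge.trans
    (commutator_mono l le_rfl)
  have := mul_mem (mem_cent1_symm.1 hu.1.2) (inv_mem (mem_cent1_symm.1 (cent_zpowers d ▸ hu.2)))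
  rwa [mul_inv_cancel_right] at this

theorem key : #(bx V z ⊓ C[d]) ≤ 4 ∧ bx V d ≤ bx V z ∧ V ⊓ C[d] ≤ C[e] := by
  have s1 := h.sub 1 (by simp)
  have s2 := h.sub 2 (by rw [pow_two]; exact mem_zp_sq h.oz.o)
  have c := card_sup_of_disjoint (A := bx V z ⊓ C[z ^ 1 * d]) (B := bx V z ⊓ C[z ^ 2 * d])
    (norms_of_comm h.ea.1 (inf_le_left.trans h.oz.le) (inf_le_left.trans h.oz.le))
    (le_bot_iff.1 fun u hu => h.oz.one hu.1.1 (mem_cent1_symm.1 (by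
      have := mul_mem (mem_cent1_symm.1 hu.2.2) (inv_mem (mem_cent1_symm.1 hu.1.2))
      convert this using 1; group)))
  rw [h.card (h.nU' h.hf), h.card (h.nU' h.hf)] at c
  have f4 := h.four le_rfl h.U1 (h.nU' h.hd) (h.nU' h.hf) 0
  rw [pow_zero, one_mul] at f4
  obtain ⟨b1, b2⟩ := inv_bound (h.od h.hd) (h.n h.he) h.e2 h.b h.id
  have c1 := card_le (sup_le s1 s2)
  refine ⟨by nlinarith, ?_, b2.resolve_right (by nlinarith)⟩
  rw [← eq_of_le_of_card_eq (sup_le s1 s2) (by nlinarith)]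
  exact sup_le inf_le_left inf_le_left

theorem irr (l : W ≤ bx V z) (w1 : W ≠ ⊥) (n1 : d ∈ N(W)) (n2 : f ∈ N(W)) : bx V z ≤ W :=
  h.gen le_rfl h.oz.nb (h.nU' h.hd) fun i => by
    rw [← eq_of_le_of_card_eq (inf_le_inf_right C[z ^ i * d] l) (le_antisymm (card_le (inf_le_inf_right _ l))
      ((h.card (h.nU' h.hf) i).le.trans (h.key.1.trans (h.four l w1 n1 n2 i))))]
    exact inf_le_left

theorem dich (h1 : w ∈ C[d]) (h2 : w ∈ C[f]) : bx V z ≤ C[w] ∨ bx V z ⊓ C[w] = ⊥ := by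
  by_contra k
  rw [not_or] at k
  exact k.1 ((h.irr inf_le_left k.2
    (norms_inf (zpowers_le.2 (h.nU' h.hd)) (norms_cent1 (zpowers_le.2 (mem_cent1_symm.1 h1))) (mem_zpowers d))
    (norms_inf (zpowers_le.2 (h.nU' h.hf)) (norms_cent1 (zpowers_le.2 (mem_cent1_symm.1 h2))) (mem_zpowers f))).trans
    inf_le_right)

theorem cen (n : w ∈ N(V)) (c : w ∈ C[z]) (l : bx V w ≤ bx V z) : w ∈ C(V ⊓ C[z]) :=
  cents_symm (commg_eq_bot.1 (le_bot_iff.1 (h.oz.inf ▸ le_inf ((commutator_mono inf_le_left le_rfl).trans l)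
    ((commg_le_left (norms_inf (zpowers_le.2 n) (norms_cent1 (zpowers_le.2 c)))).trans inf_le_right)))) (mem_zpowers w)

theorem blk (ha : a ∈ A) (m : a ∉ N(V ⊓ C[z])) : bx V z ≤ cj a (V ⊓ C[z]) := by
  have nC := h.nC (mem_sup_right ha)
  have wZ : a * z * a⁻¹ ∈ C ⊓ C(C) := ⟨conj_mem_of_norm nC h.zZ.1, conj_mem_of_norm (norm_le_norm_cent _ nC) h.zZ.2⟩
  have e : cj a (V ⊓ C[z]) = V ⊓ C[a * z * a⁻¹] := by rw [cj_inf, H19.cj_cent1, cj_of_mem_norm (h.nV ha)]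
  have ow := h.od wZ.1
  rw [e]
  refine le_inf h.oz.le ((h.dich (cent_le_cent1 h.hd wZ.2) (cent_le_cent1 h.hf wZ.2)).resolve_right fun k => m ?_)
  have l : bx V z ≤ bx V (a * z * a⁻¹) := (commg_eq_of_cent_eq_bot (zpowers_le.2 (h.nU' wZ.1))
    (ow.cop.coprime_dvd_left (card_dvd h.oz.le)) (.inl (sol_zpowers _)) (cent_zpowers (a * z * a⁻¹) ▸ k)).ge.trans
    (commutator_mono h.oz.le le_rfl)
  have := eq_of_le_of_card_eq l (by rw [← cj_bx (h.nV ha), card_cj])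
  exact mem_norm_of_le_cj (e ▸ le_inf inf_le_left (le_cent1_iff.2 (h.cen ow.n (h.cz wZ.1) this.ge)))

theorem false : False := by
  set K1 := K ⊓ (C(V ⊓ C[z]) ⊓ C(C ⊓ C(C))) with hK1
  set A1 := A ⊓ N(V ⊓ C[z]) with hA1
  have nA : A ≤ N(C) := le_sup_right.trans h.nC
  have nZ : A ≤ N(C ⊓ C(C)) := norms_inf nA (norms_cent nA)
  have n1 : A1 ≤ N(K1) := norms_inf (inf_le_left.trans h.nK)
    (norms_inf (norms_cent inf_le_right) (norms_cent (inf_le_left.trans nZ)))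
  have kz : K1 ≤ C[z] := inf_le_right.trans (inf_le_right.trans (cent_le_cent1 h.zZ))
  have kU : ⁅V, K1⁆ ≤ bx V z := by
    have := commg_sup_left_le (A := V ⊓ C[z]) (B := bx V z) (K := K1) (X := bx V z)
      ((commg_eq_bot.2 (cents_symm (inf_le_right.trans inf_le_left))).le.trans bot_le)
      (commg_le_left fun k hk => h.nU (h.n hk.1) (kz hk)) (norms_of_cents h.oz.dp.cent) le_normalizer
    rwa [h.oz.dp.sup] at this
  have ff : K1 ⊓ C(bx V z) = ⊥ := le_bot_iff.1 fun k hk => h.one hk.1.1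
    (h.oz.cent (le_cent1_iff.2 hk.2) (le_cent1_iff.2 hk.1.2.1))
  have b1 : ∀ a ∈ A, a ∉ A1 → cj a K1 ≤ C(bx V z) := fun a ha m =>
    (cj_mono a (inf_le_right.trans inf_le_left)).trans (H19.cj_cent a _ ▸ cent_mono (h.blk ha fun k => m ⟨ha, k⟩))
  have fx : Dx A1 K1 := h.fK.blk inf_le_left inf_le_left n1 ff fun a ha m => le_inf (b1 a ha m)
    (h.comm (cj_le_of_mem_norm (h.nK ha) inf_le_left) inf_le_left (by
      rw [← cj_of_mem_norm (h.nV ha), ← cj_comm, cj_le_iff, H19.cj_cent]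
      exact kU.trans (cents_symm (b1 _ (inv_mem ha) fun k => m (inv_mem_iff.1 k))))
      (kU.trans (cents_symm (b1 a ha m))))
  have dC : d ∈ C(V ⊓ C[z]) := h.cen (h.od h.hd).n (h.cz h.hd) h.key.2.1
  have eC : e ∈ C(V ⊓ C[z]) := le_cent1_iff.1 ((le_inf inf_le_left (le_cent1_iff.2 dC)).trans h.key.2.2)
  have eK : e ∈ K1 := ⟨h.he, eC, le_cent1_iff.1 h.Ze⟩
  have cZ : C ≤ C(C ⊓ C(C)) := cents_symm inf_le_right
  have dK : d ∈ K1 := ⟨h.lK h.hd, dC, cZ h.hd⟩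
  have zK : z ∈ K1 := ⟨h.lK h.zZ.1, le_cent1_iff.1 inf_le_right, cZ h.zZ.1⟩
  set C1 := C ⊓ K1 with hC1
  set Z1 := C1 ⊓ C(C) with hZ1
  have kC : K1 ≤ N(C1) := norms_inf (inf_le_left.trans (le_sup_left.trans h.nC)) le_normalizer
  have aC : A1 ≤ N(C1) := norms_inf (inf_le_left.trans nA) n1
  have aZ : A1 ≤ N(Z1) := norms_inf aC (norms_cent (inf_le_left.trans nA))
  have lU : ∀ i : ℕ, bx V z ⊓ C[z ^ i * d] ≤ V := fun i => inf_le_left.trans h.oz.le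
  have c4 : ∀ i : ℕ, #(bx V z ⊓ C[z ^ i * d]) = 4 := fun i => le_antisymm ((h.card (h.nU' h.hf) i).le.trans h.key.1)
    (h.four le_rfl h.U1 (h.nU' h.hd) (h.nU' h.hf) i)
  have nD : ∀ i : ℕ, ∀ c ∈ C, c ∈ C[d] → c ∈ N(bx V z ⊓ C[z ^ i * d]) := fun i c hc cd =>
    norms_inf (zpowers_le.2 (h.nU' hc)) (norms_cent1 (zpowers_le.2 (mem_cent1_symm.1 (mul_mem
      (pow_mem (mem_cent1_symm.1 (h.cz hc)) i) (mem_cent1_symm.1 cd))))) (mem_zpowers c)
  obtain rfl : r = 3 := (Nat.prime_dvd_prime_iff_eq h.pr Nat.prime_three).1 (by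
    have := card_fpf h.pr (h.pg.of_le (zpowers_le.2 h.zZ.1))
      (zpowers_le.2 (nD 0 z h.zZ.1 (mem_cent1_symm.1 (h.cz h.hd))))
      (le_bot_iff.1 ((inf_le_inf inf_le_left (cent_zpowers z).le).trans h.oz.inf.le))
    rwa [c4] at this)
  have st : ∀ i : ℕ, ∀ D ≤ C ⊓ C[d], ∃ u ∈ bx V z, u ≠ 1 ∧ #D ≤ 3 * #(D ⊓ C[u]) ∧
      D ⊓ C[u] ≤ C(bx V z ⊓ C[z ^ i * d]) := fun i D l => by
    obtain ⟨u, hu, u1, -⟩ := exists4 (c4 i).ge 1 1 1
    exact ⟨u, hu.1, u1, cls3 (h.pg.of_le (l.trans inf_le_left)) (fun g hg => mul_mem (conj_mem_of_norm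
      (nD i g (l hg).1 (l hg).2) hu) (inv_mem hu)) (c4 i).le, fun g hg => fix4 (abelem_mono h.ea (lU i)) (c4 i).le
      (h.og.elt (l hg.1).1) (nD i g (l hg.1).1 (l hg.1).2) hu u1 hg.2⟩
  have z3 : #Z1 = 3 := by
    obtain ⟨u, hu, u1, b, -⟩ := st 0 Z1 fun w hw => ⟨hw.1.1, cent_le_cent1 h.hd hw.2⟩
    rw [show Z1 ⊓ C[u] = ⊥ from le_bot_iff.1 fun w hw => ((h.dich (cent_le_cent1 h.hd hw.1.2)
      (cent_le_cent1 h.hf hw.1.2)).elim (fun k => ff ▸ mem_inf.2 ⟨hw.1.1.2, le_cent1_iff.1 k⟩) fun k =>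
        absurd (mem_bot.1 (k ▸ mem_inf.2 ⟨hu, mem_cent1_symm.1 hw.2⟩)) u1), card_bot] at b
    exact le_antisymm b (Nat.le_of_dvd (card_pos _) ((h.pg.of_le (inf_le_left.trans inf_le_left)).dvd_of_ne_bot
      (ne_bot_of_mem (show z ∈ Z1 from ⟨⟨h.zZ.1, zK⟩, h.zZ.2⟩) h.z1)))
  have c27 : #C1 ≤ 27 := by
    have b0 := cls3 (w := d) (W := Z1) (h.pg.of_le (inf_le_left (b := K1))) (fun g hg => ⟨der_le C1
      (comm_mem hg ⟨h.hd, dK⟩), (h.na (comm_mem hg.1 h.hd)).1⟩) (by omega)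
    have l0 : C ⊓ K1 ⊓ C[d] ≤ C ⊓ C[d] := inf_le_inf_right _ inf_le_left
    obtain ⟨u, -, -, b1, k1⟩ := st 0 _ l0
    obtain ⟨v, -, -, b2, k2⟩ := st 1 _ ((inf_le_left (b := C[u])).trans l0)
    rw [show C ⊓ K1 ⊓ C[d] ⊓ C[u] ⊓ C[v] = ⊥ from le_bot_iff.1 fun c hc => h.t4 hc.1.1.1.1 ((card_le ?_).trans
      (c4 2).le), card_bot] at b2
    · change #(C ⊓ K1) ≤ 27
      omega
    have nc := nD 2 c hc.1.1.1.1 hc.1.1.2
    have : V ≤ (V ⊓ C[c]) ⊔ bx V z ⊓ C[z ^ 2 * d] := by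
      refine h.oz.dp.sup.ge.trans (sup_le (le_sup_left.trans' (le_inf inf_le_left (le_cent1_iff.2 hc.1.1.1.2.2.1)))
        (h.gen le_rfl h.oz.nb (h.nU' h.hd) fun i => ?_))
      rw [← Nat.mod_add_div i 3, pow_add, pow_mul, h.ex z h.zZ.1, one_pow, mul_one]
      have : i % 3 < 3 := Nat.mod_lt _ (by norm_num)
      generalize i % 3 = j at this
      interval_cases j
      · exact le_sup_left.trans' (le_inf (lU 0) (le_cent1_iff.2 (k1 hc.1)))
      · exact le_sup_left.trans' (le_inf (lU 1) (le_cent1_iff.2 (k2 hc)))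
      · exact le_sup_right
    exact (commutator_mono this le_rfl).trans (commg_sup_left_le ((commg_eq_bot.2 (inf_le_right.trans
      (cent_zpowers c).ge)).le.trans bot_le) (commg_le_left (zpowers_le.2 nc))
      (norms_of_comm h.ea.1 inf_le_left (lU 2)) le_normalizer)
  have oA := h.oA.of_le (inf_le_left : A1 ≤ A)
  have a1 : A1 ≤ C(Z1) := odd_cent oA aZ (z3 ▸ Nat.prime_three) (by rw [z3]; norm_num)
  have a2 : A1 ≤ C(C1) := le_of_syl fun s P hs hP => cents_symm (by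
    by_cases p1 : P = ⊥
    · simp [p1]
    have sA := (hP.pi.dvd_of_ne_bot p1).trans (card_dvd hP.le)
    have s2 : s ≠ 2 := fun e => PiN.not_dvd oA p2 rfl (e ▸ sA)
    have s3 : s ≠ 3 := fun e => hs.one_lt.ne' (Nat.eq_one_of_dvd_coprimes fx.c sA
      (e ▸ z3 ▸ card_dvd (inf_le_left.trans inf_le_right)))
    have m := (Nat.modEq_iff_dvd' (card_le inf_le_left)).1 (modc hP.pi hs (hP.le.trans aC)).symm
    have l3 := z3 ▸ card_le (le_inf inf_le_left (cents_symm (hP.le.trans a1)) : Z1 ≤ C1 ⊓ C(P))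
    have pC : PG 3 C1 := h.pg.of_le inf_le_left
    obtain ⟨i, hi⟩ := pC.exists_card
    obtain ⟨j, hj⟩ := (pC.of_le (inf_le_left (b := C(P)))).exists_card
    refine (eq_of_le_of_card_eq (inf_le_left (b := C(P))) (by_contra fun ne => ?_)).ge.trans inf_le_right
    have lt := card_le (inf_le_left (a := C1) (b := C(P)))
    rw [hi, hj] at m lt ne
    rw [hi] at c27
    rw [hj] at l3
    have i4 : i < 4 := (Nat.pow_lt_pow_iff_right (by norm_num : 1 < 3)).1 (by omega)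
    have j4 : j < 4 := (Nat.pow_lt_pow_iff_right (by norm_num : 1 < 3)).1 (by omega)
    have : s ∣ 2 ^ 3 * 3 ^ 2 := by
      interval_cases i <;> interval_cases j <;> first | omega | exact m.trans (by norm_num)
    rcases (Nat.Prime.dvd_mul hs).1 this with k | k
    · exact s2 ((Nat.prime_dvd_prime_iff_eq hs p2).1 (hs.dvd_of_dvd_pow k))
    · exact s3 ((Nat.prime_dvd_prime_iff_eq hs Nat.prime_three).1 (hs.dvd_of_dvd_pow k)))
  have nM : K1 ≤ N(K1 ⊓ C(C1)) := norms_inf le_normalizer (norms_cent kC)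
  obtain ⟨n, hn, k⟩ := ccos (N := K1 ⊓ C(C1)) (y := e) (norms_inf n1 (norms_cent aC))
    (fx.c.coprime_dvd_right (card_dvd inf_le_left)) fun a ha => mem_inf.2 ⟨mul_mem (conj_mem_of_norm (n1 ha) eK) (inv_mem eK), by
      simpa only [mul_assoc] using mul_mem (a2 ha) (conj_mem_of_norm (norm_le_norm_cent _ (kC eK)) (inv_mem (a2 ha)))⟩
  obtain ⟨m, hm, o⟩ := pi_part {2} (n * e)
  have dm := fx.d _ (pow_mem (mul_mem hn.1 eK) m) (pow_mem k m) o d dK (cents_symm a2 ⟨h.hd, dK⟩) (h.og.elt h.hd)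
  obtain ⟨j, rfl⟩ := Nat.not_even_iff_odd.1 (mt even_iff_two_dvd.1 (PiN.not_dvd hm p2 rfl))
  have sq : (n * e) ^ 2 ∈ K1 ⊓ C(C1) := by
    have := mul_mem hn (conj_mem_of_norm (nM eK) hn)
    rw [inv_eq_of_mul_eq_one_right h.e2] at this
    simpa only [pow_two, mul_assoc] using this
  have dn : (n * e) ^ (2 * j) * n ∈ C[d] := cent_le_cent1 (show d ∈ C1 from ⟨h.hd, dK⟩)
    (mul_mem (pow_mul (n * e) 2 j ▸ pow_mem sq j) hn).2
  have := mul_mem (inv_mem dn) (mem_cent1_symm.1 dm)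
  rw [pow_succ, ← mul_assoc _ n, inv_mul_cancel_left] at this
  exact h.dZ (inv_one (h.og.elt h.hd) h.id (mem_cent1_symm.1 this) ▸ one_mem _)

end Nb

theorem Md.n1 (h : Md V K A) (he : e ∈ K) (e2 : e * e = 1) (b : #V ≤ 4 * #(V ⊓ C[e])) : e = 1 := by
  by_contra e1
  obtain ⟨T, hT, nT⟩ := csyl h.nK h.c 2
  obtain ⟨g, hg, l⟩ := hT.scj_le (zpowers_le.2 he) (pg_zpowers e2)
  have eT := l (conj_mem_cj.2 (mem_zpowers e))
  obtain ⟨C, r, hC⟩ := h.mc (hT.le eT) (by rw [conj_mul, e2]; group) (by simpa using e1) (by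
    rw [← H19.cj_cent1, ← cj_of_mem_norm (h.n hg), ← cj_inf, card_cj, card_cj]; exact b)
  by_cases ha : Ab C
  · exact hC.ab hT.pi hT.le nT eT ha
  · obtain ⟨d, f, z, k⟩ := hC.nb ha
    exact k.false

theorem Md.off (h : Md V K A) (l : E ≤ K) (hE : Abelem 2 E) (b : #V ≤ 2 * #E * #(V ⊓ C(E))) : E = ⊥ := by
  induction E using (wellFounded_lt (α := Subgroup X)).induction with
  | _ E ih =>
  by_contra e1
  obtain ⟨B, hB, e, he, d, hd, d1, i⟩ := exists_hyp_inv hE (og_Fit h.o2) (l.trans (Fit_norm K)) fun c => e1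
    (PiN.eq_bot (ab_pg hE) ((og_Fit h.o2).of_le ((le_inf l c).trans (cent_Fit_le h.sol))))
  have od := (og_Fit h.o2).elt hd.1
  have eB : e ∉ B := fun m => d1 (inv_one od i (cent_le_cent1 m hd.2))
  have c := hB.card
  by_cases b1 : B = ⊥
  · refine eB (h.n1 (l he) (sq_one hE he) (b.trans ?_) ▸ one_mem _)
    rw [c, b1, card_bot]
    exact Nat.mul_le_mul_left _ (card_le (inf_le_inf_left _ (cent_le_cent1 he)))
  have k : V ⊓ C(E) = V ⊓ C(B) := by_contra fun m => b1 (ih B (lt_of_le_of_ne hB.le hB.ne) (hB.le.trans l)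
    (abelem_mono hE hB.le) (b.trans (by
      have := pg_lt_card ((ab_pg h.ea).of_le inf_le_left) (lt_of_le_of_ne (inf_le_inf_left V (cent_mono hB.le)) m)
      rw [c]; nlinarith)))
  have nd := h.n (Fit_le K hd.1)
  have cB : B ≤ C(zpowers d) := cents_symm (zpowers_le.2 hd.2)
  exact d1 (h.one (Fit_le K hd.1) (PxQ (ab_pg h.ea) (ab_pg (abelem_mono hE hB.le)) (piG_zpowers.2 od) cB
    (hB.le.trans (l.trans h.n)) (zpowers_le.2 nd) (cents_symm (zpowers_le.2 (inv_cent (sq_one hE he) od i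
      (k ▸ cents_symm inf_le_right he) (norms_inf (zpowers_le.2 nd) (norms_cent (norms_of_cents
        (zpowers_le.2 hd.2))) (mem_zpowers d))))) (mem_zpowers d)))

end H8.FU
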