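import Cfsg.Agent.H8.FV4

/-! Strong closure for coprime operator groups, after `H4.SC` (FV5). -/

set_option autoImplicit false
set_option linter.unusedVariables false
set_option linter.unusedSectionVars false
set_option linter.style.haveILetI false

namespace H8.FV
open H9 hiding zj
open Matrix hiding mul_inv_rev
open H29.PU hiding Rk1 Vx Crit crit Am Bad W5 T2 le_C_of_normal
open H4.Bm hiding Gd Gt GV Pa P2 DG St Ds Bt ext no_crit hull step1 phi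
open Cfsg Subgroup H28 H28.GC MatrixGroups H29 H29.BB H4.PV Equiv
open H4.OX (Od od_iff syl_sup syl_mem)
open H4.SC (Tc Nm Bd ext_syl grow Big cj_zj thw mu_key two_of exists_vx nΩ_of adapt0 DG P2 Ds)
open scoped commutatorElement

universe u
variable {X : Type u} [Group X] [Finite X] {A A' B B' C D E E' G H I J K L L' L₀ L₁ L₂ B₀ M N O P Q R S S' T T' U V W Y : Subgroup X}
  {a b d e f g h l m n s t u v w x y z : X} {ν : Subgroup X → Subgroup X}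

variable {F : Type} [Field F] [Fintype F] {κ : F}

/-- large pairs -/
structure Lg (G T B L₁ L₂ V : Subgroup X) : Prop extends Pa G T B L₁ L₂ where
  VΩ : V ≤ Ω₂ B
  nV : G ⊓ 𝐍 (Ω₂ B) ≤ 𝐍 V
  nC : ¬ V ≤ 𝐂 L₁
  sol : Group.IsSolvable ↥(G ⊓ 𝐍 V)

theorem nΩ (h : x ∈ 𝐍 B) : x ∈ 𝐍 (Ω₂ B) := normalizer_le_normalizer_omegaOneCenter 2 B h

namespace Lg
variable (r : Lg G T B L₁ L₂ V) (c : Co F B L₁) (hF : 4 < Fintype.card F)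
include r

theorem nV' : G ⊓ 𝐍 B ≤ 𝐍 V := (inf_le_inf_left _ (normalizer_le_normalizer_omegaOneCenter 2 B)).trans r.nV
theorem gV : c.g ∈ 𝐍 V := r.nV' ⟨r.k₁.LG c.gL, c.gB⟩
theorem gZ : c.g ∈ 𝐍 (Z₂ L₁) := r.k₁.nZ c.gL

theorem cV : c.g ∈ cmod (Ω₂ B) V := mem_cmod.2 ⟨r.gV c, fun u hu => by
  obtain ⟨v, hv, e⟩ := c.ΩV r.k₁ r.VΩ (r.gV c) r.nC hu
  have m := cm_mem (zpowers_le.2 (r.gV c)) (inv_mem hv) (mem_zpowers _)
  rw [← mul_inv_cancel_right u v, comm_mul_left, mem_c_comm'.1 (cen_le_c c.gL e), mul_one, conj_eq_of_cen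
    (omegaOneCenter_le _ _ (mul_mem hu (r.VΩ hv))) (omegaOneCenter_le_centralizer _ _ (r.VΩ m))]
  exact m⟩

include c hF

theorem nY (hx : x ∈ 𝐂 V) : ¬ cj x ⁅Z₂ L₁, B⁆ ≤ 𝐂 (O² L₁) := fun h => by
  have k := r.k₁
  obtain ⟨y, hy, y1⟩ := SetLike.not_le_iff_exists.1 k.not_Y
  have yΩ := k.YΩ hy
  have m := (mem_cmod.1 (r.cV c)).2 y yΩ
  have m' := cm_mem (le_normalizer_commutator (zpowers_le.2 (r.gZ c)) (zpowers_le.2 c.gB)) hy (mem_zpowers _)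
  have := (c.η0 _ (r.VΩ m)).2 (k.cenE (k.ΩZ (r.VΩ m)) (h (mem_c''.1 (cen_le_c m hx) ▸ conj_mem_cj m')))
  rw [commutatorElement_def, mul_assoc, mul_assoc, ← mul_assoc c.g, c.ηm _ (k.ΩZ yΩ) _
    (k.ΩZ (conj_mem_of_mem_normalizer (nΩ c.gB) (inv_mem yΩ))), c.gη _ (inv_mem yΩ),
    inv_of_ea (ea_omegaOneCenter 2 B) yΩ] at this
  refine c.μ1 hF (mul_right_cancel₀ (mul_ne_zero c.μ.ne_zero (mt (c.η0 y yΩ).1 fun e => y1 (k.CE e))) ?_)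
  rw [add_mul, inv_mul_cancel_left₀ c.μ.ne_zero, one_mul, add_comm, this, zero_mul]

theorem exK (hs : s ∈ G ⊓ 𝐍 B ⊓ 𝐂 V) (e1 : cj s (Z₂ L₁) = Z₂ L₂) (e2 : cj s (Z₂ L₂) = Z₂ L₁) :
    ∃ k ∈ G ⊓ 𝐍 B ⊓ 𝐍 (Z₂ L₁) ⊓ 𝐂 (Ω₂ B), (orderOf k).Coprime 2 ∧ ∃ κ ≠ 0, κ ≠ 1 ∧ Sc c.α (Z₂ L₁) k κ ∧
      Sc c.τ B k κ⁻¹ ∧ ∀ u ∈ Z₂ L₁, ⁅u, k⁆ ∈ 𝐖ᵥ L₁ := by
  have k₁ := r.k₁
  set H := G ⊓ 𝐍 B ⊓ (𝐍 (Z₂ L₁) ⊓ 𝐍 (Z₂ L₂)) with hH
  have gH : c.g ∈ H := ⟨⟨k₁.LG c.gL, c.gB⟩, (r.st (normalizer_le_normalizer_JJ 2 B c.gB)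
    ((cj_eq_self c.gB).le.trans r.BT) (by
      rw [cj_eq_self (le_normalizer_commutator (zpowers_le.2 (r.gZ c)) (zpowers_le.2 c.gB) (mem_zpowers _))]
      exact k₁.not_Y)).2.resolve_right fun e => r.nc (by rw [← cj_eq_self (r.gZ c), e.1]; exact r.k₂.ZQ)⟩
  have HV : H ≤ 𝐍 V := inf_le_left.trans r.nV'
  have sH : s ∈ 𝐍 H := mem_normalizer_iff_cj.2 (by
    simp only [hH, cj_inf, cj_normalizer, e1, e2, cj_eq_self hs.1.2, cj_eq_self_of_mem hs.1.1, inf_comm])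
  have nK : H ≤ 𝐍 (H ⊓ 𝐂 V : Subgroup X) := le_normalizer_inf le_normalizer (le_normalizer_centralizer HV)
  have MH : H ⊓ 𝐂 V ⊔ zpowers c.g ≤ H := sup_le inf_le_left (zpowers_le.2 gH)
  have sM : s ∈ 𝐍 (H ⊓ 𝐂 V ⊔ zpowers c.g : Subgroup X) := mem_normalizer_of_cj_le (by
    rw [cj_sup, cj_zpowers]
    refine sup_le (le_sup_of_le_left (cj_le_of_mem_normalizer le_rfl (le_normalizer_inf (zpowers_le.2 sH)
      (zpowers_le.2 (le_normalizer hs.2)) (mem_zpowers s)))) (zpowers_le.2 ?_)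
    rw [← inv_mul_cancel_right (s * c.g * s⁻¹) c.g]
    refine mul_mem_sup (mem_inf.2 ⟨mul_mem (conj_mem_of_mem_normalizer sH gH) (inv_mem gH), ?_⟩) (mem_zpowers _)
    have sV := (mem_inf.1 hs).2
    simpa only [mul_assoc] using mul_mem sV (conj_mem_of_mem_normalizer (le_normalizer_centralizer HV gH)
      (inv_mem sV)))
  have sol := H19.sol_mono r.sol (MH.trans (le_inf (inf_le_left.trans inf_le_left) HV))
  obtain ⟨D, hD, gD⟩ := (H19.piG_zpowers.2 (H19.PiN.of_coprime c.od)).exists_hall sol le_sup_right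
  obtain ⟨m, hm, em⟩ := hD.conj (hD.Jnorm sM) sol
  obtain ⟨a, ha, d, hd, rfl⟩ := (mem_sup_of_le_normalizer' (zpowers_le.2 (nK gH))).1 hm
  replace em : cj (a * d) D = cj s D := em
  have sD : a⁻¹ * s ∈ 𝐍 D := mem_normalizer_iff_cj.2 (by
    rw [← cj_cj, ← em, cj_cj, inv_mul_cancel_left, cj_eq_self_of_mem (gD hd)])
  have sV : a⁻¹ * s ∈ 𝐂 V := mul_mem (inv_mem ha.2) hs.2
  have sB : a⁻¹ * s ∈ 𝐍 B := mul_mem (inv_mem ha.1.1.2) hs.1.2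
  have sZ : cj (a⁻¹ * s) (Z₂ L₁) = Z₂ L₂ := by rw [← cj_cj, e1, cj_eq_self (inv_mem ha.1.2.2)]
  generalize a⁻¹ * s = s at sD sV sB sZ
  have DH := hD.le.trans MH
  have od : ∀ x ∈ D, (orderOf x).Coprime 2 := fun x hx => (hD.pi.elt hx).coprime_prime Nat.prime_two
  have g1 := gD (mem_zpowers _)
  have kD := mul_mem (inv_mem g1) (conj_mem_of_mem_normalizer sD g1)
  have kV : c.g⁻¹ * (s * c.g * s⁻¹) ∈ 𝐂 V := by
    simpa only [mul_assoc] using mul_mem (conj_mem_of_mem_normalizer' (le_normalizer_centralizer HV gH) sV) (inv_mem sV)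
  have kΩ := odd_cen (od _ kD) ((k₁.pg.to_le (omegaOneCenter_le _ _)).to_le r.VΩ) kV fun u hu =>
    commutatorElement_mem_comm.1 ((mem_cmod.1 (mul_mem (inv_mem (r.cV c)) (conj_mem_of_mem_normalizer
      (le_normalizer_cmod (zpowers_le.2 (nΩ sB)) (zpowers_le.2 (centralizer_le_normalizer _ sV)) (mem_zpowers s))
      (r.cV c)))).2 u hu)
  have kH := DH kD
  obtain ⟨κ, κ0, h1, h2⟩ := c.lam kH.1.2 kH.2.1 (centralizer_anti k₁.YΩ kΩ)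
  refine ⟨_, ⟨⟨kH.1, kH.2.1⟩, kΩ⟩, od _ kD, κ, κ0, fun e => ?_, h1, h2, fun u hu => ?_⟩
  · have t := c.gτ.mul h2 kH.1.2
    rw [mul_inv_cancel_left, e, inv_one, mul_one] at t
    have sm : ∀ u ∈ Z₂ L₁, s * u * s⁻¹ ∈ Z₂ L₂ := fun u hu => sZ ▸ conj_mem_cj hu
    obtain ⟨u, hu, eu⟩ := c.αs 1
    have key : ∀ v : F, v ≠ 0 → ∃ w ∈ Z₂ L₁, c.α w = v ∧ c.τ (s * w * s⁻¹) = v⁻¹ ^ 2 * c.τ (s * u * s⁻¹) :=
      fun v v0 => by
        obtain ⟨i, hi⟩ := c.gen _ (inv_ne_zero v0)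
        refine ⟨_, conj_mem_of_mem_normalizer (pow_mem (r.gZ c) i) hu, ?_, ?_⟩
        · rw [c.gα.pow (r.gZ c) i u hu, eu, inv_pow, hi, inv_inv, mul_one]
        · have := t.pow (conj_mem_of_mem_normalizer (le_normalizer_of_le (zpowers_le.2 sB) (mem_zpowers s)) c.gB) i _
            (r.k₂.ZB (sm u hu))
          rw [← pow_mul, mul_comm 2, pow_mul, hi, conj_pow] at this
          rw [← this]; congr 1; group
    refine c.fld hF (e := c.τ (s * u * s⁻¹)) (fun e => one_ne_zero (eu.symm.trans ((c.α0 u hu).2 ?_))) fun v v0 v1 => ?_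
    · simpa [mul_assoc] using conj_mem_of_mem_normalizer' (nΩ sB) (r.symm.memΩ (sm u hu) ((c.τ0 _ (r.k₂.ZB (sm u hu))).1 e))
    obtain ⟨a, ha, a1, a2⟩ := key v v0
    obtain ⟨b, hb, b1, b2⟩ := key _ v1
    have := (c.τ0 _ (r.k₂.ZB (sm _ (mul_mem (mul_mem ha hu) hb)))).2 (r.ΩQ (conj_mem_of_mem_normalizer (nΩ sB)
      ((c.α0 _ (mul_mem (mul_mem ha hu) hb)).1 (by rw [c.αm _ (mul_mem ha hu) _ hb, c.αm _ ha _ hu, a1, b1, eu, c.add_self]))))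
    rwa [← conj_mul, ← conj_mul, c.τm _ (mul_mem (r.k₂.ZB (sm a ha)) (r.k₂.ZB (sm u hu))) _ (r.k₂.ZB (sm b hb)),
      c.τm _ (r.k₂.ZB (sm a ha)) _ (r.k₂.ZB (sm u hu)), a2, b2] at this
  generalize c.g⁻¹ * (s * c.g * s⁻¹) = k at kD kΩ kH h1
  have gZ := r.gZ c
  have kZ := kH.2.1
  have μ0 := inv_ne_zero c.μ.ne_zero
  have m : k * c.g * k⁻¹ * c.g⁻¹ ∈ D := mul_mem (mul_mem (mul_mem kD g1) (inv_mem kD)) (inv_mem g1)
  have cZ := odd_cen (od _ m) (k₁.pg.to_le (omegaOneCenter_le _ _)) (by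
    simpa only [mul_assoc] using mul_mem kΩ (conj_mem_of_mem_normalizer (le_normalizer_centralizer
      (zpowers_le.2 (nΩ c.gB)) (mem_zpowers _)) (inv_mem kΩ))) fun u hu => c.triv (by
    have := ((h1.mul c.gα gZ).mul (h1.inv kZ κ0) (inv_mem kZ)).mul (c.gα.inv gZ μ0) (inv_mem gZ)
    rwa [show κ * (c.μ : F)⁻¹ * κ⁻¹ * (c.μ : F)⁻¹⁻¹ = 1 by field_simp] at this) (DH m).2.1 hu
  obtain ⟨z, hz, ez⟩ := c.αs (c.α u / (1 + (c.μ : F)⁻¹))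
  have wW : ∀ z ∈ Z₂ L₁, ⁅z, c.g⁆ ∈ 𝐖ᵥ L₁ := fun z hz => k₁.ZL (commutator_mem_commutator hz c.gL)
  have o := c.αeq hu (k₁.WZ (wW z hz)) (by rw [c.αc c.gα gZ hz, ez, mul_div_cancel₀ _ (c.μ1 hF)])
  rw [← inv_mul_cancel_right u ⁅z, c.g⁆, comm_mul_left, mem_c_comm.1 (cen_le_c o kΩ), mul_one]
  refine conj_mem_of_mem_normalizer (k₁.nW (k₁.le (omegaOneCenter_le _ _ o))) ?_
  rw [commutatorElement_def _ k, mul_assoc, mul_assoc, ← mul_assoc k, ← conj_inv]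
  refine mul_mem (wW z hz) (inv_mem ?_)
  have zk := conj_mem_of_mem_normalizer kZ hz
  rw [conjugate_commutatorElement, ← inv_mul_cancel_right (k * c.g * k⁻¹) c.g, comm_mul_right,
    mem_cen_iff.1 cZ _ zk, one_mul, mem_c''.1 (cen_le_c (k₁.WZ (wW _ zk)) cZ)]
  exact wW _ zk

section
variable {k : X} (hk : k ∈ G ⊓ 𝐍 B ⊓ 𝐍 (Z₂ L₁) ⊓ 𝐂 (Ω₂ B)) (od : (orderOf k).Coprime 2) (κ0 : κ ≠ 0) (κ1 : κ ≠ 1)
  (h1 : Sc c.α (Z₂ L₁) k κ) (h2 : Sc c.τ B k κ⁻¹) (kW : ∀ u ∈ Z₂ L₁, ⁅u, k⁆ ∈ 𝐖ᵥ L₁)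
include hk od κ0 κ1 h1 h2 kW

theorem κ' : 1 + κ ≠ 0 := fun e => κ1 (by rw [← c.neg 1]; exact eq_neg_of_add_eq_zero_right e)

theorem YV : ⁅Z₂ L₁, B⁆ ≤ V := commutator_le.2 fun z hz b hb => by
  have k₁ := r.k₁
  obtain ⟨i, hi⟩ := c.gen κ κ0
  have a1 := (c.gα.pow (r.gZ c) i).mul h1 hk.1.2
  have a2 := (c.gτ.pow c.gB i).mul h2 hk.1.1.2
  rw [inv_pow, hi, inv_mul_cancel₀ κ0] at a1
  rw [← pow_mul, mul_comm 2, pow_mul, hi, pow_two, mul_inv_cancel_right₀ κ0] at a2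
  have a3 : c.g ^ i * k ∈ cmod (Ω₂ B) V := mul_mem (pow_mem (r.cV c) i) (mem_cmod.2 ⟨r.nV' hk.1.1, fun u hu =>
    mem_cen_iff.1 hk.2 u hu ▸ one_mem _⟩)
  have nZ := mul_mem (pow_mem (r.gZ c) i) hk.1.2
  have nB := mul_mem (pow_mem c.gB i) hk.1.1.2
  generalize c.g ^ i * k = h at a1 a2 a3 nZ nB
  obtain ⟨a, ha, ea⟩ := c.τs (c.τ b / (1 + κ))
  have ah := conj_mem_of_mem_normalizer nB ha
  have q := (c.τ0 _ (mul_mem (inv_mem (mul_mem ha ah)) hb)).1 (by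
    rw [c.τm _ (inv_mem (mul_mem ha ah)) _ hb, c.τi (mul_mem ha ah), c.τm _ ha _ ah, a2 a ha, ← one_add_mul, ea,
      mul_div_cancel₀ _ (r.κ' c hF hk od κ0 κ1 h1 h2 kW), c.add_self])
  have cY : ∀ a ∈ B, ∀ b ∈ B, a * ⁅z, b⁆ * a⁻¹ = ⁅z, b⁆ := fun a ha b hb =>
    conj_eq_of_cen ha (omegaOneCenter_le_centralizer _ _ (k₁.YΩ (commutator_mem_commutator hz hb)))
  have yΩ := k₁.YΩ (commutator_mem_commutator hz ha)
  have := (mem_cmod.1 a3).2 _ yΩ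
  rw [commutatorElement_def _ h, mul_assoc, mul_assoc, ← mul_assoc h, inv_of_ea (ea_omegaOneCenter 2 B) yΩ,
    conjugate_commutatorElement, ← inv_mul_cancel_right (h * z * h⁻¹) z, comm_mul_left,
    mem_c_comm'.1 (cen_le_c ah (omegaOneCenter_le_centralizer _ _ (c.triv a1 nZ hz))), mul_one,
    cY _ (omegaOneCenter_le _ _ (c.triv a1 nZ hz)) _ ah] at this
  rwa [← mul_inv_cancel_left (a * (h * a * h⁻¹)) b, comm_mul_right, mem_cen_iff.1 (k₁.QC q) z hz, mul_one,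
    mul_inv_cancel, mul_one, comm_mul_right, cY a ha _ ah]

theorem dec (he : e ∈ G ⊓ 𝐍 B ⊓ 𝐍 (Z₂ L₁)) (eV : e ∈ 𝐂 V) (e2 : e * e = 1) : ∃ b ∈ B, b⁻¹ * e ∈ 𝐂 (𝐖ᵥ L₁) := by
  have k₁ := r.k₁
  have YV := r.YV c hF hk od κ0 κ1 h1 h2 kW
  set H := G ⊓ 𝐍 B ⊓ 𝐍 (Z₂ L₁)
  set M := H ⊓ 𝐂 (Ω₂ B)
  have BM : B ≤ M := le_inf (le_inf (le_inf k₁.BG le_normalizer) (k₁.le.trans k₁.nZ)) (le_centralizer_omegaOneCenter 2 B)
  have sB : IsSylowIn 2 B M := ⟨BM, k₁.pg, fun P p l1 l2 => by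
    have e := k₁.amb k₁.tcZ k₁.nZ p l1 (l2.trans (inf_le_left.trans (inf_le_left.trans inf_le_left)))
      (l2.trans (inf_le_left.trans inf_le_right))
    refine le_antisymm (e ▸ le_inf le_rfl ?_) l1
    rw [zj, ← JJ_eq_of_le JJ_le_bm bm_le, e, ← zj, k₁.zj_eq]
    exact l2.trans inf_le_right⟩
  have nM : H ≤ 𝐍 M := le_normalizer_inf le_normalizer (le_normalizer_centralizer fun x hx => nΩ hx.1.2)
  have sol := H19.sol_mono r.sol (inf_le_left.trans (inf_le_left.trans (le_inf inf_le_left r.nV')) : M ≤ _)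
  obtain ⟨D, hD, kD⟩ := (H19.piG_zpowers.2 (H19.PiN.of_coprime od)).exists_hall sol (zpowers_le.2 hk)
  obtain ⟨m, hm, em⟩ := hD.conj (hD.Jnorm (nM he)) sol
  replace hm := ((H19.syl_mk BM (H19.PiN.of_isPGroup Nat.prime_two k₁.pg) sB.not_dvd_relIndex).sup_compl hD).ge hm
  obtain ⟨b, hb, d, hd, rfl⟩ := (mem_sup_of_le_normalizer' (hD.le.trans (inf_le_left.trans
    (inf_le_left.trans inf_le_right)))).1 hm
  replace em : cj (b * d) D = cj e D := em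
  have sD : b⁻¹ * e ∈ 𝐍 D := mem_normalizer_iff_cj.2 (by
    rw [← cj_cj, ← em, cj_cj, inv_mul_cancel_left, cj_eq_self_of_mem hd])
  obtain ⟨ν, ν0, a1, -⟩ := c.lam he.1.2 he.2 (centralizer_anti YV eV)
  obtain rfl : ν = 1 := by
    obtain ⟨u, hu, eu⟩ := c.αs 1
    have := a1.mul a1 he.2 u hu
    rw [e2, one_mul, inv_one, mul_one, eu, mul_one] at this
    exact (mul_self_eq_one_iff.1 this.symm).elim id fun e => e.trans (c.neg 1)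
  have a2 : Sc c.α (Z₂ L₁) b⁻¹ 1 := fun u hu => by
    have m : b⁻¹ * u * b⁻¹⁻¹ * u⁻¹ ∈ Ω₂ B :=
      k₁.YΩ (commutatorElement_mem_comm.1 (commutator_mem_commutator hu (inv_mem hb)))
    rw [← inv_mul_cancel_right (b⁻¹ * u * b⁻¹⁻¹) u, c.αm _ (k₁.ΩZ m) _ hu, (c.α0 _ (k₁.ΩZ m)).2 m, zero_add, one_mul]
  have a3 := a2.mul a1 he.2
  have cY := mul_mem (inv_mem (centralizer_anti k₁.YΩ (BM hb).2)) (centralizer_anti YV eV)
  have fH : b⁻¹ * e ∈ H := mul_mem (inv_mem (BM hb).1) he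
  refine ⟨b, hb, ?_⟩
  generalize b⁻¹ * e = f at sD a3 cY fH
  rw [one_mul] at a3
  have k1 := kD (mem_zpowers k)
  have m := mul_mem (conj_mem_of_mem_normalizer sD k1) (inv_mem k1)
  have cZ := odd_cen ((hD.pi.elt m).coprime_prime Nat.prime_two) (k₁.pg.to_le (omegaOneCenter_le _ _)) (hD.le m).2
    fun u hu => c.triv (by
      have := ((a3.mul h1 hk.1.2).mul (a3.inv fH.2 one_ne_zero) (inv_mem fH.2)).mul (h1.inv hk.1.2 κ0) (inv_mem hk.1.2)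
      rwa [show 1 * κ * (1 : F)⁻¹ * κ⁻¹ = 1 by field_simp] at this) (hD.le m).1.2 hu
  refine le_c_iff.1 fun w hw => ?_
  obtain ⟨z, hz, ez⟩ := c.αs (c.α w / (1 + κ))
  have o := k₁.WΩ (mul_mem hw (inv_mem (kW z hz))) (c.αeq (k₁.WZ hw) (k₁.WZ (kW z hz)) (by
    rw [c.αc h1 hk.1.2 hz, ez, mul_div_cancel₀ _ (r.κ' c hF hk od κ0 κ1 h1 h2 kW)]))
  refine (mul_mem_cancel_left (inv_mem (mem_c_symm.1 (cen_le_c o cY)))).1 (mem_c'.2 ?_)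
  have zf := conj_mem_of_mem_normalizer fH.2 hz
  have t := c.triv a3 fH.2 hz
  rw [mul_inv_rev, inv_inv, inv_mul_cancel_right, conjugate_commutatorElement, ← inv_mul_cancel_right (f * k * f⁻¹) k,
    comm_mul_right, mem_cen_iff.1 cZ _ zf, one_mul, mem_c''.1 (cen_le_c (k₁.WZ (kW _ zf)) cZ),
    ← inv_mul_cancel_right (f * z * f⁻¹) z, comm_mul_left, mem_c_comm.1 (cen_le_c t hk.2), mul_one,
    conj_eq_of_cen (k₁.ΩZ t) (k₁.ZZ (k₁.WZ (kW z hz)))]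

end

theorem swp (hE : MaxAb 2 (T ⊓ 𝐂 V ⊓ 𝐍 (JJ 2 B)) E) (hs : s ∈ E) (n : s ∉ 𝐍 (Z₂ L₁)) : False := by
  have k₁ := r.k₁
  have ET : E ≤ T := hE.le.trans (inf_le_left.trans inf_le_left)
  have st := fun x (hx : x ∈ E) => r.st (hE.le hx).2 (cj_le_of_mem r.BT (ET hx)) (r.nY c hF (hE.le hx).1.2)
  obtain ⟨sB, e⟩ := st s hs
  obtain ⟨e1, e2⟩ := e.resolve_left fun e => n e.1
  obtain ⟨k, hk, od, κ, κ0, κ1, h1, h2, kW⟩ := r.exK c hF ⟨⟨r.syl.le (ET hs), sB⟩, (hE.le hs).1.2⟩ e1 e2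
  have r' : Pa G T B L₁ (cj s L₁) := ⟨r.syl, r.BT, k₁, k₁.conjN sB, fun e => r.nc (r.k₂.leQ k₁.ZB
    (e.trans (by rw [← e1, cj_Z]; exact (k₁.conjN sB).QC)))⟩
  have k₂ := r'.k₂
  have eW : 𝐖ᵥ (cj s L₁) = cj s (𝐖ᵥ L₁) := by rw [cj_commutator, cj_Z, cj_pResidualOf]
  obtain ⟨K, K1, -, K2⟩ := r'.adapt
  have WW := k₁.WZ.trans (k₁.ZQ.trans k₁.QW)
  have WB := k₁.WZ.trans k₁.ZB
  have cW : E ⊓ 𝐍 (Z₂ L₁) ≤ 𝐂 (𝐖ᵥ L₁) := fun e he => by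
    have es := mem_c''.1 (cen_le_c he.1 (hE.comm hs))
    have sw : ∀ x, x ∈ 𝐂 (𝐖ᵥ L₁) ↔ s * x * s⁻¹ ∈ 𝐂 (𝐖ᵥ (cj s L₁)) := fun x => by
      rw [eW, ← cj_centralizer, conj_mem_cj_iff]
    have e2 := sq_of_ea hE.ea he.1
    obtain ⟨b, hb, c1⟩ := r.dec c hF hk od κ0 κ1 h1 h2 kW ⟨⟨r.syl.le (ET he.1), (st e he.1).1⟩, he.2⟩
      (hE.le he.1).1.2 e2
    have c2 := (sw _).1 c1
    rw [← conj_mul, es, ← conj_inv] at c2
    obtain ⟨w₁, a1, q₂, b2, f2⟩ := r'.symm.decB (conj_mem_of_mem_normalizer sB hb)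
    obtain ⟨w₂, a2, q₁, b1, rfl⟩ := r'.decB hb
    have WW' := k₂.WZ.trans (k₂.ZQ.trans k₂.QW)
    have d1 : w₁⁻¹ * (w₂⁻¹ * e) ∈ 𝐂 (𝐖ᵥ L₁) := mul_mem (inv_mem (WW a1)) (by
      simpa only [mul_inv_rev, mul_assoc, mul_inv_cancel_left] using mul_mem (k₁.QW b1) c1)
    have d2 : w₁⁻¹ * (w₂⁻¹ * e) ∈ 𝐂 (𝐖ᵥ (cj s L₁)) := by
      rw [← f2] at c2
      simpa only [mul_inv_rev, mul_assoc, mul_inv_cancel_left] using mul_mem (WW' (conj_mem_of_mem_normalizer'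
        (k₂.nW (k₂.le (WB a1))) (inv_mem a2))) (mul_mem (k₂.QW b2) c2)
    have dT : w₁⁻¹ * (w₂⁻¹ * e) ∈ T := mul_mem (inv_mem (r.BT (WB a1))) (mul_mem (inv_mem (r.BT (k₂.ZB (k₂.WZ a2))))
      (ET he.1))
    have ee : e = w₂ * (w₁ * (w₁⁻¹ * (w₂⁻¹ * e))) := by group
    generalize w₁⁻¹ * (w₂⁻¹ * e) = d at d1 d2 dT ee
    rw [ee, sq3 (sq_of_ea k₂.ea (k₂.WZ a2)) (sq_of_ea k₁.ea (k₁.WZ a1)) (mem_centralizer'.1 d2 _ a2)
      (mem_centralizer'.1 d1 _ a1)] at e2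
    have wB := k₂.ZB (k₂.WZ a2)
    rcases k₁.fix wB (k₁.WZ a1) (K2 ⟨cm_mem' (A := B) (k₁.le.trans k₁.nW) wB a1,
      (mul_mem_cancel_right (K1 d ⟨dT, d1⟩)).1 (e2 ▸ one_mem _)⟩) with a | a
    · exact ee ▸ mul_mem (k₁.QW a) (mul_mem (WW a1) d1)
    · exact (sw e).2 (es.symm ▸ ee ▸ mul_mem (WW' a2) (mul_mem (k₂.QW (r'.symm.ΩQ a)) d2))
  have BS : B ≤ T ⊓ 𝐂 V ⊓ 𝐍 (JJ 2 B) := le_inf (le_inf r.BT ((le_centralizer_omegaOneCenter 2 B).trans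
    (centralizer_anti r.VΩ))) (le_normalizer_JJ 2 B)
  have i1 := off_idx hE (WB.trans BS) (ea_of_le k₁.ea k₁.WZ)
  have i2 := (idx_le_of (inf_comm E _ ▸ cW)).trans (two_idx (H := E) (K := 𝐍 (Z₂ L₁)) fun a ha b hb a1 b1 =>
    mem_normalizer_iff_cj.2 (by
      rw [← cj_cj, ((st b hb).2.resolve_left fun e => b1 e.1).1, ((st a ha).2.resolve_left fun e => a1 e.1).2]))
  have ex : ∀ a : F, ∃ w ∈ 𝐖ᵥ L₁, c.α w = a := fun a => by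
    obtain ⟨u, hu, rfl⟩ := c.αs a
    obtain ⟨w, hw, d, hd, rfl⟩ := k₁.decZ hu
    exact ⟨w, hw, by rw [c.αm _ (k₁.WZ hw) _ hd.1, (c.α0 _ hd.1).2 (k₁.CΩ hd.1 hd.2), add_zero]⟩
  have nE : ∀ w ∈ 𝐖ᵥ L₁, c.α w ≠ 0 → w ∉ E := fun w hw a e => a ((c.α0 _ (k₁.WZ hw)).2 (r.memΩ (k₁.WZ hw)
    (r.k₂.ZQ (e1 ▸ mem_c''.1 (cen_le_c e (hE.comm hs)) ▸ conj_mem_cj (k₁.WZ hw)))))
  obtain ⟨u, hu, eu⟩ := ex 1
  obtain ⟨w, hw, ew⟩ := ex (c.μ : F)⁻¹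
  have := three_le hu hw (nE u hu (eu ▸ one_ne_zero)) (nE w hw (ew ▸ inv_ne_zero c.μ.ne_zero))
    (nE _ (mul_mem (inv_mem hu) hw) (by
      rw [c.αm _ (k₁.WZ (inv_mem hu)) _ (k₁.WZ hw), c.αi (k₁.WZ hu), eu, ew]; exact c.μ1 hF))
  omega

theorem JT : JJ 2 (T ⊓ 𝐂 V) = JJ 2 B := by
  have k₁ := r.k₁
  have BS : B ≤ T ⊓ 𝐂 V := le_inf r.BT ((le_centralizer_omegaOneCenter 2 B).trans (centralizer_anti r.VΩ))
  refine JJ_of (r.syl.isPGroup.to_le inf_le_left) BS fun E hE _ => ?_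
  have lT : T ⊓ 𝐂 V ⊓ 𝐍 (JJ 2 B) ⊓ 𝐍 (Z₂ L₁) ≤ T := inf_le_left.trans (inf_le_left.trans inf_le_left)
  exact (hE.mono (le_inf hE.le fun s hs => by_contra (r.swp c hF hE hs)) inf_le_left).le_JJ.trans (JJ_le_bm.trans
    (k₁.amb k₁.tcZ k₁.nZ (r.syl.isPGroup.to_le lT) (le_inf (le_inf BS (le_normalizer_JJ 2 B)) (k₁.le.trans k₁.nZ))
      (lT.trans r.syl.le) inf_le_right).le)

theorem false (o : Op G T A) (nA : A ≤ 𝐍 V) (ns : ¬ Group.IsSolvable (O² L₁)) : False := by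
  have k₁ := r.k₁
  have nJ : A ≤ 𝐍 (JJ 2 B) := r.JT c hF ▸ (le_normalizer_inf o.nT (le_normalizer_centralizer nA)).trans
    (normalizer_le_normalizer_JJ 2 _)
  have key : ∀ a ∈ A, Z₂ L₁ ≤ O₂ (cj a L₁) := fun a ha => by_contra fun n => by
    obtain ⟨-, e1, e2⟩ := r.sw (nJ ha) (cj_le_of_mem_normalizer r.BT (o.nT ha)) n
    have := H8.FS.odd_sq (H19.PiN.of_coprime (o.od a ha)) (mem_normalizer_iff_cj.2 (by rw [← cj_cj, e1, e2]) :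
      a * a ∈ 𝐍 (Z₂ L₁))
    exact r.nc (by rw [← cj_eq_self this, e1]; exact r.k₂.ZQ)
  have YQ : nclIn (Z₂ L₁) A ≤ O₂ L₁ := nclIn_le_iff.2 fun a ha => cj_le_iff.2 (cj_pCoreOf a⁻¹ L₁ ▸ key _ (inv_mem ha))
  exact ns (H19.sol_mono (o.sol _ (YQ.trans (k₁.QB.trans r.BT)) (fun e => r.nc ((le_nclIn _ A).trans (e.le.trans bot_le)))
    (le_normalizer_nclIn _ _)) (le_inf (k₁.EL.trans k₁.LG) (H29.le_normalizer_of_commutator_le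
      ((commutator_mono YQ le_rfl).trans (r.blk.trans (k₁.WZ.trans (le_nclIn _ A)))))))

end Lg

theorem sc1 (h : HV1 G S V) (o : Op G S A) (ht : t ∈ V) (hg : g ∈ G) (h1 : g * t * g⁻¹ ∈ S) :
    g * t * g⁻¹ ∈ V := by_contra fun h2 => by
  obtain ⟨ν, hh, rfl⟩ := exists_hh h
  obtain ⟨T, U, b⟩ := step0 hh (hh.sy h.syl g) h.syl fun c => h2 (c ⟨hh.equi g S ▸ conj_mem_cj ht, h1⟩)
  obtain ⟨T, B, L, hT, l, k, a1, a2, a3, nD⟩ := step1 hh b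
  obtain ⟨L', k', n⟩ := k.partner nD
  obtain ⟨x, hx, rfl⟩ := hT.exists_conj h.syl
  have nA := o.nT.trans h.nV
  have r : Lg G (cj x T) (cj x B) (cj x L) (cj x L') (ν (cj x T)) := ⟨(Pa.symm ⟨hT, l, k', k, n⟩).conj x, by
    rw [hh.equi, ← cj_omegaOneCenter]; exact cj_mono x a1, by
    rw [hh.equi, ← cj_omegaOneCenter, ← cj_normalizer, ← cj_normalizer, ← hh.cG x, ← cj_inf]; exact cj_mono x a2, by
    rw [hh.equi, ← cj_centralizer, cj_le_cj]; exact a3, o.sol _ h.le (fun e => h2 (by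
      rw [mem_bot.1 (e.le ht)]; simp)) nA⟩
  generalize cj x T = T at *
  generalize cj x B = B at r
  generalize cj x L = L at r
  generalize cj x L' = L' at r
  generalize ν T = V at *
  have k := r.k₁
  obtain ⟨F, _, _, hF, ns, ⟨c⟩⟩ := k.co (r.blk.trans k.WZ)
  by_cases q : 4 < Fintype.card F
  · exact r.false c q o nA (ns (by rw [Nat.card_eq_fintype_card]; omega))
  have two := two_of k.vx k.syl r.VΩ ((inf_le_inf_right _ k.LG).trans r.nV) r.nC fun y hy od _ => by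
    refine o.t4 V h.le h.ea nA y ⟨k.LG hy.1, hy.2⟩ od ?_
    obtain ⟨q', e1, -, e2⟩ := k.vx.card k.syl
    obtain rfl := Nat.eq_of_mul_eq_mul_right Nat.card_pos (e1.symm.trans hF)
    have lV := commutator_le_of_le_normalizer (zpowers_le.2 hy.2)
    have bot := H19.ab_commg_inf_cent (le_centralizer_self_iff.1 (ea_le_centralizer h.ea)) (zpowers_le.2 hy.2) (by
      obtain ⟨i, hi⟩ := IsPGroup.iff_card.1 (ea_isPGroup h.ea)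
      rw [hi, Nat.card_zpowers]; exact od.symm.pow_left i)
    have := H19.card_sup_of_disjoint (A := Z₂ L ⊓ 𝐂 L) (B := ⁅V, zpowers y⁆) (le_normalizer_of_le_centralizer
      (((lV.trans (r.VΩ.trans k.ΩZ)).trans k.ZZ).trans (centralizer_anti inf_le_left))) (le_bot_iff.1 fun w hw =>
        bot.le ⟨hw.2, centralizer_anti (zpowers_le.2 hy.1) hw.1.2⟩)
    have := this ▸ card_le_of_le' (sup_le (k.vx.C_le_Ω k.syl) (lV.trans r.VΩ))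
    rw [e2, mul_comm] at this
    exact (Nat.le_of_mul_le_mul_right this Nat.card_pos).trans (not_lt.1 q)
  have two' : Two B (O₂ L') := fun a ha b hb a1 b1 => by_contra fun ab => by
    have h1 := three_le (inv_mem ha) hb (mt inv_mem_iff.1 a1) b1 (by rwa [inv_inv])
    have h2 := card_idx (O₂ L') B
    have h3 := two.card_le k.QB
    rw [inf_of_le_left r.k₂.QB, Nat.eq_of_mul_eq_mul_left Nat.card_pos r.cr.card] at h2
    have : 0 < # (O₂ L) := Nat.card_pos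
    nlinarith
  obtain ⟨z, a, b⟩ := (k.two two).exz
  exact P2.false ⟨⟨r.syl, r.BT, k.two two, r.k₂.two two', r.nc⟩, a, b⟩ o

end H8.FV
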