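import Cfsg.Agent.H8.FU4
import Cfsg.Agent.H8.FV5
import Cfsg.Agent.H25.FC2

/-! Coprime operator groups with nilpotent fixed points (FU5). -/

set_option autoImplicit false
set_option linter.unusedVariables false
set_option linter.unusedSectionVars false

namespace H8.FU
open Cfsg Subgroup H18 H17.GS
open H19 hiding eq_bot_mono
open H8.FS hiding Fx Md Mc Nb Rd Lk Cx det_false rd_kc exists_hv main_aux main_of Main
open H25.FB (cfix celt ccos csyl orbp pi2 cop_im det_false hol_comm hol_norm card_quo_lt sol_ext)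
open H29.PU (zj bm)
open scoped commutatorElement

universe u
variable {X : Type u} [Group X] [Finite X] {A B C D E F G H K L M N O P Q R S T U V W Y Z : Subgroup X}
  {a b c d e f g k n s t u v w x y z : X} {p r : ℕ} {π : Set ℕ}

local notation "p2" => Nat.prime_two
local notation:max "Ω(" S ")" => Ohm1 2 Z(S)

theorem exists_hv (h : Dx A G) (hG : Sim G) (n : ⊤ ≤ N(G)) (hS : Syl 2 S G) (nS : A ≤ N(S)) (s1 : S ≠ ⊥)
    (ih : ∀ H, H < G → A ≤ N(H) → Sol H) : ∃ V, V ≠ ⊥ ∧ H8.FV.HV1 G S V ∧ H8.FV.Op G S A := by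
  have := Fact.mk p2
  have k : ∀ Y ≤ S, Y ≠ ⊥ → A ≤ N(Y) → Dx A (G ⊓ N(Y)) ∧ Sol (G ⊓ N(Y)) := fun Y l y1 nY => by
    have f := h.mono inf_le_left (norms_inf h.n (norms_norm nY))
    refine ⟨f, ih _ (lt_of_le_of_ne inf_le_left fun e => ?_) f.n⟩
    exact hG.nsol (((hG.cases (l.trans hS.le) (e.ge.trans inf_le_right)).resolve_left y1) ▸ (hS.pi.of_le l).sol)
  set V := Kc Ω(S) (G ⊓ N(bm 2 S)) with hV
  have o1 : Ω(S) ≠ ⊥ := hS.pi.Ohm1_center_ne_bot s1
  have oS : Ω(S) ≤ S := (Ohm1_le _ _).trans inf_le_left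
  have v1 : V ≠ ⊥ := ne_bot_mono le_Kc o1
  have lz : V ≤ zj 2 S := Kc_le_of (H9.omegaOneCenter_le_omegaOneCenter_JJ 2 S) (by
    have e : zj 2 (bm 2 S) = zj 2 S := by rw [zj, H9.JJ_eq_of_le H29.PU.JJ_le_bm H29.PU.bm_le, zj]
    exact e ▸ H29.PU.nrm_zj inf_le_right)
  have lS : V ≤ S := lz.trans H29.PU.zj_le
  have ea : Abelem 2 V := abelem_mono (H28.ea_omegaOneCenter 2 _) lz
  have nV : N(S) ≤ N(V) := norms_Kc (norm_le_norm_Ohm1_center 2 S)
    (norms_inf (le_top.trans n) (norms_norm (H29.PU.nrm_bm le_rfl)))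
  have sV : S ≤ G ⊓ N(V) := le_inf hS.le (le_normalizer.trans nV)
  have e : Kc Ω(S) (G ⊓ N(V)) = V := le_antisymm (Kc_le_of le_Kc inf_le_right)
    (Kc_mono le_rfl (le_inf inf_le_left Kc_norm))
  obtain ⟨f1, s2⟩ := k V lS v1 (nS.trans nV)
  have r : Rd V (G ⊓ N(V)) A := by
    have := rd_kc (hS.of_le sV inf_le_left) f1 s2 nS (e.symm ▸ ea)
    rwa [e] at this
  have vs : Vs S V A := ⟨lz, le_normalizer.trans nV, nS.trans nV, nS, fun E l hE b => r.off (l.trans sV)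
    (fun x hx => sq_one hE hx ▸ one_mem _) b, fun y hy b => r.n1 (sV hy) (hS.pi.elt hy) b⟩
  have gen : ∀ H, S ≤ H → H ≤ G → A ≤ N(H) → Sol H → H ≤ O(H) ⊔ (H ⊓ N(V)) := fun H l1 l2 nH s =>
    vs_gen vs (hS.of_le l1 l2) (h.mono l2 nH) s ((inf_le_inf_right _ l2).trans Kc_norm)
  have aΩ : A ≤ N(Ω(S)) := nS.trans (norm_le_norm_Ohm1_center 2 S)
  have sC : Sol (G ⊓ C(Ω(S))) := sol_mono (k _ oS o1 aΩ).2 (inf_le_inf_left _ (cent_le_norm _))
  refine ⟨V, v1, ⟨n, H2.GW.syl_isSylowIn p2 hS, le_Kc, lS, ea, nV, sC, ⟨O(G ⊓ C(Ω(S))), Oc_le _ _,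
    fun x hx => ((O_og _).elt hx).coprime_prime p2, Oc_norm _ _, ?_⟩, fun Y l1 l2 nY => ?_,
    fun R l1 l2 => r.le_zj l1 (l2.trans sV)⟩, nS, fun x hx => ?_, fun Y l eY nY x hx o c => ?_,
    fun Y l y1 nY => (k Y l y1 nY).2⟩
  · refine (gen _ (le_inf hS.le (cents_symm ((Ohm1_le _ _).trans inf_le_right))) inf_le_left
      (norms_inf h.n (norms_cent aΩ)) sC).trans (sup_le (norms_of_le le_sup_right)
      (norms_sup inf_le_right (inf_le_left.trans (Oc_norm _ _))))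
  · have sY : S ≤ G ⊓ N(Y) := le_inf hS.le (le_normalizer.trans nY)
    refine (gen _ sY inf_le_left (norms_inf h.n (norms_norm (nS.trans nY)))
      (k Y l2 (ne_bot_mono l1 v1) (nS.trans nY)).2).trans (sup_le ?_ inf_le_right)
    exact (Oc_cents' ⟨l2.trans sY, inf_le_right⟩ (hS.pi.of_le l2)).trans ((cent_mono l1).trans (cent_le_norm _))
  · exact (h.c.coprime_dvd_left (orderOf_dvd_natCard _ hx)).coprime_dvd_right
      ((hS.pi.dvd_of_ne_bot s1).trans (card_dvd hS.le))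
  · exact (h.mono inf_le_left (norms_inf h.n (norms_norm nY))).t4 eY (le_inf (l.trans hS.le) le_normalizer)
      inf_le_right nY hx (PiN.of_coprime o) c

theorem le_syl2 (hT : Syl 2 T H) (h1 : T ≤ M) (h2 : ∀ P, P ≤ H → OG P → P ≤ M) : H ≤ M :=
  le_of_exists_syl fun p _ _ => by
    by_cases e : p = 2
    · exact e ▸ ⟨T, hT, h1⟩
    · obtain ⟨P, hP⟩ := exists_syl p H
      exact ⟨P, hP, h2 P hP.le (hP.pi.sing_ne e)⟩

theorem se_dbl (h : SE Y L) (hT : T ≤ Y) (pT : PG 2 T) (hi : Y.relIndex L = #T + 1)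
    (hg : g ∈ L) (hg' : g ∉ Y) (ha : a ∈ L) (ha' : a ∉ Y) : ∃ x ∈ T, (x * g)⁻¹ * a ∈ Y := by
  have hTL := hT.trans h.le
  let φ : Option T → L ⧸ Y.subgroupOf L := fun o => o.elim (QuotientGroup.mk 1)
    fun x => QuotientGroup.mk ⟨x * g, L.mul_mem (hTL x.2) hg⟩
  have k : ∀ x : T, φ none ≠ φ (some x) := fun x e => hg' (by
    have := QuotientGroup.eq.1 e
    simp only [_root_.inv_one, one_mul, mem_subgroupOf] at this
    exact (Y.mul_mem_cancel_left (hT x.2)).1 this)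
  have inj : Function.Injective φ := by
    rintro (_ | x) (_ | y) e
    · rfl
    · exact (k y e).elim
    · exact (k x e.symm).elim
    · have h1 : ((x : X) * g)⁻¹ * (y * g) ∈ Y := mem_subgroupOf.1 (QuotientGroup.eq.1 e)
      have h2 := zpowers_le.2 (T.mul_mem (T.inv_mem x.2) y.2)
      by_contra hne
      obtain ⟨t, ht, t2⟩ := exists_inv_pg (pT.of_le h2) fun e' => hne (by
        rw [Subtype.ext (inv_mul_eq_one.1 (zpowers_eq_bot.1 e'))])
      have : zpowers ((x : X)⁻¹ * y) ≤ cj g Y := zpowers_le.2 (mem_cj.2 (by convert h1 using 1; group))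
      exact hg' (Y.inv_mem_iff.1 (h.mem _ (hT (h2 ht)) t2 g⁻¹ (L.inv_mem hg) (by simpa using mem_cj.1 (this ht))))
  have bij := inj.bijective_of_nat_card_le (by rw [Finite.card_option]; exact hi.le)
  obtain ⟨_ | x, e⟩ := bij.2 (QuotientGroup.mk ⟨a, ha⟩)
  · exact (ha' (by simpa [mem_subgroupOf] using QuotientGroup.eq.1 e)).elim
  · exact ⟨x, x.2, mem_subgroupOf.1 (QuotientGroup.eq.1 e)⟩

theorem Dx.simple (h : Dx A G) (hG : Sim G) (n : ⊤ ≤ N(G)) (ih : ∀ H, H < G → A ≤ N(H) → Sol H) : False := by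
  have ev : ¬ OG G := fun o => hG.nsol o.sol
  obtain ⟨S, hS, nS⟩ := csyl h.n h.c 2
  have s1 : S ≠ ⊥ := fun e => ev (Hall.pi'_of_eq_bot (e ▸ hS))
  obtain ⟨V, v1, hV, op⟩ := exists_hv h hG n hS nS s1 ih
  have gt := gold hG hV.ea.1 (SCl.of_syl hS hV.le fun a ha g hg => H8.FV.sc1 hV op ha hg) v1
  obtain ⟨v, hv, v2⟩ := exists_inv ev
  obtain ⟨g, hg, c⟩ := celt h.n h.c (w := v) fun a ha => by
    obtain ⟨g, hg, e⟩ := gt.conj hG hv (conj_mem_of_norm (h.n ha) hv) v2 ((orderOf_conj' a v).trans v2)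
    exact ⟨g, hg, e.symm⟩
  have sC := inv_syl_inf_cent h.n h.c.symm (sol_cop h.c) hS nS
  obtain ⟨d, -, ht⟩ := exists_conj_mem sC (mem_inf.2 ⟨mul_mem (mul_mem hg hv) (inv_mem hg), c⟩)
    (mul_self_of_ord2 ((orderOf_conj' g v).trans v2))
  have t2 : orderOf (d * (g * v * g⁻¹) * d⁻¹) = 2 := by rw [orderOf_conj', orderOf_conj', v2]
  generalize d * (g * v * g⁻¹) * d⁻¹ = t at ht t2
  have tG := hS.le ht.1
  have tZ : ¬ G ≤ C[t] := fun l => ne_one_of_ord2 t2 (mem_bot.1 (hG.center ▸ mem_inf.2 ⟨tG, le_cent1_iff.1 l⟩))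
  rcases gt with ⟨Y, hY⟩ | ⟨W, k1, k2⟩ | k
  · obtain ⟨Y, hY, lY⟩ := hY.exists_ge hS
    obtain ⟨k1, k2⟩ := HubSE.out hG.simple hG.nab hY (hS.of_le lY hY.le)
    have k3 : ∀ g ∈ G, g ∈ N(S) → g ∈ Y := fun g hg m => hY.mem t (lY ht.1) t2 g hg (lY (conj_mem_of_norm m ht.1))
    obtain ⟨g, hg, m⟩ := SetLike.exists_of_lt (lt_of_le_of_ne hY.le hY.ne)
    obtain ⟨n, hn, l⟩ := cfix nS (h.c.coprime_dvd_right (card_dvd hS.le)) (L := N(cj g S)) fun a ha => by
      obtain ⟨x, hx, e⟩ := se_dbl hY lY hS.pi k2 hg m (conj_mem_of_norm (h.n ha) hg) fun e => m (k3 g hg (by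
        simpa [mul_assoc] using mul_mem (mul_mem (inv_mem (nS ha)) (k1 e)) (nS ha)))
      refine ⟨x⁻¹, inv_mem hx, mem_norm_iff_cj.2 ?_⟩
      rw [← cj_mul, show x⁻¹ * a * g = g * ((x * g)⁻¹ * (a * g * a⁻¹) * a) by group, cj_mul,
        cj_of_mem_norm (mul_mem (k1 e) (nS ha))]
    have gG := mul_mem (inv_mem (hS.le hn)) hg
    obtain ⟨c, hc, e⟩ := inv_syl_conj h.n h.c.symm (sol_cop h.c) hS nS (hS.Jmem gG) (by
      rw [cj_mul, ← cj_norm]; exact cj_le_iff.1 l)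
    have cY := le_syl2 sC (inf_le_left.trans lY) (fun P lP oP y hy => hY.cent_le (lY ht.1) t2
      ⟨(lP hy).1, h.d t tG ht.2 (pi2 (mul_self_of_ord2 t2)) y (lP hy).1 (lP hy).2 (oP.elt hy)⟩) hc
    rw [cj_of_mem_norm (k1 cY)] at e
    exact m ((Y.mul_mem_cancel_left (inv_mem (lY hn))).1 (k3 _ gG (mem_norm_iff_cj.2 e.symm)))
  · obtain ⟨j, -, rfl⟩ := k2.sconj hS
    have ea := abelem_J k1.ab j
    have c4 : #(cj j W) = 4 := (card_cj _ _).trans k1.card
    generalize cj j W = S at *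
    obtain ⟨x, hx, xS, ne⟩ : ∃ x ∈ G, x * t * x⁻¹ ∈ S ∧ x * t * x⁻¹ ≠ t := by
      by_contra! k
      have := Hub0.zs hS ht.1 k
      rw [hG.O_eq, le_bot_iff, commg_eq_bot] at this
      exact tZ (cent_zpowers t ▸ this)
    obtain ⟨m, hm, e⟩ := burnside hS (ab_cent ea ht.1) hx (ab_cent ea xS)
    have lS : S ≤ G ⊓ N(S) := le_inf hS.le le_normalizer
    have := le_syl2 (hS.of_le lS inf_le_left) (ab_cent ea) (fun P lP oP y hy => op.t4 S le_rfl ea nS y (lP hy)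
      ((oP.elt hy).coprime_prime p2) (c4 ▸ card_le (commg_le_left (zpowers_le.2 (lP hy).2)))) hm
    exact ne (by rw [← e, ← mem_cent.1 this t ht.1]; group)
  · exact k.nsol t tG t2 (ih _ (lt_of_le_of_ne inf_le_left fun e => tZ (e.ge.trans inf_le_right))
      (norms_inf h.n (cent_zpowers t ▸ norms_cent (norms_of_cents (cents_symm (zpowers_le.2 ht.2))))))

theorem main_aux (n : ℕ) : ∀ {X : Type u} [Group X] [Finite X] {A G : Subgroup X}, #G = n → Dx A G → Sol G := by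
  induction n using Nat.strong_induction_on with
  | _ n ih =>
  intro X _ _ A G e h
  subst e
  by_contra s
  have g1 : G ≠ ⊥ := fun e => s (e ▸ sol_of_nil nil_bot)
  have nG := left_normal_sup h.n
  obtain ⟨V, lV, mV⟩ := H18.minnormal_exists g1 nG.norm
  have nV := le_sup_left.trans mV.norm
  have aV := le_sup_right.trans mV.norm
  obtain rfl : V = G := by_contra fun m => s (sol_ext ⟨lV, nV⟩ (ih _ (card_lt (lt_of_le_of_ne lV m)) rfl
    (h.mono lV aV)) (ih _ (card_quo_lt ⟨lV, nV⟩ mV.ne) rfl (h.quo aV nV)))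
  have hS : Sim V := ⟨simple_iff.2 ⟨g1, fun M l n => by_contra fun m => by
    rw [not_or] at m
    obtain ⟨T, lT, mT⟩ := H18.minnormal_exists m.1 n
    have lV := lT.trans l
    have ns := H4.OZ.min_nsol mV h.n s mT lV
    refine ns (ih _ (card_lt (lt_of_le_of_lt lT (lt_of_le_of_ne l m.2))) rfl (h.blk (H := C(T)) lV inf_le_left
      (inf_le_right (a := A)) (H4.OZ.min_center mT ns) fun a ha k => ?_))
    have m' := H4.OZ.MinNormal.cj mT (h.n ha)
    rw [inf_idem]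
    exact cents_symm (cents_of_norms_disjoint ((cj_le_of_mem_norm (h.n ha) lV).trans mT.norm) (lV.trans m'.norm)
      ((mT.min _ inf_le_left (norms_inf mT.norm m'.norm)).resolve_right fun e =>
        k ⟨ha, mem_norm_of_le_cj (e.ge.trans inf_le_right)⟩))⟩, fun a => s (sol_of_ab a)⟩
  have f : Dx (A.subgroupOf (V ⊔ A)) (V.subgroupOf (V ⊔ A)) := by
    simpa [im] using h.map (MonoidHom.id ↥(V ⊔ A)) le_sup_right le_sup_left
  exact f.simple (hS.of_equiv (subgroupOfEquivOfLe le_sup_left).symm)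
    (@normalIn_top _ _ _ nG.subgroupOf).norm fun H l k => ih _ (card_subgroupOf' nG.le ▸ card_lt l) rfl
      (f.mono l.le k)

/-- the main theorem -/
theorem Dx.sol (h : Dx A G) : Sol G := main_aux _ rfl h

theorem s4319 {G : Type u} {A : Type*} [Group A] [Finite A] [Group G] [Finite G] [MulDistribMulAction A G]
    (hcop : (Nat.card G).Coprime (Nat.card A))
    (h : Group.IsNilpotent ↥(FixedPoints.subgroup A G) ∨ Odd (Nat.card ↥(FixedPoints.subgroup A G))) :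
    Group.IsSolvable G := by
  obtain ⟨Z, _, _, ι, ψ, inj, act⟩ := H25.FB.exists_amb (G := G) (A := A)
  have e := MonoidHom.ofInjective inj
  have n : ψ.range ≤ N(ι.range) := by
    rintro _ ⟨a, rfl⟩
    refine mem_norm_of_cj_le fun y hy => ?_
    obtain ⟨_, ⟨g, rfl⟩, rfl⟩ := mem_cj'.1 hy
    exact ⟨_, (act a g).symm⟩
  have f : ∀ g, ι g ∈ C(ψ.range) → g ∈ FixedPoints.subgroup A G := fun g k a => inj ((act a g).symm.trans (by
    rw [mem_cent.1 k _ ⟨a, rfl⟩, mul_inv_cancel_right]))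
  have := Dx.sol (A := ψ.range) (G := ι.range) ⟨n,
    (Nat.card_congr e.toEquiv ▸ hcop.symm).coprime_dvd_left (card_range_dvd _), ?_⟩
  · exact Group.isSolvable_of_isSolvable_injective (f := e.toMonoidHom) e.injective
  rintro _ ⟨x, rfl⟩ cx x2 _ ⟨y, rfl⟩ cy y2
  rw [PiE, orderOf_injective ι inj] at x2 y2
  rw [mem_cent1, ← map_mul, ← map_mul]
  refine congrArg ι (mem_cent1.1 (h.elim (fun k => ?_) fun k => ?_))
  · exact cent_zpowers x ▸ cents_symm (nil_cents_pi k (zpowers_le.2 (f x cx)) (zpowers_le.2 (f y cy))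
      (piG_zpowers.2 x2) (piG_zpowers.2 y2)) (mem_zpowers y)
  · rw [PiN.e_eq_one x2 ((og_iff.2 k).elt (f x cx))]; simp [mem_cent1]

end H8.FU
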