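import Cfsg.Agent.H8.FV2

/-! Strong closure for coprime operator groups, after `H4.SC` (FV3). -/

set_option autoImplicit false
set_option linter.unusedVariables false
set_option linter.unusedSectionVars false
set_option linter.style.haveILetI false

namespace H8.FV
open H9 hiding zj
open Matrix hiding mul_inv_rev
open H29.PU hiding Rk1 Vx Crit crit Am Bad W5 T2 le_C_of_normal
open H4.Bm hiding Gd Gt GV Pa P2 DG St Ds Bt ext no_crit hull step1 phi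
open Cfsg Subgroup H28 H28.GC MatrixGroups H29 H29.BB H4.PV Equiv
open H4.OX (Od od_iff syl_sup syl_mem)
open H4.SC (Tc Nm Bd ext_syl grow Big cj_zj thw mu_key two_of exists_vx nΩ_of adapt0 DG P2 Ds)
open scoped commutatorElement

universe u
variable {X : Type u} [Group X] [Finite X] {A A' B B' C D E E' F G H I J K L L' L₀ L₁ L₂ B₀ M N O P Q R S S' T T' U V W Y : Subgroup X}
  {a b c d e f g h l m n s t u v w x y z : X} {ν : Subgroup X → Subgroup X}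

theorem Gd.cenW (k : Gd G B L) (hx : x ∈ L) (h : x ∈ 𝐂 (𝐖ᵥ L)) : x ∈ 𝐂 (Z₂ L) :=
  centralizer_anti k.vx.Z_le (by
    rw [centralizer_sup]; exact ⟨h, centralizer_anti inf_le_right (le_centralizer_comm.1 le_rfl hx)⟩)

theorem Gd.memQ' (k : Gd G B L) (hx : x ∈ B) (h : x ∈ 𝐂 (𝐖ᵥ L)) : x ∈ O₂ L := k.memQ hx (k.cenW (k.le hx) h)

theorem Gd.QW (k : Gd G B L) : O₂ L ≤ 𝐂 (𝐖ᵥ L) := k.QC.trans (centralizer_anti k.WZ)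

theorem Gd.fix (k : Gd G B L) (hs : s ∈ B) (hz : z ∈ Z₂ L) (h : ⁅s, z⁆ ∈ 𝐂 (O² L)) : s ∈ O₂ L ∨ z ∈ Ω₂ B :=
  or_iff_not_imp_left.2 fun n => k.vx.fix k.syl hs n hz (k.cenE (cm_mem' (A := B) (k.le.trans k.nZ) hs hz) h)

theorem Gd.one (k : Gd G B L) (hs : s ∈ B) (hz : z ∈ Z₂ L) (h : ⁅s, z⁆ ∈ 𝐂 (O² L)) : ⁅s, z⁆ = 1 :=
  k.vx.comm_eq_one k.syl hs hz (k.cenE (cm_mem' (A := B) (k.le.trans k.nZ) hs hz) h)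

theorem Gd.tcU (k : Gd G B L) (hT : IsSylowIn 2 T G) (l : B ≤ T) : Tc G (𝐖ᵥ L ⊔ Ω₂ T) ∧ 𝐖ᵥ L ⊔ Ω₂ T ≤ Z₂ L ∧
    L ≤ 𝐍 (𝐖ᵥ L ⊔ Ω₂ T : Subgroup X) :=
  have l1 := sup_le k.WZ ((k.ΩΩ hT l).trans k.ΩZ)
  ⟨⟨k.pg.to_le (l1.trans k.ZB), l1.trans (k.ZB.trans k.BG), T, hT, le_sup_right⟩, l1, H28.le_normalizer_of_commutator_le
    ((commutator_mono l1 le_rfl).trans (k.ZL.trans le_sup_left)) le_rfl⟩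

theorem Gd.ZB' (k : Gd G B L) (e : JJ 2 B₀ = JJ 2 B) : Z₂ L ≤ B₀ := k.ZJ.trans (e.ge.trans (JJ_le 2 B₀))

theorem Gd.JQ (k : Gd G B L) : JJ 2 (O₂ L) ≤ N ↔ ∀ A, MaxAb 2 B A → A ≤ O₂ L → A ≤ N := by
  obtain ⟨A, hA, n⟩ := k.off
  have l : A ⊓ O₂ L ⊔ Z₂ L ≤ O₂ L := sup_le inf_le_right k.ZQ
  exact JJ_le_iff.trans ⟨fun h C a b => h C (a.mono b k.QB), fun h C a => h C (a.of_le_of_mem k.QB (k.max hA n) l) a.le⟩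

theorem Gd.eqZ (k : Gd G B L) (k' : Gd G B L') (e : O₂ L = O₂ L') : Z₂ L = Z₂ L' :=
  le_antisymm (fun z hz => k'.mem_Z (k.ZB hz) (e ▸ k.ZC hz) (sq_of_ea k.ea hz))
    fun z hz => k.mem_Z (k'.ZB hz) (e ▸ k'.ZC hz) (sq_of_ea k'.ea hz)

/-- pairs -/
structure Pa (G T B L₁ L₂ : Subgroup X) : Prop where
  syl : IsSylowIn 2 T G
  BT : B ≤ T
  k₁ : Gd G B L₁
  k₂ : Gd G B L₂
  nc : ¬ Z₂ L₁ ≤ O₂ L₂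

namespace Pa
variable (r : Pa G T B L₁ L₂)
include r

theorem cr : Crit 2 L₁ B L₂ B := crit r.k₁.vx r.k₂.vx r.k₁.syl r.k₂.syl r.k₁.ZB r.k₂.ZB r.nc
theorem symm : Pa G T B L₂ L₁ := ⟨r.syl, r.BT, r.k₂, r.k₁, r.cr.not_le r.k₁.vx r.k₁.syl⟩
theorem conj (g : X) : Pa G (cj g T) (cj g B) (cj g L₁) (cj g L₂) :=
  ⟨r.syl.conj_of_mem_normalizer (r.k₁.nG (mem_top g)), cj_mono g r.BT, r.k₁.conj g, r.k₂.conj g, by rw [← cj_Z, ← cj_pCoreOf, cj_le_cj]; exact r.nc⟩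
theorem p1 : P1 2 L₁ B := r.cr.symm.p1 r.k₂.vx r.k₁.vx r.k₂.syl r.k₁.syl
theorem blk : ⁅O₂ L₁, O² L₁⁆ ≤ 𝐖ᵥ L₁ := let ⟨_, _, _, h⟩ := p1_p0 r.p1 r.k₁.rk r.k₁.syl; comm_res_le h
theorem sqC (h : a ∈ O₂ L₁) : a * a ∈ 𝐂 (O² L₁) := sq_cen r.k₁.QW (fun w hw => sq_of_ea r.k₁.ea (r.k₁.WZ hw)) r.blk h
theorem RR (h1 : a ∈ O₂ L₁) (h2 : b ∈ O₂ L₁) : ⁅a, b⁆ ∈ 𝐂 (O² L₁) := by
  have h : ⁅⁅O₂ L₁, O² L₁⁆, O₂ L₁⁆ = ⊥ := commutator_eq_bot_iff.2 (r.blk.trans (le_centralizer_comm.1 r.k₁.QW))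
  exact commutator_eq_bot_iff.1 (three h (by rwa [comm_comm (O² L₁)])) (commutator_mem_commutator h1 h2)
theorem eY : ⁅Z₂ L₁, B⁆ = ⁅Z₂ L₂, B⁆ := r.cr.comm_eq r.k₁.vx r.k₂.vx r.k₁.syl r.k₂.syl
theorem eY' : ⁅Z₂ L₁, B⁆ = ⁅Z₂ L₁, Z₂ L₂⁆ := r.cr.comm r.k₁.vx r.k₁.syl
theorem memΩ (h1 : z ∈ Z₂ L₁) (h2 : z ∈ O₂ L₂) : z ∈ Ω₂ B := r.cr.inf.le ⟨h1, h2⟩
theorem ΩQ : Ω₂ B ≤ O₂ L₁ := r.k₁.ΩZ.trans r.k₁.ZQ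
theorem supW : 𝐖ᵥ L₂ ⊔ O₂ L₁ = B := le_antisymm (sup_le (r.k₂.WZ.trans r.k₂.ZB) r.k₁.QB) (r.cr.sup.ge.trans (sup_le
  (r.k₂.vx.Z_le.trans (sup_le_sup_left ((r.k₂.vx.C_le_Ω r.k₂.syl).trans r.ΩQ) _)) le_sup_right))
theorem WQ : ¬ 𝐖ᵥ L₂ ≤ O₂ L₁ := fun e => r.k₁.rk.ne r.k₁.syl (r.supW.ge.trans (sup_le e le_rfl))
theorem nc' : ¬ 𝐖ᵥ L₂ ≤ 𝐂 (𝐖ᵥ L₁) := fun e => r.WQ fun x hx => r.k₁.memQ' (r.k₂.ZB (r.k₂.WZ hx)) (e hx)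
theorem decB (hb : b ∈ B) : ∃ w ∈ 𝐖ᵥ L₂, ∃ q ∈ O₂ L₁, w * q = b :=
  (mem_sup_of_le_normalizer ((r.k₂.WZ.trans r.k₂.ZB).trans (r.k₁.le.trans r.k₁.nQ))).1 (r.supW.ge hb)
theorem decB' (hb : b ∈ B) : ∃ w₂ ∈ 𝐖ᵥ L₂, ∃ w₁ ∈ 𝐖ᵥ L₁, ∃ q ∈ O₂ L₁ ⊓ O₂ L₂, w₂ * (w₁ * q) = b := by
  obtain ⟨w, hw, q, hq, rfl⟩ := r.decB hb
  obtain ⟨w', hw', q', hq', rfl⟩ := r.symm.decB (r.k₁.QB hq)
  exact ⟨w, hw, w', hw', q', ⟨(mul_mem_cancel_left (r.k₁.ZQ (r.k₁.WZ hw'))).1 hq, hq'⟩, rfl⟩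

theorem inv3 (h2 : a ∈ 𝐖ᵥ L₂) (h1 : b ∈ 𝐖ᵥ L₁) (h : c ∈ O₂ L₁) (h' : c ∈ 𝐂 (𝐖ᵥ L₂))
    (e : a * (b * c) * (a * (b * c)) = 1) : a * (b * c) ∈ 𝐂 (𝐖ᵥ L₁) ∨ a * (b * c) ∈ 𝐂 (𝐖ᵥ L₂) := by
  rw [sq3 (sq_of_ea r.k₂.ea (r.k₂.WZ h2)) (sq_of_ea r.k₁.ea (r.k₁.WZ h1)) (mem_centralizer'.1 h' a h2)
    (mem_centralizer'.1 (r.k₁.QW h) b h1)] at e
  exact (r.k₁.fix (r.k₂.ZB (r.k₂.WZ h2)) (r.k₁.WZ h1) ((mul_mem_cancel_right (r.sqC h)).1 (e ▸ one_mem _))).imp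
    (fun k => mul_mem (r.k₁.QW k) (mul_mem (r.k₁.QW (r.k₁.ZQ (r.k₁.WZ h1))) (r.k₁.QW h)))
    fun k => mul_mem (r.k₂.QW (r.k₂.ZQ (r.k₂.WZ h2))) (mul_mem (r.k₂.QW (r.symm.ΩQ k)) h')

theorem inv_or (hb : b ∈ B) (e : b * b = 1) : b ∈ O₂ L₁ ∨ b ∈ O₂ L₂ := by
  obtain ⟨a, h2, w, h1, c, hc, rfl⟩ := r.decB' hb
  exact (r.inv3 h2 h1 hc.1 (r.k₂.QW hc.2) e).imp (r.k₁.memQ' hb) (r.k₂.memQ' hb)

theorem ea_or (hA : IsElementaryAbelian 2 A) (h : A ≤ B) : A ≤ O₂ L₁ ∨ A ≤ O₂ L₂ :=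
  le_of_two fun a ha => r.inv_or (h ha) (sq_of_ea hA ha)

theorem max_or (hA : MaxAb 2 B A) : Z₂ L₁ ≤ A ∨ Z₂ L₂ ≤ A :=
  (r.ea_or hA.ea hA.le).imp (r.k₁.Z_le_max hA) (r.k₂.Z_le_max hA)

theorem pu1 (k₀ : Gd G B₀ L₀) (e : JJ 2 B₀ = JJ 2 B) (n : ¬ Z₂ L₁ ≤ O₂ L₀) :
    ¬ Z₂ L₀ ≤ O₂ L₁ ∧ O₂ L₂ ⊓ B₀ ≤ O₂ L₀ := by
  have c := crit r.k₁.vx k₀.vx r.k₁.syl k₀.syl (r.k₁.ZB' e) (k₀.ZB' e.symm) n
  have n' := c.not_le r.k₁.vx r.k₁.syl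
  have z := (r.ea_or k₀.ea (k₀.ZB' e.symm)).resolve_left n'
  refine ⟨n', fun u hu => k₀.memQ hu.2 (mem_cen_iff.2 fun x hx => ?_)⟩
  have h1 := r.symm.RR (z hx) hu.1
  obtain ⟨w, hw, q, hq, rfl⟩ := (mem_sup_of_le_normalizer ((r.k₁.ZB' e).trans (k₀.le.trans k₀.nQ))).1 (c.sup'.ge hu.2)
  rw [comm_mul_right, mem_cen_iff.1 (k₀.QC hq) x hx, mul_one, mul_inv_cancel, mul_one] at h1 ⊢
  obtain ⟨a, ha, b, hb, rfl⟩ := r.decB (k₀.ZB' e.symm hx)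
  rw [comm_mul_left, ← commutatorElement_inv w b, mem_cen_iff.1 (r.k₁.QC hb) w hw, inv_one, mul_one, mul_inv_cancel,
    one_mul, ← commutatorElement_inv] at h1 ⊢
  rw [r.k₂.one (r.k₁.ZB hw) (r.k₂.WZ ha) (inv_mem_iff.1 h1), inv_one]

theorem pu (k₀ : Gd G B₀ L₀) (e : JJ 2 B₀ = JJ 2 B) (l0 : B₀ ≤ T) (n : ¬ Z₂ L₁ ≤ O₂ L₀) :
    B₀ = B ∧ O₂ L₀ = O₂ L₂ ∧ Z₂ L₀ = Z₂ L₂ := by
  obtain ⟨n', l⟩ := r.pu1 k₀ e n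
  have eJ : JJ 2 (O₂ L₀) = JJ 2 (O₂ L₂) := le_antisymm
    (k₀.JQ.2 fun A a b => ((maxJ e.symm a).mono ((r.ea_or a.ea (maxJ e.symm a).le).resolve_left fun c =>
      n' ((k₀.Z_le_max a b).trans c)) r.k₂.QB).le_JJ)
    (r.k₂.JQ.2 fun A a b => ((maxJ e a).mono ((le_inf b (maxJ e a).le).trans l) k₀.QB).le_JJ)
  have k := r.k₂
  have QB : zj 2 (O₂ L₂) ≤ B := zj_le.trans k.QB
  have tc : Tc G (zj 2 (O₂ L₂)) := k.tcZ.mono (k.pg.to_le QB) ((le_omegaOneCenter k.ZQ k.ZC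
    fun x hx => sq_pow (sq_of_ea k.ea hx)).trans (Ω_le_zj dvd_rfl)) (QB.trans k.BG)
  have n0 : L₀ ≤ 𝐍 (zj 2 (O₂ L₂)) := by rw [zj, ← eJ]; exact nrm_zj k₀.nQ
  have p := r.syl.isPGroup.to_le (inf_le_left : T ⊓ 𝐍 (zj 2 (O₂ L₂)) ≤ T)
  obtain rfl := (k₀.amb tc n0 p (le_inf l0 (k₀.le.trans n0)) (inf_le_left.trans r.syl.le) inf_le_right).symm.trans
    (k.amb tc (nrm_zj k.nQ) p (le_inf r.BT (k.le.trans (nrm_zj k.nQ))) (inf_le_left.trans r.syl.le) inf_le_right)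
  have := le_antisymm ((le_inf le_rfl k₀.QB).trans (Pa.pu1 ⟨r.syl, r.BT, r.k₁, k₀, n⟩ k rfl r.nc).2)
    ((le_inf le_rfl k.QB).trans l)
  exact ⟨rfl, this, k₀.eqZ k this⟩

theorem sw (hx : x ∈ 𝐍 (JJ 2 B)) (l : cj x B ≤ T) (c : ¬ Z₂ L₁ ≤ O₂ (cj x L₁)) :
    x ∈ 𝐍 B ∧ cj x (Z₂ L₁) = Z₂ L₂ ∧ cj x (Z₂ L₂) = Z₂ L₁ := by
  have r' := r.conj x
  have e : JJ 2 (cj x B) = JJ 2 B := by rw [← cj_JJ, cj_eq_self hx]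
  obtain ⟨a, -, b⟩ := r.pu r'.k₁ e l c
  exact ⟨mem_normalizer_iff_cj.2 a, (cj_Z x _).trans b, (cj_Z x _).trans
    (r'.pu r.k₁ e.symm (a.ge.trans r'.BT) (b.symm ▸ r.symm.nc)).2.2.symm⟩

theorem st (hx : x ∈ 𝐍 (JJ 2 B)) (l : cj x B ≤ T) (hY : ¬ cj x ⁅Z₂ L₁, B⁆ ≤ 𝐂 (O² L₁)) :
    x ∈ 𝐍 B ∧ (x ∈ 𝐍 (Z₂ L₁) ⊓ 𝐍 (Z₂ L₂) ∨ cj x (Z₂ L₁) = Z₂ L₂ ∧ cj x (Z₂ L₂) = Z₂ L₁) := by
  by_cases c : Z₂ L₁ ≤ O₂ (cj x L₁)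
  swap
  · exact (r.sw hx l c).imp_right .inr
  have r' := r.conj x
  have e : JJ 2 (cj x B) = JJ 2 B := by rw [← cj_JJ, cj_eq_self hx]
  have zq : ∀ {L₀}, Gd G (cj x B) L₀ → Z₂ L₁ ≤ O₂ L₀ → Z₂ L₀ ≤ O₂ L₁ := fun k₀ h =>
    r.k₁.leQ (k₀.ZB' e.symm) (k₀.ZC.trans (centralizer_anti h))
  by_cases c' : Z₂ L₁ ≤ O₂ (cj x L₂)
  · refine (hY ?_).elim
    rw [cj_commutator, cj_Z, r'.eY']
    exact commutator_le.2 fun a ha b hb => r.RR (zq r'.k₁ c ha) (zq r'.k₂ c' hb)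
  obtain ⟨a, -, b⟩ := r.pu r'.k₂ e l c'
  exact ⟨mem_normalizer_iff_cj.2 a, .inl ⟨mem_normalizer_iff_cj.2 ((cj_Z x _).trans
    (r'.symm.pu r.k₁ e.symm (a.ge.trans r'.BT) (b.symm ▸ r.symm.nc)).2.2.symm),
    mem_normalizer_iff_cj.2 ((cj_Z x _).trans b)⟩⟩

theorem adapt : ∃ K : Subgroup X, (∀ n ∈ T ⊓ 𝐂 (𝐖ᵥ L₁), n * n ∈ K) ∧
    (∀ n ∈ T ⊓ 𝐂 (𝐖ᵥ L₁), ∀ m ∈ T ⊓ 𝐂 (𝐖ᵥ L₁), ⁅n, m⁆ ∈ K) ∧ 𝐖ᵥ L₁ ⊓ K ≤ 𝐂 (O² L₁) := by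
  have k := r.k₁
  obtain ⟨u1, u2, u3⟩ := k.tcU r.syl r.BT
  have TC : T ≤ 𝐂 (Ω₂ T) := le_centralizer_omegaOneCenter 2 T
  have DU : T ⊓ 𝐂 (𝐖ᵥ L₁) ≤ 𝐂 (𝐖ᵥ L₁ ⊔ Ω₂ T : Subgroup X) := by
    rw [centralizer_sup]; exact le_inf inf_le_right (inf_le_left.trans TC)
  have s := H19.sol_mono (k.sol r.syl) (inf_le_inf inf_le_left (centralizer_anti le_sup_right) :
    G ⊓ 𝐍 (𝐖ᵥ L₁ ⊔ Ω₂ T : Subgroup X) ⊓ 𝐂 (𝐖ᵥ L₁ ⊔ Ω₂ T : Subgroup X) ≤ _)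
  have WU : 𝐖ᵥ L₁ ≤ 𝐖ᵥ L₁ ⊔ Ω₂ T := le_sup_left
  generalize 𝐖ᵥ L₁ ⊔ Ω₂ T = U at u1 u2 u3 DU s WU
  obtain ⟨R, hR, lR⟩ := exists_isSylowIn_ge (r.syl.isPGroup.to_le inf_le_left) (inf_le_inf_right (𝐍 U) r.syl.le)
  have e := k.amb u1 u3 hR.isPGroup ((le_inf r.BT (k.le.trans u3)).trans lR) (hR.le.trans inf_le_left)
    (hR.le.trans inf_le_right)
  obtain ⟨f, hf, o⟩ := k.oppE
  obtain ⟨K, a, b, c⟩ := adapt0 hR (e ▸ nrm_bm le_normalizer) u1.1 (le_inf u1.2.1 le_normalizer) inf_le_right s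
    (fun w hw => sq_of_ea k.ea (k.WZ hw)) WU (k.EL hf) o (le_inf k.LG u3) k.syl
    ((le_inf inf_le_left (DU.trans (centralizer_le_normalizer _))).trans lR) DU
    (le_normalizer_inf (le_normalizer_of_le r.BT) (le_normalizer_centralizer (k.le.trans k.nW)))
    (fun N h1 b h2 h3 h4 => (em (b ∈ O₂ L₁)).imp (fun c => p1_res_inf r.p1 k.vx k.syl ⟨h4, c⟩)
      fun c => k.res_le h1 h3 c h2)
    fun c => k.not_Y ((k.YW.trans WU).trans (le_centralizer_comm.1 c))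
  exact ⟨K, a, b, (inf_le_inf_right _ WU).trans c⟩

end Pa

/-- operator hypotheses -/
structure Op (G T A : Subgroup X) : Prop where
  nT : A ≤ 𝐍 T
  od : Od A
  t4 : ∀ Y ≤ T, IsElementaryAbelian 2 Y → A ≤ 𝐍 Y → ∀ x ∈ G ⊓ 𝐍 Y, (orderOf x).Coprime 2 →
    # ↥⁅Y, zpowers x⁆ ≤ 4 → x ∈ 𝐂 Y
  sol : ∀ Y ≤ T, Y ≠ ⊥ → A ≤ 𝐍 Y → Group.IsSolvable ↥(G ⊓ 𝐍 Y)

theorem P2.false (r : P2 G T B L₁ L₂ z) (o : Op G T A) : False := by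
  obtain ⟨v, hv, n1⟩ := r.exW
  have k : DG G T z v := ⟨_, _, _, r, hv, n1⟩
  have k₁ := r.k₁
  obtain ⟨l, ρ, s⟩ := k.ds
  have cj' : ∀ g ∈ A, Ds G T (g * z * g⁻¹) (g * l * g⁻¹) (g * v * g⁻¹) (g * ρ * g⁻¹) := fun g hg => by
    simpa only [cj_eq_self (o.nT hg)] using s.conj' g
  have j : ∀ {z l a ρ z' l' a' ρ'}, Ds G T z l a ρ → Ds G T z' l' a' ρ' → JJ 2 (T ⊓ 𝐜 z') ≤ 𝐜 z := fun s s' =>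
    s'.JT ▸ s.JT.le.trans ((JJ_le 2 _).trans inf_le_right)
  have WQ := k₁.WZ.trans k₁.ZQ
  have key : ∀ g ∈ A, cj g (𝐖ᵥ L₁) ≤ O₂ L₁ := fun g hg => by
    suffices g * v * g⁻¹ ∈ O₂ L₁ ∧ g * z * g⁻¹ ∈ O₂ L₁ from cj_le_iff.2 (r.Wle hv n1
      (by rw [mem_cj, inv_inv]; exact this.1) (by rw [mem_cj, inv_inv]; exact this.2))
    have s' := cj' g hg
    by_cases n : g * z * g⁻¹ = z
    · rw [n] at s' ⊢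
      refine ⟨?_, WQ r.zW⟩
      have dg : ∀ μ ∈ zpowers l, v * (g * (v * μ) * g⁻¹) ∈ zpowers l := fun μ hμ => s.all _ (by
        simpa only [cj_eq_self (o.nT hg), n] using (s.dg μ hμ).conj g)
      have d1 := mul_one v ▸ dg 1 (one_mem _)
      have nl : g ∈ 𝐍 (zpowers l) := mem_normalizer_of_cj_le (by
        have := dg l (mem_zpowers l)
        rw [← conj_mul, ← mul_assoc, mul_mem_cancel_left d1] at this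
        rw [cj_zpowers, zpowers_le]; exact this)
      rw [H8.FU.dih_fix (v := v) (H19.PiN.of_coprime (o.od g hg)) (H19.PiN.of_isPGroup Nat.prime_two (s.da.pg.to_le s.lT)) nl s.zl
        k.z1 (mem_c_symm.1 (mem_c''.2 n)) (by
          have := conj_mem_of_mem_normalizer' s.aN d1
          rw [k.vi]; rwa [inv_mul_cancel_left] at this)]
      exact WQ hv
    have c : ∀ {u}, DG G T (g * z * g⁻¹) u → u ∈ 𝐜 v := fun d =>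
      s.comm2 (s'.reb' d) (Ne.symm n) (j s s' (s'.memJ d)) (j s' s (s.lJ s.hρ))
    have cρ := (mul_mem_cancel_left (c s'.da)).1 (c (s'.dg _ s'.hρ))
    have zz := j s s' (s'.lJ s'.zl)
    set S := T ⊓ 𝐜 z ⊓ 𝐜 (g * z * g⁻¹) with hS
    have JS : JJ 2 T ≤ S := le_inf (le_inf (JJ_le 2 T) (s.JT ▸ j s s)) (s.JT ▸ j s' s)
    have ST : S ≤ T := inf_le_left.trans inf_le_left
    obtain ⟨A₀, h0⟩ := exists_maxAb 2 S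
    obtain ⟨A₁, h1, v1, -⟩ := s.mx h0 inf_le_left ⟨⟨k.vT, k.vz⟩, j s' s (s.memJ k)⟩
    obtain ⟨A₂, h2, v2, l2⟩ := s'.mx h1 (inf_le_inf_right _ inf_le_left) ⟨⟨s'.da.vT, j s s' (s'.memJ s'.da)⟩, s'.da.vz⟩
    have v3 := l2 ⟨v1, mem_c_symm.1 cρ⟩
    have z1 := h2.mem_of_mem_centralizer ⟨⟨k.zT, self_mem_c z⟩, mem_c_symm.1 zz⟩ (sq_pow k.zz)
      (le_c_iff.1 (h2.le.trans (inf_le_left.trans inf_le_right)))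
    have z2 := h2.mem_of_mem_centralizer ⟨⟨s'.da.zT, zz⟩, self_mem_c _⟩ (sq_pow s'.da.zz)
      (le_c_iff.1 (h2.le.trans inf_le_right))
    have cW : A₂ ≤ 𝐂 (𝐖ᵥ L₁) := h2.comm.trans (centralizer_anti (r.Wle hv n1 v3 z1))
    have lR : A₂ ≤ T ⊓ 𝐍 (𝐖ᵥ L₁) := le_inf (h2.le.trans ST) (cW.trans (centralizer_le_normalizer _))
    have AB : A₂ ≤ B := (((maxAb_iff_of_JJ_le JS ST).1 h2).mono lR inf_le_left).le_JJ.trans (JJ_le_bm.trans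
      (k₁.bmN r.syl (le_inf r.BT (k₁.le.trans k₁.nW)) inf_le_left inf_le_right).le)
    exact ⟨k₁.memQ' (AB v2) (cW v2), k₁.memQ' (AB z2) (cW z2)⟩
  set Y := nclIn (𝐖ᵥ L₁) A
  have YQ : Y ≤ O₂ L₁ := nclIn_le_iff.2 key
  have WY : 𝐖ᵥ L₁ ≤ Y := le_nclIn _ _
  have cY : ⁅Y, O² L₁⁆ ≤ 𝐖ᵥ L₁ := (commutator_mono YQ le_rfl).trans r.blk
  have eaW := ea_of_le k₁.ea k₁.WZ
  have ea : IsElementaryAbelian 2 Y := ea_iSup (fun g : A => ea_cj eaW g) fun g a => by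
    have := cj_mono (a : X) ((key _ (mul_mem (inv_mem a.2) g.2)).trans k₁.QW)
    rwa [cj_cj, mul_inv_cancel_left, cj_centralizer] at this
  have c4 : # (𝐖ᵥ L₁) ≤ 4 := (card_le_of_le' (r.Wle hv n1 (H := zpowers v ⊔ zpowers z) (mem_sup_left (mem_zpowers v))
    (mem_sup_right (mem_zpowers z)))).trans (H8.FU.card_four k.vv k.zz k.vz)
  refine k₁.not_Y (k₁.YW.trans (WY.trans (le_centralizer_comm.1 (pResidualOf_le_iff.2 fun x hx od => ?_))))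
  have m := mem_pResidualOf hx od
  exact o.t4 Y (YQ.trans (k₁.QB.trans r.BT)) ea (le_normalizer_nclIn _ _) x ⟨k₁.LG hx,
    H29.le_normalizer_of_commutator_le (cY.trans WY) m⟩ od ((card_le_of_le' ((commutator_mono le_rfl
      (zpowers_le.2 m)).trans cY)).trans c4)

end H8.FV
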