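import Cfsg.Agent.H8.FV3

/-! Strong closure for coprime operator groups, after `H4.SC` (FV4). -/

set_option autoImplicit false
set_option linter.unusedVariables false
set_option linter.unusedSectionVars false
set_option linter.style.haveILetI false

namespace H8.FV
open H9 hiding zj
open Matrix hiding mul_inv_rev
open H29.PU hiding Rk1 Vx Crit crit Am Bad W5 T2 le_C_of_normal
open H4.Bm hiding Gd Gt GV Pa P2 DG St Ds Bt ext no_crit hull step1 phi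
open Cfsg Subgroup H28 H28.GC MatrixGroups H29 H29.BB H4.PV Equiv
open H4.OX (Od od_iff syl_sup syl_mem)
open H4.SC (Tc Nm Bd ext_syl grow Big cj_zj thw mu_key two_of exists_vx nΩ_of adapt0 DG P2 Ds)
open scoped commutatorElement

universe u
variable {X : Type u} [Group X] [Finite X] {A A' B B' C D E E' G H I J K L L' L₀ L₁ L₂ B₀ M N O P Q R S S' T T' U V W Y : Subgroup X}
  {a b d e f g h l m n s t u v w x y z : X} {ν : Subgroup X → Subgroup X}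

variable {F : Type} [Field F] {φ : X → F} {κ μ : F}

/-- `x` acts on the coordinate `φ` as the scalar `κ` -/
def Sc (φ : X → F) (U : Subgroup X) (x : X) (κ : F) : Prop := ∀ u ∈ U, φ (x * u * x⁻¹) = κ * φ u

theorem Sc.mul (h1 : Sc φ U a κ) (h2 : Sc φ U b μ) (n : b ∈ 𝐍 U) : Sc φ U (a * b) (κ * μ) := fun u hu => by
  rw [show a * b * u * (a * b)⁻¹ = a * (b * u * b⁻¹) * a⁻¹ by group, h1 _ (conj_mem_of_mem_normalizer n hu), h2 u hu,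
    mul_assoc]

theorem Sc.inv (h : Sc φ U a κ) (n : a ∈ 𝐍 U) (h0 : κ ≠ 0) : Sc φ U a⁻¹ κ⁻¹ := fun u hu => by
  have := h _ (conj_mem_of_mem_normalizer (inv_mem n) hu)
  rw [show a * (a⁻¹ * u * a⁻¹⁻¹) * a⁻¹ = u by group] at this
  rw [this, inv_mul_cancel_left₀ h0]

theorem Sc.pow (h : Sc φ U a κ) (n : a ∈ 𝐍 U) (i : ℕ) : Sc φ U (a ^ i) (κ ^ i) := by
  induction i with
  | zero => intro u hu; simp
  | succ i ih => rw [pow_succ, pow_succ]; exact ih.mul h n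

theorem odd_cen (o : (orderOf x).Coprime 2) (p : IsPGroup 2 W) (c : x ∈ 𝐂 W) (h : ∀ u ∈ U, x * u * x⁻¹ * u⁻¹ ∈ W) :
    x ∈ 𝐂 U := mem_centralizer'.2 fun u hu => (mul_inv_eq_iff_eq_mul.1 (mul_inv_eq_one.1 (H8.FU.stab2 (y := u)
  (H19.PiN.of_coprime o) ((H19.PiN.of_isPGroup Nat.prime_two p).elt (h u hu)).compl_compl (cen_le_c (h u hu) c)
    (by group)))).symm

/-- coordinates -/
structure Co (F : Type) [Field F] (B L : Subgroup X) where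
  α : X → F
  η : X → F
  τ : X → F
  g : X
  μ : Fˣ
  c2 : (2 : F) = 0
  αm : ∀ u ∈ Z₂ L, ∀ v ∈ Z₂ L, α (u * v) = α u + α v
  α0 : ∀ u ∈ Z₂ L, α u = 0 ↔ u ∈ Ω₂ B
  αs : ∀ a, ∃ u ∈ Z₂ L, α u = a
  ηm : ∀ u ∈ Z₂ L, ∀ v ∈ Z₂ L, η (u * v) = η u + η v
  η0 : ∀ u ∈ Ω₂ B, η u = 0 ↔ u ∈ 𝐂 L
  τm : ∀ u ∈ B, ∀ v ∈ B, τ (u * v) = τ u + τ v
  τ0 : ∀ u ∈ B, τ u = 0 ↔ u ∈ O₂ L
  τs : ∀ a, ∃ u ∈ B, τ u = a
  br : ∀ b ∈ B, ∀ u ∈ Z₂ L, η ⁅b, u⁆ = τ b * α u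
  gL : g ∈ L
  gB : g ∈ 𝐍 B
  od : (orderOf g).Coprime 2
  gen : ∀ a : F, a ≠ 0 → ∃ i : ℕ, (μ : F) ^ i = a
  gα : Sc α (Z₂ L) g (μ : F)⁻¹
  gη : Sc η (Ω₂ B) g μ
  gτ : Sc τ B g (μ ^ 2)

theorem Gd.co (k : Gd G B L) (blk : ⁅O₂ L, O² L⁆ ≤ Z₂ L) : ∃ (F : Type) (_ : Field F) (_ : Fintype F),
    # B = Fintype.card F * # (O₂ L) ∧ (4 ≤ # F → ¬ Group.IsSolvable (O² L)) ∧ Nonempty (Co F B L) := by
  have sy := k.syl
  obtain ⟨S', -, -, F, _, _, hF, ⟨N⟩⟩ := k.vx.ns' sy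
  refine ⟨F, inferInstance, inferInstance, hF, fun h4 s => ?_, ?_⟩
  · have : Group.IsSolvable SL(2, F) := Group.isSolvable_of_surjective (f := N.hom.comp (inclusion k.EL)) fun a =>
      let ⟨e, he, h⟩ := N.res_surj h4 a; ⟨⟨e, he⟩, h⟩
    have : Nontrivial SL(2, F) := ⟨⟨H13.SL2.x 1, 1, by rw [Ne, H13.SL2.x_eq_one]; exact one_ne_zero⟩⟩
    exact (Group.IsSolvable.commutator_lt_top_of_nontrivial SL(2, F)).ne (R_top h4)
  have c2 : (2 : F) = 0 := by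
    obtain ⟨s, hs, e⟩ := N.up' 1
    have := (N.inj _ (pow_mem hs 2)).2 (k.rk.pow sy hs)
    rwa [N.π_pow (sy.le hs), e, x_pow, H13.SL2.x_eq_one, mul_one] at this
  have up : ∀ b ∈ B, N.π b = H13.SL2.x (N.π b 0 1) := fun b hb => let ⟨t, e⟩ := N.up b hb; by rw [e]; simp
  obtain ⟨ν, hν⟩ := IsCyclic.exists_generator (α := Fˣ)
  obtain ⟨g, hg, e⟩ := N.π_surj (mk2 (ν : F) 0 0 (ν⁻¹ : Fˣ) (by simp))
  obtain ⟨f, hf, ef⟩ := (k.opp blk (sy.conj_of_mem hg)).resolve_left fun o => k.not_Y (k.YΩ.trans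
    (le_centralizer_comm.1 (k.EL.trans (o.ge.trans (sup_le (le_centralizer_omegaOneCenter 2 B) (by
      rw [← cj_eq_self (nΩ_of k.vx sy N hg (by rw [e]; rfl)), ← cj_centralizer]
      exact cj_mono g (le_centralizer_omegaOneCenter 2 B)))))))
  replace hf := mem_inf.1 hf
  have f1 : N.π f = 1 := (N.kerπ f hf.1).2 fun v hv => mem_bot.2 (mem_c_comm'.1 (cen_le_c (k.ZQ hv) hf.2))
  have gB : f⁻¹ * g ∈ 𝐍 B := mem_normalizer_iff_cj.2 (by rw [← cj_cj, ← ef, cj_inv_cj])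
  replace e : N.π (f⁻¹ * g) = mk2 (ν : F) 0 0 (ν⁻¹ : Fˣ) (by simp) := by
    rw [N.π_mul _ (inv_mem hf.1) _ hg, N.π_inv hf.1, f1, inv_one, one_mul, e]
  replace hg := mul_mem (inv_mem hf.1) hg
  generalize f⁻¹ * g = g at hg e gB
  obtain ⟨j, o⟩ := exists_pow_coprime (p := 2) (isOfFinOrder_of_finite g)
  have od : (2 ^ j).Coprime (orderOf ν) := by
    rw [orderOf_eq_card_of_forall_mem_zpowers hν, Nat.card_units, Nat.card_eq_fintype_card]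
    have := FiniteField.even_card_of_char_two (F := F) (CharP.ringChar_of_prime_eq_zero Nat.prime_two c2)
    have := Fintype.card_pos (α := F)
    exact Nat.Coprime.pow_left _ ((Nat.coprime_two_left).2 (Nat.odd_iff.2 (by omega)))
  have ψ := fun v hv => N.equi g hg v hv
  refine ⟨⟨fun u => N.ψ u 1, fun u => N.ψ u 0, fun b => N.π b 0 1, g ^ 2 ^ j, ν ^ 2 ^ j, c2,
    fun u hu v hv => by rw [N.mul u hu v hv]; rfl, fun u hu => (k.vx.mem_Ω_iff sy N hu).symm,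
    fun a => let ⟨v, hv, e⟩ := N.onto ![0, a]; ⟨v, hv, by simp [e]⟩, fun u hu v hv => by rw [N.mul u hu v hv]; rfl,
    fun u hu => ⟨fun c => (N.mem_C_iff (k.ΩZ hu)).2 (vec_eq_zero c ((k.vx.mem_Ω_iff sy N (k.ΩZ hu)).1 hu)),
      fun c => by rw [(N.mem_C_iff (k.ΩZ hu)).1 c]; rfl⟩, fun u hu v hv => ?_, fun u hu => ?_,
    fun a => let ⟨v, hv, e⟩ := N.up' a; ⟨v, hv, by simp [e]⟩, fun b hb u hu => ?_, pow_mem hg _, pow_mem gB _, o,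
    fun a a0 => ?_, ?_, ?_, ?_⟩⟩
  · rw [N.π_mul _ (k.le hu) _ (k.le hv), up u hu, up v hv, ← H13.SL2.x_add]; simp
  · rw [← N.inj u hu, up u hu, H13.SL2.x_eq_one]; simp
  · rw [N.comm_x (k.le hb) hu (up b hb)]; rfl
  · obtain ⟨i, hi⟩ := mem_powers_iff_mem_zpowers.2 (zpowers_le.2 (mem_zpowers_pow_iff.2 od) (hν (Units.mk0 a a0)))
    exact ⟨i, by simpa using congrArg Units.val hi⟩
  · rw [Units.val_pow_eq_pow_val, ← inv_pow]
    exact Sc.pow (fun u hu => by rw [ψ u hu, ← smul_eq, smul1, e]; simp) (k.nZ hg) _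
  · rw [Units.val_pow_eq_pow_val]
    exact Sc.pow (fun u hu => by
      rw [ψ u (k.ΩZ hu), ← smul_eq, smul0, e]; simp) (normalizer_le_normalizer_omegaOneCenter 2 B gB) _
  · rw [Units.val_pow_eq_pow_val, ← pow_mul, mul_comm, pow_mul]
    exact Sc.pow (fun u hu => by
      rw [N.π_mul _ (mul_mem hg (k.le hu)) _ (inv_mem hg), N.π_mul _ hg _ (k.le hu), N.π_inv hg, up u hu,
        bor_conj (by rw [e]; rfl), e]; simp) gB _

namespace Co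
variable (c : Co F B L)
include c

theorem neg (a : F) : -a = a := by rw [neg_eq_iff_add_eq_zero, ← two_mul, c.c2, zero_mul]
theorem add_self (a : F) : a + a = 0 := by rw [← two_mul, c.c2, zero_mul]
theorem α1 : c.α 1 = 0 := (c.α0 1 (one_mem _)).2 (one_mem _)
theorem αi (h : u ∈ Z₂ L) : c.α u⁻¹ = c.α u := by
  rw [← c.neg (c.α u), eq_neg_iff_add_eq_zero, ← c.αm _ (inv_mem h) _ h, inv_mul_cancel, c.α1]
theorem τi (h : u ∈ B) : c.τ u⁻¹ = c.τ u := by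
  rw [← c.neg (c.τ u), eq_neg_iff_add_eq_zero, ← c.τm _ (inv_mem h) _ h, inv_mul_cancel, (c.τ0 1 (one_mem _)).2 (one_mem _)]
theorem αeq (h1 : u ∈ Z₂ L) (h2 : v ∈ Z₂ L) (e : c.α u = c.α v) : u * v⁻¹ ∈ Ω₂ B :=
  (c.α0 _ (mul_mem h1 (inv_mem h2))).1 (by rw [c.αm _ h1 _ (inv_mem h2), c.αi h2, e, c.add_self])
theorem triv (h : Sc c.α (Z₂ L) x 1) (n : x ∈ 𝐍 (Z₂ L)) (hu : u ∈ Z₂ L) : x * u * x⁻¹ * u⁻¹ ∈ Ω₂ B :=
  c.αeq (conj_mem_of_mem_normalizer n hu) hu (by rw [h u hu, one_mul])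
theorem αc (h : Sc c.α (Z₂ L) x κ) (n : x ∈ 𝐍 (Z₂ L)) (hu : u ∈ Z₂ L) : c.α ⁅u, x⁆ = (1 + κ) * c.α u := by
  rw [commutatorElement_def, mul_assoc, mul_assoc, ← mul_assoc x, c.αm _ hu _
    (conj_mem_of_mem_normalizer n (inv_mem hu)), h _ (inv_mem hu), c.αi hu]; ring

theorem lam (h1 : x ∈ 𝐍 B) (h2 : x ∈ 𝐍 (Z₂ L)) (h3 : x ∈ 𝐂 ⁅Z₂ L, B⁆) :
    ∃ κ ≠ 0, Sc c.α (Z₂ L) x κ ∧ Sc c.τ B x κ⁻¹ := by
  have key : ∀ b ∈ B, ∀ u ∈ Z₂ L, c.τ (x * b * x⁻¹) * c.α (x * u * x⁻¹) = c.τ b * c.α u := fun b hb u hu => by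
    rw [← c.br _ (conj_mem_of_mem_normalizer h1 hb) _ (conj_mem_of_mem_normalizer h2 hu), ← c.br b hb u hu,
      ← conjugate_commutatorElement, mem_c''.1 (cen_le_c (comm_comm (Z₂ L) B ▸ commutator_mem_commutator hb hu) h3)]
  obtain ⟨u, hu, eu⟩ := c.αs 1
  obtain ⟨b, hb, eb⟩ := c.τs 1
  have e := key b hb u hu
  rw [eu, eb, mul_one] at e
  have n := right_ne_zero_of_mul_eq_one e
  refine ⟨_, n, fun v hv => ?_, fun a ha => ?_⟩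
  · have := key b hb v hv
    rw [eb, one_mul] at this
    rw [← this, ← mul_assoc, mul_comm (c.α _), e, one_mul]
  · rw [eq_inv_mul_iff_mul_eq₀ n, mul_comm, key a ha u hu, eu, mul_one]

theorem μ1 [Fintype F] (h : 4 < Fintype.card F) : 1 + (c.μ : F)⁻¹ ≠ 0 := fun e => by
  have e' : (c.μ : F) = 1 := inv_eq_one.1 (by rw [← c.neg 1]; exact eq_neg_of_add_eq_zero_right e)
  obtain ⟨a, a0, a1⟩ := exists_sq_ne_one (F := F) (by rw [Nat.card_eq_fintype_card]; omega)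
  obtain ⟨i, rfl⟩ := c.gen a a0
  exact a1 (by rw [e']; simp)

theorem ΩV (k : Gd G B L) (l : V ≤ Ω₂ B) (n : c.g ∈ 𝐍 V) (nc : ¬ V ≤ 𝐂 L) (hu : u ∈ Ω₂ B) :
    ∃ v ∈ V, u * v ∈ 𝐂 L := by
  by_cases e : u ∈ 𝐂 L
  · exact ⟨1, one_mem _, by rwa [mul_one]⟩
  obtain ⟨v, hv, v1⟩ := SetLike.not_le_iff_exists.1 nc
  have v0 := mt (c.η0 v (l hv)).1 v1
  obtain ⟨i, hi⟩ := c.gen _ (div_ne_zero (mt (c.η0 u hu).1 e) v0)
  have m := conj_mem_of_mem_normalizer (pow_mem n i) hv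
  refine ⟨_, m, (c.η0 _ (mul_mem hu (l m))).1 ?_⟩
  rw [c.ηm _ (k.ΩZ hu) _ (k.ΩZ (l m)), c.gη.pow (normalizer_le_normalizer_omegaOneCenter 2 B c.gB) i v (l hv), hi,
    div_mul_cancel₀ _ v0, c.add_self]

theorem fld [Fintype F] (h : 4 < Fintype.card F) {e : F} (e0 : e ≠ 0)
    (k : ∀ v : F, v ≠ 0 → v + 1 ≠ 0 → v⁻¹ ^ 2 * e + e + (v + 1)⁻¹ ^ 2 * e = 0) : False := by
  obtain ⟨u, hu⟩ := exists_four (F := F) (by rw [Nat.card_eq_fintype_card]; omega)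
  have u0 : u ≠ 0 := fun e => hu (by simp [e])
  have u1 : u + 1 ≠ 0 := fun e => hu (by rw [eq_neg_of_add_eq_zero_left e, c.neg]; simp)
  have := k u u0 u1
  field_simp at this
  have h3 : (u ^ 2 + u + 1) ^ 2 = 0 := mul_left_cancel₀ e0 (by linear_combination this)
  exact hu (by linear_combination (u ^ 2 - u) * (pow_eq_zero_iff two_ne_zero).1 h3)

end Co

end H8.FV
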