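import Cfsg.Agent.H28.Amal3

/-!
Goldschmidt amalgams, part 1: lines (bi-infinite arcs) in trivalent graphs, arc transitivity.
-/

set_option autoImplicit false

open Cfsg Subgroup H28 MulAction
open scoped Pointwise commutatorElement

namespace H8.GA

variable {X : Type*} [Group X] {V : Type*} [MulAction X V] {Γ : SimpleGraph V}

local notation:max "𝐆" δ:max => stabilizer X δ
local notation:max "𝐐" δ:max => Qv 2 X δ

/-- bi-infinite walks without backtracking -/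
def Line (Γ : SimpleGraph V) (f : ℤ → V) : Prop :=
  ∀ i, Γ.Adj (f i) (f (i + 1)) ∧ f (i + 2) ≠ f i

namespace Line

variable {f g : ℤ → V}

theorem adj (l : Line Γ f) {i j : ℤ} (e : j = i + 1 := by omega) : Γ.Adj (f i) (f j) :=
  e ▸ (l i).1

theorem adj' (l : Line Γ f) {i j : ℤ} (e : i = j + 1 := by omega) : Γ.Adj (f i) (f j) :=
  (l.adj e).symm

theorem ne (l : Line Γ f) {i j : ℤ} (e : j = i + 2 := by omega) : f i ≠ f j :=
  e ▸ (l i).2.symm

theorem ne' (l : Line Γ f) {i j : ℤ} (e : i = j + 2 := by omega) : f i ≠ f j :=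
  (l.ne e).symm

theorem shift (l : Line Γ f) (k : ℤ) : Line Γ fun i => f (i + k) :=
  fun _ => ⟨l.adj, l.ne'⟩

theorem rev (l : Line Γ f) (k : ℤ) : Line Γ fun i => f (k - i) :=
  fun _ => ⟨l.adj', l.ne⟩

theorem smul (h : AG X Γ) (l : Line Γ f) (x : X) : Line Γ fun i => x • f i :=
  fun i => ⟨h.smul x (l i).1, fun c => (l i).2 (smul_left_cancel x c)⟩

theorem glue (l : Line Γ f) (m : Line Γ g) (k : ℤ) (e : f k = g k) (n : f (k - 1) ≠ g (k + 1)) :
    Line Γ fun i => if i ≤ k then f i else g i := by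
  intro i
  dsimp only
  refine ⟨?_, ?_⟩
  · by_cases a : i + 1 ≤ k
    · rw [if_pos a, if_pos (by omega)]; exact l.adj
    · rw [if_neg a]
      by_cases b : i ≤ k
      · rw [if_pos b, show i = k by omega, e]; exact m.adj
      · rw [if_neg b]; exact m.adj
  · by_cases a : i + 2 ≤ k
    · rw [if_pos a, if_pos (by omega)]; exact l.ne'
    · rw [if_neg a]
      by_cases b : i ≤ k
      · rw [if_pos b]
        by_cases c : i = k
        · rw [c, e]; exact m.ne'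
        · rw [show i = k - 1 by omega, show k - 1 + 2 = k + 1 by omega]; exact n.symm
      · rw [if_neg b]; exact m.ne'

theorem dist_nat (hc : Γ.Connected) (l : Line Γ f) (i : ℤ) (n : ℕ) :
    Γ.dist (f i) (f (i + n)) ≤ n := by
  induction n generalizing i with
  | zero => simp
  | succ n ih =>
    have a := dist_le_succ_of_adj hc (l.adj (i := i) (j := i + 1)) (f (i + (n + 1 : ℕ)))
    have b := ih (i + 1)
    rw [show i + 1 + (n : ℤ) = i + (n + 1 : ℕ) by push_cast; ring] at b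
    omega

theorem dist_le (hc : Γ.Connected) (l : Line Γ f) (i j : ℤ) {n : ℕ} (a : i - j ≤ n := by omega)
    (b : j - i ≤ n := by omega) : Γ.dist (f i) (f j) ≤ n := by
  rcases le_total i j with c | c
  · have := l.dist_nat hc i (j - i).toNat
    rw [show i + ((j - i).toNat : ℤ) = j by omega] at this
    omega
  · have := l.dist_nat hc j (i - j).toNat
    rw [show j + ((i - j).toNat : ℤ) = i by omega, SimpleGraph.dist_comm] at this
    omega

end Line

section A3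

variable (h : A3 X Γ) {δ μ ν : V}
include h

theorem exists_ray (e : Γ.Adj δ μ) : ∃ r : ℕ → V, r 0 = δ ∧ r 1 = μ ∧
    ∀ i, Γ.Adj (r i) (r (i + 1)) ∧ r (i + 2) ≠ r i := by
  choose nx h1 h2 using fun p : {p : V × V // Γ.Adj p.1 p.2} => h.exists_ne p.2.symm
  let st : {p : V × V // Γ.Adj p.1 p.2} → {p : V × V // Γ.Adj p.1 p.2} :=
    fun p => ⟨(p.1.2, nx p), h1 p⟩
  refine ⟨fun i => (st^[i] ⟨(δ, μ), e⟩).1.1, rfl, rfl, fun i => ?_⟩
  dsimp only
  rw [show i + 2 = i + 1 + 1 from rfl, Function.iterate_succ_apply' st (i + 1),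
    Function.iterate_succ_apply' st i]
  exact ⟨(st^[i] ⟨(δ, μ), e⟩).2, h2 _⟩

theorem exists_line (e : Γ.Adj δ μ) : ∃ f, Line Γ f ∧ f 0 = δ ∧ f 1 = μ := by
  obtain ⟨r, r0, r1, hr⟩ := exists_ray h e
  obtain ⟨s, s0, s1, hs⟩ := exists_ray h e.symm
  refine ⟨fun i => if 0 ≤ i then r i.toNat else s (1 - i).toNat, fun i => ⟨?_, ?_⟩, by simpa,
    by simpa⟩ <;> dsimp only
  · by_cases a : 0 ≤ i
    · rw [if_pos a, if_pos (by omega), show (i + 1).toNat = i.toNat + 1 by omega]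
      exact (hr _).1
    · rw [if_neg a, show (1 - i).toNat = (1 - (i + 1)).toNat + 1 by omega]
      by_cases b : 0 ≤ i + 1
      · rw [if_pos b, show (i + 1).toNat = 0 by omega, show (1 - (i + 1)).toNat = 1 by omega, r0,
          ← s1]
        exact (hs 1).1.symm
      · rw [if_neg b]; exact (hs _).1.symm
  · by_cases a : 0 ≤ i
    · rw [if_pos a, if_pos (by omega), show (i + 2).toNat = i.toNat + 2 by omega]
      exact (hr _).2
    · rw [if_neg a, show (1 - i).toNat = (1 - (i + 2)).toNat + 2 by omega]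
      by_cases b : 0 ≤ i + 2
      · rw [if_pos b]
        by_cases c : i = -1
        · rw [show (i + 2).toNat = 1 by omega, show (1 - (i + 2)).toNat = 0 by omega, r1, ← s0]
          exact (hs 0).2.symm
        · rw [show (i + 2).toNat = 0 by omega, show (1 - (i + 2)).toNat = 1 by omega, r0, ← s1]
          exact (hs 1).2.symm
      · rw [if_neg b]; exact (hs _).2.symm

/-- prepend a vertex to a line -/
theorem cons_line {f : ℤ → V} (l : Line Γ f) (k : ℤ) (e : Γ.Adj δ (f k)) (n : δ ≠ f (k + 1)) :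
    ∃ g, Line Γ g ∧ g 0 = δ ∧ ∀ i, 1 ≤ i → g i = f (i + k - 1) := by
  obtain ⟨s, ls, s0, s1⟩ := exists_line h e
  refine ⟨_, ls.glue (l.shift (k - 1)) 1 (by simpa using s1) (by
    rw [show (1 : ℤ) - 1 = 0 from rfl, s0, show (1 : ℤ) + 1 + (k - 1) = k + 1 by ring]
    exact n), by simpa using s0, fun i hi => ?_⟩
  split_ifs with c
  · rw [show i = 1 by omega, s1]; congr 1; ring
  · congr 1; ring

/-- change a line beyond position `k` -/
theorem snoc_line {f : ℤ → V} (l : Line Γ f) (k : ℤ) (e : Γ.Adj (f k) δ) (n : δ ≠ f (k - 1)) :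
    ∃ g, Line Γ g ∧ g (k + 1) = δ ∧ ∀ i, i ≤ k → g i = f i := by
  obtain ⟨g, lg, g0, g1⟩ := cons_line h (l.rev k) 0 (by simpa using e.symm) (by simpa using n)
  refine ⟨_, lg.rev (k + 1), by simpa using g0, fun i hi => ?_⟩
  rw [g1 _ (by omega)]; congr 1; ring

theorem exists_geod (n : ℕ) (a b : V) (d : Γ.dist a b = n) :
    ∃ f, Line Γ f ∧ f 0 = a ∧ f n = b ∧ (0 < n → Γ.dist (f 1) b + 1 = n) := by
  induction n generalizing a with
  | zero =>
    obtain ⟨c, e⟩ := h.nbr a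
    obtain ⟨f, l, f0, -⟩ := exists_line h e
    exact ⟨f, l, f0, f0.trans (h.conn.dist_eq_zero_iff.1 d), by omega⟩
  | succ n ih =>
    obtain ⟨c, e, d'⟩ := exists_adj_dist h.conn d
    rcases Nat.eq_zero_or_pos n with rfl | p
    · obtain ⟨f, l, f0, f1⟩ := exists_line h e
      have := h.conn.dist_eq_zero_iff.1 d'
      exact ⟨f, l, f0, f1.trans this, fun _ => by rw [f1, d']⟩
    obtain ⟨f, l, f0, fn, f1⟩ := ih c d'
    obtain ⟨g, lg, g0, g1⟩ := cons_line h l 0 (f0 ▸ e) (fun c => by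
      have := f1 p
      rw [zero_add] at c
      rw [← c] at this
      omega)
    refine ⟨g, lg, g0, ?_, fun _ => ?_⟩
    · rw [g1 _ (by omega), ← fn]; congr 1; push_cast; ring
    · rw [g1 _ le_rfl, show (1 : ℤ) + 0 - 1 = 0 from rfl, f0, d']

theorem exists_third (e : Γ.Adj δ μ) (e' : Γ.Adj δ ν) (n : μ ≠ ν) :
    ∃ ρ, Γ.Adj δ ρ ∧ ρ ≠ μ ∧ ρ ≠ ν := by
  obtain ⟨t, a, b⟩ := SetLike.not_le_iff_exists.1 (h.not_T_le_Q e)
  refine ⟨t • ν, smul_adj_of_mem h.toAG a.1 e', fun c => n ?_, h.not_mem_G e e' n a b⟩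
  rw [← inv_smul_smul t ν, c]; exact (mem_stabilizer_iff.1 ((𝐆 μ).inv_mem a.2)).symm

theorem eq_third {a b c d : V} (ea : Γ.Adj δ a) (eb : Γ.Adj δ b) (ec : Γ.Adj δ c) (ed : Γ.Adj δ d)
    (n : a ≠ b) (ca : c ≠ a) (cb : c ≠ b) (da : d ≠ a) (db : d ≠ b) : c = d := by
  obtain ⟨t, t1, t2⟩ := SetLike.not_le_iff_exists.1 (h.not_T_le_Q ea)
  exact (h.swap ea eb ec n.symm ca cb t1 t2).symm.trans (h.swap ea eb ed n.symm da db t1 t2)

theorem cases3 {a b c d : V} (ea : Γ.Adj δ a) (eb : Γ.Adj δ b) (ec : Γ.Adj δ c) (ed : Γ.Adj δ d)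
    (n : a ≠ b) (ca : c ≠ a) (cb : c ≠ b) : d = a ∨ d = b ∨ d = c := by
  by_contra! k
  exact k.2.2 (eq_third h ea eb ed ec n k.1 k.2.1 ca cb)

/-- a subgroup normalized by a vertex stabilizer and by an element moving the vertex -/
theorem not_norm (e : Γ.Adj δ μ) {K : Subgroup X} (a : K ≤ 𝐆 δ) (b : K ≤ 𝐆 μ) (c : 𝐆 δ ≤ 𝐍 K)
    {y : X} (y1 : y ∈ 𝐆 μ) (y2 : y ∉ 𝐆 δ) (y3 : y ∈ 𝐍 K) : K = ⊥ :=
  h.eq_bot_of_normal e a b c (h.G_le e.symm y1 y2 (inf_le_right.trans c) y3)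

theorem smul_mem_Q {g x : X} : g * x * g⁻¹ ∈ 𝐐 (g • δ) ↔ x ∈ 𝐐 δ := by
  have := h
  rw [Qv_smul, conj_mem_cj_iff]

theorem conj_mem_Q {g x : X} (hg : g ∈ 𝐆 δ) : g * x * g⁻¹ ∈ 𝐐 δ ↔ x ∈ 𝐐 δ := by
  have := smul_mem_Q h (δ := δ) (g := g) (x := x)
  rwa [mem_stabilizer_iff.1 hg] at this

theorem sq_mem_Q (e : Γ.Adj δ μ) {x : X} (hx : x ∈ 𝐆 δ ⊓ 𝐆 μ) : x * x ∈ 𝐐 δ := by
  by_cases c : x ∈ 𝐐 δ
  · exact mul_mem c c
  · exact h.mul_mem_Q e hx hx c c

theorem smul_ne (e : Γ.Adj δ μ) (e' : Γ.Adj δ ν) (n : μ ≠ ν) {x : X} (h1 : x ∈ 𝐆 δ ⊓ 𝐆 μ)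
    (h2 : x ∉ 𝐐 δ) : x • ν ≠ ν ∧ x • ν ≠ μ ∧ Γ.Adj δ (x • ν) :=
  ⟨h.not_mem_G e e' n h1 h2, fun c => n (by
    rw [← inv_smul_smul x ν, c]; exact (mem_stabilizer_iff.1 ((𝐆 μ).inv_mem h1.2)).symm),
    smul_adj_of_mem h.toAG h1.1 e'⟩

end A3

/-- `x` fixes the first `n + 1` vertices of the line -/
def Fx (f : ℤ → V) (n : ℕ) (x : X) : Prop := ∀ i : ℤ, 0 ≤ i → i ≤ n → x • f i = f i

/-- the stabilizer of the arc `f n, …, f 0` acts nontrivially on the neighbours of `f 0` -/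
def Gd (X : Type*) [Group X] {V : Type*} [MulAction X V] (f : ℤ → V) (n : ℕ) : Prop :=
  ∃ x : X, Fx f n x ∧ x ∉ Qv 2 X (f 0)

theorem Gd.mono {f : ℤ → V} {m n : ℕ} (a : Gd X f n) (b : m ≤ n) : Gd X f m :=
  a.imp fun _ c => ⟨fun i h1 h2 => c.1 i h1 (by omega), c.2⟩

/-- a proper two-colouring which describes the orbits -/
structure Col (X : Type*) [Group X] {V : Type*} [MulAction X V] (Γ : SimpleGraph V)
    (A : V → Prop) : Prop where
  alt : ∀ {a b : V}, Γ.Adj a b → (A a ↔ ¬ A b)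
  tr : ∀ a b : V, (A a ↔ A b) → ∃ g : X, g • a = b

theorem Col.par {A : V → Prop} (c : Col X Γ A) {f g : ℤ → V} (l : Line Γ f) (m : Line Γ g)
    (e : A (f 0) ↔ A (g 0)) (n : ℕ) : A (f n) ↔ A (g n) := by
  induction n with
  | zero => exact e
  | succ n ih =>
    have a := c.alt (l.adj' (i := (n + 1 : ℕ)) (j := n))
    have b := c.alt (m.adj' (i := (n + 1 : ℕ)) (j := n))
    tauto

theorem trans_of_gd (h : A3 X Γ) {A : V → Prop} (c : Col X Γ A) (n : ℕ)
    (hg : ∀ m, m < n → ∀ f, Line Γ f → Gd X f m) {f g : ℤ → V} (l : Line Γ f) (m : Line Γ g)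
    (e : A (f 0) ↔ A (g 0)) : ∃ x : X, ∀ i : ℤ, 0 ≤ i → i ≤ n → x • f i = g i := by
  induction n generalizing f g with
  | zero =>
    obtain ⟨x, hx⟩ := c.tr _ _ e
    exact ⟨x, fun i a b => by rw [show i = 0 by omega, hx]⟩
  | succ n ih =>
    have e1 := c.par l m e 1
    obtain ⟨x, hx⟩ := ih (fun k a => hg k (by omega)) (l.shift 1) (m.shift 1) (by simpa using e1)
    have h1 : x • f 1 = g 1 := by simpa using hx 0 le_rfl (by omega)
    have a1 : Γ.Adj (g 1) (x • f 0) := h1 ▸ h.smul x l.adj'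
    have key : ∀ y : X, (∀ i : ℤ, 1 ≤ i → i ≤ n + 1 → y • g i = g i) → y • x • f 0 = g 0 →
        ∃ x : X, ∀ i : ℤ, 0 ≤ i → i ≤ (n + 1 : ℕ) → x • f i = g i := fun y y1 y2 =>
      ⟨y * x, fun i a b => by
        rw [mul_smul]
        by_cases d : i = 0
        · rw [d, y2]
        · have := hx (i - 1) (by omega) (by omega)
          simp only [sub_add_cancel] at this
          rw [this, y1 i (by omega) (by omega)]⟩
    by_cases d : x • f 0 = g 0
    · exact key 1 (fun _ _ _ => one_smul _ _) (by rw [one_smul, d])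
    rcases Nat.eq_zero_or_pos n with rfl | p
    · obtain ⟨y, y1, y2⟩ := h.trans (g 1) _ (g 0) a1 m.adj'
      exact key y (fun i a b => by rw [show i = 1 by omega]; exact y1) y2
    obtain ⟨y, y1, y2⟩ := hg n (by omega) _ (m.shift 1)
    have y3 : ∀ i : ℤ, 1 ≤ i → i ≤ n + 1 → y • g i = g i := fun i a b => by
      simpa using y1 (i - 1) (by omega) (by omega)
    have h2 : x • f 2 = g 2 := by simpa using hx 1 (by omega) (by omega)
    refine key y y3 (h.swap (m.adj (i := 1) (j := 2)) a1 m.adj' (fun k => ?_) m.ne (Ne.symm d)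
      ⟨y3 1 le_rfl (by omega), y3 2 (by omega) (by omega)⟩ (by simpa using y2))
    exact l.ne (i := 0) (j := 2) (by omega) (smul_left_cancel x (k.trans h2.symm))

theorem gd_all (h : A3 X Γ) {A : V → Prop} (c : Col X Γ A) {n : ℕ} {f₁ f₂ : ℤ → V}
    (l₁ : Line Γ f₁) (l₂ : Line Γ f₂) (a₁ : A (f₁ 0)) (a₂ : ¬ A (f₂ 0)) (g₁ : Gd X f₁ n)
    (g₂ : Gd X f₂ n) : ∀ m, m < n + 1 → ∀ f, Line Γ f → Gd X f m := by
  intro m
  induction m using Nat.strong_induction_on with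
  | _ m ih =>
    intro hm f l
    have key : ∀ g, Line Γ g → (A (g 0) ↔ A (f 0)) → Gd X g n → Gd X f m := fun g lg e k => by
      obtain ⟨x, hx⟩ := trans_of_gd h c m (fun k a => ih k a (by omega)) lg l e
      obtain ⟨y, y1, y2⟩ := k.mono (m := m) (by omega)
      refine ⟨x * y * x⁻¹, fun i a b => ?_, fun d => y2 ?_⟩
      · rw [← hx i a b, mul_smul, mul_smul, inv_smul_smul, y1 i a b]
      · rwa [← hx 0 le_rfl (by omega), smul_mem_Q h] at d
    by_cases a : A (f 0)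
    · exact key _ l₁ (by tauto) g₁
    · exact key _ l₂ (by tauto) g₂

end H8.GA
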