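import Cfsg.Agent.H8.GA1

/-!
Goldschmidt amalgams, part 2: characteristic two, `Ω₁ Z(T)` central on one side. Basic facts.
-/

set_option autoImplicit false

open Cfsg Subgroup H28 MulAction
open scoped Pointwise commutatorElement

namespace H8.GA

variable {X : Type*} [Group X] {V : Type*} [MulAction X V] {Γ : SimpleGraph V}

local notation:max "𝐆" δ:max => stabilizer X δ
local notation:max "𝐐" δ:max => Qv 2 X δ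

/-- central involutions of the vertex stabilizer -/
def Yv (X : Type*) [Group X] {V : Type*} [MulAction X V] (δ : V) : Subgroup X :=
  omegaOneCenter 2 (stabilizer X δ)

/-- central involutions of the kernel on the neighbours -/
def Zw (X : Type*) [Group X] {V : Type*} [MulAction X V] (δ : V) : Subgroup X :=
  omegaOneCenter 2 (Qv 2 X δ)

/-- vertices whose stabilizer has no central involution -/
def IsA (X : Type*) [Group X] {V : Type*} [MulAction X V] (δ : V) : Prop := Yv X δ = ⊥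

local notation:max "𝐘" δ:max => Yv X δ
local notation:max "𝐙" δ:max => Zw X δ
local notation:max "𝐀" δ:max => IsA X δ

theorem mem_omega {T : Subgroup X} {z : X} :
    z ∈ omegaOneCenter 2 T ↔ z ∈ T ∧ (∀ g ∈ T, Commute g z) ∧ z * z = 1 := by
  rw [mem_omegaOneCenter, sq]; rfl

section

variable {δ : V} {g z q : X}

theorem Y_smul (g : X) (δ : V) : 𝐘 (g • δ) = cj g (𝐘 δ) := by
  rw [Yv, Yv, cj_omegaOneCenter, ← stabilizer_smul']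

theorem Z_smul (g : X) (δ : V) : 𝐙 (g • δ) = cj g (𝐙 δ) := by
  rw [Zw, Zw, cj_omegaOneCenter, ← Qv_smul]

theorem smul_mem_Y : g * z * g⁻¹ ∈ 𝐘 (g • δ) ↔ z ∈ 𝐘 δ := by rw [Y_smul, conj_mem_cj_iff]

theorem smul_mem_Z : g * z * g⁻¹ ∈ 𝐙 (g • δ) ↔ z ∈ 𝐙 δ := by rw [Z_smul, conj_mem_cj_iff]

theorem conj_mem_Z (hg : g ∈ 𝐆 δ) : g * z * g⁻¹ ∈ 𝐙 δ ↔ z ∈ 𝐙 δ := by
  have := smul_mem_Z (δ := δ) (g := g) (z := z)
  rwa [mem_stabilizer_iff.1 hg] at this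

theorem conj_mem_Y (hg : g ∈ 𝐆 δ) : g * z * g⁻¹ ∈ 𝐘 δ ↔ z ∈ 𝐘 δ := by
  have := smul_mem_Y (δ := δ) (g := g) (z := z)
  rwa [mem_stabilizer_iff.1 hg] at this

theorem isA_smul : 𝐀 (g • δ) ↔ 𝐀 δ := by rw [IsA, IsA, Y_smul, cj_eq_bot]

theorem Z_le_Q0 (δ : V) : 𝐙 δ ≤ 𝐐 δ := omegaOneCenter_le 2 _

theorem Y_le_G (δ : V) : 𝐘 δ ≤ 𝐆 δ := omegaOneCenter_le 2 _

theorem Z_comm (hz : z ∈ 𝐙 δ) (hq : q ∈ 𝐐 δ) : Commute q z := (mem_omega.1 hz).2.1 q hq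

theorem ZZ (hz : z ∈ 𝐙 δ) (hq : q ∈ 𝐙 δ) : Commute q z := Z_comm hz (Z_le_Q0 δ hq)

theorem Y_comm (hz : z ∈ 𝐘 δ) (hq : q ∈ 𝐆 δ) : Commute q z := (mem_omega.1 hz).2.1 q hq

theorem Z_sq (hz : z ∈ 𝐙 δ) : z * z = 1 := (mem_omega.1 hz).2.2

theorem Y_sq (hz : z ∈ 𝐘 δ) : z * z = 1 := (mem_omega.1 hz).2.2

theorem G_le_NZ' (δ : V) : 𝐆 δ ≤ 𝐍 (𝐙 δ) := le_normalizer_omegaOneCenter (G_le_NQ δ)

theorem exists_Y (a : ¬ 𝐀 δ) : ∃ z ∈ 𝐘 δ, z ≠ 1 := by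
  by_contra! c
  exact a (eq_bot_iff.2 c)

theorem comm_of_conj {a b : X} (e : a * b * a⁻¹ = b) : Commute a b :=
  (mul_inv_eq_iff_eq_mul.1 e : a * b = b * a)

theorem inv_of_sq {a : X} (e : a * a = 1) : a⁻¹ = a := inv_eq_of_mul_eq_one_right e

theorem comm_of_conj_mul {a b : X} (s : b * b = 1) (e : a * b * a⁻¹ * b = 1) : Commute a b :=
  comm_of_conj ((eq_inv_of_mul_eq_one_left e).trans (inv_of_sq s))

end

/-- amalgams of index `(3, 3)` of characteristic two with `Ω₁ Z(T)` central on one side -/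
structure D3 (X : Type*) [Group X] {V : Type*} [MulAction X V] (Γ : SimpleGraph V) : Prop
    extends A3 X Γ where
  char : ∀ δ : V, IsCharP 2 (stabilizer X δ)
  cen : ∀ {δ μ : V}, Γ.Adj δ μ →
    stabilizer X δ ≤ 𝐂 (omegaOneCenter 2 (stabilizer X δ ⊓ stabilizer X μ)) ∨
    stabilizer X μ ≤ 𝐂 (omegaOneCenter 2 (stabilizer X δ ⊓ stabilizer X μ))

/-- the critical distance -/
noncomputable def cd (X : Type*) [Group X] {V : Type*} [MulAction X V] (Γ : SimpleGraph V) : ℕ :=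
  sInf {n : ℕ | ∃ δ μ : V, IsA X δ ∧ Γ.dist δ μ = n ∧ ¬ Zw X δ ≤ Qv 2 X μ}

/-- generated by the `Z` of the vertices in a ball -/
def Xn (X : Type*) [Group X] {V : Type*} [MulAction X V] (Γ : SimpleGraph V) (n : ℕ) (δ : V) :
    Subgroup X := ⨆ μ : {μ : V // IsA X μ ∧ Γ.dist δ μ ≤ n}, Zw X (μ : V)

theorem Xn_le_iff {n : ℕ} {δ : V} {K : Subgroup X} :
    Xn X Γ n δ ≤ K ↔ ∀ μ, 𝐀 μ → Γ.dist δ μ ≤ n → 𝐙 μ ≤ K :=
  iSup_le_iff.trans ⟨fun h μ a b => h ⟨μ, a, b⟩, fun h μ => h μ μ.2.1 μ.2.2⟩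

theorem Z_le_Xn {n : ℕ} {δ μ : V} (a : 𝐀 μ) (h : Γ.dist δ μ ≤ n) : 𝐙 μ ≤ Xn X Γ n δ :=
  Xn_le_iff.1 le_rfl μ a h

local notation "𝐛" => cd X Γ

theorem Z_le_Q {δ μ : V} (a : 𝐀 δ) (d : Γ.dist δ μ < 𝐛) : 𝐙 δ ≤ 𝐐 μ := by
  by_contra e
  exact Nat.notMem_of_lt_sInf d ⟨δ, μ, a, rfl, e⟩

/-- critical lines -/
structure Cl (X : Type*) [Group X] {V : Type*} [MulAction X V] (Γ : SimpleGraph V) (f : ℤ → V) :
    Prop where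
  l : Line Γ f
  a : IsA X (f 0)
  n : ¬ Zw X (f 0) ≤ Qv 2 X (f (cd X Γ))

namespace D3

variable (h : D3 X Γ) {δ μ ν α β γ : V} {g x z : X}
include h

theorem mem_Q_of (hx : x ∈ 𝐆 δ) (c : ∀ q ∈ 𝐐 δ, Commute q x) : x ∈ 𝐐 δ :=
  h.char δ ⟨hx, c⟩

theorem omega_le_Z (e : Γ.Adj δ μ) : omegaOneCenter 2 (𝐆 δ ⊓ 𝐆 μ) ≤ 𝐙 δ := fun _ hz =>
  have a := mem_omega.1 hz
  mem_omega.2 ⟨h.mem_Q_of a.1.1 fun q hq => a.2.1 q (h.Q_le_T e hq),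
    fun q hq => a.2.1 q (h.Q_le_T e hq), a.2.2⟩

theorem Y_le_omega (e : Γ.Adj δ μ) : 𝐘 μ ≤ omegaOneCenter 2 (𝐆 δ ⊓ 𝐆 μ) := fun _ hz =>
  mem_omega.2 ⟨h.Q_le_T' e (h.mem_Q_of (Y_le_G μ hz) fun _ hq => Y_comm hz (Q_le_G μ hq)),
    fun _ hq => Y_comm hz hq.2, Y_sq hz⟩

theorem Y_le_Z (e : Γ.Adj α β) : 𝐘 β ≤ 𝐙 α := (h.Y_le_omega e).trans (h.omega_le_Z e)

theorem Y_le_Q (β : V) : 𝐘 β ≤ 𝐐 β := fun _ hz =>
  h.mem_Q_of (Y_le_G β hz) fun _ hq => Y_comm hz (Q_le_G β hq)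

theorem omega_ne (e : Γ.Adj δ μ) : omegaOneCenter 2 (𝐆 δ ⊓ 𝐆 μ) ≠ ⊥ := by
  haveI := h.fin δ
  haveI : Finite (𝐆 δ ⊓ 𝐆 μ : Subgroup X) := finite_of_le inf_le_left
  exact omegaOneCenter_ne_bot (h.two e) fun c => h.not_T_le_Q e (c.le.trans bot_le)

theorem alt_aux (e : Γ.Adj δ μ) (c : 𝐆 δ ≤ 𝐂 (omegaOneCenter 2 (𝐆 δ ⊓ 𝐆 μ))) :
    omegaOneCenter 2 (𝐆 δ ⊓ 𝐆 μ) ≤ 𝐘 δ ∧ ¬ 𝐀 δ ∧ 𝐀 μ := by
  have a : omegaOneCenter 2 (𝐆 δ ⊓ 𝐆 μ) ≤ 𝐘 δ := fun z hz =>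
    mem_omega.2 ⟨(mem_omega.1 hz).1.1, fun g hg => (c hg z hz).symm, (mem_omega.1 hz).2.2⟩
  refine ⟨a, fun d => h.omega_ne e (eq_bot_iff.2 (a.trans d.le)), eq_bot_iff.2 fun z hz => ?_⟩
  have b := h.Y_le_omega e hz
  exact h.eq_one e (mem_omega.1 b).1
    (fun g hg => mem_centralizer_singleton_iff.2 (Y_comm (a b) hg))
    fun g hg => mem_centralizer_singleton_iff.2 (Y_comm hz hg)

theorem alt (e : Γ.Adj δ μ) : 𝐀 δ ↔ ¬ 𝐀 μ := by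
  rcases h.cen e with c | c
  · have := h.alt_aux e c; tauto
  · have := h.alt_aux e.symm (inf_comm (𝐆 δ) _ ▸ c); tauto

theorem nA (e : Γ.Adj δ μ) (a : 𝐀 δ) : ¬ 𝐀 μ := (h.alt e).1 a

theorem toA (e : Γ.Adj δ μ) (a : ¬ 𝐀 δ) : 𝐀 μ := (h.alt e.symm).2 a

theorem col : Col X Γ (IsA X) := ⟨h.alt, fun a b e => by
  obtain ⟨a', ea⟩ := h.nbr a
  obtain ⟨b', eb⟩ := h.nbr b
  obtain ⟨g, ⟨c, -⟩ | ⟨c, -⟩⟩ := h.exists_smul_adj ea eb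
  · exact ⟨g, c.symm⟩
  · have := h.alt ea
    rw [c, isA_smul] at e
    tauto⟩

theorem omega_le_Y (e : Γ.Adj α β) (a : 𝐀 α) : omegaOneCenter 2 (𝐆 α ⊓ 𝐆 β) ≤ 𝐘 β := by
  rcases h.cen e with c | c
  · exact ((h.alt_aux e c).2.1 a).elim
  · exact inf_comm (𝐆 α) _ ▸ (h.alt_aux e.symm (inf_comm (𝐆 α) _ ▸ c)).1

theorem mem_Y (e : Γ.Adj α β) (a : 𝐀 α) (hz : z ∈ 𝐙 α) (hx : x ∈ 𝐆 α ⊓ 𝐆 β) (hx' : x ∉ 𝐐 α)
    (c : Commute x z) : z ∈ 𝐘 β :=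
  h.omega_le_Y e a (mem_omega.2 ⟨h.Q_le_T e (Z_le_Q0 α hz), fun _ hg =>
    mem_centralizer_singleton_iff.1 (h.T_le e hx hx' (K := centralizer {z})
      (fun _ hq => mem_centralizer_singleton_iff.2 (Z_comm hz hq))
      (mem_centralizer_singleton_iff.2 c) hg), Z_sq hz⟩)

theorem eq_one_of (e : Γ.Adj α β) (a : 𝐀 α) (hz : z ∈ 𝐘 β) (hx : x ∈ 𝐆 α) (hx' : x ∉ 𝐆 β)
    (c : Commute x z) : z = 1 :=
  a.le (mem_omega.2 ⟨Q_le_G α (Z_le_Q0 α (h.Y_le_Z e hz)), fun _ hg =>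
    mem_centralizer_singleton_iff.1 (h.G_le e hx hx' (K := centralizer {z})
      (fun _ hq => mem_centralizer_singleton_iff.2 (Y_comm hz hq.2))
      (mem_centralizer_singleton_iff.2 c) hg), Y_sq hz⟩)

theorem Y_disj (e : Γ.Adj α β) (e' : Γ.Adj α γ) (n : β ≠ γ) (a : 𝐀 α) (h1 : z ∈ 𝐘 β)
    (h2 : z ∈ 𝐘 γ) : z = 1 := by
  obtain ⟨t, t1, t2⟩ := SetLike.not_le_iff_exists.1 (h.not_T_le_Q e')
  exact h.eq_one_of e a h1 t1.1 (h.not_mem_G e' e n.symm t1 t2) (Y_comm h2 t1.2)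

theorem comm_mem_Y (e : Γ.Adj α β) (a : 𝐀 α) (hz : z ∈ 𝐙 α) (hx : x ∈ 𝐆 α ⊓ 𝐆 β) :
    x * z * x⁻¹ * z ∈ 𝐘 β := by
  by_cases c : x ∈ 𝐐 α
  · rw [(Z_comm hz c).mul_inv_cancel, Z_sq hz]; exact one_mem _
  have b := (conj_mem_Z hx.1).2 hz
  refine h.mem_Y e a (mul_mem b hz) hx c (comm_of_conj ?_)
  have d := (Z_comm hz (sq_mem_Q h.toA3 e hx)).mul_inv_cancel
  calc _ = (x * x * z * (x * x)⁻¹) * (x * z * x⁻¹) := by group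
    _ = _ := by rw [d, (ZZ hz b).eq]

theorem mem_Q_of_comm (e : Γ.Adj α β) (a : 𝐀 α) (hx : x ∈ 𝐆 α ⊓ 𝐆 β)
    (c : ∀ z ∈ 𝐙 α, Commute x z) : x ∈ 𝐐 α := by
  by_contra d
  obtain ⟨γ, e', n⟩ := h.exists_ne e
  obtain ⟨z, z1, z2⟩ := exists_Y (h.nA e' a)
  exact z2 (h.Y_disj e e' n.symm a (h.mem_Y e a (h.Y_le_Z e' z1) hx d (c z (h.Y_le_Z e' z1))) z1)

theorem Z_ne_bot (δ : V) : 𝐙 δ ≠ ⊥ := by
  obtain ⟨μ, e⟩ := h.nbr δ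
  exact fun c => h.omega_ne e (eq_bot_iff.2 ((h.omega_le_Z e).trans c.le))

theorem exists_Q (e : Γ.Adj δ μ) : ∃ q ∈ 𝐐 μ, q ∉ 𝐐 δ := by
  by_contra! c
  haveI := h.fin δ
  haveI := finite_of_le (Q_le_G (X := X) δ)
  have a := eq_of_le_of_card_le c (h.card_Q e).le
  exact h.Z_ne_bot δ (eq_bot_iff.2 ((Z_le_Q0 δ).trans (h.eq_bot_of_normal e (Q_le_G δ)
    (h.Q_le_adj e) (G_le_NQ δ) (a ▸ G_le_NQ μ)).le))

theorem norm_eq_one (e : Γ.Adj α β) (e' : Γ.Adj α γ) (n : β ≠ γ) (a : 𝐀 α) {y : X}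
    (hx : x ∈ 𝐆 α ⊓ 𝐆 β) (hx' : x ∉ 𝐐 α) (hy : y ∈ 𝐆 α ⊓ 𝐆 γ) (hy' : y ∉ 𝐐 α) (hz : z ∈ 𝐙 α) :
    z * ((x * y) * z * (x * y)⁻¹) * ((x * y)⁻¹ * z * (x * y)) = 1 := by
  obtain ⟨s1, s2, s3⟩ := smul_ne h.toA3 e e' n hx hx'
  have b1 : y • β = x • γ := h.swap e' e s3 n s1 s2 hy hy'
  have b2 : y • x • γ = β := h.swap e' s3 e s1 n s2.symm hy hy'
  have b3 : x • x • γ = γ := h.swap e s3 e' s2 n.symm s1.symm hx hx'
  have b4 : x • β = β := hx.2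
  have b5 : y • γ = γ := hy.2
  set d := x * y with hd
  have dG : d ∈ 𝐆 α := mul_mem hx.1 hy.1
  have dβ : d ∉ 𝐆 β := fun c => n (by
    have : d • β = γ := by rw [hd, mul_smul, b1, b3]
    exact (mem_stabilizer_iff.1 c).symm.trans this)
  have d3 : d * d * d ∈ 𝐐 α := h.mem_Q e e' n (mul_mem (mul_mem dG dG) dG)
    (by simp only [mem_stabilizer_iff, hd, mul_smul, b1, b2, b3, b4, b5])
    (by simp only [mem_stabilizer_iff, hd, mul_smul, b1, b2, b3, b4, b5])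
  have z1 := (conj_mem_Z dG).2 hz
  have z2 := (conj_mem_Z (inv_mem dG)).2 hz
  rw [inv_inv] at z2
  set m := z * (d * z * d⁻¹) * (d⁻¹ * z * d) with hm
  have mZ : m ∈ 𝐙 α := mul_mem (mul_mem hz z1) z2
  have md : Commute d m := comm_of_conj (by
    calc _ = (d * z * d⁻¹) * (d⁻¹ * (d * d * d * z * (d * d * d)⁻¹) * d) * z := by
          rw [hm]; group
      _ = m := by
          rw [(Z_comm hz d3).mul_inv_cancel, ← (ZZ (mul_mem z1 z2) hz).eq, hm]; group)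
  have k := h.comm_mem_Y e a mZ hx
  have q : d * (x⁻¹ * d * x) ∈ 𝐐 α := by
    have : d * (x⁻¹ * d * x) = x * (y * y) * x⁻¹ * (x * x) := by rw [hd]; group
    rw [this]
    exact mul_mem ((conj_mem_Q h.toA3 hx.1).2 (sq_mem_Q h.toA3 e' hy)) (sq_mem_Q h.toA3 e hx)
  have k1 : Commute (x⁻¹ * d * x) m := by
    have := md.inv_left.mul_left (Z_comm mZ q)
    rwa [inv_mul_cancel_left] at this
  have k2 : Commute d (x * m * x⁻¹) := comm_of_conj (by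
    calc _ = x * ((x⁻¹ * d * x) * m * (x⁻¹ * d * x)⁻¹) * x⁻¹ := by group
      _ = _ := by rw [k1.mul_inv_cancel])
  have k3 := h.eq_one_of e a k dG dβ (k2.mul_right md)
  exact h.eq_one_of e a (h.mem_Y e a mZ hx hx' (comm_of_conj_mul (Z_sq mZ) k3)) dG dβ md

theorem Z_dec (e : Γ.Adj α β) (e' : Γ.Adj α γ) (n : β ≠ γ) (a : 𝐀 α) (hz : z ∈ 𝐙 α) :
    ∃ u ∈ 𝐘 β, ∃ v ∈ 𝐘 γ, z = u * v := by
  obtain ⟨x, hx, hx'⟩ := SetLike.not_le_iff_exists.1 (h.not_T_le_Q e)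
  obtain ⟨y, hy, hy'⟩ := SetLike.not_le_iff_exists.1 (h.not_T_le_Q e')
  obtain ⟨s1, s2, s3⟩ := smul_ne h.toA3 e e' n hx hx'
  have b3 : x • x • γ = γ := h.swap e s3 e' s2 n.symm s1.symm hx hx'
  have b5 : y • γ = γ := hy.2
  have tG : x * y * x ∈ 𝐆 α ⊓ 𝐆 (x • γ) := ⟨mul_mem (mul_mem hx.1 hy.1) hx.1,
    mem_stabilizer_iff.2 (by simp only [mul_smul, b3, b5])⟩
  have z1 := (conj_mem_Z hx.1).2 hz
  have z2 := (conj_mem_Z (inv_mem hy.1)).2 hz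
  have z3 := (conj_mem_Z tG.1).2 hz
  have m := h.norm_eq_one e e' n a hx hx' hy hy' z1
  have u1 := h.comm_mem_Y e a hz hx
  have u2 := h.comm_mem_Y e' a hz (inv_mem hy)
  have u3 := h.comm_mem_Y s3 a hz tG
  set p := x * z * x⁻¹
  set q := y⁻¹ * z * y⁻¹⁻¹ with hq
  set r := x * y * x * z * (x * y * x)⁻¹ with hr
  have m' : p * r * q = 1 := by rw [← m, hq, hr]; simp only [p]; group
  have w1 := h.comm_mem_Y e a (h.Y_le_Z s3 u3) hx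
  have w2 := (smul_mem_Y (g := x)).2 u3
  rw [b3] at w2
  set w := x * (r * z) * x⁻¹
  refine ⟨_, mul_mem u1 w1, _, mul_mem w2 u2, ?_⟩
  have wZ := h.Y_le_Z e' w2
  have c1 := ZZ hz z3
  have c2 := ZZ (mul_mem z3 hz) wZ
  calc z = p * r * q * z := by rw [m', one_mul]
    _ = p * (z * z) * r * (w * w) * q * z := by rw [Z_sq hz, Z_sq wZ]; group
    _ = p * z * ((r * z) * w) * (w * (q * z)) := by rw [c1.eq]; group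
    _ = _ := by rw [c2.eq]

/-! ### the critical distance -/

theorem Z_le_G (a : 𝐀 δ) (d : Γ.dist δ μ ≤ 𝐛) : 𝐙 δ ≤ 𝐆 μ := by
  rcases e : Γ.dist μ δ with _ | m
  · rw [h.conn.dist_eq_zero_iff] at e
    subst e
    exact (Z_le_Q0 _).trans (Q_le_G _)
  · obtain ⟨c, c1, c2⟩ := exists_adj_dist h.conn e
    rw [SimpleGraph.dist_comm] at e c2
    exact (Z_le_Q (Γ := Γ) a (by omega)).trans (h.Q_le_adj c1.symm)

theorem exists_A : ∃ α : V, 𝐀 α := by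
  obtain ⟨δ⟩ := h.conn.nonempty
  obtain ⟨μ, e⟩ := h.nbr δ
  by_cases a : 𝐀 δ
  exacts [⟨δ, a⟩, ⟨μ, h.toA e a⟩]

theorem exists_cl : ∃ f, Cl X Γ f := by
  obtain ⟨δ, a⟩ := h.exists_A
  have : {n : ℕ | ∃ δ μ : V, 𝐀 δ ∧ Γ.dist δ μ = n ∧ ¬ 𝐙 δ ≤ 𝐐 μ}.Nonempty := by
    by_contra e
    refine h.Z_ne_bot δ (eq_bot_iff.2 fun z hz => h.faith z fun v => ?_)
    by_contra f
    exact e ⟨_, δ, v, a, rfl, fun g => f (Q_le_G v (g hz))⟩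
  obtain ⟨p, q, c, d, e⟩ := Nat.sInf_mem this
  obtain ⟨f, l, f0, fn, -⟩ := exists_geod h.toA3 _ p q d
  exact ⟨f, l, f0 ▸ c, by rw [f0]; exact fn ▸ e⟩

theorem b_pos : 0 < 𝐛 := by
  obtain ⟨f, c⟩ := h.exists_cl
  refine Nat.pos_of_ne_zero fun e => c.n ?_
  rw [e]; exact Z_le_Q0 _

theorem Xn_smul (g : X) (n : ℕ) (δ : V) : Xn X Γ n (g • δ) = cj g (Xn X Γ n δ) := by
  have key : ∀ (g : X) (δ : V), Xn X Γ n (g • δ) ≤ cj g (Xn X Γ n δ) := fun g δ =>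
    Xn_le_iff.2 fun μ b a => by
      rw [← smul_inv_smul g μ, Z_smul]
      exact cj_mono g (Z_le_Xn (isA_smul.2 b) (by rwa [← h.dist_smul g, smul_inv_smul]))
  exact le_antisymm (key g δ) (cj_le_iff.2 (by simpa using key g⁻¹ (g • δ)))

theorem G_le_NX (n : ℕ) (δ : V) : 𝐆 δ ≤ 𝐍 (Xn X Γ n δ) :=
  fun g hg => mem_normalizer_iff_cj.2 (by rw [← h.Xn_smul, mem_stabilizer_iff.1 hg])

theorem Xn_le_Q {n : ℕ} (d : n + Γ.dist δ μ < 𝐛) : Xn X Γ n δ ≤ 𝐐 μ :=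
  Xn_le_iff.2 fun ν a c => Z_le_Q (Γ := Γ) a (by
    have := h.conn.dist_triangle (u := ν) (v := δ) (w := μ)
    rw [SimpleGraph.dist_comm] at c
    omega)

theorem Xn_le_G {n : ℕ} (d : n + Γ.dist δ μ ≤ 𝐛) : Xn X Γ n δ ≤ 𝐆 μ :=
  Xn_le_iff.2 fun ν a c => h.Z_le_G a (by
    have := h.conn.dist_triangle (u := ν) (v := δ) (w := μ)
    rw [SimpleGraph.dist_comm] at c
    omega)

theorem Xn_mono {m n : ℕ} (d : m + Γ.dist δ μ ≤ n) : Xn X Γ m μ ≤ Xn X Γ n δ :=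
  Xn_le_iff.2 fun ν a c => Z_le_Xn a (by
    have := h.conn.dist_triangle (u := δ) (v := μ) (w := ν)
    omega)

/-- no `Xn` is normalized by an element moving the vertex to a vertex at distance two -/
theorem not_norm_X {n : ℕ} (e : Γ.Adj δ μ) (d : n + 1 ≤ 𝐛) (a : 𝐀 ν) (c : Γ.dist δ ν ≤ n)
    (x1 : x ∈ 𝐆 μ) (x2 : x ∉ 𝐆 δ) (x3 : ∀ g ∈ Xn X Γ n δ, x * g * x⁻¹ ∈ Xn X Γ n δ) : False := by
  have a1 : Xn X Γ n δ ≤ 𝐆 δ := h.Xn_le_G (by simp; omega)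
  haveI := h.fin δ
  haveI := finite_of_le a1
  refine h.Z_ne_bot ν (eq_bot_iff.2 ((Z_le_Xn a c).trans (not_norm h.toA3 e a1
    (h.Xn_le_G (by rw [SimpleGraph.dist_eq_one_iff_adj.2 e]; omega)) (h.G_le_NX n δ) x1 x2
    (mem_normalizer_of_cj_le ?_)).le))
  rintro _ ⟨g, hg, rfl⟩
  exact x3 g hg

theorem adj_of_dist (a : 𝐀 μ) (b : ¬ 𝐀 δ) (d : Γ.dist δ μ ≤ 1) : Γ.Adj δ μ := by
  rcases Nat.le_one_iff_eq_zero_or_eq_one.1 d with c | c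
  · rw [h.conn.dist_eq_zero_iff] at c; exact (b (c ▸ a)).elim
  · exact SimpleGraph.dist_eq_one_iff_adj.1 c

theorem V_le_iff (b : ¬ 𝐀 β) {K : Subgroup X} :
    Xn X Γ 1 β ≤ K ↔ ∀ μ, Γ.Adj β μ → 𝐙 μ ≤ K :=
  Xn_le_iff.trans ⟨fun c μ e => c μ (h.toA e b) (SimpleGraph.dist_eq_one_iff_adj.2 e).le,
    fun c μ a d => c μ (h.adj_of_dist a b d)⟩

theorem Z_le_V (b : ¬ 𝐀 β) (e : Γ.Adj β μ) : 𝐙 μ ≤ Xn X Γ 1 β := (h.V_le_iff b).1 le_rfl μ e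

/-- `Q_β` centralizes `V_β / Y_β` -/
theorem comm_V (b : ¬ 𝐀 β) (hx : x ∈ 𝐐 β) (hz : z ∈ Xn X Γ 1 β) : x * z * x⁻¹ * z⁻¹ ∈ 𝐘 β := by
  have : Xn X Γ 1 β ≤ 𝐆 β ⊓ Cz (𝐘 β) (zpowers x) := (h.V_le_iff b).2 fun μ e z hz => by
    have a := h.Q_le_adj e.symm (Z_le_Q0 μ hz)
    refine ⟨a, mem_Cz.2 ⟨le_normalizer_omegaOneCenter le_normalizer a, fun k hk => ?_⟩⟩
    have := h.comm_mem_Y e.symm (h.toA e b) hz (h.Q_le_T' e.symm (zpowers_le.2 hx hk))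
    rwa [commutatorElement_def, inv_of_sq (Z_sq hz)]
  exact (this hz).2.2 x (mem_zpowers x)

theorem lA {f : ℤ → V} (l : Line Γ f) {i : ℤ} (a : 𝐀 (f i)) (j : ℤ) (e : (j - i) % 2 = 0 := by omega) :
    𝐀 (f j) := by
  have k : ∀ (f : ℤ → V), Line Γ f → ∀ n : ℕ, 𝐀 (f 0) → 𝐀 (f (2 * n)) := fun f l n a => by
    induction n with
    | zero => exact a
    | succ n ih => exact h.toA (l.adj (i := 2 * n + 1)) (h.nA l.adj ih)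
  rcases le_total i j with c | c
  · have := k _ (l.shift i) ((j - i) / 2).toNat (by simpa using a)
    rwa [show 2 * (((j - i) / 2).toNat : ℤ) + i = j by omega] at this
  · have := k _ (l.rev i) ((i - j) / 2).toNat (by simpa using a)
    rwa [show i - 2 * (((i - j) / 2).toNat : ℤ) = j by omega] at this

theorem lB {f : ℤ → V} (l : Line Γ f) {i : ℤ} (a : 𝐀 (f i)) (j : ℤ) (e : (j - i) % 2 = 1 := by omega) :
    ¬ 𝐀 (f j) := h.nA (l.adj (i := j - 1)) (h.lA l a _)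

theorem lQ {f : ℤ → V} (l : Line Γ f) {i : ℤ} (a : 𝐀 (f i)) (j : ℤ) (c : i - j < 𝐛 := by omega)
    (d : j - i < 𝐛 := by omega) : 𝐙 (f i) ≤ 𝐐 (f j) :=
  have := h.b_pos
  Z_le_Q (Γ := Γ) a (lt_of_le_of_lt (l.dist_le h.conn i j (n := 𝐛 - 1)) (by omega))

theorem lG {f : ℤ → V} (l : Line Γ f) {i : ℤ} (a : 𝐀 (f i)) (j : ℤ) (c : i - j ≤ 𝐛 := by omega)
    (d : j - i ≤ 𝐛 := by omega) : 𝐙 (f i) ≤ 𝐆 (f j) :=
  h.Z_le_G a (l.dist_le h.conn i j)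

theorem mQ {f : ℤ → V} (l : Line Γ f) {i : ℤ} (a : 𝐀 (f i)) (hx : x ∈ 𝐙 (f i)) {j : ℤ}
    (c : i - j < 𝐛 := by omega) (d : j - i < 𝐛 := by omega) : x ∈ 𝐐 (f j) := h.lQ l a j c d hx

theorem mG {f : ℤ → V} (l : Line Γ f) {i : ℤ} (a : 𝐀 (f i)) (hx : x ∈ 𝐙 (f i)) {j : ℤ}
    (c : i - j ≤ 𝐛 := by omega) (d : j - i ≤ 𝐛 := by omega) : x ∈ 𝐆 (f j) := h.lG l a j c d hx

theorem yQ {f : ℤ → V} (l : Line Γ f) {i : ℤ} (a : ¬ 𝐀 (f i)) (hx : x ∈ 𝐘 (f i)) {j : ℤ}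
    (c : i - j ≤ 𝐛 := by omega) (d : j - i ≤ 𝐛 := by omega) : x ∈ 𝐐 (f j) := by
  rcases lt_trichotomy i j with e | e | e
  · exact h.mQ l (h.toA (l.adj (j := i + 1)) a) (h.Y_le_Z l.adj' hx)
  · exact e ▸ h.Y_le_Q _ hx
  · exact h.mQ l (h.toA (l.adj' (j := i - 1)) a) (h.Y_le_Z l.adj hx)

theorem xG {f : ℤ → V} (l : Line Γ f) {i : ℤ} {n : ℕ} (hx : x ∈ Xn X Γ n (f i)) {j : ℤ}
    (c : n + i - j ≤ 𝐛 := by omega) (d : n + j - i ≤ 𝐛 := by omega) : x ∈ 𝐆 (f j) :=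
  h.Xn_le_G (by have := l.dist_le h.conn i j (n := 𝐛 - n); omega) hx

theorem xQ {f : ℤ → V} (l : Line Γ f) {i : ℤ} {n : ℕ} (hx : x ∈ Xn X Γ n (f i)) {j : ℤ}
    (c : n + i - j < 𝐛 := by omega) (d : n + j - i < 𝐛 := by omega) : x ∈ 𝐐 (f j) :=
  h.Xn_le_Q (by have := l.dist_le h.conn i j (n := 𝐛 - n - 1); omega) hx

end D3

end H8.GA
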