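import Cfsg.Agent.H8.GA2

/-!
Goldschmidt amalgams, part 3: the degenerate cases, and centres of order two.
-/

set_option autoImplicit false

open Cfsg Subgroup H28 MulAction
open scoped Pointwise commutatorElement

namespace H8.GA

variable {X : Type*} [Group X] {V : Type*} [MulAction X V] {Γ : SimpleGraph V}

local notation:max "𝐆" δ:max => stabilizer X δ
local notation:max "𝐐" δ:max => Qv 2 X δ
local notation:max "𝐘" δ:max => Yv X δ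
local notation:max "𝐙" δ:max => Zw X δ
local notation:max "𝐀" δ:max => IsA X δ
local notation:max "#" H:max => Nat.card H
local notation "𝐛" => cd X Γ

theorem card_le_of_rel {A L : Subgroup X} {k : ℕ} (h : A.relIndex L ≤ k) :
    #L ≤ k * #(L ⊓ A : Subgroup X) := by
  have := (A.subgroupOf L).card_mul_index
  rw [← inf_subgroupOf_left, card_subgroupOf inf_le_left, inf_subgroupOf_left] at this
  rw [← this, mul_comm]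
  exact Nat.mul_le_mul_right _ h

/-- the kernel on the ball of radius two -/
def Cv (X : Type*) [Group X] {V : Type*} [MulAction X V] (Γ : SimpleGraph V) (δ : V) :
    Subgroup X := Qv 2 X δ ⊓ ⨅ μ : Γ.neighborSet δ, Qv 2 X (μ : V)

local notation:max "𝐊" δ:max => Cv X Γ δ

theorem mem_Cv {δ : V} {x : X} : x ∈ 𝐊 δ ↔ x ∈ 𝐐 δ ∧ ∀ μ, Γ.Adj δ μ → x ∈ 𝐐 μ := by
  rw [Cv, mem_inf, mem_iInf]
  exact and_congr_right fun _ => ⟨fun h μ e => h ⟨μ, e⟩, fun h μ => h μ μ.2⟩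

section A3

variable (h : A3 X Γ) {δ μ ν ρ : V} {x g : X}
include h

theorem card_le_two (e : Γ.Adj δ μ) {L : Subgroup X} (hL : L ≤ 𝐆 δ ⊓ 𝐆 μ) :
    #L ≤ 2 * #(L ⊓ 𝐐 δ : Subgroup X) :=
  card_le_of_rel ((relIndex_le_of_le_right hL (by rw [h.qtwo e]; decide)).trans (h.qtwo e).le)

theorem smul_mem_Cv : g * x * g⁻¹ ∈ 𝐊 (g • δ) ↔ x ∈ 𝐊 δ := by
  have k : ∀ (g x : X) (δ : V), x ∈ 𝐊 δ → g * x * g⁻¹ ∈ 𝐊 (g • δ) := fun g x δ a =>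
    mem_Cv.2 ⟨(smul_mem_Q h).2 (mem_Cv.1 a).1, fun μ e => by
      rw [← smul_inv_smul g μ, smul_mem_Q h]
      exact (mem_Cv.1 a).2 _ (by simpa using h.smul g⁻¹ e)⟩
  refine ⟨fun a => ?_, k g x δ⟩
  simpa [mul_assoc] using k g⁻¹ _ _ a

theorem conj_mem_Cv (hg : g ∈ 𝐆 δ) : g * x * g⁻¹ ∈ 𝐊 δ ↔ x ∈ 𝐊 δ := by
  have := smul_mem_Cv h (δ := δ) (g := g) (x := x)
  rwa [mem_stabilizer_iff.1 hg] at this

theorem G_le_NC (δ : V) : 𝐆 δ ≤ 𝐍 (𝐊 δ) := fun _ hg =>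
  mem_normalizer_iff.2 fun _ => (conj_mem_Cv h hg).symm

theorem mem_Cv3 (e1 : Γ.Adj δ μ) (e2 : Γ.Adj δ ν) (e3 : Γ.Adj δ ρ) (n : μ ≠ ν) (n1 : ρ ≠ μ)
    (n2 : ρ ≠ ν) (a : x ∈ 𝐐 δ) (a1 : x ∈ 𝐐 μ) (a2 : x ∈ 𝐐 ν) (a3 : x ∈ 𝐐 ρ) : x ∈ 𝐊 δ :=
  mem_Cv.2 ⟨a, fun κ e => by
    rcases cases3 h e1 e2 e3 e n n1 n2 with rfl | rfl | rfl <;> assumption⟩

theorem card_Q_le (δ : V) : #(𝐐 δ) ≤ 8 * #(𝐊 δ) := by
  obtain ⟨μ, e1⟩ := h.nbr δ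
  obtain ⟨ν, e2, n⟩ := h.exists_ne e1
  obtain ⟨ρ, e3, n1, n2⟩ := exists_third h e1 e2 n.symm
  have a1 := card_le_two h e1.symm (h.Q_le_T' e1.symm)
  have a2 := card_le_two h e2.symm (L := 𝐐 δ ⊓ 𝐐 μ) (inf_le_left.trans (h.Q_le_T' e2.symm))
  have a3 := card_le_two h e3.symm (L := 𝐐 δ ⊓ 𝐐 μ ⊓ 𝐐 ν)
    (inf_le_left.trans (inf_le_left.trans (h.Q_le_T' e3.symm)))
  haveI := h.fin δ
  haveI : Finite (𝐊 δ) := finite_of_le (inf_le_left.trans (Q_le_G δ))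
  have a4 := card_le_of_le' (K := 𝐊 δ) (H := 𝐐 δ ⊓ 𝐐 μ ⊓ 𝐐 ν ⊓ 𝐐 ρ) fun x hx =>
    mem_Cv3 h e1 e2 e3 n.symm n1 n2 hx.1.1.1 hx.1.1.2 hx.1.2 hx.2
  omega

/-- the case where one of the stabilizers is not of characteristic two -/
theorem card_of_not_char (e : Γ.Adj δ μ) (c : ¬ IsCharP 2 (𝐆 δ)) : #(𝐐 μ) ≤ 8 := by
  obtain ⟨d, d1, -, d3⟩ := h.exists_odd (C := 𝐆 δ ⊓ 𝐂 (𝐐 δ)) inf_le_left
    (le_normalizer_inf le_normalizer (le_normalizer_centralizer (G_le_NQ δ))) c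
  have a : 𝐊 μ ≤ 𝐐 δ := fun x hx => (mem_Cv.1 hx).2 δ e.symm
  have := not_norm h e.symm (K := 𝐊 μ) (inf_le_left.trans (Q_le_G μ)) (a.trans (Q_le_G δ))
    (G_le_NC h μ) d1.1 (d3 μ e) (centralizer_le_normalizer _ (centralizer_anti a d1.2))
  have b := card_Q_le h μ
  rwa [this, card_bot] at b

end A3

theorem card_mul_le {A B C : Subgroup X} [Finite C] (a : A ≤ C) (b : B ≤ C)
    (d : ∀ z ∈ A, z ∈ B → z = 1) : #A * #B ≤ #C := by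
  rw [← Nat.card_prod]
  refine Nat.card_le_card_of_injective (fun p : A × B => (⟨p.1 * p.2, mul_mem (a p.1.2) (b p.2.2)⟩ : C))
    fun p q e => ?_
  have e : (p.1 : X) * p.2 = q.1 * q.2 := congrArg Subtype.val e
  have k : (q.1 : X)⁻¹ * p.1 = q.2 * (p.2 : X)⁻¹ := by
    rw [inv_mul_eq_iff_eq_mul, ← mul_assoc, ← e, mul_inv_cancel_right]
  have k1 := d _ (mul_mem (inv_mem q.1.2) p.1.2) (k ▸ mul_mem q.2.2 (inv_mem p.2.2))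
  have k2 : (q.1 : X) = p.1 := inv_mul_eq_one.1 k1
  rw [← k2] at e
  exact Prod.ext (Subtype.ext k2.symm) (Subtype.ext (mul_left_cancel e))

namespace D3

variable (h : D3 X Γ) {δ μ ν α β γ : V} {g x z : X}
include h

theorem Y_le_C (b : ¬ 𝐀 β) : 𝐘 β ≤ 𝐊 β := fun _ hz =>
  have := b
  mem_Cv.2 ⟨h.Y_le_Q β hz, fun μ e => Z_le_Q0 μ (h.Y_le_Z e.symm hz)⟩

theorem card_Y (a : ¬ 𝐀 β) (b : ¬ 𝐀 γ) : #(𝐘 β) = #(𝐘 γ) := by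
  obtain ⟨g, rfl⟩ := h.col.tr β γ (by tauto)
  rw [Y_smul, card_cj]

/-- critical distance one -/
theorem card_of_one (e : Γ.Adj α β) (a : 𝐀 α) (c : ¬ 𝐙 α ≤ 𝐐 β) : #(𝐐 α) ≤ 16 := by
  have k : ∀ μ, Γ.Adj β μ → ∃ x ∈ 𝐙 μ, x ∉ 𝐐 β := fun μ e' => by
    obtain ⟨g, hg, rfl⟩ := h.trans β α μ e.symm e'
    obtain ⟨x, x1, x2⟩ := SetLike.not_le_iff_exists.1 c
    exact ⟨_, smul_mem_Z.2 x1, fun d => x2 ((conj_mem_Q h.toA3 hg).1 d)⟩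
  have kT : ∀ μ, Γ.Adj β μ → ∀ x ∈ 𝐙 μ, x ∈ 𝐆 β ⊓ 𝐆 μ := fun μ e' x hx =>
    h.Q_le_T' e' (Z_le_Q0 μ hx)
  -- the `Q_μ` are elementary abelian
  have ea : ∀ μ, Γ.Adj β μ → 𝐐 μ ≤ 𝐙 μ := fun μ e1 => by
    obtain ⟨ν, e2, n⟩ := h.exists_ne e1
    obtain ⟨x, x1, x2⟩ := k μ e1
    obtain ⟨y, y1, y2⟩ := k ν e2
    have s : ∀ q ∈ 𝐐 μ, q * q ∈ 𝐐 ν := fun q hq => by
      by_cases d : q ∈ 𝐐 β
      · exact sq_mem_Q h.toA3 e2.symm (h.Q_le_T' e2.symm d)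
      · have := sq_mem_Q h.toA3 e2.symm (h.Q_le_T' e2.symm
          (h.mul_mem_Q e1 (h.Q_le_T' e1 hq) (kT μ e1 x x1) d x2))
        rwa [(Z_comm x1 hq).symm.mul_mul_mul_comm, Z_sq x1, mul_one] at this
    have F : closure {y | ∃ q ∈ 𝐐 μ, y = q * q} = ⊥ := by
      have l1 : closure {y | ∃ q ∈ 𝐐 μ, y = q * q} ≤ 𝐐 μ :=
        (closure_le _).2 fun _ ⟨q, a, b⟩ => b ▸ mul_mem a a
      have l2 : closure {y | ∃ q ∈ 𝐐 μ, y = q * q} ≤ 𝐐 ν :=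
        (closure_le _).2 fun _ ⟨q, a, b⟩ => b ▸ s q a
      refine not_norm h.toA3 e1.symm (l1.trans (Q_le_G μ)) (l1.trans (h.Q_le_adj e1.symm))
        (le_normalizer_of_cj_le fun g hg => ?_) (kT ν e2 y y1).1
        (h.not_mem_G e2 e1 n (kT ν e2 y y1) y2)
        (centralizer_le_normalizer _ fun q hq => Z_comm y1 (l2 hq))
      rw [MonoidHom.map_closure, closure_le]
      rintro _ ⟨_, ⟨q, a, rfl⟩, rfl⟩
      exact subset_closure ⟨_, (conj_mem_Q h.toA3 hg).2 a, by simp [mul_assoc]⟩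
    have s1 : ∀ q ∈ 𝐐 μ, q * q = 1 := fun q hq => F.le (subset_closure ⟨q, hq, rfl⟩)
    refine fun q hq => mem_omega.2 ⟨hq, fun g hg => ?_, s1 q hq⟩
    have := inv_of_sq (s1 _ (mul_mem hg hq))
    rw [mul_inv_rev, inv_of_sq (s1 q hq), inv_of_sq (s1 g hg)] at this
    exact this.symm
  obtain ⟨ν, e2, n⟩ := h.exists_ne e.symm
  haveI := h.fin α
  haveI : Finite (𝐐 α) := finite_of_le (Q_le_G α)
  have b := h.nA e a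
  haveI : Finite (𝐘 β) := finite_of_le ((h.Y_le_Z e).trans (Z_le_Q0 α))
  obtain ⟨γ, e3, n3⟩ := h.exists_ne e
  have c1 := card_mul_le ((h.Y_le_Z e).trans (Z_le_Q0 α)) ((h.Y_le_Z e3).trans (Z_le_Q0 α))
    fun z z1 z2 => h.Y_disj e e3 n3.symm a z1 z2
  rw [← h.card_Y b (h.nA e3 a)] at c1
  have c2 := card_le_two h.toA3 e.symm (h.Q_le_T' e.symm)
  have c3 := card_le_two h.toA3 e2.symm (L := 𝐐 α ⊓ 𝐐 β) (inf_le_right.trans (h.Q_le_T' e2.symm))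
  have c4 : 𝐐 α ⊓ 𝐐 β ⊓ 𝐐 ν ≤ 𝐘 β := by
    by_cases d : 𝐐 ν ⊓ 𝐐 β ≤ 𝐐 α
    · exfalso
      have dC : ∀ μ, Γ.Adj β μ → 𝐐 μ ⊓ 𝐐 β ≤ 𝐊 β := by
        obtain ⟨x, x1, x2⟩ := k ν e2
        obtain ⟨s1, s2, s3⟩ := smul_ne h.toA3 e2 e.symm n (kT ν e2 x x1) x2
        have : 𝐐 ν ⊓ 𝐐 β ≤ 𝐊 β := fun q hq => mem_Cv3 h.toA3 e2 e.symm s3 n s2 s1 hq.2 hq.1
          (d hq) (by rw [← (Z_comm x1 hq.1).symm.mul_inv_cancel, smul_mem_Q h.toA3]; exact d hq)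
        intro μ e' q hq
        obtain ⟨g, hg, c⟩ := h.trans β μ ν e' e2
        exact (conj_mem_Cv h.toA3 hg).1 (this ⟨c ▸ (smul_mem_Q h.toA3).2 hq.1,
          (conj_mem_Q h.toA3 hg).2 hq.2⟩)
      obtain ⟨x, x1, x2⟩ := k α e.symm
      obtain ⟨d, d1, d2, d3⟩ := h.exists_odd (C := 𝐆 β ⊓ 𝐂 (𝐊 β)) inf_le_left
        (le_normalizer_inf le_normalizer (le_normalizer_centralizer (G_le_NC h.toA3 β)))
        fun c => x2 (c ⟨(kT α e.symm x x1).1, fun q hq => Z_comm x1 ((mem_Cv.1 hq).2 α e.symm)⟩)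
      obtain ⟨q, q1, q2⟩ := h.exists_Q e
      have r : (𝐊 β).relIndex (𝐐 β) = 2 :=
        relIndex_eq_two_iff_exists_notMem_and.2 ⟨q, q1, fun c => q2 ((mem_Cv.1 c).2 α e.symm),
          fun u hu => by
            by_cases c : u ∈ 𝐐 α
            · exact Or.inr (dC α e.symm ⟨c, hu⟩)
            · exact Or.inl (dC α e.symm ⟨h.mul_mem_Q e (h.Q_le_T' e hu) (h.Q_le_T' e q1) c q2,
                mul_mem hu q1⟩)⟩
      refine d3 α e.symm (h.Q_le_adj e.symm (h.mem_Q_of d1.1 fun u hu => ?_))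
      have := commutatorElement_mem_of_odd (N := ⊥) d2
        ((isPGroup_pCoreOf 2 (𝐆 β)).to_le (inf_le_left : 𝐊 β ≤ _)) (normalizer_bot.ge (mem_top d))
        (commutatorElement_mem_of_relIndex_two r (G_le_NQ β d1.1) (G_le_NC h.toA3 β d1.1) hu)
        fun w hw => mem_bot.2 (commutatorElement_eq_one_iff_mul_comm.2 (d1.2 w hw).symm)
      exact (commutatorElement_eq_one_iff_mul_comm.1 (mem_bot.1 this)).symm
    · obtain ⟨y, y1, y2⟩ := SetLike.not_le_iff_exists.1 d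
      exact fun q hq => h.mem_Y e a (ea α e.symm hq.1.1) (h.Q_le_T' e y1.2) y2
        (Z_comm (ea ν e2 hq.2) y1.1)
  have c5 := card_le_of_le' c4
  have : #(𝐘 β) ≤ 4 := by nlinarith
  omega

end D3

/-- the centres have order two -/
structure E3 (X : Type*) [Group X] {V : Type*} [MulAction X V] (Γ : SimpleGraph V) : Prop
    extends D3 X Γ where
  q2 : ∀ (β : V) (u v : X), u ∈ Yv X β → v ∈ Yv X β → u ≠ 1 → v ≠ 1 → u = v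

theorem D3.e3_of (h : D3 X Γ) {γ : V} (b : ¬ 𝐀 γ)
    (q : ∀ u v : X, u ∈ 𝐘 γ → v ∈ 𝐘 γ → u ≠ 1 → v ≠ 1 → u = v) : E3 X Γ :=
  ⟨h, fun β u v hu hv u1 v1 => by
    obtain ⟨g, rfl⟩ := h.col.tr β γ ⟨fun a => (u1 (a.le hu)).elim, fun a => (b a).elim⟩
    have := q _ _ (smul_mem_Y.2 hu) (smul_mem_Y.2 hv) (by simpa using u1) (by simpa using v1)
    simpa using this⟩

open Classical in
/-- the central involution -/
noncomputable def zz (X : Type*) [Group X] {V : Type*} [MulAction X V] (β : V) : X :=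
  if h : ∃ z ∈ Yv X β, z ≠ 1 then h.choose else 1

local notation:max "𝐳" δ:max => zz X δ

theorem z_mem (β : V) : 𝐳 β ∈ 𝐘 β := by
  unfold zz
  split_ifs with c
  exacts [c.choose_spec.1, one_mem _]

theorem z_ne {β : V} (b : ¬ 𝐀 β) : 𝐳 β ≠ 1 := by
  unfold zz
  rw [dif_pos (exists_Y b)]
  exact (exists_Y b).choose_spec.2

theorem z_sq (β : V) : 𝐳 β * 𝐳 β = 1 := Y_sq (z_mem β)

namespace E3

variable (h : E3 X Γ) {δ μ ν α β γ ρ : V} {g x u v : X}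
include h

theorem eq_z (hu : u ∈ 𝐘 β) (n : u ≠ 1) : u = 𝐳 β :=
  h.q2 β _ _ hu (z_mem β) n (z_ne fun a => n (a.le hu))

theorem Y_cases (hu : u ∈ 𝐘 β) : u = 1 ∨ u = 𝐳 β := (em (u = 1)).imp_right (h.eq_z hu)

theorem z_smul (b : ¬ 𝐀 β) : 𝐳 (g • β) = g * 𝐳 β * g⁻¹ :=
  (h.eq_z (smul_mem_Y.2 (z_mem β)) (by simpa using z_ne b)).symm

theorem z_mem_Z (e : Γ.Adj α β) : 𝐳 β ∈ 𝐙 α := h.Y_le_Z e (z_mem β)

theorem z_not_mem (e : Γ.Adj α β) (e' : Γ.Adj α γ) (n : β ≠ γ) (a : 𝐀 α) : 𝐳 γ ∉ 𝐘 β :=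
  fun c => z_ne (h.nA e' a) (h.Y_disj e e' n a c (z_mem γ))

theorem mul_mem_Y (e : Γ.Adj α β) (a : 𝐀 α) (hu : u ∈ 𝐙 α) (hv : v ∈ 𝐙 α) (u1 : u ∉ 𝐘 β)
    (v1 : v ∉ 𝐘 β) : u * v ∈ 𝐘 β := by
  obtain ⟨γ, e', n⟩ := h.exists_ne e
  obtain ⟨p, p1, q, q1, rfl⟩ := h.Z_dec e e' n.symm a hu
  obtain ⟨r, r1, s, s1, rfl⟩ := h.Z_dec e e' n.symm a hv
  rw [h.q2 γ s q s1 q1 (fun c => v1 (by rwa [c, mul_one])) (fun c => u1 (by rwa [c, mul_one])),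
    (ZZ (h.Y_le_Z e r1) (h.Y_le_Z e' q1)).mul_mul_mul_comm, Y_sq q1, mul_one]
  exact mul_mem p1 r1

theorem eq_z_third (e : Γ.Adj α β) (e' : Γ.Adj α γ) (e'' : Γ.Adj α ρ) (n : β ≠ γ) (n1 : ρ ≠ β)
    (n2 : ρ ≠ γ) (a : 𝐀 α) (hu : u ∈ 𝐙 α) (u1 : u ∉ 𝐘 β) (u2 : u ∉ 𝐘 γ) : u = 𝐳 ρ := by
  have := h.Y_disj e e' n a
    (h.mul_mem_Y e a hu (h.z_mem_Z e'') u1 (h.z_not_mem e e'' n1.symm a))
    (h.mul_mem_Y e' a hu (h.z_mem_Z e'') u2 (h.z_not_mem e' e'' n2.symm a))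
  exact (eq_inv_of_mul_eq_one_left this).trans (inv_of_sq (z_sq ρ))

theorem comm_eq_z (e : Γ.Adj α β) (a : 𝐀 α) (hu : u ∈ 𝐙 α) (u1 : u ∉ 𝐘 β) (hx : x ∈ 𝐆 α ⊓ 𝐆 β)
    (hx' : x ∉ 𝐐 α) : x * u * x⁻¹ * u = 𝐳 β :=
  h.eq_z (h.comm_mem_Y e a hu hx) fun c => u1 (h.mem_Y e a hu hx hx' (comm_of_conj_mul (Z_sq hu) c))

theorem mem_Q_of_comm' (e : Γ.Adj α β) (a : 𝐀 α) (hu : u ∈ 𝐙 α) (u1 : u ∉ 𝐘 β)
    (hx : x ∈ 𝐆 α ⊓ 𝐆 β) (c : Commute x u) : x ∈ 𝐐 α := by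
  by_contra d
  exact u1 (h.mem_Y e a hu hx d c)

theorem exists_Z (e : Γ.Adj α β) (a : 𝐀 α) : ∃ u ∈ 𝐙 α, u ∉ 𝐘 β := by
  obtain ⟨γ, e', n⟩ := h.exists_ne e
  exact ⟨_, h.z_mem_Z e', h.z_not_mem e e' n.symm a⟩

/-- a subgroup containing `Y_β` and one further element of `Z_α` contains `Z_α` -/
theorem Z_le_of (e : Γ.Adj α β) (a : 𝐀 α) {K : Subgroup X} (hY : 𝐘 β ≤ K) (hu : u ∈ 𝐙 α)
    (u1 : u ∉ 𝐘 β) (u2 : u ∈ K) : 𝐙 α ≤ K := fun v hv => by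
  by_cases c : v ∈ 𝐘 β
  · exact hY c
  · exact (mul_mem_cancel_right u2).1 (hY (h.mul_mem_Y e a hv hu c u1))

theorem card_Y (β : V) : #(𝐘 β) ≤ 2 := by
  have : ((𝐘 β : Subgroup X) : Set X) ⊆ {1, 𝐳 β} := fun _ hu => h.Y_cases hu
  exact (Set.ncard_le_ncard this).trans ((Set.ncard_insert_le _ _).trans (by simp))

theorem card_Z (a : 𝐀 α) : #(𝐙 α) ≤ 4 := by
  obtain ⟨β, e⟩ := h.nbr α
  obtain ⟨u, u1, u2⟩ := h.exists_Z e a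
  have r : (𝐘 β).relIndex (𝐙 α) = 2 :=
    relIndex_eq_two_iff_exists_notMem_and.2 ⟨u, u1, u2, fun v hv =>
      (em (v ∈ 𝐘 β)).symm.imp_left fun c => h.mul_mem_Y e a hv u1 c u2⟩
  have := card_le_of_rel r.le
  rw [inf_eq_right.2 (h.Y_le_Z e)] at this
  have := h.card_Y β
  omega

end E3

end H8.GA
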