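import Cfsg.Agent.H8.GA3

/-!
Goldschmidt amalgams, part 4: even critical distance.
-/

set_option autoImplicit false

open Cfsg Subgroup H28 MulAction
open scoped Pointwise commutatorElement

namespace H8.GA

variable {X : Type*} [Group X] {V : Type*} [MulAction X V] {Γ : SimpleGraph V}

local notation:max "𝐆" δ:max => stabilizer X δ
local notation:max "𝐐" δ:max => Qv 2 X δ
local notation:max "𝐘" δ:max => Yv X δ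
local notation:max "𝐙" δ:max => Zw X δ
local notation:max "𝐀" δ:max => IsA X δ
local notation:max "#" H:max => Nat.card H
local notation "𝐛" => cd X Γ
local notation:max "𝐊" δ:max => Cv X Γ δ
local notation:max "𝐳" δ:max => zz X δ
local notation:max "𝐕" δ:max => Xn X Γ 1 δ

/-- product of three elements of the `Z_α ∖ Y_β`, in a given order -/
def W3 (X : Type*) [Group X] {V : Type*} [MulAction X V] (β α₁ α₂ α₃ : V) (w : X) : Prop :=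
  ∃ a₁ ∈ Zw X α₁, a₁ ∉ Yv X β ∧ ∃ a₂ ∈ Zw X α₂, a₂ ∉ Yv X β ∧ ∃ a₃ ∈ Zw X α₃, a₃ ∉ Yv X β ∧
    w = a₁ * a₂ * a₃

/-- product of three elements of the `Z_α ∖ Y_β` -/
def IsW (X : Type*) [Group X] {V : Type*} [MulAction X V] (Γ : SimpleGraph V) (β : V) (w : X) :
    Prop :=
  ∃ α₁ α₂ α₃, Γ.Adj β α₁ ∧ Γ.Adj β α₂ ∧ Γ.Adj β α₃ ∧ α₁ ≠ α₂ ∧ α₃ ≠ α₁ ∧ α₃ ≠ α₂ ∧
    W3 X β α₁ α₂ α₃ w

local notation:max "𝐖" β:max w:max => IsW X Γ β w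

theorem IsW.smul (h : AG X Γ) {β : V} {w : X} (c : 𝐖 β w) (g : X) : 𝐖 (g • β) (g * w * g⁻¹) := by
  obtain ⟨a, b, c, e1, e2, e3, n1, n2, n3, x, x1, x2, y, y1, y2, z, z1, z2, rfl⟩ := c
  exact ⟨_, _, _, h.smul g e1, h.smul g e2, h.smul g e3, (smul_left_cancel_iff g).not.2 n1,
    (smul_left_cancel_iff g).not.2 n2, (smul_left_cancel_iff g).not.2 n3,
    _, smul_mem_Z.2 x1, smul_mem_Y.not.2 x2, _, smul_mem_Z.2 y1, smul_mem_Y.not.2 y2,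
    _, smul_mem_Z.2 z1, smul_mem_Y.not.2 z2, by group⟩

theorem IsW.conj (h : AG X Γ) {β : V} {w g : X} (c : 𝐖 β w) (hg : g ∈ 𝐆 β) :
    𝐖 β (g * w * g⁻¹) := by
  have := c.smul h g
  rwa [mem_stabilizer_iff.1 hg] at this

namespace D3

variable (h : D3 X Γ) {f : ℤ → V} {α β γ μ : V} {w : X}
include h

theorem W_mem (b : ¬ 𝐀 β) (c : 𝐖 β w) : w ∈ 𝐕 β := by
  obtain ⟨a, b', c, e1, e2, e3, -, -, -, x, x1, -, y, y1, -, z, z1, -, rfl⟩ := c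
  exact mul_mem (mul_mem (h.Z_le_V b e1 x1) (h.Z_le_V b e2 y1)) (h.Z_le_V b e3 z1)

theorem V_le_Q (h2 : 2 ≤ 𝐛) (β : V) : 𝐕 β ≤ 𝐐 β := h.Xn_le_Q (by simp; omega)

theorem adj_le_Q (h2 : 2 ≤ 𝐛) (e : Γ.Adj α β) (a : 𝐀 α) : 𝐙 α ≤ 𝐐 β :=
  Z_le_Q (Γ := Γ) a (by rw [SimpleGraph.dist_eq_one_iff_adj.2 e]; omega)

theorem crit_even (c : Cl X Γ f) (a : 𝐀 (f 𝐛)) : ∃ y ∈ 𝐙 (f 𝐛), y ∉ 𝐐 (f 0) := by
  by_contra! d
  have := h.b_pos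
  exact c.n fun x hx => h.mem_Q_of_comm (β := f (𝐛 - 1)) c.l.adj' a
    ⟨h.mG c.l c.a hx, Q_le_G _ (h.mQ c.l c.a hx)⟩ fun z hz => (Z_comm hx (d z hz)).symm

theorem e3_of_even (c : Cl X Γ f) (a : 𝐀 (f 𝐛)) : E3 X Γ := by
  have := h.b_pos
  obtain ⟨y, y1, y2⟩ := h.crit_even c a
  have e : Γ.Adj (f 0) (f (-1)) := c.l.adj'
  have k : ∀ u ∈ 𝐘 (f (-1)), u ∈ 𝐐 (f 𝐛) → u = 1 := fun u hu q =>
    h.Y_disj (γ := f 1) e c.l.adj c.l.ne c.a hu (h.mem_Y c.l.adj c.a (h.Y_le_Z e hu)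
      ⟨h.mG c.l a y1, Q_le_G _ (h.mQ c.l a y1)⟩ y2 (Z_comm y1 q).symm)
  have kT : ∀ u ∈ 𝐘 (f (-1)), u ∈ 𝐆 (f 𝐛) ⊓ 𝐆 (f (𝐛 - 1)) := fun u hu =>
    ⟨h.mG c.l c.a (h.Y_le_Z e hu), Q_le_G _ (h.mQ c.l c.a (h.Y_le_Z e hu))⟩
  refine h.e3_of (h.nA e c.a) fun u v hu hv u1 v1 => ?_
  have := k _ (mul_mem hu hv) (h.mul_mem_Q c.l.adj' (kT u hu) (kT v hv) (fun q => u1 (k u hu q))
    fun q => v1 (k v hv q))
  exact (eq_inv_of_mul_eq_one_left this).trans (inv_of_sq (Y_sq hv))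

end D3

namespace E3

variable (h : E3 X Γ) {f : ℤ → V} {α β γ μ α₁ α₂ α₃ : V} {w w' : X}
include h

theorem W3_lab (h2 : 2 ≤ 𝐛) (b : ¬ 𝐀 β) (c : 𝐖 β w) (e1 : Γ.Adj β α₁) (e2 : Γ.Adj β α₂)
    (e3 : Γ.Adj β α₃) (n : α₁ ≠ α₂) (n1 : α₃ ≠ α₁) (n2 : α₃ ≠ α₂) : W3 X β α₁ α₂ α₃ w := by
  have cm : ∀ {p q : V} {x y : X}, Γ.Adj β p → Γ.Adj β q → x ∈ 𝐙 p → y ∈ 𝐙 q →
      ∃ u ∈ 𝐘 β, x * y = y * x * u := fun {p q x y} ep eq hx hy => by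
    have := h.comm_V b (inv_mem (h.adj_le_Q h2 ep.symm (h.toA ep b) hx)) (inv_mem (h.Z_le_V b eq hy))
    exact ⟨_, this, by group⟩
  have s1 : ∀ {p q r : V}, Γ.Adj β p → Γ.Adj β q → Γ.Adj β r → W3 X β p q r w → W3 X β q p r w :=
    fun {p q r} ep eq er ⟨x, x1, x2, y, y1, y2, z, z1, z2, k⟩ => by
      obtain ⟨u, u1, u2⟩ := cm ep eq x1 y1
      exact ⟨y, y1, y2, x, x1, x2, u * z, mul_mem (h.Y_le_Z er.symm u1) z1,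
        fun d => z2 ((mul_mem_cancel_left u1).1 d), by rw [k, u2]; group⟩
  have s2 : ∀ {p q r : V}, Γ.Adj β q → Γ.Adj β r → W3 X β p q r w → W3 X β p r q w :=
    fun {p q r} eq er ⟨x, x1, x2, y, y1, y2, z, z1, z2, k⟩ => by
      obtain ⟨u, u1, u2⟩ := cm eq er y1 z1
      exact ⟨x, x1, x2, z, z1, z2, y * u, mul_mem y1 (h.Y_le_Z eq.symm u1),
        fun d => y2 ((mul_mem_cancel_right u1).1 d), by rw [k, mul_assoc, u2]; group⟩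
  obtain ⟨p, q, r, ep, eq, er, m, m1, m2, k⟩ := c
  rcases cases3 h.toA3 ep eq er e1 m m1 m2 with rfl | rfl | rfl <;>
    rcases cases3 h.toA3 ep eq er e2 m m1 m2 with rfl | rfl | rfl <;>
    rcases cases3 h.toA3 ep eq er e3 m m1 m2 with rfl | rfl | rfl <;>
    first
      | exact (n rfl).elim
      | exact (n1 rfl).elim
      | exact (n2 rfl).elim
      | exact k
      | exact s2 eq er k
      | exact s1 ep eq er k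
      | exact s2 ep er (s1 ep eq er k)
      | exact s1 ep er eq (s2 eq er k)
      | exact s2 ep eq (s1 ep er eq (s2 eq er k))

theorem W_lab (h2 : 2 ≤ 𝐛) (b : ¬ 𝐀 β) (c : 𝐖 β w) (e1 : Γ.Adj β α₁) (e2 : Γ.Adj β α₂)
    (e3 : Γ.Adj β α₃) (n : α₁ ≠ α₂) (n1 : α₃ ≠ α₁) (n2 : α₃ ≠ α₂) {x y : X} (x1 : x ∈ 𝐙 α₁)
    (x2 : x ∉ 𝐘 β) (y1 : y ∈ 𝐙 α₂) (y2 : y ∉ 𝐘 β) : ∃ z ∈ 𝐙 α₃, z ∉ 𝐘 β ∧ w = x * y * z := by
  obtain ⟨p, p1, p2, q, q1, q2, r, r1, r2, rfl⟩ := h.W3_lab h2 b c e1 e2 e3 n n1 n2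
  have u := h.mul_mem_Y e1.symm (h.toA e1 b) x1 p1 x2 p2
  have v := h.mul_mem_Y e2.symm (h.toA e2 b) y1 q1 y2 q2
  refine ⟨x * p * (y * q) * r, mul_mem (h.Y_le_Z e3.symm (mul_mem u v)) r1,
    fun d => r2 ((mul_mem_cancel_left (mul_mem u v)).1 d), ?_⟩
  have c := Y_comm u (h.Q_le_adj e2.symm (Z_le_Q0 _ y1))
  calc p * q * r = (x * x) * p * ((y * y) * q) * r := by rw [Z_sq x1, Z_sq y1]; group
    _ = x * ((x * p) * y) * (y * q) * r := by group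
    _ = _ := by rw [← c.eq]; group

theorem W_uniq (h2 : 2 ≤ 𝐛) (b : ¬ 𝐀 β) (c : 𝐖 β w) (c' : 𝐖 β w') : ∃ y ∈ 𝐘 β, w' = w * y := by
  obtain ⟨p, q, r, ep, eq, er, m, m1, m2, x, x1, x2, y, y1, y2, z, z1, z2, rfl⟩ := c
  obtain ⟨u, u1, u2, rfl⟩ := h.W_lab h2 b c' ep eq er m m1 m2 x1 x2 y1 y2
  refine ⟨_, h.mul_mem_Y er.symm (h.toA er b) z1 u1 z2 u2, ?_⟩
  rw [mul_assoc _ z, ← mul_assoc z, Z_sq z1, one_mul]

theorem exists_W (b : ¬ 𝐀 β) : ∃ w, 𝐖 β w := by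
  obtain ⟨p, e1⟩ := h.nbr β
  obtain ⟨q, e2, n⟩ := h.exists_ne e1
  obtain ⟨r, e3, n1, n2⟩ := exists_third h.toA3 e1 e2 n.symm
  obtain ⟨x, x1, x2⟩ := h.exists_Z e1.symm (h.toA e1 b)
  obtain ⟨y, y1, y2⟩ := h.exists_Z e2.symm (h.toA e2 b)
  obtain ⟨z, z1, z2⟩ := h.exists_Z e3.symm (h.toA e3 b)
  exact ⟨_, p, q, r, e1, e2, e3, n.symm, n1, n2, x, x1, x2, y, y1, y2, z, z1, z2, rfl⟩

theorem W_comm (h2 : 2 ≤ 𝐛) (b : ¬ 𝐀 β) (c : 𝐖 β w) {g : X} (hg : g ∈ 𝐆 β) :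
    ∃ y ∈ 𝐘 β, g * w * g⁻¹ = w * y := h.W_uniq h2 b c (c.conj h.toAG hg)

/-- the action of `Q_β` on `Z_α` -/
theorem conj_Z (e : Γ.Adj β α) (b : ¬ 𝐀 β) {x q : X} (x1 : x ∈ 𝐙 α) (x2 : x ∉ 𝐘 β)
    (hq : q ∈ 𝐐 β) (q2 : q ∉ 𝐐 α) : q * x * q⁻¹ = 𝐳 β * x := by
  rw [← h.comm_eq_z e.symm (h.toA e b) x1 x2 (h.Q_le_T' e.symm hq) q2, mul_assoc _ x x, Z_sq x1,
    mul_one]

theorem z_eq (c : Cl X Γ f) (a : 𝐀 (f 𝐛)) : 𝐳 (f 1) = 𝐳 (f (𝐛 - 1)) := by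
  have := h.b_pos
  have b1 : 𝐛 ≠ 1 := fun e => h.lB c.l c.a 𝐛 (by omega) a
  obtain ⟨y, y1, y2⟩ := h.crit_even c a
  obtain ⟨x, x1, x2⟩ := SetLike.not_le_iff_exists.1 c.n
  have p := h.comm_eq_z (β := f 1) c.l.adj c.a x1
    (fun d => x2 (h.yQ c.l (h.lB c.l c.a 1) d))
    ⟨h.mG c.l a y1, Q_le_G _ (h.mQ c.l a y1)⟩ y2
  have q := h.comm_eq_z (β := f (𝐛 - 1)) c.l.adj' a y1
    (fun d => y2 (h.yQ c.l (h.lB c.l a (𝐛 - 1)) d))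
    ⟨h.mG c.l c.a x1, Q_le_G _ (h.mQ c.l c.a x1)⟩ x2
  rw [← inv_of_sq (z_sq (f 1)), ← p, ← q, inv_of_sq (Z_sq x1), inv_of_sq (Z_sq y1)]
  simp only [mul_inv_rev, inv_of_sq (Z_sq x1), inv_of_sq (Z_sq y1), mul_assoc]

theorem not_even (c : Cl X Γ f) (a : 𝐀 (f 𝐛)) (h4 : 4 ≤ 𝐛) : False := by
  obtain ⟨y, y1, y2⟩ := h.crit_even c a
  obtain ⟨x, x1, x2⟩ := SetLike.not_le_iff_exists.1 c.n
  have l := c.l
  have yT : y ∈ 𝐆 (f 0) ⊓ 𝐆 (f 1) := ⟨h.mG l a y1, h.mG l a y1⟩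
  have e : Γ.Adj (f 0) (f (-1)) := l.adj'
  have b := h.nA e c.a
  have k1 : 𝐕 (f (-1)) ≤ 𝐐 (f (𝐛 - 2)) := (h.V_le_iff b).2 fun μ e' => by
    by_cases d : μ = f 0
    · rw [d]; exact h.lQ l c.a _
    by_contra k
    obtain ⟨g, lg, g0, g1⟩ := cons_line h.toA3 l (-1) e'.symm d
    have gb : g 𝐛 = f (𝐛 - 2) := by rw [g1 _ (by omega)]; congr 1; ring
    have := h.z_eq (f := g) ⟨lg, g0 ▸ h.toA e' b, by rwa [g0, gb]⟩ (gb ▸ h.lA l a _)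
    rw [g1 _ le_rfl, g1 _ (by omega)] at this
    refine h.z_not_mem (β := f 1) l.adj e l.ne' c.a (h.mem_Y l.adj c.a (h.z_mem_Z e) yT y2 ?_)
    rw [show (1 : ℤ) + -1 - 1 = -1 from rfl] at this
    rw [this]
    exact Y_comm (z_mem _) (h.mG l a y1)
  have k2 : ¬ 𝐕 (f (-1)) ≤ 𝐐 (f (𝐛 - 1)) := fun d => by
    refine h.not_norm_X (n := 1) e.symm (by omega) c.a
      (SimpleGraph.dist_eq_one_iff_adj.2 e.symm).le yT.1 (h.not_mem_G l.adj e l.ne' yT y2)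
      fun v hv => ?_
    have := h.comm_mem_Y (β := f (𝐛 - 1)) l.adj' a y1 (h.Q_le_T' l.adj' (d hv))
    have t : 𝐘 (f (𝐛 - 1)) ≤ 𝐕 (f (-1)) := fun u hu => by
      rcases h.Y_cases hu with rfl | rfl
      · exact one_mem _
      · rw [← h.z_eq c a]; exact h.Z_le_V b e.symm (h.z_mem_Z l.adj)
    have := mul_mem (inv_mem (t this)) hv
    rw [inv_of_sq (Z_sq y1)]
    convert this using 1
    simp only [mul_inv_rev, inv_of_sq (Z_sq y1), inv_inv]; group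
  obtain ⟨v, v1, v2⟩ := SetLike.not_le_iff_exists.1 k2
  have gd := gd_all h.toA3 h.col (n := 𝐛 - 1) (l.rev 𝐛) (l.rev (𝐛 - 1)) (by simpa using a)
    (by simpa using h.lB l a (𝐛 - 1)) ⟨x, fun i _ _ => h.mG l c.a x1, by simpa using x2⟩
    ⟨v, fun i _ _ => by
      by_cases d : i = 0
      · exact h.Q_le_adj (δ := f (𝐛 - 2)) l.adj (k1 v1)
      · exact h.xG l v1,
      by simpa using v2⟩
  obtain ⟨g, hg⟩ := trans_of_gd h.toA3 h.col 𝐛 (fun m p => gd m (by omega)) (l.rev 𝐛)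
    (l.rev (𝐛 - 2)) (by simpa using iff_of_true a (h.lA l a (𝐛 - 2)))
  have g0 := hg 0 le_rfl (by omega)
  have gb := hg 𝐛 (by omega) le_rfl
  simp only [sub_zero, sub_self] at g0 gb
  refine x2 ((smul_mem_Q h.toA3 (g := g)).1 ?_)
  rw [g0]
  refine k1 (h.Z_le_V b (μ := f (𝐛 - 2 - 𝐛)) l.adj' ?_)
  rw [← gb]; exact smul_mem_Z.2 x1

theorem two_crit (c : Cl X Γ f) (h2 : 𝐛 = 2) (b : ¬ 𝐀 β) (e : Γ.Adj β α) (e' : Γ.Adj β μ)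
    (n : α ≠ μ) {x : X} (x1 : x ∈ 𝐙 α) (x2 : x ∉ 𝐘 β) : x ∉ 𝐐 μ := fun d => by
  obtain ⟨g, lg, g0, g1⟩ := exists_line h.toA3 e'
  obtain ⟨k, lk, k0, k1⟩ := cons_line h.toA3 lg 0 (g0 ▸ e.symm) (by rwa [zero_add, g1])
  have gd : ∀ m, m < 2 → ∀ f, Line Γ f → Gd X f m := fun m p f l => by
    obtain ⟨t, t1, t2⟩ := SetLike.not_le_iff_exists.1 (h.not_T_le_Q (l.adj (i := 0) (j := 1)))
    refine ⟨t, fun i a b => ?_, t2⟩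
    rcases (by omega : i = 0 ∨ i = 1) with rfl | rfl
    exacts [t1.1, t1.2]
  obtain ⟨t, ht⟩ := trans_of_gd h.toA3 h.col 2 gd c.l lk (iff_of_true c.a (k0 ▸ h.toA e b))
  have t0 := ht 0 le_rfl (by omega)
  have t2 := ht 2 (by omega) le_rfl
  rw [k0] at t0
  rw [k1 _ (by omega), show (2 : ℤ) + 0 - 1 = 1 from rfl, g1] at t2
  refine c.n fun u hu => (smul_mem_Q h.toA3 (g := t)).1 ?_
  rw [h2, Nat.cast_ofNat, t2]
  refine h.Z_le_of e.symm (h.toA e b) ((h.Y_le_Z e'.symm).trans (Z_le_Q0 μ)) x1 x2 d ?_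
  rw [← t0]; exact smul_mem_Z.2 hu

theorem card_two (c : Cl X Γ f) (h2 : 𝐛 = 2) (b : ¬ 𝐀 β) : #(𝐐 β) ≤ 32 := by
  have tc := fun {β α μ : V} => h.two_crit c h2 (β := β) (α := α) (μ := μ)
  -- the elements `w`
  have kw : ∀ {γ α : V} {w : X}, ¬ 𝐀 γ → Γ.Adj γ α → 𝐖 γ w → w ∈ 𝐐 α ∧ w * w = 𝐳 γ :=
    fun {γ α w} b e c => by
    obtain ⟨q, e2, n⟩ := h.exists_ne e
    obtain ⟨r, e3, n1, n2⟩ := exists_third h.toA3 e e2 n.symm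
    obtain ⟨x, x1, x2, y, y1, y2, z, z1, z2, rfl⟩ := h.W3_lab h2.ge b c e e2 e3 n.symm n1 n2
    have Q : ∀ {p : V} {u : X}, Γ.Adj γ p → u ∈ 𝐙 p → u ∈ 𝐐 γ := fun ep hu =>
      h.adj_le_Q h2.ge ep.symm (h.toA ep b) hu
    have T : ∀ {p : V} {u : X}, Γ.Adj γ p → u ∈ 𝐙 p → u ∈ 𝐆 α ⊓ 𝐆 γ := fun ep hu =>
      h.Q_le_T' e.symm (Q ep hu)
    have m := h.mul_mem_Q e.symm (T e2 y1) (T e3 z1) (tc b e2 e n y1 y2) (tc b e3 e n1 z1 z2)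
    refine ⟨mul_assoc x y z ▸ mul_mem (Z_le_Q0 _ x1) m, ?_⟩
    have p := h.conj_Z e2 b y1 y2 (Q e3 z1) (tc b e3 e2 n2 z1 z2)
    rw [inv_of_sq (Z_sq z1)] at p
    calc _ = x * ((y * z) * x) * y * z := by group
      _ = (x * x) * y * (z * y * z) := by rw [(Z_comm x1 m).eq]; group
      _ = _ := by
        rw [p, Z_sq x1, one_mul, ← mul_assoc, (Y_comm (z_mem γ) (Q_le_G _ (Q e2 y1))).eq, mul_assoc,
          Z_sq y1, mul_one]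
  have kq : ∀ {γ α β : V} {w : X}, 𝐀 α → Γ.Adj α γ → Γ.Adj α β → γ ≠ β → 𝐖 γ w →
      w ∉ 𝐐 β ∧ ∀ u ∈ 𝐊 β, Commute w u := fun {γ α β w} a e e' n c => by
    have b := h.nA e' a
    obtain ⟨p, ep, m⟩ := h.exists_ne e'.symm
    obtain ⟨w1, w2⟩ := kw (h.nA e a) e.symm c
    have zn := tc b e'.symm ep m.symm (h.z_mem_Z e) (h.z_not_mem e' e n.symm a)
    refine ⟨fun d => zn ?_, fun u hu => ?_⟩
    · rw [← w2]; exact sq_mem_Q h.toA3 ep.symm (h.Q_le_T' ep.symm d)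
    · obtain ⟨y, y1, y2⟩ := h.W_comm h2.ge (h.nA e a) c
        (h.Q_le_adj e ((mem_Cv.1 hu).2 α e'.symm))
      have : y ∈ 𝐊 β := by
        have := mul_mem ((conj_mem_Cv h.toA3 (inv_mem (h.Q_le_adj e' w1))).2 hu) (inv_mem hu)
        convert this using 1
        rw [← inv_mul_eq_iff_eq_mul.2 y2]; group
      rcases h.Y_cases y1 with rfl | rfl
      · exact (comm_of_conj (y2.trans (mul_one _))).symm
      · exact (zn ((mem_Cv.1 this).2 p ep)).elim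
  obtain ⟨α, e⟩ := h.nbr β
  have a := h.toA e b
  obtain ⟨γ, e1, n⟩ := h.exists_ne e.symm
  obtain ⟨γ', e2, n1, n2⟩ := exists_third h.toA3 e.symm e1 n.symm
  obtain ⟨p, ep, m⟩ := h.exists_ne e
  obtain ⟨δ, ed, m'⟩ := h.exists_ne ep.symm
  have N : 𝐊 β ⊓ 𝐊 γ ⊓ 𝐊 γ' = ⊥ := by
    obtain ⟨w, hw⟩ := h.exists_W (h.nA ed (h.toA ep b))
    have w1 := (kw (h.nA ed (h.toA ep b)) ed.symm hw).1
    obtain ⟨w2, w3⟩ := kq (h.toA ep b) ed ep.symm m' hw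
    have l : 𝐊 β ⊓ 𝐊 γ ⊓ 𝐊 γ' ≤ 𝐊 β := inf_le_left.trans inf_le_left
    refine not_norm h.toA3 e.symm (fun u hu => Q_le_G α ((mem_Cv.1 (l hu)).2 α e))
      (fun u hu => Q_le_G β (mem_Cv.1 (l hu)).1) (le_normalizer_of_cj_le fun g hg => ?_)
      (h.Q_le_adj ep.symm w1) (h.not_mem_G ep e m (h.Q_le_T' ep w1) w2)
      (centralizer_le_normalizer _ fun u hu => (w3 u (l hu)).symm)
    have : ∀ κ, Γ.Adj α κ → ∀ u ∈ 𝐊 β ⊓ 𝐊 γ ⊓ 𝐊 γ', u ∈ 𝐊 κ := fun κ e' u hu => by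
      rcases cases3 h.toA3 e.symm e1 e2 e' n.symm n1 n2 with rfl | rfl | rfl
      exacts [hu.1.1, hu.1.2, hu.2]
    have t : ∀ κ, Γ.Adj α κ → ∀ u ∈ 𝐊 β ⊓ 𝐊 γ ⊓ 𝐊 γ', g * u * g⁻¹ ∈ 𝐊 κ := fun κ e' u hu => by
      rw [← smul_inv_smul g κ, smul_mem_Cv h.toA3]
      exact this _ (smul_adj_of_mem h.toAG (inv_mem hg) e') u hu
    rintro _ ⟨u, hu, rfl⟩
    exact ⟨⟨t _ e.symm u hu, t _ e1 u hu⟩, t _ e2 u hu⟩
  have C1 : 𝐊 β ⊓ 𝐐 γ ≤ 𝐘 β := fun u hu => by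
    obtain ⟨x, x1, x2⟩ := h.exists_Z ep.symm (h.toA ep b)
    have xT := h.Q_le_T' e.symm (h.adj_le_Q h2.ge ep.symm (h.toA ep b) x1)
    have xs : x • γ = γ' := h.swap e.symm e1 e2 n n1 n2 xT (tc b ep e m x1 x2)
    have fin : ∀ u ∈ 𝐊 β, u ∈ 𝐊 γ → u = 1 := fun u u1 u2 => N.le ⟨⟨u1, u2⟩, by
      rw [← (Z_comm x1 ((mem_Cv.1 u1).2 p ep)).symm.mul_inv_cancel, ← xs]
      exact (smul_mem_Cv h.toA3).2 u2⟩
    have b' := h.nA e1 a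
    obtain ⟨q, eq, nq⟩ := h.exists_ne e1.symm
    obtain ⟨r, er, nr, nr'⟩ := exists_third h.toA3 e1.symm eq nq.symm
    obtain ⟨w, hw⟩ := h.exists_W b'
    have w3 := (kq a e1 e.symm n hw).2 u hu.1
    obtain ⟨s, s1, s2, y, y1, y2, z, z1, z2, rfl⟩ := h.W3_lab h2.ge b' hw e1.symm eq er nq.symm nr nr'
    have uα := (mem_Cv.1 hu.1).2 α e
    have w4 : Commute u (y * z) := by
      have := (Z_comm s1 uα).inv_right.mul_right w3.symm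
      rwa [mul_assoc, inv_mul_cancel_left] at this
    have Tq := fun {v : X} (hv : v ∈ 𝐐 γ) => h.Q_le_T' eq.symm hv
    have Tr := fun {v : X} (hv : v ∈ 𝐐 γ) => h.Q_le_T' er.symm hv
    have zγ : 𝐳 β ∈ 𝐐 γ := h.adj_le_Q h2.ge e1 a (h.z_mem_Z e.symm)
    have zn := h.z_not_mem e1 e.symm n a
    by_cases d : u ∈ 𝐐 q
    · have : Commute u z := by
        have := (Z_comm y1 d).inv_right.mul_right w4
        rwa [inv_mul_cancel_left] at this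
      rw [fin u hu.1 (mem_Cv3 h.toA3 e1.symm eq er nq.symm nr nr' hu.2 uα d
        (h.mem_Q_of_comm' er.symm (h.toA er b') z1 z2 (Tr hu.2) this))]
      exact one_mem _
    · have d' : u ∉ 𝐐 r := fun k => d (h.mem_Q_of_comm' eq.symm (h.toA eq b') y1 y2 (Tq hu.2) (by
        have := w4.mul_right (Z_comm z1 k).inv_right
        rwa [mul_inv_cancel_right] at this))
      have := fin _ (mul_mem hu.1 (h.Y_le_C b (z_mem β))) (mem_Cv3 h.toA3 e1.symm eq er nq.symm nr nr'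
        (mul_mem hu.2 zγ) (mul_mem uα (Z_le_Q0 _ (h.z_mem_Z e.symm)))
        (h.mul_mem_Q eq.symm (Tq hu.2) (Tq zγ) d (tc b' e1.symm eq nq.symm (h.z_mem_Z e.symm) zn))
        (h.mul_mem_Q er.symm (Tr hu.2) (Tr zγ) d' (tc b' e1.symm er nr.symm (h.z_mem_Z e.symm) zn)))
      rw [eq_inv_of_mul_eq_one_left this]; exact inv_mem (z_mem β)
  have c1 := card_Q_le h.toA3 β
  have c2 := card_le_two h.toA3 e1.symm (L := 𝐊 β) fun u hu =>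
    h.Q_le_T' e1.symm ((mem_Cv.1 hu).2 α e)
  haveI := h.fin β
  haveI : Finite (𝐘 β) := finite_of_le (Y_le_G β)
  have c3 := card_le_of_le' C1
  have c4 := h.card_Y β
  omega

end E3

end H8.GA
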