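import Cfsg.Agent.H8.GA4

/-!
Goldschmidt amalgams, part 5: odd critical distance at least three; the centres have order two.
-/

set_option autoImplicit false

open Cfsg Subgroup H28 MulAction
open scoped Pointwise commutatorElement

namespace H8.GA

variable {X : Type*} [Group X] {V : Type*} [MulAction X V] {Γ : SimpleGraph V}

local notation:max "𝐆" δ:max => stabilizer X δ
local notation:max "𝐐" δ:max => Qv 2 X δ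
local notation:max "𝐘" δ:max => Yv X δ
local notation:max "𝐙" δ:max => Zw X δ
local notation:max "𝐀" δ:max => IsA X δ
local notation:max "#" H:max => Nat.card H
local notation "𝐛" => cd X Γ
local notation:max "𝐊" δ:max => Cv X Γ δ
local notation:max "𝐳" δ:max => zz X δ
local notation:max "𝐕" δ:max => Xn X Γ 1 δ

theorem mul_mem_of_card_le_four {Y K : Subgroup X} [Finite Y] (c : #Y ≤ 4) {r u v : X} (hr : r ∈ Y)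
    (hu : u ∈ Y) (hv : v ∈ Y) (r1 : r ≠ 1) (r2 : r ∈ K) (u1 : u ∉ K) (v1 : v ∉ K) : u * v ∈ K := by
  have a := card_eq_card_quotient_mul_card_subgroup (K.subgroupOf Y)
  have b : 1 < #(K.subgroupOf Y) := Finite.one_lt_card_iff_nontrivial.2
    ⟨⟨⟨r, hr⟩, r2⟩, 1, fun e => r1 (congrArg (fun x => (x.1.1 : X)) e)⟩
  have d : K.relIndex Y ≠ 1 := fun e => u1 (relIndex_eq_one.1 e hu)
  have e : K.relIndex Y ≠ 0 := index_ne_zero_of_finite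
  have f : K.relIndex Y = 2 := by
    rw [← index_eq_card, ← relIndex] at a
    nlinarith [Nat.pos_of_ne_zero e, Nat.lt_of_le_of_ne (Nat.pos_of_ne_zero e) d.symm]
  exact mul_mem_of_relIndex_two f hu hv u1 v1

namespace D3

variable (h : D3 X Γ) {f : ℤ → V} {α α' β γ γ' μ : V} {x y : X}
include h

theorem two_le_Q (h3 : 3 ≤ 𝐛) (b : ¬ 𝐀 β) (e : Γ.Adj β α) (e' : Γ.Adj β μ) : 𝐙 α ≤ 𝐐 μ :=
  Z_le_Q (Γ := Γ) (h.toA e b) (by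
    have := h.conn.dist_triangle (u := α) (v := β) (w := μ)
    rw [SimpleGraph.dist_eq_one_iff_adj.2 e.symm, SimpleGraph.dist_eq_one_iff_adj.2 e'] at this
    omega)

theorem X_comm {n : ℕ} {δ : V} (d : 2 * n < 𝐛) (hx : x ∈ Xn X Γ n δ) (hy : y ∈ Xn X Γ n δ) :
    Commute x y := by
  have : Xn X Γ n δ ≤ 𝐂 (Xn X Γ n δ) := Xn_le_iff.2 fun μ a c => le_centralizer_comm.1
    ((h.Xn_le_Q (by omega)).trans fun q hq z hz => (Z_comm hz hq).symm)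
  exact this hy x hx

theorem X_sq {n : ℕ} {δ : V} (d : 2 * n < 𝐛) (hx : x ∈ Xn X Γ n δ) : x * x = 1 := by
  rw [← sq]
  exact sq_mem_iSup (R := ⊥) (fun i a ha => mem_bot.2 (by rw [sq, Z_sq ha]))
    (commutator_eq_bot_iff.2 fun a ha b hb => h.X_comm d hb ha).le hx

theorem K1 (h3 : 3 ≤ 𝐛) (b : ¬ 𝐀 β) (e : Γ.Adj β α) (e' : Γ.Adj β α') (n : α ≠ α') :
    ∃ q ∈ 𝐐 β, q ∈ 𝐐 α ∧ q ∉ 𝐐 α' := by
  by_contra! c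
  obtain ⟨s, s1, s2⟩ := h.exists_Q e
  have sT := h.Q_le_T' e s1
  have a' := h.toA e' b
  haveI := h.fin α'
  haveI : Finite (𝐙 α') := finite_of_le ((Z_le_Q0 _).trans (Q_le_G _))
  refine h.Z_ne_bot α' (not_norm h.toA3 e'.symm ((Z_le_Q0 _).trans (Q_le_G _))
    ((Z_le_Q0 _).trans (h.Q_le_adj e'.symm)) (G_le_NZ' α') sT.1 (h.not_mem_G e e' n sT s2)
    (mem_normalizer_of_cj_le ?_))
  rintro _ ⟨u, hu, rfl⟩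
  have u2 := (smul_mem_Z (g := s)).2 hu
  have e'' := smul_adj_of_mem h.toAG sT.1 e'
  have cm : Commute u (s * u * s⁻¹) := Z_comm u2 (h.two_le_Q h3 b e' e'' hu)
  have uQ := h.adj_le_Q (by omega) e'.symm a' hu
  have vQ := mul_mem uQ ((conj_mem_Q h.toA3 sT.1).2 uQ)
  have : u * (s * u * s⁻¹) ∈ 𝐘 β := by
    refine h.omega_le_Y e.symm (h.toA e b) (mem_omega.2 ⟨h.Q_le_T' e.symm vQ, fun g hg => ?_, by
      rw [cm.symm.mul_mul_mul_comm, Z_sq hu, Z_sq u2, one_mul]⟩)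
    refine mem_centralizer_singleton_iff.1 (h.T_le e sT s2 (K := centralizer {_})
      (fun q hq => mem_centralizer_singleton_iff.2 (comm_of_conj ?_))
      (mem_centralizer_singleton_iff.2 (comm_of_conj ?_)) ⟨hg.2, hg.1⟩)
    · have y1 := h.comm_mem_Y e'.symm a' hu (h.Q_le_T' e'.symm hq)
      have k : s⁻¹ * q * s * q⁻¹ ∈ 𝐐 α' := c _
        (mul_mem (by simpa using (conj_mem_Q h.toA3 (inv_mem sT.1)).2 hq) (inv_mem hq)) (by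
          have := mul_mem (inv_mem s1) ((conj_mem_Q h.toA3 (h.Q_le_adj e hq)).2 s1)
          rwa [← mul_assoc, ← mul_assoc] at this)
      set y := q * u * q⁻¹ * u with hy
      have p : q * u * q⁻¹ = y * u := by rw [hy, mul_assoc _ u u, Z_sq hu, mul_one]
      have k1 := (Z_comm (mul_mem (h.Y_le_Z e'.symm y1) hu) k).mul_inv_cancel
      calc _ = (q * u * q⁻¹) * (s * ((s⁻¹ * q * s * q⁻¹) * (q * u * q⁻¹) * (s⁻¹ * q * s * q⁻¹)⁻¹)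
              * s⁻¹) := by group
        _ = y * (u * ((s * y * s⁻¹) * (s * u * s⁻¹))) := by rw [p, k1]; group
        _ = _ := by
          rw [(Y_comm y1 sT.1).mul_inv_cancel, ← mul_assoc u, (Y_comm y1 (Q_le_G _ uQ)).eq,
            mul_assoc y u, ← mul_assoc y y, Y_sq y1, one_mul]
    · have k := (Z_comm hu (c _ (sq_mem_Q h.toA3 e sT) (mul_mem s1 s1))).mul_inv_cancel
      calc _ = (s * u * s⁻¹) * (s * s * u * (s * s)⁻¹) := by group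
        _ = _ := by rw [k, cm.eq]
  exact (mul_mem_cancel_left hu).1 (h.Y_le_Z e'.symm this)

theorem Z_inf (h3 : 3 ≤ 𝐛) (b : ¬ 𝐀 β) (e : Γ.Adj β α) (e' : Γ.Adj β α') (n : α ≠ α')
    (h1 : x ∈ 𝐙 α) (h2 : x ∈ 𝐙 α') : x ∈ 𝐘 β := by
  obtain ⟨q, q1, q2, q3⟩ := h.K1 h3 b e e' n
  exact h.mem_Y e'.symm (h.toA e' b) h2 (h.Q_le_T' e'.symm q1) q3 (Z_comm h1 q2)

/-- elements of `Z (f (b + 1))` commuting with a critical element -/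
theorem mem_Y_of_crit (h3 : 3 ≤ 𝐛) (c : Cl X Γ f) (b : ¬ 𝐀 (f 𝐛)) (x1 : x ∈ 𝐙 (f 0))
    (x2 : x ∉ 𝐐 (f 𝐛)) (y1 : y ∈ 𝐙 (f (𝐛 + 1))) (k : Commute x y) : y ∈ 𝐘 (f 𝐛) := by
  obtain ⟨s1, -, s3⟩ := smul_ne h.toA3 (c.l.adj' (j := 𝐛 - 1)) (c.l.adj (j := 𝐛 + 1)) c.l.ne
    ⟨h.mG c.l c.a x1, h.mG c.l c.a x1⟩ x2
  exact h.Z_inf h3 b c.l.adj s3 s1.symm y1 (k.mul_inv_cancel ▸ smul_mem_Z.2 y1)

section Big

variable (hq : ∀ β : V, ¬ IsA X β → ∃ u ∈ Yv X β, ∃ v ∈ Yv X β, u ≠ 1 ∧ v ≠ 1 ∧ u * v ≠ 1)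
include hq

theorem KP (e : Γ.Adj α β) (a : 𝐀 α) {K : Subgroup X}
    (k : ∀ u ∈ 𝐙 α, ∀ v ∈ 𝐙 α, u ∉ K → v ∉ K → u * v ∈ K) : ∃ u ∈ 𝐙 α, u ∈ K ∧ u ∉ 𝐘 β := by
  obtain ⟨γ, e', n⟩ := h.exists_ne e
  obtain ⟨u, u1, v, v1, u2, v2, w⟩ := hq γ (h.nA e' a)
  have t : ∀ u ∈ 𝐘 γ, u ≠ 1 → u ∈ K → ∃ u ∈ 𝐙 α, u ∈ K ∧ u ∉ 𝐘 β := fun u u1 u2 u3 =>
    ⟨u, h.Y_le_Z e' u1, u3, fun d => u2 (h.Y_disj e e' n.symm a d u1)⟩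
  by_cases c : u ∈ K
  · exact t u u1 u2 c
  by_cases d : v ∈ K
  · exact t v v1 v2 d
  exact t _ (mul_mem u1 v1) w (k u (h.Y_le_Z e' u1) v (h.Y_le_Z e' v1) c d)

theorem P1 (h3 : 3 ≤ 𝐛) (c : Cl X Γ f) (b : ¬ 𝐀 (f 𝐛)) :
    (∃ a ∈ 𝐙 (f (𝐛 + 1)), a ∈ 𝐐 (f 1) ∧ a ∉ 𝐐 (f 0)) ∧
      ∃ r ∈ 𝐘 (f 1), r ∈ 𝐘 (f 𝐛) ∧ r ≠ 1 := by
  have l := c.l
  have a := h.toA (l.adj (j := 𝐛 + 1)) b
  obtain ⟨x, x1, x2⟩ := SetLike.not_le_iff_exists.1 c.n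
  obtain ⟨u, u1, u2, u3⟩ := h.KP hq l.adj' a (β := f 𝐛) (K := 𝐐 (f 1)) fun u u1 v v1 =>
    h.mul_mem_Q (l.adj (j := 2)) ⟨h.mG l a u1, h.mG l a u1⟩ ⟨h.mG l a v1, h.mG l a v1⟩
  have u4 : u ∉ 𝐐 (f 0) := fun d => u3 (h.mem_Y_of_crit h3 c b x1 x2 u1 (Z_comm x1 d).symm)
  refine ⟨⟨u, u1, u2, u4⟩, ?_⟩
  obtain ⟨v, v1, v2, v3⟩ := h.KP hq l.adj c.a (β := f 1) (K := 𝐐 (f 𝐛)) fun u u1 v v1 =>
    h.mul_mem_Q (l.adj' (j := 𝐛 - 1)) ⟨h.mG l c.a u1, h.mG l c.a u1⟩ ⟨h.mG l c.a v1, h.mG l c.a v1⟩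
  have uT := h.Q_le_T' (l.adj (i := 0) (j := 1)) u2
  refine ⟨_, h.comm_mem_Y l.adj c.a v1 uT, ?_, fun d =>
    v3 (h.mem_Y l.adj c.a v1 uT u4 (comm_of_conj_mul (Z_sq v1) d))⟩
  have := inv_mem (h.comm_mem_Y l.adj' a u1 (h.Q_le_T' l.adj' v2))
  simpa only [mul_inv_rev, inv_of_sq (Z_sq v1), inv_of_sq (Z_sq u1), mul_assoc] using this

theorem C_eq (h3 : 3 ≤ 𝐛) (c : Cl X Γ f) (b : ¬ 𝐀 (f 𝐛)) (e : Γ.Adj (f 0) γ)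
    (e' : Γ.Adj (f 0) γ') (n : γ ≠ f 1) (n' : γ' ≠ f 1) (m : γ' ≠ γ) :
    𝐊 γ = 𝐐 (f 0) ⊓ 𝐐 γ ⊓ 𝐐 γ' := by
  have l := c.l
  have a := h.toA (l.adj (j := 𝐛 + 1)) b
  have bγ := h.nA e c.a
  obtain ⟨x, x1, x2⟩ := SetLike.not_le_iff_exists.1 c.n
  obtain ⟨⟨u, u1, u2, u3⟩, r, r1, r2, r3⟩ := h.P1 hq h3 c b
  have uT := h.Q_le_T' (l.adj (i := 0) (j := 1)) u2
  have P2 : ∀ z ∈ 𝐘 γ, z ∈ 𝐘 (f (𝐛 - 2)) → z = 1 := fun z z1 z2 =>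
    h.Y_disj e l.adj n c.a z1 (h.mem_Y l.adj c.a (h.Y_le_Z e z1) uT u3 (Y_comm z2 (h.mG l a u1)))
  have k1 : ∀ μ, Γ.Adj γ μ → 𝐙 μ ≤ 𝐐 (f (𝐛 - 2)) := fun μ eμ => by
    by_cases d : μ = f 0
    · rw [d]; exact h.lQ l c.a _
    by_contra k
    obtain ⟨g', lg', g0', g1'⟩ := cons_line h.toA3 l 0 e.symm (by rwa [zero_add])
    obtain ⟨g, lg, g0, g1⟩ := cons_line h.toA3 lg' 0 (g0' ▸ eμ.symm)
      (by rw [g1' _ (by omega)]; exact d)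
    have gb : g 𝐛 = f (𝐛 - 2) := by rw [g1 _ (by omega), g1' _ (by omega)]; congr 1; ring
    obtain ⟨-, z, z1, z2, z3⟩ := h.P1 hq h3 (f := g) ⟨lg, g0 ▸ h.toA eμ bγ, by rwa [g0, gb]⟩
      (gb ▸ h.lB l a _)
    rw [g1 _ le_rfl, show (1 : ℤ) + 0 - 1 = 0 from rfl, g0'] at z1
    exact z3 (P2 z z1 (gb ▸ z2))
  have a1 := h.lA l a (𝐛 - 1)
  have k2 : ∀ μ, Γ.Adj γ μ → 𝐙 μ ≤ 𝐐 (f (𝐛 - 1)) := fun μ eμ w w1 => by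
    by_contra w2
    have wT := h.Q_le_T' (l.adj' (i := 𝐛 - 1)) (k1 μ eμ w1)
    obtain ⟨v, v1, v2, v3⟩ := h.KP hq l.adj' a1 (β := f (𝐛 - 2)) (K := 𝐐 γ) fun u u1 v v1 =>
      h.mul_mem_Q e.symm (h.Q_le_T' e.symm (h.mQ l a1 u1)) (h.Q_le_T' e.symm (h.mQ l a1 v1))
    refine v3 (h.mem_Y l.adj' a1 v1 wT w2 (comm_of_conj_mul (Z_sq v1) (P2 _ ?_
      (h.comm_mem_Y l.adj' a1 v1 wT))))
    have := inv_mem (h.comm_mem_Y eμ.symm (h.toA eμ bγ) w1 (h.Q_le_T' eμ.symm v2))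
    simpa only [mul_inv_rev, inv_of_sq (Z_sq v1), inv_of_sq (Z_sq w1), mul_assoc] using this
  -- the order of the centres
  have Y4 : #(𝐘 (f 𝐛)) ≤ 4 := by
    have b2 := h.lB l a (𝐛 + 2)
    have t : 𝐘 (f (𝐛 + 2)) ≤ 𝐙 (f (𝐛 + 1)) := h.Y_le_Z l.adj
    have c1 := card_le_two h.toA3 (l.adj (i := 1) (j := 2)) (L := 𝐘 (f (𝐛 + 2)))
      fun z hz => ⟨h.mG l a (t hz), h.mG l a (t hz)⟩
    have c2 := card_le_two h.toA3 (l.adj (i := 0) (j := 1)) (L := 𝐘 (f (𝐛 + 2)) ⊓ 𝐐 (f 1))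
      fun z hz => h.Q_le_T' l.adj hz.2
    have c3 : 𝐘 (f (𝐛 + 2)) ⊓ 𝐐 (f 1) ⊓ 𝐐 (f 0) = ⊥ := eq_bot_iff.2 fun z hz =>
      h.Y_disj l.adj l.adj' l.ne' a hz.1.1
        (h.mem_Y_of_crit h3 c b x1 x2 (t hz.1.1) (Z_comm x1 hz.2).symm)
    rw [c3, card_bot] at c2
    rw [h.card_Y b b2]
    omega
  obtain ⟨x0, y1, y2⟩ : ∃ x0 ∈ 𝐘 γ, x0 ∉ 𝐐 (f 𝐛) := by
    obtain ⟨p, p1, q, q1, rfl⟩ := h.Z_dec e l.adj n c.a x1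
    exact ⟨p, p1, fun d => x2 (mul_mem d (h.yQ l (h.lB l c.a 1) q1))⟩
  have us : u⁻¹ • γ = γ' := h.swap l.adj e e' n n' m (inv_mem uT) (fun d => u3 (inv_mem_iff.1 d))
  have k3 : ∀ μ, Γ.Adj γ μ → 𝐐 (f 0) ⊓ 𝐐 γ ⊓ 𝐐 γ' ≤ 𝐐 μ := fun μ eμ q hq' => by
    by_cases d : μ = f 0
    · exact d ▸ hq'.1.1
    have aμ := h.toA eμ bγ
    have T : ∀ w ∈ 𝐙 μ, w ∈ 𝐆 (f 𝐛) ⊓ 𝐆 (f (𝐛 - 1)) := fun w w1 => h.Q_le_T' l.adj' (k2 μ eμ w1)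
    have φ : ∀ w ∈ 𝐐 (f 𝐛), w * u * w⁻¹ * u ∈ 𝐘 (f 𝐛) := fun w w1 =>
      h.comm_mem_Y l.adj' a u1 (h.Q_le_T' l.adj' w1)
    obtain ⟨w, w1, w2, w3⟩ : ∃ w ∈ 𝐙 μ, w ∉ 𝐘 γ ∧ w * u * w⁻¹ * u ∈ 𝐙 (f 0) := by
      obtain ⟨δ, eδ, nδ⟩ := h.exists_ne eμ.symm
      obtain ⟨s, s1, t, t1, s2, t2, st⟩ := hq δ (h.nA eδ aμ)
      have adj : ∀ s ∈ 𝐘 δ, ∃ s' ∈ 𝐙 μ, s' ∈ 𝐐 (f 𝐛) ∧ s' * s ∈ 𝐘 γ := fun s s1 => by
        have sZ := h.Y_le_Z eδ s1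
        by_cases k : s ∈ 𝐐 (f 𝐛)
        · exact ⟨s, sZ, k, by rw [Y_sq s1]; exact one_mem _⟩
        · refine ⟨x0 * s, mul_mem (h.Y_le_Z eμ.symm y1) sZ, h.mul_mem_Q l.adj'
            (T _ (h.Y_le_Z eμ.symm y1)) (T _ sZ) y2 k, by rwa [mul_assoc, Y_sq s1, mul_one]⟩
      have nY : ∀ s ∈ 𝐘 δ, s ≠ 1 → ∀ s', s' * s ∈ 𝐘 γ → s' ∉ 𝐘 γ := fun s s1 s2 s' k d =>
        s2 (h.Y_disj eμ.symm eδ nδ.symm aμ ((mul_mem_cancel_left d).1 k) s1)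
      obtain ⟨s', p1, p2, p3⟩ := adj s s1
      obtain ⟨t', q1, q2, q3⟩ := adj t t1
      by_cases k : s' * u * s'⁻¹ * u ∈ 𝐙 (f 0)
      · exact ⟨s', p1, nY s s1 s2 _ p3, k⟩
      by_cases k' : t' * u * t'⁻¹ * u ∈ 𝐙 (f 0)
      · exact ⟨t', q1, nY t t1 t2 _ q3, k'⟩
      haveI := h.fin (f 𝐛)
      haveI : Finite (𝐘 (f 𝐛)) := finite_of_le (Y_le_G _)
      refine ⟨s' * t', mul_mem p1 q1, nY _ (mul_mem s1 t1) st _ ?_, ?_⟩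
      · rw [(ZZ (h.Y_le_Z eδ s1) q1).mul_mul_mul_comm]; exact mul_mem p3 q3
      · have := mul_mem_of_card_le_four Y4 r2 (φ _ q2) (φ _ p2) r3 (h.Y_le_Z l.adj r1) k' k
        convert this using 1
        have cm := (Y_comm (φ _ q2) (Q_le_G _ p2)).mul_inv_cancel
        calc _ = s' * (t' * u * t'⁻¹ * (u * u)) * s'⁻¹ * u := by rw [Z_sq u1]; group
          _ = (s' * (t' * u * t'⁻¹ * u) * s'⁻¹) * (s' * u * s'⁻¹ * u) := by group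
          _ = _ := by rw [cm]
    have wV : w ∈ 𝐕 γ' := by
      rw [← us, h.Xn_smul, mem_cj, inv_inv]
      rw [inv_of_sq (Z_sq u1)]
      have t := mul_mem (inv_mem (h.Z_le_V bγ eμ w1)) (h.Z_le_V bγ e.symm w3)
      rw [inv_of_sq (Z_sq w1)] at t
      convert t using 1
      rw [← mul_assoc, ← mul_assoc, ← mul_assoc, Z_sq w1, one_mul]
    by_contra k
    refine w2 (h.mem_Y eμ.symm aμ w1 (h.Q_le_T' eμ.symm hq'.1.2) k (comm_of_conj_mul (Z_sq w1)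
      (h.Y_disj e e' m.symm c.a (h.comm_mem_Y eμ.symm aμ w1 (h.Q_le_T' eμ.symm hq'.1.2)) ?_)))
    have := h.comm_V (h.nA e' c.a) hq'.2 wV
    rwa [inv_of_sq (Z_sq w1)] at this
  refine le_antisymm (fun q q1 => ?_) fun q q1 => mem_Cv.2 ⟨q1.1.2, fun μ eμ => k3 μ eμ q1⟩
  have q0 := (mem_Cv.1 q1).2 _ e.symm
  refine ⟨⟨q0, (mem_Cv.1 q1).1⟩, ?_⟩
  by_contra k
  obtain ⟨μ, eμ, nμ⟩ := h.exists_ne e.symm
  obtain ⟨p, p1, p2, p3⟩ := h.K1 h3 bγ e.symm eμ nμ.symm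
  by_cases d : p ∈ 𝐐 γ'
  · exact p3 (k3 μ eμ ⟨⟨p2, p1⟩, d⟩)
  · exact p3 ((mul_mem_cancel_right ((mem_Cv.1 q1).2 μ eμ)).1 (k3 μ eμ
      ⟨⟨mul_mem p2 q0, mul_mem p1 (mem_Cv.1 q1).1⟩,
        h.mul_mem_Q e'.symm (h.Q_le_T' e'.symm p2) (h.Q_le_T' e'.symm q0) d k⟩))

theorem not_big (h3 : 3 ≤ 𝐛) (c : Cl X Γ f) (b : ¬ 𝐀 (f 𝐛)) : False := by
  have l := c.l
  have e : Γ.Adj (f 0) (f (-1)) := l.adj'
  obtain ⟨γ, e', n, m⟩ := exists_third h.toA3 l.adj e (l.ne' (i := 1))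
  have k1 := h.C_eq hq h3 c b e e' l.ne n m
  have k2 := h.C_eq hq h3 c b e' e n l.ne m.symm
  obtain ⟨⟨u, -, u2, u3⟩, -⟩ := h.P1 hq h3 c b
  have uT := h.Q_le_T' (l.adj (i := 0) (j := 1)) u2
  have us : u • f (-1) = γ := h.swap l.adj e e' l.ne n m uT u3
  have := not_norm h.toA3 e.symm (K := 𝐊 (f (-1))) (inf_le_left.trans (Q_le_G _))
    (fun q hq => Q_le_G _ ((mem_Cv.1 hq).2 _ e.symm)) (G_le_NC h.toA3 _) uT.1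
    (h.not_mem_G l.adj e l.ne' uT u3) (mem_normalizer_iff.2 fun q => by
      rw [← smul_mem_Cv h.toA3 (g := u), us, k1, k2, inf_right_comm])
  exact h.nA e c.a (eq_bot_iff.2 ((h.Y_le_C (h.nA e c.a)).trans this.le))

end Big

theorem e3_of_odd (h3 : 3 ≤ 𝐛) (c : Cl X Γ f) (b : ¬ 𝐀 (f 𝐛)) : E3 X Γ := by
  by_contra d
  refine h.not_big (fun β bβ => ?_) h3 c b
  by_contra! k
  exact d (h.e3_of bβ fun u v hu hv u1 v1 =>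
    (eq_inv_of_mul_eq_one_left (k u hu v hv u1 v1)).trans (inv_of_sq (Y_sq hv)))

end D3

end H8.GA
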