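import Cfsg.Agent.H8.GA5

/-!
Goldschmidt amalgams, part 6: odd critical distance, common tools and the natural case.
-/

set_option autoImplicit false

open Cfsg Subgroup H28 MulAction
open scoped Pointwise commutatorElement

namespace H8.GA

variable {X : Type*} [Group X] {V : Type*} [MulAction X V] {Γ : SimpleGraph V}

local notation:max "𝐆" δ:max => stabilizer X δ
local notation:max "𝐐" δ:max => Qv 2 X δ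
local notation:max "𝐘" δ:max => Yv X δ
local notation:max "𝐙" δ:max => Zw X δ
local notation:max "𝐀" δ:max => IsA X δ
local notation:max "#" H:max => Nat.card H
local notation "𝐛" => cd X Γ
local notation:max "𝐊" δ:max => Cv X Γ δ
local notation:max "𝐳" δ:max => zz X δ
local notation:max "𝐕" δ:max => Xn X Γ 1 δ
local notation:max "𝐖" β:max w:max => IsW X Γ β w

theorem line3 (h : A3 X Γ) {a b c : V} (e : Γ.Adj a b) (e' : Γ.Adj b c) (n : a ≠ c) :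
    ∃ k, Line Γ k ∧ k 0 = a ∧ k 1 = b ∧ k 2 = c := by
  obtain ⟨g, lg, g0, g1⟩ := exists_line h e'
  obtain ⟨k, lk, k0, k1⟩ := cons_line h lg 0 (g0 ▸ e) (by rwa [zero_add, g1])
  exact ⟨k, lk, k0, (k1 1 le_rfl).trans g0, (k1 2 (by omega)).trans g1⟩

/-- all arcs of length less than `n` are good -/
def GA (X : Type*) [Group X] {V : Type*} [MulAction X V] (Γ : SimpleGraph V) (n : ℕ) : Prop :=
  ∀ m, m < n → ∀ f, Line Γ f → Gd X f m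

/-- long arcs ending at a vertex without central involutions are not good -/
def NP (X : Type*) [Group X] {V : Type*} [MulAction X V] (Γ : SimpleGraph V) : Prop :=
  ∀ f, Line Γ f → IsA X (f 0) → ¬ Gd X f (cd X Γ - 1)

/-- fixing a final part of a line -/
def FI (f : ℤ → V) (b : ℕ) (k : ℤ) (g : X) : Prop := ∀ j, k ≤ j → j ≤ b + 3 → g • f j = f j

theorem FI.mul {f : ℤ → V} {b : ℕ} {k : ℤ} {g g' : X} (a : FI f b k g) (a' : FI f b k g') :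
    FI f b k (g * g') := fun j p q => by rw [mul_smul, a' j p q, a j p q]

namespace E3

variable (h : E3 X Γ) {f : ℤ → V} {α α' β β' γ γ' μ : V} {x y a u w : X}
include h

theorem gd_B (c : Cl X Γ f) {n : ℕ} (hn : n ≤ 𝐛) : Gd X (fun i => f (𝐛 - i)) n := by
  obtain ⟨x, x1, x2⟩ := SetLike.not_le_iff_exists.1 c.n
  exact ⟨x, fun i _ _ => h.mG c.l c.a x1, by simpa using x2⟩

theorem ga4 (h3 : 3 ≤ 𝐛) (c : Cl X Γ f) (b : ¬ 𝐀 (f 𝐛)) : GA X Γ 4 := by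
  have l := c.l
  obtain ⟨q, q1, q2, q3⟩ := h.K1 h3 (h.lB l c.a 1) (l.adj (j := 2)) (l.adj' (j := 0)) l.ne'
  refine gd_all h.toA3 h.col (n := 3) l (l.rev 𝐛) c.a (by simpa using b) ⟨q, fun i p p' => ?_, q3⟩
    (h.gd_B c h3)
  rcases (by omega : i = 0 ∨ i = 1 ∨ i = 2 ∨ i = 3) with rfl | rfl | rfl | rfl
  exacts [h.Q_le_adj l.adj' q1, Q_le_G _ q1, Q_le_G _ q2, h.Q_le_adj l.adj q2]

theorem K2 (g4 : GA X Γ 4) (e : Γ.Adj α β) (e' : Γ.Adj α β') (n : β ≠ β') :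
    ∃ q ∈ 𝐐 α, q ∈ 𝐐 β ∧ q ∉ 𝐐 β' := by
  obtain ⟨k, l, rfl, rfl, rfl⟩ := line3 h.toA3 e'.symm e n.symm
  obtain ⟨g, g1, g2⟩ := g4 3 (by omega) k l
  have t := fun (i : ℤ) (p : 0 ≤ i) (q : i ≤ 3) => mem_stabilizer_iff.2 (g1 i p q)
  exact ⟨g, h.mem_Q e e' n (t 1 (by omega) (by omega)) (t 2 (by omega) (by omega))
    (t 0 (by omega) (by omega)), h.mem_Q e.symm (l.adj (j := 3)) l.ne (t 2 (by omega) (by omega))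
    (t 1 (by omega) (by omega)) (t 3 (by omega) (by omega)), g2⟩

theorem ga_of (c : Cl X Γ f) (b : ¬ 𝐀 (f 𝐛)) (np : ¬ NP X Γ) : GA X Γ 𝐛 := by
  simp only [NP, not_forall, not_not] at np
  obtain ⟨g, lg, a, k⟩ := np
  have := h.b_pos
  exact fun m p => gd_all h.toA3 h.col lg (c.l.rev 𝐛) a (by simpa using b) k
    (h.gd_B c (by omega)) m (by omega)

theorem cl_all (c : Cl X Γ f) (ga : GA X Γ 𝐛) {g : ℤ → V} (l : Line Γ g) (a : 𝐀 (g 0)) :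
    Cl X Γ g := by
  obtain ⟨t, ht⟩ := trans_of_gd h.toA3 h.col 𝐛 ga c.l l (iff_of_true c.a a)
  refine ⟨l, a, fun d => c.n fun u hu => (smul_mem_Q h.toA3 (g := t)).1 ?_⟩
  rw [ht _ (by omega) le_rfl]
  refine d ?_
  rw [← ht 0 le_rfl (by omega)]; exact smul_mem_Z.2 hu

theorem crit_not_mem (c : Cl X Γ f) (x1 : x ∈ 𝐙 (f 0)) (x2 : x ∉ 𝐘 (f 1)) : x ∉ 𝐐 (f 𝐛) :=
  have := h.b_pos
  fun d => c.n (h.Z_le_of c.l.adj c.a (fun _ hy => h.yQ c.l (h.lB c.l c.a 1) hy) x1 x2 d)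

theorem sib (ga : GA X Γ 𝐛) (l : Line Γ f) (u1 : u ∈ 𝐙 (f 2)) {k : ℤ}
    (ak : 𝐀 (f k)) (u2 : u ∈ 𝐙 (f k)) (k1 : 4 ≤ k) (k2 : k ≤ 𝐛) : u ∈ 𝐘 (f (k - 1)) := by
  obtain ⟨g, g1, g2⟩ := ga (k - 1).toNat (by omega) _ (l.rev k)
  have t : ∀ j, 1 ≤ j → j ≤ k → g ∈ 𝐆 (f j) := fun j p q => by
    simpa using g1 (k - j) (by omega) (by omega)
  exact h.mem_Y l.adj' ak u2 ⟨t _ (by omega) le_rfl, t _ (by omega) (by omega)⟩ (by simpa using g2)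
    (Z_comm u1 (h.mem_Q (l.adj' (j := 1)) (l.adj (j := 3)) l.ne (t 2 (by omega) (by omega))
      (t 1 (by omega) (by omega)) (t 3 (by omega) (by omega))))

theorem R1 (h3 : 3 ≤ 𝐛) (c : Cl X Γ f) (x1 : x ∈ 𝐙 (f 0)) (x2 : x ∉ 𝐘 (f 1))
    (a1 : a ∈ 𝐙 (f (𝐛 + 1))) (a2 : a ∉ 𝐘 (f 𝐛)) (u1 : u ∈ 𝐙 (f (𝐛 - 1))) (u2 : u ∉ 𝐘 (f 𝐛)) :
    𝐖 (f 𝐛) (u * (x * a * x⁻¹ * a)) := by
  have xT : x ∈ 𝐆 (f 𝐛) ⊓ 𝐆 (f (𝐛 - 1)) := ⟨h.mG c.l c.a x1, h.mG c.l c.a x1⟩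
  obtain ⟨s1, s2, s3⟩ := smul_ne h.toA3 (c.l.adj' (j := 𝐛 - 1)) (c.l.adj (j := 𝐛 + 1)) c.l.ne xT
    (h.crit_not_mem c x1 x2)
  exact ⟨_, _, _, c.l.adj', s3, c.l.adj, s2.symm, c.l.ne', s1.symm, u, u1, u2, _, smul_mem_Z.2 a1,
    (conj_mem_Y xT.1).not.2 a2, a, a1, a2, by group⟩

theorem R2 (h3 : 3 ≤ 𝐛) (c : Cl X Γ f) (b : ¬ 𝐀 (f 𝐛)) (x1 : x ∈ 𝐙 (f 0)) (x2 : x ∉ 𝐘 (f 1))
    (a1 : a ∈ 𝐙 (f (𝐛 + 1))) (a2 : a ∉ 𝐘 (f 𝐛)) (a3 : a ∈ 𝐐 (f 1)) :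
    a ∉ 𝐐 (f 0) ∧ x * a * x⁻¹ * a = 𝐳 (f 1) := by
  have k : a ∉ 𝐐 (f 0) := fun d =>
    a2 (h.mem_Y_of_crit h3 c b x1 (h.crit_not_mem c x1 x2) a1 (Z_comm x1 d).symm)
  refine ⟨k, ?_⟩
  rw [← inv_of_sq (z_sq (f 1)), ← h.comm_eq_z c.l.adj c.a x1 x2 (h.Q_le_T' c.l.adj a3) k]
  simp only [mul_inv_rev, inv_of_sq (Z_sq x1), inv_of_sq (Z_sq a1), mul_assoc]

theorem R3 (h3 : 3 ≤ 𝐛) (c : Cl X Γ f) (b : ¬ 𝐀 (f 𝐛)) (x1 : x ∈ 𝐙 (f 0)) (x2 : x ∉ 𝐘 (f 1))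
    (a1 : a ∈ 𝐙 (f (𝐛 + 1))) (a3 : a ∉ 𝐐 (f 1)) (u1 : u ∈ 𝐙 (f 2)) (u2 : u ∉ 𝐘 (f 1)) :
    𝐖 (f 1) (u * (x * a * x⁻¹ * a)) := by
  have t := h.toA (c.l.adj (j := 𝐛 + 1)) b
  have aT : a ∈ 𝐆 (f 1) ⊓ 𝐆 (f 2) := ⟨h.mG c.l t a1, h.mG c.l t a1⟩
  obtain ⟨s1, s2, s3⟩ := smul_ne h.toA3 (c.l.adj (j := 2)) (c.l.adj' (j := 0)) c.l.ne' aT a3
  exact ⟨_, _, _, c.l.adj, c.l.adj', s3, c.l.ne', s2, s1, u, u1, u2, x, x1, x2, _, smul_mem_Z.2 x1,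
    (conj_mem_Y aT.1).not.2 x2, by
      simp only [inv_of_sq (Z_sq x1), inv_of_sq (Z_sq a1), mul_assoc]⟩

theorem W_le (a : 𝐀 α) {K : Subgroup X} (k : ∀ β, Γ.Adj α β → 𝐕 β ≤ K) : Xn X Γ 2 α ≤ K :=
  Xn_le_iff.2 fun μ b d => by
    rcases e : Γ.dist α μ with _ | m
    · obtain ⟨β, e'⟩ := h.nbr α
      rw [h.conn.dist_eq_zero_iff] at e
      exact (h.Z_le_V (h.nA e' a) (e ▸ e'.symm)).trans (k β e')
    · obtain ⟨β, e1, e2⟩ := exists_adj_dist h.conn e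
      exact (Z_le_Xn b (by omega)).trans (k β e1)

theorem exists_cl' (l : Line Γ f) {n : ℕ} (n1 : 1 ≤ n) (n2 : n < 𝐛)
    (k : ¬ Xn X Γ n (f (𝐛 + 1)) ≤ 𝐐 (f (n + 1))) :
    ∃ g, Cl X Γ g ∧ ∀ i : ℤ, n ≤ i → g i = f (𝐛 + 1 + n - i) := by
  rw [Xn_le_iff] at k
  push Not at k
  obtain ⟨μ, a, d, k⟩ := k
  have d1 : 𝐛 ≤ Γ.dist μ (f (n + 1)) := not_lt.1 fun p => k (Z_le_Q (Γ := Γ) a p)
  rw [SimpleGraph.dist_comm] at d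
  have d2 := h.conn.dist_triangle (u := μ) (v := f (𝐛 + 1)) (w := f (n + 1))
  have d3 := l.dist_le h.conn (𝐛 + 1) (n + 1) (n := 𝐛 - n)
  obtain ⟨g, lg, g0, gn, -⟩ := exists_geod h.toA3 n μ (f (𝐛 + 1)) (by omega)
  have lk := lg.glue (l.rev (𝐛 + 1 + n)) n (by rw [gn]; congr 1; ring) fun e => by
    have d4 := h.conn.dist_triangle (u := μ) (v := g (n - 1)) (w := f (n + 1))
    have d5 := lg.dist_le h.conn 0 (n - 1) (n := n - 1)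
    have d6 := l.dist_le h.conn (𝐛 + 1 + n - (n + 1)) (n + 1) (n := 𝐛 - n - 1)
    rw [g0] at d5
    rw [← e] at d6
    omega
  refine ⟨_, ⟨lk, by simpa [g0] using a, ?_⟩, fun i p => ?_⟩
  · rw [if_pos (by omega), if_neg (by omega), g0, show (𝐛 : ℤ) + 1 + n - 𝐛 = n + 1 by ring]
    exact k
  · split_ifs with q
    · rw [show i = n by omega, gn]; congr 1; ring
    · rfl

section NP

variable (np : NP X Γ)
include np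

theorem np_step (l : Line Γ f) {k : ℤ} (k4 : k ≤ 4) (ak : 𝐀 (f k)) {g : X} (g1 : FI f 𝐛 (k + 1) g)
    (g2 : g ∈ 𝐐 (f (k + 1))) : g ∈ 𝐐 (f k) ∧ FI f 𝐛 (k - 1) g := by
  have := h.b_pos
  have t : FI f 𝐛 k g := fun j p q => by
    by_cases d : j = k
    · exact d ▸ h.Q_le_adj l.adj' g2
    · exact g1 j (by omega) q
  have s : g ∈ 𝐐 (f k) := by
    by_contra d
    exact np _ (l.shift k) (by simpa using ak) ⟨g, fun i _ _ => t _ (by omega) (by omega),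
      by simpa using d⟩
  refine ⟨s, fun j p q => ?_⟩
  by_cases d : j = k - 1
  · exact d ▸ h.Q_le_adj l.adj' s
  · exact t j (by omega) q

theorem np_a (h3 : 3 ≤ 𝐛) (c : Cl X Γ f) (b : ¬ 𝐀 (f 𝐛)) (a1 : a ∈ 𝐙 (f (𝐛 + 1)))
    (a2 : a ∉ 𝐘 (f 𝐛)) : a ∉ 𝐐 (f 1) := fun d => by
  obtain ⟨x, x1, x2⟩ := h.exists_Z (c.l.adj (j := 1)) c.a
  exact (h.R2 h3 c b x1 x2 a1 a2 d).1 (h.np_step np c.l (by omega) c.a
    (fun j _ _ => h.mG c.l (h.toA (c.l.adj (j := 𝐛 + 1)) b) a1) d).1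

theorem np_conj (h3 : 3 ≤ 𝐛) (c : Cl X Γ f) (b : ¬ 𝐀 (f 𝐛)) (x1 : x ∈ 𝐙 (f 0)) {n : ℕ}
    (n2 : 2 ≤ n) {g : X} (g1 : g ∈ Xn X Γ n (f (𝐛 + 1))) (g2 : FI f 𝐛 1 g) :
    x * g * x⁻¹ ∈ Xn X Γ n (f (𝐛 + 1)) := by
  have l := c.l
  have t := h.toA (l.adj (j := 𝐛 + 1)) b
  obtain ⟨a, a1, a2⟩ := h.exists_Z (l.adj' (j := 𝐛)) t
  have a3 := h.np_a np h3 c b a1 a2
  have a4 : FI f 𝐛 1 a := fun j _ _ => h.mG l t a1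
  have k : ∀ g, FI f 𝐛 1 g → g ∈ 𝐐 (f 1) → x * g * x⁻¹ = g := fun g p q =>
    (Z_comm x1 (h.np_step np l (by omega) c.a p q).1).symm.mul_inv_cancel
  by_cases d : g ∈ 𝐐 (f 1)
  · rwa [k g g2 d]
  have := k _ (g2.mul a4) (h.mul_mem_Q (l.adj (j := 2)) ⟨g2 1 le_rfl (by omega),
    g2 2 (by omega) (by omega)⟩ ⟨a4 1 le_rfl (by omega), a4 2 (by omega) (by omega)⟩ d a3)
  have e : x * g * x⁻¹ = g * a * (x * a * x⁻¹)⁻¹ := by rw [← this]; group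
  rw [e]
  refine mul_mem (mul_mem g1 (Z_le_Xn t (by simp) a1)) (inv_mem (h.Xn_mono (m := 1) (μ := f 𝐛)
    (by have := l.dist_le h.conn (𝐛 + 1) 𝐛 (n := 1); omega) ?_))
  exact h.Z_le_V b (smul_adj_of_mem h.toAG (h.mG l c.a x1) l.adj) (smul_mem_Z.2 a1)

theorem claimA (h5 : 5 ≤ 𝐛) (c : Cl X Γ f) (b : ¬ 𝐀 (f 𝐛)) :
    ¬ Xn X Γ 2 (f (𝐛 + 1)) ≤ 𝐐 (f 3) := fun d => by
  have l := c.l
  obtain ⟨x, x1, x2⟩ := SetLike.not_le_iff_exists.1 c.n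
  refine h.not_norm_X (n := 2) (l.adj' (i := 𝐛 + 1) (j := 𝐛)) (by omega)
    (h.toA (l.adj (j := 𝐛 + 1)) b) (by simp)
    (h.mG l c.a x1) (h.not_mem_G (l.adj' (j := 𝐛 - 1)) l.adj l.ne
      ⟨h.mG l c.a x1, h.mG l c.a x1⟩ x2) fun g hg => h.np_conj np (by omega) c b x1 le_rfl hg ?_
  exact (h.np_step np l (k := 2) (by omega) (h.lA l c.a 2) (fun j _ _ => h.xG l hg) (d hg)).2

theorem claimB (h7 : 7 ≤ 𝐛) (c : Cl X Γ f) (b : ¬ 𝐀 (f 𝐛)) :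
    ¬ Xn X Γ 4 (f (𝐛 + 1)) ≤ 𝐐 (f 5) := fun d => by
  have l := c.l
  obtain ⟨x, x1, x2⟩ := SetLike.not_le_iff_exists.1 c.n
  obtain ⟨y, y1, y2⟩ := SetLike.not_le_iff_exists.1 (h.claimA np (by omega) c b)
  have y3 : y ∈ Xn X Γ 4 (f (𝐛 + 1)) := h.Xn_mono (by simp) y1
  have xb : x ∈ 𝐆 (f 𝐛) := h.mG l c.a x1
  refine h.not_norm_X (n := 4) (l.adj' (i := 𝐛 + 1) (j := 𝐛)) (by omega)
    (h.toA (l.adj (j := 𝐛 + 1)) b) (by simp)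
    xb (h.not_mem_G (l.adj' (j := 𝐛 - 1)) l.adj l.ne ⟨xb, h.mG l c.a x1⟩ x2) fun g hg => ?_
  have k : ∀ g ∈ Xn X Γ 4 (f (𝐛 + 1)), FI f 𝐛 3 g := fun g hg =>
    (h.np_step np l (k := 4) (by omega) (h.lA l c.a 4) (fun j _ _ => h.xG l hg) (d hg)).2
  have k' : ∀ g ∈ Xn X Γ 4 (f (𝐛 + 1)), g ∈ 𝐐 (f 3) → x * g * x⁻¹ ∈ Xn X Γ 4 (f (𝐛 + 1)) :=
    fun g hg q => h.np_conj np (by omega) c b x1 (by omega) hg
      (h.np_step np l (k := 2) (by omega) (h.lA l c.a 2) (k g hg) q).2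
  by_cases q : g ∈ 𝐐 (f 3)
  · exact k' g hg q
  have := k' _ (mul_mem hg y3) (h.mul_mem_Q (l.adj (j := 4)) ⟨k g hg 3 le_rfl (by omega),
    k g hg 4 (by omega) (by omega)⟩ ⟨k y y3 3 le_rfl (by omega), k y y3 4 (by omega) (by omega)⟩ q y2)
  have e : x * g * x⁻¹ = x * (g * y) * x⁻¹ * (x * y * x⁻¹)⁻¹ := by group
  rw [e]
  refine mul_mem this (inv_mem (h.Xn_mono (m := 2) (μ := x • f (𝐛 + 1)) ?_
    (by rw [h.Xn_smul]; exact conj_mem_cj y1)))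
  have d1 := h.conn.dist_triangle (u := f (𝐛 + 1)) (v := f 𝐛) (w := x • f (𝐛 + 1))
  rw [SimpleGraph.dist_eq_one_iff_adj.2 l.adj',
    SimpleGraph.dist_eq_one_iff_adj.2 (smul_adj_of_mem h.toAG xb l.adj)] at d1
  omega

end NP

section Nat

variable (nat : ∀ (β : V) (w : X), ¬ IsA X β → IsW X Γ β w → w ∈ Yv X β)
include nat

theorem V_le_of (b : ¬ 𝐀 β) (e : Γ.Adj β α) (e' : Γ.Adj β α') (n : α ≠ α') {K : Subgroup X}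
    (k : 𝐙 α ≤ K) (u1 : u ∈ 𝐙 α') (u2 : u ∉ 𝐘 β) (u3 : u ∈ K) : 𝐕 β ≤ K := by
  have kY := (h.Y_le_Z e.symm).trans k
  refine (h.V_le_iff b).2 fun μ eμ v v1 => ?_
  by_cases d : μ = α
  · exact k (d ▸ v1)
  by_cases d' : μ = α'
  · exact h.Z_le_of e'.symm (h.toA e' b) kY u1 u2 u3 (d' ▸ v1)
  by_cases v2 : v ∈ 𝐘 β
  · exact kY v2
  obtain ⟨x, x1, x2⟩ := h.exists_Z e.symm (h.toA e b)
  exact (mul_mem_cancel_left (mul_mem (k x1) u3)).1 (kY (nat β _ b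
    ⟨_, _, _, e, e', eμ, n, d, d', x, x1, x2, u, u1, u2, v, v1, v2, rfl⟩))

theorem nat_R (h3 : 3 ≤ 𝐛) (c : Cl X Γ f) (b : ¬ 𝐀 (f 𝐛)) (x1 : x ∈ 𝐙 (f 0)) (x2 : x ∉ 𝐘 (f 1))
    (a1 : a ∈ 𝐙 (f (𝐛 + 1))) (a2 : a ∉ 𝐘 (f 𝐛)) :
    x * a * x⁻¹ * a ∈ 𝐙 (f (𝐛 - 1)) ∧ x * a * x⁻¹ * a ∉ 𝐘 (f 𝐛) ∧ x * a * x⁻¹ * a ∈ 𝐙 (f 2) ∧
      (a ∉ 𝐐 (f 1) → x * a * x⁻¹ * a ∉ 𝐘 (f 1)) := by
  have l := c.l
  obtain ⟨u, u1, u2⟩ := h.exists_Z (l.adj (i := 𝐛 - 1) (j := 𝐛)) (h.toA l.adj' b)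
  have p := nat _ _ b (h.R1 h3 c x1 x2 a1 a2 u1 u2)
  obtain ⟨v, v1, v2⟩ := h.exists_Z (l.adj' (i := 2) (j := 1)) (h.lA l c.a 2)
  have q := fun d => nat _ _ (h.lB l c.a 1) (h.R3 h3 c b x1 x2 a1 d v1 v2)
  refine ⟨(mul_mem_cancel_left u1).1 (h.Y_le_Z l.adj p),
    fun d => u2 ((mul_mem_cancel_right d).1 p), ?_,
    fun d k => v2 ((mul_mem_cancel_right k).1 (q d))⟩
  by_cases d : a ∈ 𝐐 (f 1)
  · rw [(h.R2 h3 c b x1 x2 a1 a2 d).2]; exact h.z_mem_Z l.adj'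
  · exact (mul_mem_cancel_left v1).1 (h.Y_le_Z l.adj' (q d))

theorem nat_seven (h7 : 7 ≤ 𝐛) (c : Cl X Γ f) (b : ¬ 𝐀 (f 𝐛)) : False := by
  have l := c.l
  have t := h.toA (l.adj (j := 𝐛 + 1)) b
  obtain ⟨x, x1, x2⟩ := h.exists_Z (l.adj (j := 1)) c.a
  by_cases np : NP X Γ
  swap
  · have ga := h.ga_of c b np
    obtain ⟨a, a1, a2⟩ := h.exists_Z (l.adj' (j := 𝐛)) t
    obtain ⟨r1, r2, r3, -⟩ := h.nat_R nat (by omega) c b x1 x2 a1 a2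
    have s1 := h.sib ga l r3 (h.lA l t (𝐛 - 1)) r1 (by omega) (by omega)
    have s2 := h.sib ga l r3 (h.lA l t (𝐛 - 3)) (h.Y_le_Z l.adj s1) (by omega) (by omega)
    exact r2 (h.Y_disj l.adj l.adj' l.ne' (h.lA l t (𝐛 - 3)) s1 s2 ▸ one_mem _)
  obtain ⟨k, ck, hk⟩ := h.exists_cl' l (n := 4) (by omega) (by omega) (h.claimB np h7 c b)
  have lk := ck.l
  have k4 : k 4 = f (𝐛 + 1) := by rw [hk 4 le_rfl]; congr 1; push_cast; ring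
  have k5 : k 5 = f 𝐛 := by rw [hk 5 (by omega)]; congr 1; push_cast; ring
  have kb : k 𝐛 = f 5 := by rw [hk _ (by omega)]; congr 1; push_cast; ring
  have kb' : k (𝐛 - 1) = f 6 := by rw [hk _ (by omega)]; congr 1; push_cast; ring
  have bk : ¬ 𝐀 (k 𝐛) := kb ▸ h.lB l c.a 5
  obtain ⟨y, y1, y2⟩ := h.exists_Z (lk.adj (j := 1)) ck.a
  obtain ⟨a, a1, a2⟩ := h.exists_Z (lk.adj' (i := 𝐛 + 1) (j := 𝐛)) (h.toA lk.adj bk)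
  obtain ⟨r1, r2, r3, -⟩ := h.nat_R nat (by omega) ck bk y1 y2 a1 a2
  set r := y * a * y⁻¹ * a
  have x3 := h.crit_not_mem c x1 x2
  have xr : Commute x r := Z_comm (kb' ▸ r1) (h.mQ l c.a x1)
  have e3 : Γ.Adj (f (𝐛 + 1)) (k 3) := k4 ▸ lk.adj'
  have n3 : k 3 ≠ f 𝐛 := k5 ▸ lk.ne
  have r4 : r ∉ 𝐘 (k 3) := fun d => r2 (h.Y_disj e3 l.adj' n3 t d
    (h.mem_Y_of_crit (by omega) c b x1 x3 (h.Y_le_Z e3 d) xr) ▸ one_mem _)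
  have xT : x ∈ 𝐆 (f 𝐛) ⊓ 𝐆 (f (𝐛 - 1)) := ⟨h.mG l c.a x1, h.mG l c.a x1⟩
  obtain ⟨s1, -, s3⟩ := smul_ne h.toA3 (l.adj' (j := 𝐛 - 1)) (l.adj (j := 𝐛 + 1)) l.ne xT x3
  have VW : 𝐕 (f 𝐛) ≤ Xn X Γ 2 (x • f (𝐛 + 1)) :=
    h.Xn_mono (by rw [SimpleGraph.dist_eq_one_iff_adj.2 s3.symm])
  have V3 : 𝐕 (k 3) ≤ Xn X Γ 2 (x • f (𝐛 + 1)) := h.V_le_of nat (h.nA e3 t) e3.symm lk.adj'
    (k4 ▸ lk.ne') ((h.Z_le_V b l.adj).trans VW) r3 r4 (by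
      rw [← xr.mul_inv_cancel, h.Xn_smul]
      exact conj_mem_cj (Z_le_Xn (h.lA lk ck.a 2) (k4 ▸ lk.dist_le h.conn 4 2) r3))
  have : Xn X Γ 2 (f (𝐛 + 1)) ≤ Xn X Γ 2 (x • f (𝐛 + 1)) := h.W_le t fun β e => by
    by_cases d : β = f 𝐛
    · exact d ▸ VW
    by_cases d' : β = k 3
    · exact d' ▸ V3
    obtain ⟨p, p1, p2⟩ := h.exists_Q (l.adj' (i := 𝐛 + 1) (j := 𝐛))
    rw [← h.swap l.adj' e3 e n3 d d' (h.Q_le_T' l.adj' p1) p2, h.Xn_smul]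
    exact cj_le_of_mem_normalizer V3 (h.G_le_NX 2 _ (h.Q_le_adj s3 p1))
  refine h.not_norm_X (n := 2) (l.adj' (i := 𝐛 + 1) (j := 𝐛)) (by omega) t (by simp)
    (inv_mem xT.1) (fun d => s1 (inv_mem_iff.1 d)) fun g hg => ?_
  have := this hg
  rw [h.Xn_smul, mem_cj] at this
  rwa [inv_inv]

theorem nat_five (h5 : 𝐛 = 5) (c : Cl X Γ f) (b : ¬ 𝐀 (f 𝐛)) : False := by
  have g4 := h.ga4 (by omega) c b
  have all : ∀ g, Line Γ g → 𝐀 (g 0) → Cl X Γ g := fun g l a => ⟨l, a, fun d => by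
    obtain ⟨t, ht⟩ := trans_of_gd h.toA3 h.col 4 g4 (c.l.shift 1) (l.shift 1)
      (iff_of_false (h.lB c.l c.a _) (h.lB l a _))
    have t1 : t • f 1 = g 1 := ht 0 le_rfl (by omega)
    have t5 : t • f 𝐛 = g 𝐛 := by rw [h5]; exact ht 4 (by omega) le_rfl
    obtain ⟨x, x1, x2⟩ := h.exists_Z (l.adj (j := 1)) a
    have := h.V_le_of nat (h.lB l a 1) (l.adj (j := 2)) l.adj' l.ne' (K := 𝐐 (g 𝐛))
      (h.lQ l (h.lA l a 2) _) x1 x2 (d x1)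
    refine c.n fun u hu => (smul_mem_Q h.toA3 (g := t)).1 (t5 ▸ this ?_)
    exact h.Z_le_V (h.lB l a 1) (t1 ▸ h.smul t c.l.adj') (smul_mem_Z.2 hu)⟩
  have cm : ∀ g, Line Γ g → 𝐀 (g 0) → ∀ x ∈ 𝐙 (g 0), x ∉ 𝐘 (g 1) → ∀ a ∈ 𝐙 (g 6), a ∉ 𝐘 (g 5) →
      x * a * x⁻¹ * a = 𝐳 (g 3) := fun g l a0 x x1 x2 a a1 a2 => by
    obtain ⟨r1, r2, r3, -⟩ := h.nat_R nat (by omega) (all g l a0) (h.lB l a0 _) x1 x2
      (a := a) (by rw [h5]; exact a1) (by rw [h5]; exact a2)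
    rw [h5] at r1
    exact h.eq_z (h.Z_inf (by omega) (h.lB l a0 3) l.adj' l.adj l.ne r3 r1)
      fun d => r2 (d ▸ one_mem _)
  have key : ∀ g, Line Γ g → 𝐀 (g 0) → ∀ a ∈ 𝐙 (g 6), a ∉ 𝐘 (g 5) → ∀ v ∈ 𝐙 (g (-2)),
      v ∉ 𝐘 (g (-1)) → (a * v) ^ 4 = 𝐳 (g 3) := fun g l a0 a a1 a2 v v1 v2 => by
    have a' := h.lA l a0 (-2)
    have v3 : v ∉ 𝐐 (g 3) := by
      have := h.crit_not_mem (all _ (l.shift (-2)) (by simpa using a')) (by simpa using v1)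
        (by simpa using v2)
      rw [h5] at this
      simpa using this
    have vT : v ∈ 𝐆 (g 3) ⊓ 𝐆 (g 2) := ⟨h.mG l a' v1, h.mG l a' v1⟩
    obtain ⟨s1, -, -⟩ := smul_ne h.toA3 (l.adj' (j := 2)) (l.adj (j := 4)) l.ne vT v3
    have lk := (l.rev 6).glue (l.smul h.toAG v) 3 (Eq.symm vT.1) s1.symm
    have := cm _ lk (by simpa using h.lA l a0 6) a (by simpa using a1) (by simpa using a2)
      (v * a * v⁻¹) (by simpa using (smul_mem_Z (g := v)).2 a1)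
      (by simpa using (smul_mem_Y (g := v)).not.2 a2)
    rw [if_pos le_rfl, show (6 : ℤ) - 3 = 3 from rfl] at this
    rw [← this, inv_of_sq (Z_sq v1), inv_of_sq (Z_sq a1)]
    simp only [pow_succ, pow_zero, one_mul, mul_assoc]
  have l := c.l
  obtain ⟨a, a1, a2⟩ := h.exists_Z (l.adj' (i := 6) (j := 5)) (h.lA l c.a 6)
  obtain ⟨v, v1, v2⟩ := h.exists_Z (l.adj (i := -2) (j := -1)) (h.lA l c.a (-2))
  have p := key f l c.a a a1 a2 v v1 v2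
  have q := key _ (l.rev 4) (h.lA l c.a _) v (by simpa using v1) (by simpa using v2) a
    (by simpa using a1) (by simpa using a2)
  rw [show (4 : ℤ) - 3 = 1 from rfl] at q
  have e : v * a = (a * v)⁻¹ := by rw [mul_inv_rev, inv_of_sq (Z_sq v1), inv_of_sq (Z_sq a1)]
  rw [e, inv_pow, p, inv_of_sq (z_sq _)] at q
  exact h.z_not_mem (l.adj' (i := 2) (j := 1)) (l.adj (j := 3)) l.ne (h.lA l c.a 2)
    (q ▸ z_mem _)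

end Nat

end E3

end H8.GA
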