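import Cfsg.Agent.H8.GA6

/-!
Goldschmidt amalgams, part 7: odd critical distance, the permutation module does not occur.
-/

set_option autoImplicit false

open Cfsg Subgroup H28 MulAction
open scoped Pointwise commutatorElement

namespace H8.GA

variable {X : Type*} [Group X] {V : Type*} [MulAction X V] {Γ : SimpleGraph V}

local notation:max "𝐆" δ:max => stabilizer X δ
local notation:max "𝐐" δ:max => Qv 2 X δ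
local notation:max "𝐘" δ:max => Yv X δ
local notation:max "𝐙" δ:max => Zw X δ
local notation:max "𝐀" δ:max => IsA X δ
local notation:max "#" H:max => Nat.card H
local notation "𝐛" => cd X Γ
local notation:max "𝐊" δ:max => Cv X Γ δ
local notation:max "𝐳" δ:max => zz X δ
local notation:max "𝐕" δ:max => Xn X Γ 1 δ
local notation:max "𝐖" β:max w:max => IsW X Γ β w

/-- `e` centralizes the elements `w` at `κ` -/
def PW (X : Type*) [Group X] {V : Type*} [MulAction X V] (Γ : SimpleGraph V) (κ : V) (e : X) :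
    Prop := ∀ w, IsW X Γ κ w → Commute e w

local notation:max "𝐏" β:max w:max => PW X Γ β w

theorem PW.smul (h : AG X Γ) {κ : V} {e : X} (g : X) (p : 𝐏 κ (g⁻¹ * e * g)) : 𝐏 (g • κ) e :=
  fun w hw => by
    have := p _ (by simpa using hw.smul h g⁻¹)
    refine comm_of_conj ?_
    calc _ = g * ((g⁻¹ * e * g) * (g⁻¹ * w * g) * (g⁻¹ * e * g)⁻¹) * g⁻¹ := by group
      _ = _ := by rw [this.mul_inv_cancel]; group

theorem PW.of_mul {κ : V} {e e' : X} (p : 𝐏 κ (e * e')) (q : 𝐏 κ e') : 𝐏 κ e := fun w hw => by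
  simpa using (p w hw).mul_left (q w hw).inv_left

namespace E3

variable (h : E3 X Γ) {f : ℤ → V} {α α' β β' γ γ' μ : V} {x y a u w w' : X}
  (nn : ∀ (β : V) (w : X), ¬ IsA X β → IsW X Γ β w → w ∉ Yv X β) (h3 : 3 ≤ cd X Γ)
include h

theorem conj_inv_mem_Q {g : X} {δ : V} : g⁻¹ * x * g ∈ 𝐐 δ ↔ x ∈ 𝐐 (g • δ) := by
  rw [← smul_mem_Q h.toA3 (g := g)]; simp [mul_assoc]

include h3 in
theorem W_mem_Q (e : Γ.Adj β α) (b : ¬ 𝐀 β) (c : 𝐖 β w) : w ∈ 𝐐 α :=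
  (h.V_le_iff b).2 (fun _ e' => h.two_le_Q h3 b e' e) (h.W_mem b c)

include nn h3

theorem W_not_Z (e : Γ.Adj β α) (b : ¬ 𝐀 β) (c : 𝐖 β w) : w ∉ 𝐙 α := fun d => by
  obtain ⟨q, e2, n⟩ := h.exists_ne e
  obtain ⟨r, e3, n1, n2⟩ := exists_third h.toA3 e e2 n.symm
  obtain ⟨x, x1, x2, y, y1, y2, z, z1, z2, rfl⟩ := h.W3_lab (by omega) b c e e2 e3 n.symm n1 n2
  rw [mul_assoc] at d c
  by_cases k : y * z ∈ 𝐘 β
  · exact y2 (h.Z_inf h3 b e2 e3 n2.symm y1 ((mul_mem_cancel_right z1).1 (h.Y_le_Z e3.symm k)))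
  · exact nn β _ b c (h.mul_mem_Y e.symm (h.toA e b) x1 ((mul_mem_cancel_left x1).1 d) x2 k)

theorem W0 (e : Γ.Adj β α) (b : ¬ 𝐀 β) : ∃ q ∈ 𝐐 α, ¬ 𝐏 β q := by
  by_contra! d
  obtain ⟨w, c⟩ := h.exists_W b
  exact h.W_not_Z nn h3 e b c (mem_omega.2 ⟨h.W_mem_Q h3 e b c, fun q hq => d q hq w c,
    h.X_sq (n := 1) (by omega) (h.W_mem b c)⟩)

omit nn in
theorem PW_of (e : Γ.Adj α β) (b : ¬ 𝐀 β) (c : 𝐖 β w) (hx : x ∈ 𝐐 α) (k : Commute x w) :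
    𝐏 β x := fun w' c' => by
  obtain ⟨y, y1, rfl⟩ := h.W_uniq (by omega) b c c'
  exact k.mul_right (Z_comm (h.Y_le_Z e y1) hx)

theorem W_diff (e : Γ.Adj α β) (e' : Γ.Adj α β') (n : β ≠ β') (a : 𝐀 α) (c : 𝐖 β w)
    (c' : 𝐖 β' w') : w * w'⁻¹ ∉ 𝐙 α := fun d => by
  obtain ⟨q, q1, q2⟩ := h.W0 nn h3 e.symm (h.nA e a)
  obtain ⟨y, y1, y2⟩ := h.W_comm (by omega) (h.nA e a) c (h.Q_le_adj e q1)
  obtain ⟨z, z1, z2⟩ := h.W_comm (by omega) (h.nA e' a) c' (h.Q_le_adj e' q1)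
  have k := (Z_comm d q1).mul_inv_cancel
  have : y = z := by
    have t : w * y * (w' * z)⁻¹ = w * w'⁻¹ := by rw [← y2, ← z2, ← k]; group
    have s : y = w⁻¹ * (w * y * (w' * z)⁻¹) * (w' * z) := by group
    rw [s, t]; group
  rw [h.Y_disj e e' n a y1 (this ▸ z1), mul_one] at y2
  exact q2 (h.PW_of h3 e (h.nA e a) c q1 (comm_of_conj y2))

theorem nn_three (e3 : 𝐛 = 3) (c : Cl X Γ f) (b : ¬ 𝐀 (f 𝐛)) : False := by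
  have l := c.l
  obtain ⟨x, x1, x2⟩ := h.exists_Z (l.adj (j := 1)) c.a
  obtain ⟨a, a1, a2⟩ := h.exists_Z (l.adj' (i := 𝐛 + 1) (j := 𝐛)) (h.toA l.adj b)
  obtain ⟨u, u1, u2⟩ := h.exists_Z (l.adj (i := 𝐛 - 1) (j := 𝐛)) (h.toA l.adj' b)
  have p := h.R1 h3 c x1 x2 a1 a2 u1 u2
  by_cases d : a ∈ 𝐐 (f 1)
  · rw [(h.R2 h3 c b x1 x2 a1 a2 d).2] at p
    exact h.W_not_Z nn h3 (l.adj' (j := 𝐛 - 1)) b p (mul_mem u1 (h.z_mem_Z l.adj'))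
  · obtain ⟨v, v1, v2⟩ := h.exists_Z (l.adj' (i := 𝐛 - 1) (j := 1)) (h.lA l c.a _)
    have q := h.R3 h3 c b x1 x2 a1 d (u := v) (by rwa [show (2 : ℤ) = 𝐛 - 1 by omega]) v2
    refine h.W_diff nn h3 (l.adj' (i := 𝐛 - 1)) l.adj l.ne (h.lA l c.a _) q p ?_
    rw [mul_inv_rev, mul_assoc, mul_inv_cancel_left]
    exact mul_mem v1 (inv_mem u1)

theorem nn_S (h5 : 5 ≤ 𝐛) (c : Cl X Γ f) (b : ¬ 𝐀 (f 𝐛)) (ga : GA X Γ 𝐛) (e : Γ.Adj (f 2) γ)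
    (n1 : γ ≠ f 1) (n3 : γ ≠ f 3) (c1 : 𝐖 (f 1) w) (c2 : 𝐖 γ w') :
    𝐳 (f 𝐛) * (w * w'⁻¹)⁻¹ ∈ 𝐙 (f 2) := by
  have l := c.l
  have t := h.toA (l.adj (j := 𝐛 + 1)) b
  have a2' := h.lA l c.a 2
  obtain ⟨x, x1, x2⟩ := h.exists_Z (l.adj (j := 1)) c.a
  obtain ⟨a, a1, a2⟩ := h.exists_Z (l.adj' (i := 𝐛 + 1) (j := 𝐛)) t
  obtain ⟨u, u1, u2⟩ := h.exists_Z (l.adj (i := 𝐛 - 1) (j := 𝐛)) (h.toA l.adj' b)
  obtain ⟨v, v1, v2⟩ := h.exists_Z (l.adj' (i := 2) (j := 1)) a2'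
  have a3 : a ∉ 𝐐 (f 1) := by
    have := h.crit_not_mem (h.cl_all c ga (l.rev (𝐛 + 1)) (by simpa using t)) (x := a)
      (by simpa using a1) (by simpa using a2)
    simpa using this
  have p := h.R1 h3 c x1 x2 a1 a2 u1 u2
  have q := h.R3 h3 c b x1 x2 a1 a3 v1 v2
  set r := x * a * x⁻¹ * a
  obtain ⟨g, g1, g2⟩ := ga (𝐛 - 2) (by omega) _ (l.shift 2)
  have gs : ∀ j : ℤ, 2 ≤ j → j ≤ 𝐛 → g ∈ 𝐆 (f j) := fun j p q => by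
    simpa using g1 (j - 2) (by omega) (by omega)
  have g3 : g ∈ 𝐐 (f (𝐛 - 1)) := h.mem_Q (l.adj' (j := 𝐛 - 2)) (l.adj (j := 𝐛)) l.ne
    (gs (𝐛 - 1) (by omega) (by omega)) (gs (𝐛 - 2) (by omega) (by omega))
    (gs 𝐛 (by omega) (by omega))
  have g4 : g • f 1 = γ := h.swap (l.adj (j := 3)) l.adj' e l.ne n3 n1
    ⟨gs 2 (by omega) (by omega), gs 3 (by omega) (by omega)⟩ (by simpa using g2)
  obtain ⟨y, y1, y2⟩ := h.W_comm (by omega) b p (gs 𝐛 (by omega) le_rfl)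
  have y3 : g * r * g⁻¹ = r * y := by
    calc _ = (g * u * g⁻¹)⁻¹ * (g * (u * r) * g⁻¹) := by group
      _ = _ := by rw [y2, (Z_comm u1 g3).mul_inv_cancel]; group
  have q' := q.smul h.toAG g
  rw [g4] at q'
  have v3 := (conj_mem_Z (gs 2 le_rfl (by omega))).2 v1
  have ry : Commute r y := Y_comm y1 (mul_mem (mul_mem (mul_mem (h.mG l c.a x1) (h.mG l t a1))
    (inv_mem (h.mG l c.a x1))) (h.mG l t a1))
  have E : v * r * (g * (v * r) * g⁻¹)⁻¹ = v * y⁻¹ * (g * v * g⁻¹)⁻¹ := by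
    calc _ = v * r * (g * r * g⁻¹)⁻¹ * (g * v * g⁻¹)⁻¹ := by group
      _ = _ := by rw [y3, ry.eq]; group
  rcases h.Y_cases y1 with rfl | rfl
  · refine (h.W_diff nn h3 l.adj' e n1.symm a2' q q' ?_).elim
    rw [E]; simpa using mul_mem v1 (inv_mem v3)
  obtain ⟨s, s1, s2⟩ := h.W_uniq (by omega) (h.lB l c.a 1) c1 q
  obtain ⟨s', s1', s2'⟩ := h.W_uniq (by omega) (h.nA e a2') c2 q'
  rw [s2', s2, inv_of_sq (z_sq _)] at E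
  have wQ := h.W_mem_Q h3 (l.adj (j := 2)) (h.lB l c.a 1) c1
  have wQ' := h.W_mem_Q h3 e.symm (h.nA e a2') c2
  have := mul_mem (inv_mem v1) (mul_mem ((conj_mem_Z (Q_le_G _ wQ)).2
    (mul_mem (h.Y_le_Z l.adj' s1) (inv_mem (h.Y_le_Z e s1'))))
    ((conj_mem_Z (Q_le_G _ (mul_mem wQ (inv_mem wQ')))).2 v3))
  convert this using 1
  have E' : 𝐳 (f 𝐛) = v⁻¹ * (w * s * (w' * s')⁻¹) * (g * v * g⁻¹) := by rw [E]; group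
  rw [E']; group

theorem nn_ga (h5 : 5 ≤ 𝐛) (h7 : 𝐛 = 5 ∨ 7 ≤ 𝐛) (c : Cl X Γ f) (b : ¬ 𝐀 (f 𝐛)) (ga : GA X Γ 𝐛) :
    False := by
  have l := c.l
  have t := h.toA (l.adj (j := 𝐛 + 1)) b
  obtain ⟨γ, e, n1, n3⟩ := exists_third h.toA3 (l.adj' (i := 2) (j := 1)) (l.adj (j := 3)) l.ne
  obtain ⟨w, c1⟩ := h.exists_W (h.lB l c.a 1)
  obtain ⟨w', c2⟩ := h.exists_W (h.nA e (h.lA l c.a 2))
  have key : ∀ g, Line Γ g → ∀ k : ℤ, 3 ≤ k → (∀ i, i ≤ k → g i = f i) → ¬ 𝐀 (g 𝐛) →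
      𝐳 (f 𝐛) * 𝐳 (g 𝐛) ∈ 𝐙 (f 2) := fun g lg k k3 hg bg => by
    have p := h.nn_S nn h3 h5 c b ga e n1 n3 c1 c2
    have q := h.nn_S nn h3 h5 (h.cl_all c ga lg (hg 0 (by omega) ▸ c.a)) bg ga
      (hg 2 (by omega) ▸ e) (hg 1 (by omega) ▸ n1) (hg 3 k3 ▸ n3) (hg 1 (by omega) ▸ c1) c2
    rw [hg 2 (by omega)] at q
    have := mul_mem p (inv_mem q)
    rwa [mul_inv_rev (𝐳 (g 𝐛)), mul_assoc, mul_inv_cancel_left, inv_of_sq (z_sq _)] at this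
  rcases h7 with h7 | h7
  · have b3 := h.lB l c.a 3
    obtain ⟨ρ, e', m1, m2⟩ := exists_third h.toA3 (l.adj' (i := 3) (j := 2)) (l.adj (j := 4)) l.ne
    obtain ⟨g, lg, g4, hg⟩ := snoc_line h.toA3 l 3 e' m1
    have a4 : 𝐀 (g 4) := g4 ▸ h.toA e' b3
    have := key g lg 3 le_rfl hg (h.lB lg a4 _)
    rw [h7] at this
    obtain ⟨u, u1, u2⟩ := h.exists_Z (l.adj (i := 2) (j := 3)) (h.lA l c.a 2)
    refine h.W_not_Z nn h3 (l.adj' (j := 2)) b3 ⟨_, _, _, l.adj', l.adj, e', l.ne, m1, m2, u, u1, u2,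
      _, h.z_mem_Z (l.adj (j := 5)), h.z_not_mem l.adj' l.adj l.ne (h.lA l c.a 4),
      𝐳 (g 5), g4 ▸ h.z_mem_Z (lg.adj (i := 4)),
      hg 3 le_rfl ▸ h.z_not_mem lg.adj' lg.adj lg.ne a4, rfl⟩ ?_
    rw [mul_assoc]; exact mul_mem u1 this
  · have a1 := h.lA l t (𝐛 - 1)
    obtain ⟨ρ, e', m1, m2⟩ := exists_third h.toA3 (l.adj' (i := 𝐛 - 1) (j := 𝐛 - 1 - 1))
      (l.adj (j := 𝐛)) l.ne
    obtain ⟨g, lg, g4, hg⟩ := snoc_line h.toA3 l (𝐛 - 1) e' m1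
    rw [sub_add_cancel] at g4
    have r3 := key g lg _ (by omega) hg (g4 ▸ h.nA e' a1)
    rw [g4] at r3
    have s1 := h.sib ga l r3 a1 (mul_mem (h.z_mem_Z l.adj) (h.z_mem_Z e')) (by omega) (by omega)
    have s2 := h.sib ga l r3 (h.lA l t (𝐛 - 3)) (h.Y_le_Z l.adj s1) (by omega) (by omega)
    have := h.Y_disj l.adj l.adj' l.ne' (h.lA l t (𝐛 - 3)) s1 s2
    exact h.z_not_mem e' l.adj m2 a1 (eq_inv_of_mul_eq_one_left this ▸ inv_mem (z_mem ρ))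

theorem nn_loc (g4 : GA X Γ 4) (a : 𝐀 α) (e : Γ.Adj α β) (em : Γ.Adj α μ) (n : μ ≠ β)
    (e1 : Γ.Adj β α') (n1 : α' ≠ α) (h1 : ∀ x ∈ 𝐐 α, x ∈ 𝐐 β → x ∈ 𝐐 α' → 𝐏 μ x) : False := by
  have b := h.nA e a
  obtain ⟨α'', e2, n2, n3⟩ := exists_third h.toA3 e.symm e1 n1.symm
  obtain ⟨μ', em', m1, m2⟩ := exists_third h.toA3 e em n.symm
  have fin : ∀ κ ν, Γ.Adj α κ → Γ.Adj α ν → (∀ x ∈ 𝐐 α, x ∈ 𝐐 κ → 𝐏 ν x) →
      ∀ x ∈ 𝐐 α, 𝐏 ν x → x ∈ 𝐐 κ := fun κ ν eκ eν k x x1 x2 => by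
    by_contra d
    obtain ⟨q, q1, q2⟩ := h.W0 nn h3 eν.symm (h.nA eν a)
    by_cases d' : q ∈ 𝐐 κ
    · exact q2 (k q q1 d')
    · exact q2 ((k _ (mul_mem q1 x1) (h.mul_mem_Q eκ.symm (h.Q_le_T' eκ.symm q1)
        (h.Q_le_T' eκ.symm x1) d' d)).of_mul x2)
  have cq := fun {x g : X} {δ : V} => h.conj_inv_mem_Q (x := x) (g := g) (δ := δ)
  obtain ⟨s, s1, s2⟩ := h.exists_Q e.symm
  have sT := h.Q_le_T' e.symm s1
  have h2 : ∀ x ∈ 𝐐 α, x ∈ 𝐐 β → x ∈ 𝐐 α'' → 𝐏 μ x := fun x x1 x2 x3 => by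
    have := (h1 _ (cq.2 (by rwa [sT.2])) (cq.2 (by rwa [sT.1]))
      (cq.2 (by rwa [h.swap e.symm e1 e2 n1 n2 n3 sT s2]))).smul h.toAG s
    rwa [h.Q_le_adj em s1] at this
  obtain ⟨g, g1, g2⟩ := h.exists_Q em
  have gT := h.Q_le_T' em g1
  have gβ : g • β = μ' := h.swap em e em' n.symm m2 m1 gT g2
  have gμ : g • μ' = β := h.swap em em' e m2 n.symm m1.symm gT g2
  obtain ⟨k, k1, k2, k3⟩ := h.K2 g4 e em' m1.symm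
  by_cases cA : ∃ x ∈ 𝐐 α, x ∈ 𝐐 β ∧ ¬ (x ∈ 𝐐 α' ↔ x ∈ 𝐐 α'')
  · obtain ⟨x, x1, x2, x3⟩ := cA
    have E : ∀ y ∈ 𝐐 α, y ∈ 𝐐 β → 𝐏 μ y := fun y y1 y2 => by
      by_cases d : y ∈ 𝐐 α'
      · exact h1 y y1 y2 d
      by_cases d' : y ∈ 𝐐 α''
      · exact h2 y y1 y2 d'
      by_cases c : x ∈ 𝐐 α'
      · exact (h2 _ (mul_mem y1 x1) (mul_mem y2 x2) (h.mul_mem_Q e2.symm (h.Q_le_T' e2.symm y2)
          (h.Q_le_T' e2.symm x2) d' (by tauto))).of_mul (h1 x x1 x2 c)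
      · exact (h1 _ (mul_mem y1 x1) (mul_mem y2 x2) (h.mul_mem_Q e1.symm (h.Q_le_T' e1.symm y2)
          (h.Q_le_T' e1.symm x2) d c)).of_mul (h2 x x1 x2 (by tauto))
    refine k3 (fin μ' μ em' em (fun y y1 y2 => ?_) k k1 (E k k1 k2))
    have := (E _ (cq.2 (by rwa [gT.1])) (cq.2 (by rwa [gβ]))).smul h.toAG g
    rwa [gT.2] at this
  push Not at cA
  have P1 : ∀ x ∈ 𝐐 β, x ∈ 𝐐 α → 𝐏 β x := fun x x2 x1 w c => by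
    obtain ⟨p, p1, -, q, q1, q2, r, r1, r2, rfl⟩ :=
      h.W3_lab (by omega) b c e.symm e1 e2 n1.symm n2 n3
    by_cases d : x ∈ 𝐐 α'
    · exact ((Z_comm p1 x1).mul_right (Z_comm q1 d)).mul_right (Z_comm r1 ((cA x x1 x2).1 d))
    · refine comm_of_conj ?_
      calc _ = (x * p * x⁻¹) * (x * q * x⁻¹) * (x * r * x⁻¹) := by group
        _ = p * (𝐳 β * (q * 𝐳 β)) * r := by
          rw [(Z_comm p1 x1).mul_inv_cancel, h.conj_Z e1 b q1 q2 x2 d,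
            h.conj_Z e2 b r1 r2 x2 fun k => d ((cA x x1 x2).2 k)]; group
        _ = _ := by
          rw [(Y_comm (z_mem β) (h.Q_le_adj e1.symm (Z_le_Q0 _ q1))).eq, ← mul_assoc (𝐳 β), z_sq,
            one_mul]
  have P2 : ∀ x ∈ 𝐐 β, 𝐏 β x := fun x x2 => by
    by_cases d : x ∈ 𝐐 α
    · exact P1 x x2 d
    obtain ⟨q, q1, q2, q3⟩ := h.K1 h3 b e1 e.symm n1
    refine (P1 _ (mul_mem x2 q1) (h.mul_mem_Q e (h.Q_le_T' e x2) (h.Q_le_T' e q1) d q3)).of_mul ?_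
    obtain ⟨t, t1, t2⟩ := h.trans β α α' e.symm e1
    have := (P1 _ (cq.2 (by rwa [t1])) (cq.2 (by rwa [t2]))).smul h.toAG t
    rwa [t1] at this
  have P3 : ∀ κ, Γ.Adj α κ → ∀ x ∈ 𝐐 κ, 𝐏 κ x := fun κ eκ x hx => by
    obtain ⟨t, -, rfl⟩ := h.trans α β κ e eκ
    exact (P2 _ (cq.2 hx)).smul h.toAG t
  obtain ⟨p, p1, p2⟩ := h.exists_Q e
  have pT := h.Q_le_T' e p1
  have D : ∀ x ∈ 𝐐 α, x ∈ 𝐐 β → x ∈ 𝐐 α' → x ∈ 𝐐 μ' := fun x x1 x2 x3 => by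
    refine fin μ' μ' em' em' (fun y _ y2 => P3 _ em' y y2) x x1 ?_
    have := (h1 _ (cq.2 (by rwa [pT.1])) (cq.2 (by rwa [pT.2]))
      (cq.2 (by rwa [h.Q_le_adj e1 p1]))).smul h.toAG p
    rwa [h.swap e em em' n m1 m2 pT p2] at this
  have K : ∀ x, x ∈ 𝐊 β ↔ x ∈ 𝐐 α ∧ x ∈ 𝐐 β ∧ x ∈ 𝐐 μ' := fun x => ⟨fun c =>
    ⟨(mem_Cv.1 c).2 _ e.symm, (mem_Cv.1 c).1,
      D x ((mem_Cv.1 c).2 _ e.symm) (mem_Cv.1 c).1 ((mem_Cv.1 c).2 _ e1)⟩, fun ⟨x1, x2, x3⟩ => by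
    have : x ∈ 𝐐 α' := by
      by_contra d
      exact k3 ((mul_mem_cancel_left x3).1 (D _ (mul_mem x1 k1) (mul_mem x2 k2) (h.mul_mem_Q e1.symm
        (h.Q_le_T' e1.symm x2) (h.Q_le_T' e1.symm k2) d fun c => k3 (D k k1 k2 c))))
    exact mem_Cv3 h.toA3 e.symm e1 e2 n1.symm n2 n3 x2 x1 this ((cA x x1 x2).1 this)⟩
  have := not_norm h.toA3 e.symm (K := 𝐊 β) (inf_le_left.trans (Q_le_G _))
    (fun q hq => Q_le_G _ ((mem_Cv.1 hq).2 _ e.symm)) (G_le_NC h.toA3 _) gT.1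
    (h.not_mem_G em e n gT g2) (mem_normalizer_iff.2 fun q => by
      rw [K, K, conj_mem_Q h.toA3 gT.1, ← smul_mem_Q h.toA3 (g := g) (δ := β), gβ,
        ← smul_mem_Q h.toA3 (g := g) (δ := μ') (x := q), gμ]
      tauto)
  exact b (eq_bot_iff.2 ((h.Y_le_C b).trans this.le))

theorem nn_np (h5 : 5 ≤ 𝐛) (c : Cl X Γ f) (b : ¬ 𝐀 (f 𝐛)) (np : NP X Γ) : False := by
  have l := c.l
  have t := h.toA (l.adj (j := 𝐛 + 1)) b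
  obtain ⟨x, x1, x2⟩ := h.exists_Z (l.adj (j := 1)) c.a
  obtain ⟨k, ck, hk⟩ := h.exists_cl' l (n := 2) (by omega) (by omega) (h.claimA np h5 c b)
  have lk := ck.l
  have k2 : k 2 = f (𝐛 + 1) := by rw [hk 2 le_rfl]; congr 1; push_cast; ring
  have k3 : k 3 = f 𝐛 := by rw [hk 3 (by omega)]; congr 1; push_cast; ring
  have kb : k 𝐛 = f 3 := by rw [hk _ (by omega)]; congr 1; push_cast; ring
  have bk : ¬ 𝐀 (k 𝐛) := kb ▸ h.lB l c.a 3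
  obtain ⟨y, y1, y2⟩ := h.exists_Z (lk.adj (j := 1)) ck.a
  obtain ⟨a, a1, a2⟩ := h.exists_Z (lk.adj' (i := 𝐛 + 1) (j := 𝐛)) (h.toA lk.adj bk)
  obtain ⟨u, u1, u2⟩ := h.exists_Z (lk.adj (i := 𝐛 - 1) (j := 𝐛)) (h.toA lk.adj' bk)
  obtain ⟨v, v1, v2⟩ := h.exists_Z (lk.adj' (i := 2) (j := 1)) (h.lA lk ck.a 2)
  have p := h.R1 h3 ck y1 y2 a1 a2 u1 u2
  have q := h.R3 h3 ck bk y1 y2 a1 (h.np_a np h3 ck bk a1 a2) v1 v2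
  set r := y * a * y⁻¹ * a
  have rV := (mul_mem_cancel_left (h.Z_le_V bk lk.adj' u1)).1 (h.W_mem bk p)
  rw [kb] at rV
  have xr : Commute x r := (Z_comm x1 (h.xQ l rV)).symm
  have xT : x ∈ 𝐆 (f 𝐛) ⊓ 𝐆 (f (𝐛 - 1)) := ⟨h.mG l c.a x1, h.mG l c.a x1⟩
  obtain ⟨s1, -, s3⟩ := smul_ne h.toA3 (l.adj' (j := 𝐛 - 1)) (l.adj (j := 𝐛 + 1)) l.ne xT
    (h.crit_not_mem c x1 x2)
  have e1 : Γ.Adj (f (𝐛 + 1)) (k 1) := k2 ▸ lk.adj'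
  have n1 : k 1 ≠ f 𝐛 := k3 ▸ lk.ne
  have b1 := h.nA e1 t
  rw [k2] at v1
  refine h.nn_loc nn h3 (h.ga4 h3 c b) t l.adj' e1 n1 s3 s1 fun e q1 q2 q3 =>
    h.PW_of h3 e1 b1 q q1 ?_
  obtain ⟨s, t1, t2⟩ := h.W_comm (by omega) b1 q (h.Q_le_adj e1 q1)
  obtain ⟨s', t1', t2'⟩ := h.W_comm (by omega) (isA_smul.not.2 b1) (q.smul h.toAG x)
    (h.Q_le_adj (h.smul x e1) q3)
  have E1 : e * r * e⁻¹ = r * s := by
    calc _ = (e * v * e⁻¹)⁻¹ * (e * (v * r) * e⁻¹) := by group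
      _ = _ := by rw [t2, (Z_comm v1 q1).mul_inv_cancel]; group
  have E2 : e * r * e⁻¹ = r * s' := by
    have : x * (v * r) * x⁻¹ = x * v * x⁻¹ * r := by
      conv_rhs => rw [← xr.mul_inv_cancel]
      group
    rw [this] at t2'
    calc _ = (e * (x * v * x⁻¹) * e⁻¹)⁻¹ * (e * (x * v * x⁻¹ * r) * e⁻¹) := by group
      _ = _ := by rw [t2', (Z_comm (smul_mem_Z.2 v1) q3).mul_inv_cancel]; group
  have : s = s' := mul_left_cancel (E1.symm.trans E2)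
  rw [h.Y_disj e1 l.adj' n1 t t1 (h.Z_inf h3 b l.adj s3 s1.symm (h.Y_le_Z e1 t1)
    (this ▸ h.Y_le_Z (h.smul x e1) t1')), mul_one] at t2
  exact comm_of_conj t2

end E3

end H8.GA
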