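import Cfsg.Agent.H8.SB6
import Cfsg.Agent.H25.SimpG

/-!
The fusion system of a simple group with a split BN-pair of rank at least two, in the defining characteristic, is simple.
-/

set_option linter.unusedSectionVars false

namespace H8

open Cfsg Subgroup H25 H25.FS
open scoped commutatorElement

namespace SB

variable {p : ℕ} {G : Type*} [Group G] {κ : Type*} {S : SB p G κ} {i j k : κ} {n m g h u v y b : G} {T Y : Subgroup G}

variable (S) in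
/-- the rank one subgroup -/
def L (i : κ) : Subgroup G := S.X i ⊔ H25.cj (S.s i)⁻¹ (S.X i)

variable (S) in
/-- the torus is generated by the rank one tori -/
def HL : Prop := ∀ M : Subgroup G, (∀ i, S.H ⊓ S.L i ≤ M) → S.H ≤ M

variable [Finite G] [Fact p.Prime]

theorem HL.map {G' : Type*} [Group G'] {f : G →* G'} {hf : Function.Surjective f} {hk : f.ker ≤ center G}
    (hL : S.HL) : (S.map f hf hk).HL := fun M hM => map_le_iff_le_comap.2 (hL _ fun i x hx =>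
  hM i ⟨mem_map_of_mem f hx.1, (sup_le (map_le_iff_le_comap.1 le_sup_left) (H25.cj_le.2 fun y hy => mem_comap.2
    (mem_sup_right (by
      rw [map_mul, map_mul, map_inv, map_inv, map_inv]
      exact H25.conj_mem_cj _ (mem_map_of_mem f hy)))) : S.L i ≤ ((S.map f hf hk).L i).comap f) hx.2⟩)

theorem conn_of (hc : S.Conn) {M : Subgroup G} (hM : S.B ≤ M) (hi : S.s i ∈ M) (hj : S.s j ∉ M) :
    ∃ i j, S.s i ∈ M ∧ S.s j ∉ M ∧ ¬ Cin (S.X j) (S.X j) (S.s i) := by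
  by_contra! a
  have key : ∀ j, S.s j ∉ M → ∀ n ∈ S.N, n ∈ M → Cin (S.X j) (S.X j) n := fun j hj n hn =>
    N_induction (P := fun n => n ∈ M → Cin (S.X j) (S.X j) n) (fun h hh _ => S.H_X j h hh) (fun n hn l hl ih e => by
      have := s_mem_of_not_pos hM (mul_mem (S.s_mem l) hn) e (not_pos_s_mul hn hl)
      exact (a l j this hj).mul (ih (by simpa using mul_mem (inv_mem this) e))) hn
  obtain ⟨n, h1, h2, h3⟩ := exists_longest hM
  obtain ⟨j, l, b1, b2, b3⟩ := hc n h1 ⟨j, (h3 j).2 hj⟩ ⟨i, fun c => (h3 i).1 c hi⟩ fun j c => key j ((h3 j).1 c) n h1 h2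
  exact b3 ((key j ((h3 j).1 b1) _ (mul_mem (S.s_mem l) h1) (mul_mem (s_mem_of_not_pos hM h1 h2 b2) h2)).mono le_rfl
    (S.X_le j))

/-- an edge of the diagram leaving a set of nodes -/
theorem edge (hc : S.Conn) (hR : S.Rad) {I : κ → Prop} (sat : ∀ i j, I i → ¬ I j → S.X i ≠ S.X j) (hi : I i) (hj : ¬ I j) :
    ∃ i j, I i ∧ ¬ I j ∧ Cin (S.X j) (S.V i ⊓ S.V j) (S.s i) := by
  choose R h1 h2 h3 h4 using hR
  have mem : ∀ l, S.s l ∈ (⨅ k, ⨅ _ : ¬ I k, nz (R k)) ↔ I l := fun l =>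
    ⟨fun a => by_contra fun c => not_pos_s l ((cin_of_normalizer (mem_iInf.1 (mem_iInf.1 a l) c)).mono (h1 l) (h2 l)),
      fun a => mem_iInf.2 fun k => mem_iInf.2 fun c => (h4 k l (sat l k a c)).mem_normalizer⟩
  obtain ⟨i, j, a1, a2, a3⟩ := conn_of hc (le_iInf₂ fun k _ b hb => (h3 k b hb).mem_normalizer) ((mem i).2 hi)
    ((mem j).not.2 hj)
  rw [mem] at a1 a2
  have e := (s_cin_V (S := S) (i := i)).mono ((X_le_V_or i j).resolve_right (sat i j a1 a2).symm) le_rfl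
  have e' := (S.root _ (S.s_mem i) j j (e.mono le_rfl V_le)).resolve_right fun c => a3 fun y hy => (c y).1 hy
  exact ⟨i, j, a1, a2, fun y hy => ⟨e y hy, mem_V.2 ⟨V_le (e y hy), by simpa [mul_assoc] using e' y hy⟩⟩⟩

theorem B_nz_V : S.B ≤ nz (S.V i) := fun _ hb => (B_cin_V hb).mem_normalizer
theorem s_nz_V : S.s i ∈ nz (S.V i) := s_cin_V.mem_normalizer
theorem B_nz_U : S.B ≤ nz S.U := normalizer_U.ge

theorem B_nz_T (hT : SCl S.U T) : S.B ≤ nz T := fun b hb => mem_nz_of_conj_mem fun x hx =>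
  hT.2 x hx b (conj_mem_of_mem_nz (B_nz_U hb) (hT.1 hx))

theorem nz_stab (hT : SCl S.U T) : nz (S.V i) ≤ nz (stab (S.V i) T) := fun g hg => mem_nz_stab hg
  (mem_nz_of_conj_mem fun x hx => have a := conj_mem_of_mem_nz hg hx.1; ⟨a, hT.2 x hx.2 g (V_le a)⟩)

theorem T_le_stab (hT : SCl S.U T) : T ≤ stab (S.V i) T := fun t ht => ⟨B_nz_V (U_le_B (hT.1 ht)), fun x hx => by
  simpa [mul_assoc] using mul_mem (conj_mem_of_mem_nz' (B_nz_T hT (U_le_B (V_le hx))) ht) (inv_mem ht)⟩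

theorem s_conj_mem (hT : SCl S.U T) (hi : ¬ T ≤ S.V i) (hY : S.B ≤ nz Y) (h1 : S.V i ⊓ T ≤ Y) (hy : y ∈ Y) (hv : y ∈ S.V i) :
    (S.s i)⁻¹ * y * S.s i ∈ Y := by
  obtain ⟨t, ht, hn⟩ := SetLike.not_le_iff_exists.1 hi
  obtain ⟨x, hx, v, hv', rfl⟩ := exists_XV i (hT.1 ht)
  obtain ⟨a, ha, k, hk, c, hc, e⟩ := S.rank1 i x hx (by rintro rfl; exact hn (by simpa using hv'))
  have aB := U_le_B (S.X_le i ha)
  have c1 := conj_mem_of_mem_nz' (nz_stab hT (B_nz_V aB)) (conj_mem_of_mem_nz' (nz_stab hT s_nz_V) (T_le_stab (i := i) hT ht))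
  have bB : a⁻¹ * ((S.s i)⁻¹ * v * S.s i)⁻¹ * c⁻¹ * k⁻¹ ∈ S.B := mul_mem (mul_mem (mul_mem (inv_mem aB)
    (inv_mem (U_le_B (mem_V.1 hv').2))) (inv_mem (U_le_B (S.X_le i hc)))) (inv_mem (H_le_B hk))
  have e2 : S.s i = a⁻¹ * ((S.s i)⁻¹ * (x * v) * S.s i) * a * (a⁻¹ * ((S.s i)⁻¹ * v * S.s i)⁻¹ * c⁻¹ * k⁻¹) := by
    rw [show (S.s i)⁻¹ * (x * v) * S.s i = (S.s i)⁻¹ * x * S.s i * ((S.s i)⁻¹ * v * S.s i) by group, e]; group
  generalize a⁻¹ * ((S.s i)⁻¹ * (x * v) * S.s i) * a = d at c1 e2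
  generalize a⁻¹ * ((S.s i)⁻¹ * v * S.s i)⁻¹ * c⁻¹ * k⁻¹ = b at bB e2
  have c2 := (inv_mem c1).2 y hv
  have c3 := mul_mem hy (h1 (mem_inf.2 ⟨mul_mem (inv_mem hv) (conj_mem_of_mem_nz (inv_mem c1).1 hv), c2⟩))
  have := conj_mem_of_mem_nz' (hY bB) c3
  rw [e2]; simpa [mul_assoc] using this

theorem scl_of (hT : SCl S.U T) (ha : ∀ i, ¬ T ≤ S.V i) (hY : S.B ≤ nz Y) (h1 : T ≤ Y) (h2 : Y ≤ S.U) : SCl S.U Y := by
  refine ⟨h2, fun x hx g hg => ?_⟩
  obtain ⟨u, hu, n, hn, v, hv, e⟩ := S.bruhat g⁻¹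
  have key := N_induction (P := fun n => ∀ x ∈ Y, n⁻¹ * x * n ∈ S.U → n⁻¹ * x * n ∈ Y)
    (fun h hh x hx _ => conj_mem_of_mem_nz' (hY (H_le_B hh)) hx) (fun n hn l hl ih x hx c => by
      have := ih _ (s_conj_mem hT (ha l) hY (inf_le_right.trans h1) hx (mem_V_of_not_pos (mul_mem (S.s_mem l) hn)
        (not_pos_s_mul hn hl) (h2 hx) c)) (by simpa [mul_assoc] using c)
      simpa [mul_assoc] using this) hn
  rw [inv_eq_iff_eq_inv] at e
  have := conj_mem_of_mem_nz' (hY (U_le_B hv)) (key _ (conj_mem_of_mem_nz' (hY (U_le_B hu)) hx) (by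
    simpa [e, mul_assoc] using mul_mem (mul_mem hv hg) (inv_mem hv)))
  simpa [e, mul_assoc] using this

theorem V_eq (h : S.X i = S.X j) : S.V i = S.V j := le_antisymm (V_le_V h.symm) (V_le_V h)

theorem ne_top [IsSimpleGroup G] (i : κ) (h0 : Y ≠ ⊥) (h : Y ≤ S.U) : nz Y ≠ ⊤ := fun e =>
  ((normalizer_eq_top_iff.1 e).eq_bot_or_eq_top.resolve_left h0 ▸ h : ⊤ ≤ S.U) (mem_top (S.s i)) |>
    fun a => s_not_mem i (mem_H_of_B (S.s_mem i) (U_le_B a))

theorem not_le_V [IsSimpleGroup G] (hc : S.Conn) (hR : S.Rad) (hT : SCl S.U T) (h0 : T ≠ ⊥) (j : κ) : ¬ T ≤ S.V j := fun hj => by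
  obtain ⟨i, hi⟩ := exists_s_not_mem (B_nz_T hT) (ne_top j h0 hT.1)
  obtain ⟨i, j, a1, a2, a3⟩ := edge hc hR (I := fun i => ¬ T ≤ S.V i) (fun i j a c e => a (V_eq e ▸ not_not.1 c)) (i := i)
    (fun a => hi (Cin.mem_normalizer fun x hx => by simpa using hT.2 x hx (S.s i)⁻¹ (by simpa using (mem_V.1 (a hx)).2)))
    (not_not.2 hj)
  have c : Cin (S.V i ⊓ S.V j) (S.V i ⊓ S.V j) (S.s i) := fun y hy => s_conj_mem hT a1
    (fun b hb => mem_nz_inf (B_nz_V hb) (B_nz_V hb)) (inf_le_inf_left _ (not_not.1 a2)) hy hy.1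
  obtain ⟨y, hy, hne⟩ := S.exists_ne_one j
  exact hne (eq_one_of_XV hy (by simpa [mul_assoc] using (c.inv _ (a3 y hy)).2))

theorem exists_edge (hc : S.Conn) (hR : S.Rad) (r2 : S.X i ≠ S.X k) (j : κ) : ∃ i, Cin (S.X j) (S.V j) (S.s i) := by
  obtain ⟨l, hl⟩ : ∃ l, S.X l ≠ S.X j := by_contra fun a => by
    push Not at a
    exact r2 ((a i).trans (a k).symm)
  obtain ⟨i, k, -, a2, a3⟩ := edge hc hR (I := fun i => S.X i ≠ S.X j) (fun i k a c e => a (e.trans (not_not.1 c))) hl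
    (not_not.2 rfl)
  rw [not_not] at a2
  exact ⟨i, a2 ▸ V_eq a2 ▸ a3.mono le_rfl inf_le_right⟩

theorem L_nz_V : S.L i ≤ nz (S.V i) := sup_le ((S.X_le i).trans (U_le_B.trans B_nz_V)) (H25.cj_le.2 fun _ hy =>
  conj_mem_of_mem_nz (le_nz_self _ (inv_mem s_nz_V)) (B_nz_V (U_le_B (S.X_le i hy))))

theorem le_of_scl [IsSimpleGroup G] (hc : S.Conn) (hR : S.Rad) (hL : S.HL) (r2 : S.X i ≠ S.X k) (hT : SCl S.U T)
    (h0 : T ≠ ⊥) : S.U ≤ T := by
  have ha := not_le_V hc hR hT h0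
  have nT := U_le_B.trans (B_nz_T hT)
  have a1 : ∀ j, S.X j ≤ T ⊔ S.V j := fun j y hy => by
    obtain ⟨l, hl⟩ := exists_edge hc hR r2 j
    exact (scl_of hT ha (fun b hb => mem_nz_sup (B_nz_T hT hb) (B_nz_V hb)) le_sup_left
      (sup_le hT.1 V_le)).mem_of_isConj (mem_sup_right (hl y hy)) (S.X_le j hy) (isConj_iff.2 ⟨S.s l, by group⟩)
  have a2 : S.H ≤ stab S.U T := hL _ fun j h hh => by
    have n1 : S.V j ≤ nz (stab (S.V j) T) := (le_nz_self _).trans (nz_stab hT)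
    have b0 : S.X j ≤ stab (S.V j) T ⊔ S.V j := (a1 j).trans (sup_le_sup_right (T_le_stab hT) _)
    have b1 : S.L j ≤ stab (S.V j) T ⊔ S.V j := sup_le b0 (H25.cj_le.2 fun y hy => conj_mem_of_mem_nz
      (mem_nz_sup (nz_stab hT (inv_mem s_nz_V)) (inv_mem s_nz_V)) (b0 hy))
    obtain ⟨c, hc', v, hv, e⟩ := (mem_sup_of_le_nz_left n1).1 (b1 hh.2)
    obtain ⟨r, hr⟩ := S.pU ⟨v, V_le hv⟩
    have b2 : ∀ m : ℕ, h ^ m * (v ^ m)⁻¹ ∈ stab (S.V j) T := fun m => by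
      induction m with
      | zero => simp
      | succ m ih =>
        convert mul_mem ih (conj_mem_of_mem_nz (n1 (pow_mem hv m)) hc') using 1
        rw [pow_succ, pow_succ, ← e]; group
    have b3 : h ∈ stab (S.V j) T := PEl.mem_of_coprime (p := p)
      ⟨r, by simpa [show v ^ p ^ r = 1 from congrArg Subtype.val hr] using b2 (p ^ r)⟩
      ((Nat.Prime.coprime_iff_not_dvd Fact.out).2 fun d => S.pH (d.trans (orderOf_dvd_natCard _ hh.1))).symm
    refine ⟨B_nz_U (H_le_B hh.1), fun x hx => ?_⟩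
    obtain ⟨y, hy, w, hw, rfl⟩ := exists_XV j hx
    obtain ⟨t, ht, w', hw', e'⟩ := (mem_sup_of_le_nz_left (V_le.trans nT)).1 (mul_mem (a1 j hy) (mem_sup_right hw))
    have := mul_mem (conj_mem_of_mem_nz' (nT (V_le hw')) (mul_mem (inv_mem ht)
      (conj_mem_of_mem_nz (B_nz_T hT (H_le_B hh.1)) ht))) (b3.2 w' hw')
    rw [← e']; simpa [mul_assoc] using this
  have pf : commutator G = ⊤ := (IsSimpleGroup.eq_bot_or_eq_top_of_normal _ inferInstance).resolve_left fun e =>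
    not_pos_s (S := S) i fun y hy => by
      rw [mul_assoc, commutatorElement_eq_one_iff_mul_comm.1 (mem_bot.1 (e.le (commutator_mem_commutator (mem_top y)
        (mem_top (S.s i))))), inv_mul_cancel_left]
      exact S.X_le i hy
  refine (eq_of_sup_commutator S.pU hT.1 (SCl.eq_of_perfect S.syl pf (scl_of hT ha (fun b hb => mem_nz_sup (B_nz_T hT hb)
    (nz_le_nz_commutator B_nz_U B_nz_U hb)) le_sup_left (sup_le hT.1 (commutator_le_self' _))) le_sup_right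
    fun g hg _ x hx => ?_)).ge
  obtain ⟨u, hu, h, hh, rfl⟩ := mem_B.1 (normalizer_U.le hg)
  have := mul_mem_sup ((a2 hh).2 x hx) (commutator_mem_commutator (inv_mem (H_U' hh hx)) hu)
  simpa [commutatorElement_def, mul_assoc] using this

theorem simple_fusion [IsSimpleGroup G] (hc : S.Conn) (hR : S.Rad) (hL : S.HL) (r2 : S.X i ≠ S.X k) (P : Sylow p G) :
    (groupFusionSystem (P : Subgroup G)).IsSimple p := by
  refine isSimple_group S.syl P (fun e => S.X_ne i (le_bot_iff.1 ((S.X_le i).trans e.le)))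
    (fun T hT h0 => le_of_scl hc hR hL r2 hT h0) fun K h1 _ h3 => normalizer_U.le.trans (sup_le h1 (hL _ fun j h hh => ?_))
  have n0 : S.V j ≠ ⊥ := fun e => by
    obtain ⟨l, hl⟩ := exists_edge hc hR r2 j
    obtain ⟨y, hy, hne⟩ := S.exists_ne_one j
    exact hne (by simpa [mul_assoc] using congrArg (fun x => S.s l * x * (S.s l)⁻¹) (mem_bot.1 (e.le (hl y hy))))
  have hZ : center G = ⊥ := (Normal.eq_bot_or_eq_top inferInstance).resolve_right fun e =>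
    s_not_mem (S := S) j (center_le_H (e.ge (mem_top _)))
  have c1 := isCharP_of_B_le hc hR hZ B_nz_V (ne_top j n0 V_le)
  have c2 : pCoreOf p (nz (S.V j)) ≤ S.V j := fun x hx => have a := pCoreOf_le_U (U_le_B.trans (B_nz_V (i := j)))
    mem_V.2 ⟨a hx, a (cin_of_normalizer (H28.le_normalizer_pCoreOf p _ s_nz_V) x hx)⟩
  have c3 : ∀ g ∈ nz (S.V j), ∀ y ∈ S.X j, g * y * g⁻¹ ∈ pgen p (nz (S.V j)) := fun g hg y hy => by
    obtain ⟨r, hr⟩ := (IsPGroup.iff_orderOf.1 S.pU) ⟨y, S.X_le j hy⟩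
    refine mem_pgen (conj_mem_of_mem_nz (le_nz_self _ hg) (B_nz_V (U_le_B (S.X_le j hy)))) (k := r) ?_
    rw [← hr, ← orderOf_coe]
    exact (MulAut.conj g).orderOf_eq y
  refine h3 (S.V j) V_le (U_le_B.trans B_nz_V) (fun x hx => c2 (c1 ⟨B_nz_V (U_le_B hx.1), cz_anti c2 hx.2⟩))
    ⟨B_nz_U (H_le_B hh.1), (sup_le (fun y hy => ?_) (H25.cj_le.2 (c3 _ (inv_mem s_nz_V))) : S.L j ≤ _) hh.2⟩
  simpa using c3 1 (one_mem _) y hy

/-- the longest element inverts the torus -/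
theorem hl_of_inv (h2 : p = 2) (h : ∀ k ∈ S.H, S.n0⁻¹ * k * S.n0 = k⁻¹) : S.HL := fun M hM k hk => by
  have hM' : ∀ i, S.H ⊓ S.L i ≤ M ⊓ S.H := fun i => le_inf (hM i) inf_le_left
  have cm : ∀ a ∈ S.H, ∀ c ∈ S.H, a⁻¹ * c * a = c := fun a ha c hc => by rw [mul_assoc, S.commH c hc a ha]; group
  have a1 : ∀ i, ∀ k ∈ S.H, k⁻¹ * ((S.s i)⁻¹ * k * S.s i) ∈ M ⊓ S.H := fun i k hk => by
    obtain ⟨y, hy, hne⟩ := S.exists_ne_one i
    obtain ⟨a, ha, c, hc, d, hd, e⟩ := S.rank1 i y hy hne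
    have l1 : S.s i * c ∈ S.L i := by
      have := mul_mem (mul_mem (inv_mem (mem_sup_left ha)) (mem_sup_right (H25.conj_mem_cj _ hy) : _ ∈ S.L i))
        (inv_mem (mem_sup_left hd))
      rw [inv_inv, e] at this; simpa [L, mul_assoc] using this
    have l2 : k ∈ nz (S.L i) := mem_nz_sup (S.H_X i k hk).mem_normalizer (mem_nz_of_conj_mem (by
      rintro _ ⟨x, hx, rfl⟩
      exact ⟨_, H_X' (N_H' (S.s_mem i) hk) hx, by simp [mul_assoc]⟩))
    have l3 := mul_mem (conj_mem_of_mem_nz' l2 (inv_mem l1)) l1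
    have l4 := S.N_H _ (S.s_mem i) k hk
    refine hM' i (mem_inf.2 ⟨mul_mem (inv_mem hk) l4, ?_⟩)
    rw [← cm c hc _ l4]; simpa [mul_assoc] using l3
  have a2 := N_induction (S := S) (P := fun n => ∀ k ∈ S.H, k⁻¹ * (n⁻¹ * k * n) ∈ M ⊓ S.H)
    (fun a ha k hk => by rw [cm a ha k hk, inv_mul_cancel]; exact one_mem _) (fun n hn i _ ih k hk => by
      simpa [mul_assoc] using mul_mem (a1 i k hk) (ih _ (S.N_H _ (S.s_mem i) k hk))) S.n0_mem k hk
  rw [h k hk] at a2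
  exact PEl.mem_of_coprime (p := p) ⟨1, by simpa [h2, sq] using inv_mem (mem_inf.1 a2).1⟩
    ((Nat.Prime.coprime_iff_not_dvd Fact.out).2 fun d => S.pH (d.trans (orderOf_dvd_natCard _ hk))).symm

end SB

end H8
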