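import Cfsg.Agent.H8.LF1
import Cfsg.Agent.H8.LieBT
import Cfsg.Agent.H27.FK0

/-!
S5161: the groups of Lie type in characteristic 2.
-/

set_option linter.unusedSectionVars false

namespace H8

open Cfsg Cfsg.Lie H14 H14.RootSys H14.St H14.PreSt H14.St.Tw H14.Good H11 H12 H27.FK

section

variable {ι κ : Type*} [Fintype κ] [DecidableEq κ] [Fintype ι] [DecidableEq ι] {R : RootSys ι κ}
  {C : Chev R} {K G : Type*} [Field K] [Group G] {S : St C K G} {T : S.Tw} {Γ : Type*} [Group Γ] {e : Γ →* G}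
  {ψ : κ → K →* K} {i j : κ}

theorem h_orth' {M : Subgroup G} (hp' : T.Up (T.orb i) ≤ M) (hm : T.Um (T.orb i) ≤ M)
    (hψ : ∀ i t, T.f (R.simple i) t = ψ i t) {L : List κ}
    (hL : L.Nodup) (h1 : ∀ j, j ∈ L ↔ j ∈ T.orb i) (h2 : ∀ j ∈ L, ∀ k ∈ L, j ≠ k → R.A j k = 0) {c : κ → Kˣ}
    (hc : c ∈ torFix T.π ψ) : (L.map fun j => S.h (R.simple j) (c j)).prod ∈ M := by
  let N : κ → Subgroup G := fun j => S.U {R.simple j, R.neg (R.simple j)}
  have hp : L.Pairwise fun a b => ∀ u ∈ N a, ∀ v ∈ N b, Commute u v :=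
    hL.imp_of_mem fun ha hb h => S.orth_simple h (h2 _ ha _ hb h)
  have hπ : (L.map T.π).Perm L := (List.perm_ext_iff_of_nodup (hL.map T.π.injective) hL).2 fun j => by
    obtain ⟨j, rfl⟩ := T.π.surjective j
    rw [List.mem_map_of_injective T.π.injective, h1, h1, π_mem_orb]
  have h3 : ∀ F : κ → G, (∀ j, F j ∈ N j) → (∀ j, T.σ (F j) = F (T.π j)) → (L.map F).prod ∈ T.fix := fun F h4 h5 => by
    rw [mem_fix, map_list_prod, List.map_map, show T.σ ∘ F = F ∘ T.π from funext h5, ← List.map_map]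
    exact ((hπ.symm.map F).prod_eq' (List.pairwise_map.2 (hp.imp fun h => h _ (h4 _) _ (h4 _)))).symm
  have a1 : ∀ j, R.simple j ∈ ({R.simple j, R.neg (R.simple j)} : Set ι) := by simp
  have a2 : ∀ j, R.neg (R.simple j) ∈ ({R.simple j, R.neg (R.simple j)} : Set ι) := by simp
  have key : ∀ t : κ → K, (∀ j, t j ≠ 0) → (∀ j, t (T.π j) = ψ j (t j)) →
      (L.map fun j => S.n (R.simple j) (t j)).prod ∈ M := fun t h0 ht => by
    have b1 : (L.map fun j => S.x (R.simple j) (t j)).prod ∈ M := hp' (Subgroup.mem_inf.2 ⟨list_prod_mem fun g hg => by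
      obtain ⟨j, hj, rfl⟩ := List.mem_map.1 hg
      exact x_mem_U (A := {r | R.pos r ∧ R.InJ (T.orb i) r}) (r := R.simple j)
        (And.intro (R.pos_simple j) (R.inJ_simple.2 ((h1 j).1 hj))) _,
      h3 _ (fun j => x_mem_U (a1 j) _) fun j => by rw [T.σ_x, T.ρ_simple, hψ, ht]⟩)
    have b2 : (L.map fun j => S.x (R.neg (R.simple j)) (-(t j)⁻¹)).prod ∈ M := hm (Subgroup.mem_inf.2
      ⟨list_prod_mem fun g hg => by
        obtain ⟨j, hj, rfl⟩ := List.mem_map.1 hg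
        exact x_mem_U (A := {r | ¬ R.pos r ∧ R.InJ (T.orb i) r}) (r := R.neg (R.simple j))
          (And.intro (by rw [pos_neg_iff, not_not]; exact R.pos_simple j) (R.inJ_neg.2 (R.inJ_simple.2 ((h1 j).1 hj)))) _,
      h3 _ (fun j => x_mem_U (a2 j) _) fun j => by rw [T.σ_x, T.ρ_neg, T.ρ_simple, T.f_neg _ _ (h0 j), hψ, ht]⟩)
    simp only [n]
    rw [prod_map_mul_of_comm N hp (fun j => mul_mem (x_mem_U (a1 j) _) (x_mem_U (a2 j) _)) fun j => x_mem_U (a1 j) _,
      prod_map_mul_of_comm N hp (fun j => x_mem_U (a1 j) _) fun j => x_mem_U (a2 j) _]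
    exact mul_mem (mul_mem b1 b2) b1
  simp only [PreSt.h]
  rw [prod_map_mul_of_comm N hp (fun j => n_mem_U (a1 j) (a2 j) _) fun j => n_mem_U (a1 j) (a2 j) _]
  exact mul_mem (key _ (fun j => (c j).ne_zero) (mem_torFix.1 hc)) (key _ (by simp) fun j => by
    rw [← hψ, f_neg', hψ, map_one])

theorem sq_tor (hh : S.HMul) (hψ : ∀ i t, T.f (R.simple i) t = ψ i t) (h2 : ∀ c, torMap T.π ψ (torMap T.π ψ c) = c) :
    ∀ k ∈ S.H ⊓ T.fix, k * k ∈ (torFix T.π ψ).map hh.tor := fun k hk => by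
  obtain ⟨c, rfl⟩ := hh.range_tor.ge hk.1
  refine ⟨c * torMap T.π ψ c, ?_, by rw [map_mul, ← σ_tor hh hψ, mem_fix.1 hk.2]⟩
  change torMap T.π ψ _ = _
  rw [map_mul, h2, mul_comm]; rfl

variable [Finite K] [Finite Γ] [CharP K 2]

theorem TwE.hl (h : TwE T e) (hψ : ∀ i t, T.f (R.simple i) t = ψ i t)
    (hH : ∀ k ∈ S.H ⊓ T.fix, k * k ∈ (torFix T.π ψ).map h.hh.tor) (ho : ∀ i j, i ≠ j → T.π.SameCycle i j → R.A i j = 0) :
    (h.sb 2).HL := fun M hM k hk => by
  classical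
  suffices a : ∀ c ∈ torFix T.π ψ, h.hh.tor c ∈ M.map e by
    obtain ⟨c, hc, e1⟩ := hH _ ⟨hk, h.fix k⟩
    obtain ⟨y, hy, e2⟩ := a c hc
    obtain rfl := h.inj (e2.trans (e1.trans (map_mul e k k).symm))
    exact H25.PEl.mem_of_coprime (p := 2) ⟨1, by rwa [pow_one, sq]⟩ ((Nat.Prime.coprime_iff_not_dvd Nat.prime_two).2
      fun d => (h.sb 2).pH (d.trans (Subgroup.orderOf_dvd_natCard _ hk))).symm
  intro c hc
  induction hn : (Finset.univ.filter fun i => c i ≠ 1).card using Nat.strong_induction_on generalizing c with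
  | _ n ih =>
  by_cases h1 : c = 1
  · rw [h1, map_one]; exact one_mem _
  obtain ⟨i, hi⟩ := Function.ne_iff.1 h1
  let L := (Finset.univ.filter (· ∈ T.orb i)).toList
  have hL : ∀ j, j ∈ L ↔ j ∈ T.orb i := by simp [L]
  have : c = (fun j => if j ∈ L then c j else 1) * fun j => if j ∈ L then 1 else c j := by
    funext j; by_cases h : j ∈ L <;> simp [h]
  rw [this, map_mul]
  refine mul_mem ?_ (ih _ ?_ _ (mem_torFix.2 fun j => ?_) rfl)
  · obtain ⟨y, hy, e1⟩ := h_orth' (M := ((h.sb 2).L i).map e) (fun u hu => by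
      obtain ⟨y, rfl⟩ := (h.big i).1 hu
      exact ⟨y, Subgroup.mem_sup_left hu, rfl⟩) (fun u hu => by
      obtain ⟨y, rfl⟩ := (h.big i).2 hu
      refine ⟨y, Subgroup.mem_sup_right (H25.mem_cj.2 ?_), rfl⟩
      change e _ ∈ T.Up (T.orb i)
      rw [inv_inv, map_mul, map_mul, map_inv]
      exact conj_Um (h.s_NW i) (h.fix _) hu) hψ (Finset.nodup_toList _) hL (fun j hj k hk e =>
      ho j k e (((hL j).1 hj).symm.trans ((hL k).1 hk))) hc
    rw [← h.hh.tor_list (Finset.nodup_toList _)] at e1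
    exact ⟨y, hM i ⟨show e y ∈ S.H from e1 ▸ h.hh.range_tor.le ⟨_, rfl⟩, hy⟩, e1⟩
  · exact hn ▸ Finset.card_lt_card ⟨fun j => by simp, fun h => by
      simpa [hL, T.mem_orb] using h (Finset.mem_filter.2 ⟨Finset.mem_univ i, hi⟩)⟩
  · simp only [hL, π_mem_orb]
    split_ifs
    · simp
    · exact mem_torFix.1 hc j

theorem TwE.hl_neg (h : TwE T e) (hZ : Subgroup.center G = ⊥) (hw : ∀ r, R.w0 Set.univ r = R.neg r) : (h.sb 2).HL :=
  SB.hl_of_inv rfl fun k hk => h.inj (by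
    have := h.hh.conj_neg T.sep T.top hZ (NW_w0_inv (h.rep_NW w0_univ_mem)) hw hk
    rw [map_mul, map_mul, map_inv, map_inv, ← this, inv_inv]; rfl)

theorem TwE.sf {G' : Type*} [Group G'] [IsSimpleGroup G'] (h : TwE T e) (hc : R.Conn) (hL : (h.sb 2).HL)
    (hj : j ∉ T.orb i) (f : Γ →* G') (h1 : Function.Surjective f) (h2 : f.ker ≤ Subgroup.center Γ) : SF G' :=
  have := Finite.of_surjective f h1
  SB.simple_fusion (S := (h.sb 2).map f h1 h2) (i := i) (k := j) (h.conn 2 hc).map (h.rad 2).map hL.map fun a =>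
    SB.not_pos_s (S := h.sb 2) i (by
      rw [SB.Pos, SB.map_inj h2 (SB.X_le _ i) (SB.X_le _ j) a]
      exact (h.pos_iff (h.s_NW i)).2 (by
        rw [w0_inv]; exact (R.pos_WJ_iff (R.w0_mem _) (R.inJ_simple.not.2 hj)).2 (R.pos_simple j)))

theorem TwE.sf0 [IsSimpleGroup Γ] (h : TwE T e) (hc : R.Conn) (hL : (h.sb 2).HL) (hj : j ∉ T.orb i) : SF Γ :=
  h.sf hc hL hj (.id Γ) Function.surjective_id (MonoidHom.ker_id.le.trans bot_le)

theorem TwE.sf1 (h : TwE T e) (hc : R.Conn) (hL : (h.sb 2).HL) (hj : j ∉ T.orb i) {Γ' : Type*} [Group Γ'] (φ : Γ ≃* Γ')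
    [IsSimpleGroup (Γ' ⧸ Subgroup.center Γ')] : SF (Γ' ⧸ Subgroup.center Γ') :=
  h.sf hc hL hj ((QuotientGroup.mk' _).comp φ.toMonoidHom) ((QuotientGroup.mk'_surjective _).comp φ.surjective) fun x hx => by
    have : φ x ∈ Subgroup.center Γ' := (QuotientGroup.eq_one_iff _).1 hx
    exact Subgroup.mem_center_iff.2 fun y => φ.injective (by simpa using Subgroup.mem_center_iff.1 this (φ y))

theorem hl_id [Finite G] (hS : S.Sep) (hG : S.U Set.univ = ⊤) (hh : S.HMul) : ((twE_id hS hG hh).sb 2).HL :=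
  TwE.hl _ (ψ := fun _ => .id K) (fun _ _ => rfl) (sq_tor _ (fun _ _ => rfl) fun _ => rfl) fun _ _ h e =>
    (h (Equiv.Perm.sameCycle_one.1 e)).elim

end

theorem sf_good {D : ChevalleyDatum} (X : Good D) (F : Type) [Field F] [Finite F] [CharP F 2] [IsSimpleGroup (D.group F)] :
    SF (D.group F) :=
  have := X.nontrivial_rank
  let ⟨i, j, h⟩ := exists_pair_ne (Fin D.rank)
  (twE_id (X.SG_sep F) (X.SG_top F) (hmul_of_finite _)).sf0 X.conn (hl_id _ _ (hmul_of_finite _)) (i := i) (j := j) (by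
    rw [id_orb]; exact h.symm)

theorem fk_ee : Ee := fun F _ _ _ =>
  have := (Agent.S1054.result (F := F) chevE6 (by simp)).1
  have := (Agent.S1054.result (F := F) chevE7 (by simp)).1
  have := (Agent.S1054.result (F := F) chevE8 (by simp)).1
  ⟨sf_good goodE6 F, sf_good goodE7 F, sf_good goodE8 F⟩

theorem fk_gfe : GFe := fun F _ _ _ =>
  have := (Agent.S1054.result (F := F) chevF4 (by simp)).1
  ⟨fun h => by
    obtain ⟨a, a0, a1⟩ := exists_ne_of_card (K := F) h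
    have := (Agent.S1055.result ⟨a, a0, a1⟩).1
    exact sf_good goodG2 F, sf_good goodF4 F⟩

theorem fk_twe : TWe := fun F _ _ _ q hq => ⟨fun hF => by
  obtain ⟨ψ, h2, hψ⟩ := E6.exists_hom hq hF
  have := (Agent.S1070.result hq hF).1
  refine (twE_emb (E6.isTw (h2 := h2) hψ).emb (goodE6.SG_hmul F)).sf0 goodE6.conn (TwE.hl _ E6.hψ (fun k hk =>
    E6.H_fix.le (mul_mem hk hk)) ?_) (i := 0) (j := 1) (by change ¬ okgrE6.pi.SameCycle _ _; decide +kernel)
  simp only [A_eq]; change ∀ i j, i ≠ j → okgrE6.pi.SameCycle i j → _; decide +kernel, fun hF => by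
  obtain ⟨ψ, h2, hψ⟩ := D4.exists_hom hq hF
  have := (Agent.S1071.result hq hF).1
  refine (twE_emb (D4.isTw (h3 := h2) hψ).emb (goodD4.SG_hmul F)).sf0 goodD4.conn (TwE.hl _ D4.hψ (fun k hk =>
    D4.H_fix.le (mul_mem hk hk)) ?_) (i := 0) (j := 1) (by change ¬ okgrD4.pi.SameCycle _ _; decide +kernel)
  simp only [A_eq]; change ∀ i j, i ≠ j → okgrD4.pi.SameCycle i j → _; decide +kernel⟩

theorem fk_rf1 (F : Type) [Field F] [Fintype F] (m : ℕ) (hm : 1 ≤ m) (hF : Fintype.card F = 2 ^ (2 * m + 1)) :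
    SF (twistedF4 F (2 ^ m)) := by
  obtain ⟨_, ψ, h2, hψ⟩ := exists_tits Nat.prime_two hF
  have := (Agent.S1072.result hm hF).1
  exact (twE_emb (F4.isTw (h2 := h2) hψ).emb (goodF4.SG_hmul F)).sf0 goodF4.conn (TwE.hl_neg _ (goodF4.center_eq_bot F)
    F4.w0_neg) (i := 0) (j := 1) (by change ¬ okgrF4.pi.SameCycle _ _; decide +kernel)

theorem fk_ome : OMe := fun F _ _ _ m hm => ⟨by
  have := Agent.S0296.result (F := F) (m + 1) (by omega)
  exact (twE_id (stPull_sep _ (omToGL_injective F _) (range_omD (m + 1) F (by omega) (Or.inr (by simp; omega)))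
    ((wbD (m + 1) _).nat_sep F)) (stPull_top _ _ _) (hmul_of_finite _)).sf1 (connD (by omega)) (hl_id _ _ (hmul_of_finite _))
    (i := 0) (j := Fin.last m) (by rw [id_orb]; simp [Fin.ext_iff]; omega) (.refl _), fun a b hab => by
  have := Agent.S0297.result (m + 1) (by omega) a b hab
  have := fact_of_aniso hab
  have : CharP (QuadraticAlgebra F (-b) a) 2 := charP_of_injective_algebraMap (algebraMap F _).injective 2
  have h2 : ∀ t, starRingEnd (QuadraticAlgebra F (-b) a) (starRingEnd _ t) = t := by simp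
  have h := OmT.twE (m := m) (by omega) (φ := starRingEnd (QuadraticAlgebra F (-b) a)) (F := F) (a := a) (b := b)
    (ω := ⟨0, 1⟩) h2 (fun t => ⟨fun h => ⟨_, eq_algebraMap_of_star h⟩, by
      rintro ⟨c, rfl⟩; ext <;> simp [starRingEnd_apply]⟩) (fun e => by simpa using congrArg QuadraticAlgebra.im (eq_algebraMap_of_star e))
    (by ext <;> simp [starRingEnd_apply]) (by ext <;> simp [starRingEnd_apply])
  refine @TwE.sf1 _ _ _ _ _ _ _ _ _ _ _ _ _ _ _ _ _ 0 (Fin.last m) _ _ _ h (connD (by omega))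
    (h.hl (ψ := fun _ => (starRingEnd _).toMonoidHom) (fun _ _ => rfl) (sq_tor _ (fun _ _ => rfl) fun c => funext fun j =>
      Units.ext ((h2 _).trans (congrArg (fun x => (c x).val) (Equiv.swap_apply_self _ _ _))))
      fun i j e c => OmT.orth _ i i (Tw.mem_orb _ i) j c e) (fun c => ?_) _ _
    ((MulEquiv.subgroupCongr ?_).trans (omegaEquiv _ (coe_qMinus m a b)).symm) ‹_›
  · have := OmT.π_val (m := m) 0
    rw [if_neg (by simp; omega), if_neg (by simp; omega)] at this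
    obtain e | e := OmT.mem_orb _ c <;> simp only [Fin.ext_iff, Fin.val_last, Fin.val_zero, this] at e <;> omega
  · exact eichGroup_eq_commutator (qMinus_nondeg m (disc_ne_zero_of_aniso hab)) (.inr (by simp; omega)) (by simp; omega)
      ⟨Pi.single (.inl (.inl ⟨0, by omega⟩)) 1, by simp, by simp [quadFormMinus]⟩⟩

end H8
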