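import Cfsg.Agent.H10.PR.K2
import Cfsg.Agent.H6.PR1
import Cfsg.Agent.H5.FTB2

/-! S4881: bounds for quasi-primitive groups of degree four. -/

set_option autoImplicit false
set_option linter.unusedSectionVars false
set_option linter.unusedVariables false

namespace H8.PR
open _root_.Cfsg Subgroup H19 H20 H6 H10.PR

theorem nb0 : ∀ l < 11, ∀ b < 8, ∀ c < 5, l.Prime → l ^ b ≤ 216 → l ^ c ∣ 24 →
    l ^ (b + c) ∣ 2 ^ 10 * 3 ^ 5 * 5 ^ 3 * 7 ^ 2 ∧ (l = 2 → l ^ c ≤ 8) ∧ (l = 3 → l ^ c ≤ 3) ∧ (5 ≤ l → c = 0) := by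
  intro l hl b hb c hc hp
  have : l = 2 ∨ l = 3 ∨ l = 5 ∨ l = 7 := by revert l; decide +kernel
  rcases this with rfl | rfl | rfl | rfl <;> interval_cases b <;> interval_cases c <;> simp

open scoped Classical
universe u
variable {G : Type u} [Group G] [Finite G] {χ θ : G → ℂ} {A B K P T X Y : Subgroup G} {x y : G}

theorem cos_ub {ι : Type*} (φ : G → ι) (S : Finset ι) (h1 : ∀ x ∈ X, φ x ∈ S)
    (h2 : ∀ x ∈ X, ∀ y ∈ X, φ x = φ y → x⁻¹ * y ∈ Y) : #X ≤ S.card * #Y := by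
  let r : ι → G := fun i => if h : ∃ x ∈ X, φ x = i then h.choose else 1
  have hr : ∀ x ∈ X, r (φ x) ∈ X ∧ φ (r (φ x)) = φ x := fun x hx => by
    have : ∃ y ∈ X, φ y = φ x := ⟨x, hx, rfl⟩
    simp only [r, dif_pos this]; exact this.choose_spec
  have := Nat.card_le_card_of_injective (fun x : X => ((⟨φ x, h1 _ x.2⟩, ⟨(r (φ x))⁻¹ * x,
    h2 _ (hr _ x.2).1 _ x.2 (hr _ x.2).2⟩) : S × Y)) fun p q e => by
    have e1 : φ p = φ q := congrArg (fun z : S × Y => (z.1 : ι)) e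
    have e2 : (r (φ p))⁻¹ * p = (r (φ q))⁻¹ * q := congrArg (fun z : S × Y => (z.2 : G)) e
    rw [e1] at e2
    exact Subtype.ext (mul_left_cancel e2)
  simpa using this

/-- quotients of eigenvalues -/
noncomputable def rt (l : Fin 4 → Ch A) (j : Fin 3) (x : G) : ℂ := (l j.succ).fn x / (l 0).fn x
theorem rt_norm (l : Fin 4 → Ch A) (j : Fin 3) (hx : x ∈ A) : ‖rt l j x‖ = 1 := by
  rw [rt, norm_div, (l _).lin.norm hx, (l _).lin.norm hx, div_one]

theorem near (hq : QP χ) {l : Fin 4 → Ch A} (h : Di χ l) (hx : x ∈ A) (hy : y ∈ A)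
    (e : ∀ j, ‖rt l j x - rt l j y‖ < 1) : x⁻¹ * y ∈ center G := by
  have m := mul_mem (inv_mem hx) hy
  refine H6.PR.arc G χ _ _ ((l 0).fn (x⁻¹ * y)) hq (h.spec m) (fun z hz => by
    obtain ⟨j, -, rfl⟩ := Multiset.mem_map.1 hz; exact fn_ord _ m) (by simp) fun z hz => ?_
  obtain ⟨j, -, rfl⟩ := Multiset.mem_map.1 hz
  have k : ∀ i : Ch A, i.fn (x⁻¹ * y) = i.fn y / i.fn x := fun i => by
    rw [i.fn_map_mul (inv_mem hx) hy, eq_inv_of_mul_eq_one_right (i.lin.mul_inv hx), inv_mul_eq_div]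
  rcases j.eq_zero_or_eq_succ with rfl | ⟨j, rfl⟩
  · simp
  have a := (l j.succ).fn_ne_zero hx
  have b := (l 0).fn_ne_zero hx
  have c := (l 0).fn_ne_zero hy
  rw [k, k, show (l j.succ).fn y / (l j.succ).fn x - (l 0).fn y / (l 0).fn x =
    (rt l j y - rt l j x) * ((l 0).fn y / (l j.succ).fn x) by simp only [rt]; field_simp, norm_mul, norm_div,
    (l _).lin.norm hx, (l _).lin.norm hy, norm_sub_rev]
  simpa using e j

theorem ab6 : AB6.{u} := fun G _ _ χ A hq hd hA _ => by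
  obtain ⟨l, h⟩ := exists_di (irr_chr hq.1) hd hA
  refine (cos_ub (Y := center G) (fun x j => ⌈(rt l j x).arg * (3 / Real.pi)⌉) (Fintype.piFinset fun _ => Finset.Ioc (-3) 3)
    (fun x _ => Fintype.mem_piFinset.2 fun j => ceil_arg_mem' _) fun x hx y hy e => near hq h hx hy fun j =>
      norm_of_ceil (rt_norm l j hx) (rt_norm l j hy) (congrFun e j)).trans_eq (by simp)

theorem zeta : ∃ ζ : ℂ, IsPrimitiveRoot ζ 7 ∧ ‖ζ - 1‖ < 1 := ⟨_, Complex.isPrimitiveRoot_exp 7 (by decide), by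
  rw [show 2 * Real.pi * Complex.I / (7 : ℕ) = Complex.I * (2 * Real.pi / 7 : ℝ) by push_cast; ring]
  refine (Real.norm_exp_I_mul_ofReal_sub_one_le).trans_lt ?_
  rw [Real.norm_eq_abs, abs_of_pos (by positivity)]
  linarith [Real.pi_lt_d2]⟩

theorem deg_le (hχ : χ ∈ Chr (⊤ : Subgroup G)) (h : θ ∈ Irr K) (e : dot K χ θ ≠ 0) : deg θ ≤ deg χ := by
  simpa using sum_deg_le hχ (O := {θ}) (by simpa using h) (by simpa using e)

theorem ab_pg {p : ℕ} (hχ : χ ∈ Chr (⊤ : Subgroup G)) (hk : cker χ = ⊥) (hP : PG p P) (h : deg χ < p) : Ab P :=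
  ab_of_lin hχ hk fun θ a b => by_contra fun e => (Nat.le_of_dvd (H20.irr_deg_pos a)
    ((hP.dvd (irr_deg_dvd a)).dvd_of_ne_one e).2).not_gt ((deg_le hχ a b).trans_lt h)

theorem s7 (sm : SM.{u}) (cy : CY.{u}) : S7.{u} := fun G _ _ χ hq hd h7 h49 => by
  have hχ := irr_chr hq.1
  have p7 : Nat.Prime 7 := by norm_num
  obtain ⟨P, hP⟩ := exists_syl 7 (⊤ : Subgroup G)
  have c : 49 ∣ #P := hP.dvd (PiN.prime_pow p7 2) (by rwa [card_top])
  have ab := ab_pg hχ hq.2.1 hP.pi (by omega)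
  have z : ∀ x ∈ P, x ∈ center G → x = 1 := fun x a b =>
    mem_bot.1 (hP.pi.inf_eq_bot (PiN.of_not_dvd h7) ▸ mem_inf.2 ⟨a, b⟩)
  obtain ⟨ζ, z1, z2⟩ := zeta
  have z3 := z1.ne_one (by decide)
  by_cases cyc : Cyc P
  · have := H6.PR.qp_ab hq (cy G χ 7 P hχ hq.2.1 p7 hP cyc (fun y hy o => ?_) (by
      have := Nat.le_of_dvd (card_pos P) c; rw [hd]; omega)) ab
    · rw [show P = ⊥ from eq_bot_iff.2 fun x a => z x a (this a), card_bot] at c
      exact absurd c (by decide)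
    refine (sm G χ 7 C[y] P hχ hq.2.1 p7 (hP.of_le (le_cent1_iff.2 (comm_iff_le_cent.1 ab hy)) le_top) fun θ a b => ?_).norm
    by_contra q
    have my := mem_cent1_self y
    obtain ⟨l, a1, a2, -⟩ := irr_Res_central a (zpowers_le.2 my) ((commg_eq_bot.2 (cent_zpowers y).ge).le.trans bot_le)
    have a4 := chr_sub_irr (chr_Res hχ (le_top : C[y] ≤ ⊤)) a (by rwa [dot_Res_left])
    have a5 := deg_add' a4 (irr_chr a)
    rw [sub_add_cancel, deg_Res, hd] at a5
    set φ := Res C[y] χ - θ with hφ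
    obtain ⟨μ, m1, m2⟩ : ∃ μ : ℂ, μ ^ 7 = 1 ∧ ∀ k : ℕ, φ (y ^ k) = deg φ * μ ^ k := by
      by_cases e : deg φ = 0
      · exact ⟨1, one_pow _, fun k => by rw [chr_eq_zero a4 (by rw [chr_deg a4, e, Nat.cast_zero])]; simp [deg]⟩
      · have := lin_of_deg a4 (by omega)
        exact ⟨φ y, by rw [← this.map_pow my, ← o, pow_orderOf_eq_one, this.one], fun k => by
          rw [this.map_pow my, this.deg]; simp⟩
    have l7 : l y ^ 7 = 1 := by rw [← a1.map_pow (mem_zpowers y), ← o, pow_orderOf_eq_one, a1.one]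
    have l0 := a1.ne_zero (mem_zpowers y)
    obtain ⟨i, i1, i2⟩ : ∃ i, y ^ i ≠ 1 ∧ ‖μ ^ i - l y ^ i‖ < 1 := by
      by_cases e : μ / l y = 1
      · exact ⟨1, by rw [pow_one]; rintro rfl; simp at o, by simp [(div_eq_one_iff_eq l0).1 e]⟩
      have := Fact.mk p7
      have pr : IsPrimitiveRoot (μ / l y) 7 := orderOf_eq_prime (by rw [div_pow, m1, l7, div_one]) e ▸ IsPrimitiveRoot.orderOf _
      obtain ⟨i, -, e'⟩ := pr.eq_pow_of_pow_eq_one z1.pow_eq_one
      refine ⟨i, fun r => z3 (e' ▸ (pr.pow_eq_one_iff_dvd i).2 (o ▸ orderOf_dvd_of_pow_eq_one r)), ?_⟩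
      rw [show μ ^ i - l y ^ i = (ζ - 1) * l y ^ i by rw [← e', div_pow]; field_simp, norm_mul, norm_pow,
        a1.norm (mem_zpowers y)]
      simpa using z2
    have o' : ∀ w : ℂ, w ^ 7 = 1 → (w ^ i) ^ orderOf (y ^ i) = 1 := fun w e => by
      obtain ⟨t, r⟩ := orderOf_dvd_of_pow_eq_one ((pow_mul y i _).trans (pow_orderOf_eq_one (y ^ i)))
      rw [← pow_mul, r, o, pow_mul, e, one_pow]
    refine i1 (z _ (pow_mem hy i) (H6.PR.arc G χ _ (Multiset.replicate (deg θ) (l y ^ i) + Multiset.replicate (deg φ) (μ ^ i))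
      (l y ^ i) hq (fun k => ?_) (fun w hw => ?_) (Multiset.mem_add.2 (.inl (Multiset.mem_replicate.2 ⟨by omega, rfl⟩))) fun w hw => ?_))
    · have mk := pow_mem (mem_zpowers y) (i * k)
      rw [← pow_mul, ← Res_of_mem χ (pow_mem my _), ← sub_add_cancel (Res C[y] χ) θ, ← hφ, Pi.add_apply, m2,
        ← Res_of_mem θ mk, a2, Pi.smul_apply, a1.map_pow (mem_zpowers y), H20.irr_deg a]
      simp [pow_mul, add_comm]
    all_goals rcases Multiset.mem_add.1 hw with e | e <;> rw [Multiset.eq_of_mem_replicate e]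
    exacts [o' _ l7, o' _ m1, by simp, i2]
  obtain ⟨E, hE⟩ := hP.pi.exists_el2 (by
    obtain ⟨k, e⟩ := hP.pi.exists_card
    rw [e]; exact Odd.pow (by decide)) cyc
  obtain ⟨l, h⟩ := exists_di hχ hd hE.comm
  have r7 : ∀ j, ∀ x ∈ E, rt l j x ^ 7 = 1 := fun j x hx => by
    rw [rt, div_pow, ← fn_pow _ hx, ← fn_pow _ hx, hE.ab.2 x hx, Ch.fn_apply_one, Ch.fn_apply_one, div_one]
  have := Nat.card_le_card_of_injective (fun p : E × (Fin 3 → Bool) => fun j => (⟨rt l j p.1 * if p.2 j then ζ else 1, by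
    rw [Polynomial.mem_nthRootsFinset (by decide), mul_pow, r7 j _ p.1.2]
    split_ifs <;> simp [z1.pow_eq_one]⟩ : Polynomial.nthRootsFinset 7 (1 : ℂ))) fun p q e => by
      have e' := fun j => congrArg Subtype.val (congrFun e j)
      simp only at e'
      have k : p.1 = q.1 := Subtype.ext (inv_mul_eq_one.1 (z _ (hE.le (mul_mem (inv_mem p.1.2) q.1.2))
        (near hq h p.1.2 q.1.2 fun j => by
          have := e' j
          have n1 := rt_norm l j p.1.2
          have n2 := rt_norm l j q.1.2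
          split_ifs at this
          · simp [mul_right_cancel₀ (z1.ne_zero (by decide)) this]
          · rwa [← mul_one (rt l j q.1), ← this, norm_sub_rev, ← mul_sub_one, norm_mul, n1, one_mul]
          · rwa [← mul_one (rt l j p.1), this, ← mul_sub_one, norm_mul, n2, one_mul]
          · simp [mul_right_cancel₀ one_ne_zero this])))
      refine Prod.ext k (funext fun j => ?_)
      have := e' j
      rw [k, mul_right_inj' (norm_ne_zero_iff.1 (by rw [rt_norm l j q.1.2]; exact one_ne_zero))] at this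
      cases h1 : p.2 j <;> cases h2 : q.2 j <;> simp_all [z3.symm]
  rw [Nat.card_prod, hE.card, Nat.card_fun, Nat.card_fun, Nat.card_eq_finsetCard, z1.card_nthRootsFinset] at this
  simp at this

theorem key (hq : QP χ) (hd : deg χ = 4) {l : ℕ} (hl : l.Prime) : ∃ (P A : Subgroup G) (b c : ℕ), center G ≤ A ∧ A ≤ P ∧ Ab A ∧
    (center G).relIndex P = l ^ (b + c) ∧ (center G).relIndex A = l ^ b ∧ l ^ b ≤ 216 ∧ l ^ c ∣ 24 ∧
    (∀ k, l ^ k ∣ (center G).index → k ≤ b + c) ∧ (11 ≤ l → b + c = 0) := by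
  have hχ := irr_chr hq.1
  obtain ⟨S, hS⟩ := exists_syl l (⊤ : Subgroup G)
  have zc : ∀ X : Subgroup G, X ≤ C(center G) := fun X x _ => mem_cent.2 fun z hz => (mem_center_iff.1 hz x).symm
  have za : Ab (center G) := comm_iff_le_cent.2 (zc _)
  obtain ⟨K, k1, k2, k3⟩ := nil_fact (nil_sup_cent hS.pi.nil (nil_of_ab za) (zc S)) (chr_Res hχ le_top)
  rw [cker_Res_eq_bot hχ (irr_one_ne hq.1) le_top hq.2.1, le_bot_iff, ← comm_iff_der] at k2
  rw [deg_Res, hd] at k3
  have l1 : K ⊔ center G ≤ S ⊔ center G := sup_le k1.le le_sup_right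
  have aA : Ab (K ⊔ center G) := comm_sup k2 za (zc K)
  have pp : PiN {l} ((center G).relIndex (S ⊔ center G)) := by rw [relIndex_sup_right]; exact hS.pi.relIndex _
  have e := relIndex_mul_relIndex _ _ _ (le_sup_right : center G ≤ K ⊔ center G) l1
  obtain ⟨b, eb⟩ := (pp.dvd (Dvd.intro _ e)).exists_pow (relIndex_ne_zero' _ _)
  obtain ⟨c, ec⟩ := (pp.dvd (Dvd.intro_left _ e)).exists_pow (relIndex_ne_zero' _ _)
  rw [eb, ec, ← pow_add] at e
  refine ⟨_, _, b, c, le_sup_right, l1, aA, e.symm, eb, ?_, ec ▸ (relIndex_dvd_left le_sup_left _).trans k3, fun k hk => ?_,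
    fun h11 => ?_⟩
  · have := ab6 G χ _ hq hd aA le_sup_right
    rw [← card_mul_relIndex (le_sup_right : center G ≤ K ⊔ center G), eb, mul_comm] at this
    exact Nat.le_of_mul_le_mul_right this (card_pos _)
  · rw [← relIndex_mul_index (le_sup_right : center G ≤ S ⊔ center G), ← e] at hk
    exact (Nat.pow_dvd_pow_iff_le_right hl.one_lt).1 ((PiN.prime_pow hl k).dvd_of_dvd_mul
      (hS.idx.dvd (relIndex_top_right (S ⊔ center G) ▸ relIndex_dvd_left le_sup_left ⊤)) hk)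
  · have := H6.PR.qp_ab hq (H5.FTB.small hl hχ hq.2.1 (by omega) (.inl (by omega)) hS) (ab_pg hχ hq.2.1 hS.pi (by omega))
    rw [sup_eq_right.2 this, relIndex_self] at e
    exact (Nat.pow_eq_one.1 e).resolve_left hl.ne_one

theorem bd : BD.{u} := fun G _ _ χ hq hd => by
  have nb : ∀ {l b c : ℕ}, l.Prime → l ^ b ≤ 216 → l ^ c ∣ 24 → (11 ≤ l → b + c = 0) →
      l ^ (b + c) ∣ 2 ^ 10 * 3 ^ 5 * 5 ^ 3 * 7 ^ 2 ∧ (l = 2 → l ^ c ≤ 8) ∧ (l = 3 → l ^ c ≤ 3) ∧ (5 ≤ l → c = 0) :=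
    fun {l b c} hl h1 h2 h3 => by
      by_cases q : 11 ≤ l
      · have := h3 q
        rw [this]
        exact ⟨one_dvd _, by omega, by omega, by omega⟩
      have b8 : b < 8 := by_contra fun r => by
        have := (Nat.pow_le_pow_left hl.two_le 8).trans ((Nat.pow_le_pow_right hl.pos (not_lt.1 r)).trans h1)
        omega
      have c5 : c < 5 := by_contra fun r => by
        have := (Nat.pow_le_pow_left hl.two_le 5).trans ((Nat.pow_le_pow_right hl.pos (not_lt.1 r)).trans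
          (Nat.le_of_dvd (by decide) h2))
        omega
      exact nb0 l (by omega) b b8 c c5 hl h1 h2
  refine ⟨(Nat.dvd_iff_prime_pow_dvd_dvd _ _).2 fun l k hl hk => ?_, fun l hl hN => ?_⟩
  · obtain ⟨-, -, b, c, -, -, -, -, -, h1, h2, h3, h4⟩ := key hq hd hl
    exact (pow_dvd_pow l (h3 k hk)).trans (nb hl h1 h2 h4).1
  have lp : l.Prime := by simp only [Finset.mem_insert, Finset.mem_singleton] at hl; rcases hl with rfl | rfl | rfl | rfl <;> norm_num
  obtain ⟨P, A, b, c, a1, a2, a3, a4, a5, h1, h2, h3, h4⟩ := key hq hd lp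
  obtain ⟨-, n1, n2, n3⟩ := nb lp h1 h2 h4
  have pw : ∀ x ∈ P, ∃ j, x ^ l ^ j ∈ center G := fun x hx => ⟨_, a4 ▸ pow_relIndex_mem _ hx⟩
  have g : ∀ e, (center G).index.gcd (l ^ e) ≤ l ^ b * l ^ c := fun e => by
    obtain ⟨k, -, r⟩ := (Nat.dvd_prime_pow lp).1 (Nat.gcd_dvd_right (center G).index (l ^ e))
    rw [r, ← pow_add]
    exact Nat.pow_le_pow_right lp.pos (h3 k (r ▸ Nat.gcd_dvd_left _ _))
  have g' : AA (center G).index l ≤ max l (l ^ b) := max_le_max le_rfl (by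
    simp only [Finset.mem_insert, Finset.mem_singleton] at hl
    rcases hl with rfl | rfl | rfl | rfl
    · exact Nat.div_le_of_le_mul ((g 10).trans (mul_comm 8 _ ▸ Nat.mul_le_mul_left _ (n1 rfl)))
    · exact Nat.div_le_of_le_mul ((g 5).trans (mul_comm 3 _ ▸ Nat.mul_le_mul_left _ (n2 rfl)))
    · simpa [n3 le_rfl] using g 3
    · simpa [n3 (by decide)] using g 2)
  by_cases b0 : b = 0
  · obtain ⟨x, hx, nx⟩ := SetLike.not_le_iff_exists.1 fun e : P ≤ center G => by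
      have := h3 1 (by rwa [pow_one])
      rw [relIndex_eq_one.2 e, eq_comm, Nat.pow_eq_one] at a4
      have := lp.ne_one
      omega
    have l1 : center G ⊔ zpowers x ≤ P := sup_le (a1.trans a2) (zpowers_le.2 hx)
    refine ⟨center G ⊔ zpowers x, le_sup_left, comm_sup (comm_iff_le_cent.2 fun x hx => mem_cent.2 fun z _ => mem_center_iff.1 hx z)
      (comm_of_cyclic (cyc_zpowers x)) fun x hx => mem_cent.2 fun z _ => mem_center_iff.1 hx z, fun y hy => pw y (l1 hy), ?_⟩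
    rw [← card_mul_relIndex (le_sup_left : center G ≤ center G ⊔ zpowers x)]
    refine Nat.mul_le_mul_left _ (g'.trans ?_)
    rw [b0, pow_zero, max_eq_left lp.one_le]
    exact Nat.le_of_dvd (relIndex_pos _ _) (((PiN.prime_pow lp _).dvd (a4 ▸ relIndex_dvd_right le_sup_left l1)).dvd_of_ne_one
      fun e => nx (relIndex_eq_one.1 e (mem_sup_right (mem_zpowers x)))).2
  · refine ⟨A, a1, a3, fun x hx => pw x (a2 hx), ?_⟩
    rw [← card_mul_relIndex a1, a5]
    exact Nat.mul_le_mul_left _ (g'.trans (max_le (Nat.le_self_pow b0 l) le_rfl))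

end H8.PR
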