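/-
Fusion systems on a Sylow `p`-subgroup of `PSU₅(q)`, part 6: recognition of `SU₃(q)`.
-/
import Cfsg.Agent.H8.PU2

set_option autoImplicit false
set_option linter.unusedSectionVars false

namespace H8.PU
open Subgroup H25 Cd H24.SP
attribute [-simp] LinearEquiv.coe_inv
universe v
variable {K : Type v} [Field K] {σ : K →+* K} [IV σ] {p : ℕ} {G : Subgroup (AV K)} {g : AV K} {v w : K × K × K}

theorem semi {α β : K} (h : ∀ a, α * σ a = β * a) : α = 0 := by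
  obtain ⟨x, hx⟩ := IV.ne (σ := σ)
  have h1 := h 1
  rw [map_one] at h1
  exact (mul_eq_zero.1 (by linear_combination h x - x * h1 : α * (σ x - x) = 0)).resolve_right (sub_ne_zero.2 hx)
theorem ff_uu (u : Cd σ) (v w : K × K × K) : ff σ (uu u v) (uu u w) = ff σ v w := by
  simp only [ff, hh, uu_ap, map_add, map_sub, map_mul, map_neg, ss, u.sy]; ring
theorem pp1 (h : ∀ c, ff σ v (0, 0, c) = 0) : v.1 = 0 := sk_of (σ := σ) fun c => by
  have := h c; simp only [ff, hh, map_zero] at this; linear_combination -this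
theorem pp2 (h : ∀ c, ff σ v (0, c, 0) = 0) : v.2.1 = 0 := sk_of (σ := σ) fun c => by
  have := h c; simp only [ff, hh, map_zero] at this; linear_combination -this
theorem pp3 (h : ∀ c, ff σ v (c, 0, 0) = ff σ w (c, 0, 0)) : v.2.2 = w.2.2 := sub_eq_zero.1 (sk_of (σ := σ) fun c => by
  have := h c; simp only [ff, hh, map_zero, map_sub] at this ⊢; linear_combination -this)
theorem LH.ort (h : LH σ p G) (hg : g ∈ G) (e : ff σ v w = 0) : ff σ (g v) (g w) = 0 := by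
  obtain ⟨ζ, k⟩ := h.fm g hg
  have := k 0 0
  rw [map_zero, show ff σ 0 0 = 0 by simp [ff]] at this
  rw [k, e, ← this]
theorem LH.mu (h : LH σ p G) (u : Cd σ) : uu u ∈ G := h.syl.1 ⟨u, rfl⟩
theorem LH.sm (h : LH σ p G) (hg : g ∈ G) {l : K} (hl : σ l = l) (c : K) : ∃ c', g (0, 0, c') = l • g (0, 0, c) := by
  have k : ∀ b d, ff σ (g⁻¹ (l • g (0, 0, c))) (0, b, d) = 0 := fun b d => by
    have := h.ort (inv_mem hg) (show ff σ (l • g (0, 0, c)) (g (0, b, d)) = 0 by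
      have := h.ort hg (show ff σ (0, 0, c) (0, b, d) = 0 by simp [ff, hh])
      simp only [ff, hh, Prod.smul_fst, Prod.smul_snd, smul_eq_mul, map_mul, hl] at this ⊢
      linear_combination l * this)
    rwa [inv_ap] at this
  exact ⟨_, (congrArg g (show (0, 0, (g⁻¹ (l • g (0, 0, c))).2.2) = g⁻¹ (l • g (0, 0, c)) from
    Prod.ext (pp1 (k 0)).symm (Prod.ext (pp2 fun b => k b 0).symm rfl))).trans (ap_inv _ _)⟩
theorem Bo.ex (h : Bo g) (c : K) : ∃ c', g (0, 0, c) = (0, 0, c') := ⟨_, Prod.ext (h c).1 (Prod.ext (h c).2 rfl)⟩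
theorem v1_sub (g : AV K) (c c' : K) : g (0, 0, c - c') = g (0, 0, c) - g (0, 0, c') := by rw [← map_sub]; simp

variable (σ) in
/-- the twisting map -/
def yy (ψ χ ω : K) : AV K where
  toFun v := (v.1, v.2.1 + ψ * σ v.1, v.2.2 - ψ * σ v.2.1 + χ * v.1 + ω * σ v.1)
  invFun v := (v.1, v.2.1 - ψ * σ v.1, v.2.2 + ψ * σ (v.2.1 - ψ * σ v.1) - χ * v.1 - ω * σ v.1)
  map_add' v w := by ext <;> simp <;> ring
  map_smul' n v := by ext <;> simp <;> ring
  left_inv v := by ext <;> simp; ring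
  right_inv v := by ext <;> simp; ring
theorem yy_ap (ψ χ ω : K) (v : K × K × K) :
    yy σ ψ χ ω v = (v.1, v.2.1 + ψ * σ v.1, v.2.2 - ψ * σ v.2.1 + χ * v.1 + ω * σ v.1) := rfl
theorem n1_inv : (n1 : AV K)⁻¹ = n1 := rfl
/-- the element of `U` with parameters `x`, `ȳ` -/
def xu (x y : K) (h : y + σ y = -(x * σ x)) : Cd σ := ⟨0, 0, 0, 0, x, σ y, by simp, by rw [ss]; linear_combination h⟩
theorem xu_ap {x y : K} (h : y + σ y = -(x * σ x)) (v : K × K × K) :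
    uu (xu x y h) v = (v.1, v.2.1 - v.1 * x, v.2.2 + v.1 * y + v.2.1 * σ x) := by rw [uu_ap]; simp [xu, ss]

variable [Finite K]
theorem LH.par (h : LH σ p G) (o : Opp G) : ∃ g ∈ G, ¬ Bo g ∧ ∃ ψ χ ω, ∀ a, ∃ c, g (0, 0, c) = yy σ ψ χ ω (a, 0, 0) := by
  obtain ⟨g, hg, n⟩ := h.ne
  obtain ⟨x, hx⟩ := IV.ne (σ := σ)
  have s := Finite.surjective_of_injective (f := fun c => (g (0, 0, c)).1) fun c c' e =>
    sub_eq_zero.1 (o g hg n _ (by rw [v1_sub]; exact sub_eq_zero.2 e))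
  obtain ⟨c1, e1⟩ := s 1
  obtain ⟨c2, e2⟩ := s x
  dsimp only at e1 e2
  have h0 := sub_ne_zero.2 hx
  have h1 := sub_ne_zero.2 hx.symm
  generalize E1 : g (0, 0, c1) = v1 at e1
  generalize E2 : g (0, 0, c2) = v2 at e2
  let u : Cd σ := xx (v1.2.1 - (v2.2.1 - x * v1.2.1) / (σ x - x))
  have k : ∀ a, ∃ c, (uu u * g) (0, 0, c) = yy σ ((v2.2.1 - x * v1.2.1) / (σ x - x))
      (v1.2.2 - (v2.2.2 - x * v1.2.2) / (σ x - x) + σ u.y + u.x * σ u.x)
      ((v2.2.2 - x * v1.2.2) / (σ x - x) + (v2.2.1 - x * v1.2.1) / (σ x - x) * σ u.x) (a, 0, 0) := fun a => by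
    obtain ⟨d1, f1⟩ := h.sm hg (l := (a * σ x - σ a * x) / (σ x - x)) (by
      simp only [map_div₀, map_sub, map_mul, ss]; field_simp; ring) c1
    obtain ⟨d2, f2⟩ := h.sm hg (l := (σ a - a) / (σ x - x)) (by simp only [map_div₀, map_sub, ss]; field_simp; ring) c2
    refine ⟨d1 + d2, ?_⟩
    rw [mul_ap, show ((0, 0, d1 + d2) : K × K × K) = (0, 0, d1) + (0, 0, d2) by simp, map_add, f1, f2, E1, E2, uu_ap, yy_ap]
    generalize σ u.y = y
    generalize σ u.x = z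
    ext <;> simp [e1, e2, u] <;> field_simp <;> ring
  refine ⟨_, mul_mem (h.mu u) hg, fun b => ?_, _, _, _, k⟩
  obtain ⟨c, e⟩ := k 1
  simpa [e, yy_ap] using (b c).1
theorem mon (h1 : ∀ u : Cd σ, uu u ∈ G) (h2 : ∀ u : Cd σ, n1 * uu u * n1 ∈ G) :
    n1 ∈ G ∧ ∀ ν, ν ≠ 0 → ∃ g ∈ G, Dg σ g ν (σ ν / ν ^ 2) (.refl K) := by
  have k : ∀ y, y ≠ 0 → ∃ m ∈ G, ∀ v, m v = (v.2.2 / σ y, -(σ y / y * v.2.1), y * v.1) := fun y h0 => by
    have h0' := sn (σ := σ) h0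
    obtain ⟨x, hx⟩ := ex_nm (σ := σ) (r := -(y + σ y)) (by rw [map_neg, map_add, ss, add_comm])
    refine ⟨_, mul_mem (mul_mem (h2 (xu (x / y) (σ y)⁻¹ ?_)) (h1 (xu x y (by rw [hx, neg_neg])))) (h2 (xu (x / σ y) (σ y)⁻¹ ?_)),
      fun v => ?_⟩
    · simp only [map_inv₀, map_div₀, ss]; field_simp; linear_combination hx
    · simp only [map_inv₀, map_div₀, ss]; field_simp; linear_combination hx
    simp only [mul_ap, n1_ap, xu_ap, map_div₀, ss]
    ext <;> simp only <;> field_simp <;> grind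
  obtain ⟨m, hm, e⟩ := k 1 one_ne_zero
  obtain rfl : m = n1 := LinearEquiv.ext fun v => by simp [e, n1_ap]
  refine ⟨hm, fun ν h0 => ?_⟩
  have h0' := sn (σ := σ) h0
  obtain ⟨m, hm', e⟩ := k (σ ν)⁻¹ (inv_ne_zero h0')
  refine ⟨_, mul_mem hm' hm, fun v => ?_⟩
  simp only [mul_ap, n1_ap, e, map_inv₀, map_div₀, map_pow, ss, RingEquiv.refl_apply]
  ext <;> simp only <;> field_simp

theorem l3 : L3 σ p := fun G h o t2 => by
  obtain ⟨g, hg, n, ψ, χ, ω, h1⟩ := h.par o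
  have h2 : ∀ c, ∃ a, g (0, 0, c) = yy σ ψ χ ω (a, 0, 0) := fun c => by
    obtain ⟨c', e⟩ := h1 (g (0, 0, c)).1
    exact ⟨_, (congrArg (fun c => g (0, 0, c)) (sub_eq_zero.1 (o g hg n (c - c') (by rw [v1_sub, e]; exact sub_self _)))).trans e⟩
  have tr : ∀ k ∈ G, ¬ Bo k → ∃ u : Cd σ, ∀ c, ∃ a, k (0, 0, c) = uu u (yy σ ψ χ ω (a, 0, 0)) := fun k hk nk => by
    obtain ⟨u, b⟩ := t2 k hk g hg nk n
    refine ⟨u⁻¹, fun c => ?_⟩
    obtain ⟨c', e⟩ := b.ex c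
    obtain ⟨a, e'⟩ := h2 c'
    exact ⟨a, by rw [← e', ← e, map_inv]; simp [mul_ap]⟩
  have iso : χ + σ χ = ψ * σ ψ := sub_eq_zero.1 (semi (σ := σ) (β := χ + σ χ - ψ * σ ψ) fun a => by
    obtain ⟨c, e⟩ := h1 1
    obtain ⟨c', e'⟩ := h1 a
    have := h.ort hg (show ff σ (0, 0, c) (0, 0, c') = 0 by simp [ff, hh])
    simp only [e, e', yy_ap, ff, hh, map_add, map_sub, map_mul, map_zero, map_one, ss] at this
    linear_combination this)
  have two : 2 * ψ = 0 := by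
    obtain ⟨t, ht, d⟩ := h.tt
    obtain ⟨u, k⟩ := tr _ (mul_mem ht hg) fun b => by
      obtain ⟨c, e⟩ := h1 1
      simpa [mul_ap, e, d _, yy_ap] using (b c).1
    refine semi (σ := σ) (β := u.x) fun a => ?_
    obtain ⟨c, e⟩ := h1 a
    obtain ⟨a', e'⟩ := k c
    simp only [mul_ap, e, d _, yy_ap, uu_ap, Prod.mk.injEq, RingEquiv.refl_apply, one_mul] at e'
    obtain ⟨rfl, e', -⟩ := e'
    linear_combination -e'
  generalize E : yy σ ψ χ ω = Y at h1 h2 tr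
  have ya := fun v => E ▸ yy_ap (σ := σ) ψ χ ω v
  have fY : ∀ v w, ff σ (Y v) (Y w) = ff σ v w := fun v w => by
    have := congrArg σ two
    simp only [ff, hh, ya, map_add, map_sub, map_mul, map_zero, map_ofNat, ss] at this ⊢
    linear_combination (v.2.1 * w.1 - v.1 * w.2.1) * this + (σ v.1 * σ w.2.1 - σ v.2.1 * σ w.1) * two +
      (v.1 * σ w.1 - σ v.1 * w.1) * iso
  have cY : ∀ (u : Cd σ) v, Y (uu u v) = uu u (Y v) := fun u v => by
    simp only [ya, uu_ap, map_sub, map_mul]; ext <;> simp only <;> ring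
  have y1 : ∀ c, Y (0, 0, c) = (0, 0, c) := fun c => by simp [ya]
  have key : cj (Y⁻¹ * g) (uu (σ := σ)).range ≤ cj n1 (uu (σ := σ)).range := by
    rintro _ ⟨_, ⟨u, rfl⟩, rfl⟩
    obtain ⟨k, hk⟩ : ∃ k : AV K, ∀ v, k v = Y⁻¹ (g (uu u (g⁻¹ (Y v)))) := ⟨Y⁻¹ * g * uu u * (g⁻¹ * Y), fun _ => rfl⟩
    have fa : ∀ v w, ff σ (k v) (k w) = ff σ v w := fun v w => by
      obtain ⟨ζ, z⟩ := h.fm g hg
      rw [hk, hk, ← fY, ap_inv, ap_inv, z, ff_uu, ← z, ap_inv, ap_inv, fY]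
    have fb : ∀ a, k (a, 0, 0) = (a, 0, 0) := fun a => by
      obtain ⟨c, e⟩ := h1 a
      rw [hk, ← e, inv_ap, show uu u (0, 0, c) = (0, 0, c) by simp [uu_ap], e, inv_ap]
    have fc : ∀ v, (k v).2.2 = v.2.2 := fun v => pp3 (σ := σ) fun c => by rw [← fa v, fb]
    have fd : ∀ b, ∃ l, k (0, b, 0) = (l, b, 0) := fun b => by
      have e0 : (g⁻¹ (Y (0, b, 0))).1 = 0 := pp1 (σ := σ) fun c => by
        obtain ⟨a, e⟩ := h2 c
        simpa [← e] using h.ort (inv_mem hg) ((fY (0, b, 0) (a, 0, 0)).trans (by simp [ff, hh]))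
      obtain ⟨a, e⟩ := h2 ((g⁻¹ (Y (0, b, 0))).2.1 * σ u.x)
      refine ⟨a, ?_⟩
      rw [hk, show uu u (g⁻¹ (Y (0, b, 0))) = g⁻¹ (Y (0, b, 0)) + (0, 0, (g⁻¹ (Y (0, b, 0))).2.1 * σ u.x) by
        ext <;> simp [uu_ap, e0], map_add, map_add, e]
      simp
    have fe : ∃ κ μ, μ + σ μ = -(κ * σ κ) ∧ ∀ c, k (0, 0, c) = (c * μ, c * κ, c) := by
      by_cases b : Bo (g * uu u * g⁻¹)
      · refine ⟨0, 0, by simp, fun c => ?_⟩
        obtain ⟨c', e⟩ := b.ex c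
        have e' : k (0, 0, c) = (0, 0, c') := by rw [hk, y1, ← inv_eq_of (y1 c'), ← e]; rfl
        simpa [e'] using fc (0, 0, c)
      obtain ⟨u', e⟩ := tr _ (mul_mem (mul_mem hg (h.mu u)) (inv_mem hg)) b
      replace e : ∀ c, ∃ a, k (0, 0, c) = (a, -(a * u'.x), a * σ u'.y) ∧ a * σ u'.y = c := fun c => by
        obtain ⟨a, e⟩ := e c
        have e' : k (0, 0, c) = (a, -(a * u'.x), a * σ u'.y) := by
          rw [hk, y1, show g (uu u (g⁻¹ (0, 0, c))) = _ from e, ← cY, inv_ap]; simp [uu_ap]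
        exact ⟨a, e', by simpa [e'] using fc (0, 0, c)⟩
      have y0 : σ u'.y ≠ 0 := fun c => by simpa [c] using e 1
      have y0' : u'.y ≠ 0 := mt sz.2 y0
      refine ⟨-u'.x / σ u'.y, (σ u'.y)⁻¹, ?_, fun c => ?_⟩
      · simp only [map_inv₀, map_div₀, map_neg, ss]; field_simp; linear_combination u'.sy
      obtain ⟨a, e, rfl⟩ := e c
      rw [e]; ext <;> simp only <;> field_simp
    obtain ⟨κ, μ, e1, e2⟩ := fe
    refine ⟨_, ⟨xu κ μ e1, rfl⟩, LinearEquiv.ext fun v => ?_⟩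
    obtain ⟨l, e3⟩ := fd v.2.1
    have e4 : l + v.2.1 * σ κ = 0 := sk_of (σ := σ) fun c => by
      have := fa (0, v.2.1, 0) (0, 0, c)
      simp only [e2, e3, ff, hh, map_add, map_mul, map_zero, ss] at this ⊢
      linear_combination -this
    change n1 (uu _ (n1 v)) = (Y⁻¹ * g * uu u * (Y⁻¹ * g)⁻¹) v
    rw [mul_inv_rev, inv_inv, show (Y⁻¹ * g * uu u * (g⁻¹ * Y)) v = k v from (hk v).symm,
      show k v = k (v.1, 0, 0) + k (0, v.2.1, 0) + k (0, 0, v.2.2) by rw [← map_add, ← map_add]; simp, fb, e2, e3, xu_ap]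
    ext <;> simp [n1_ap]
    · linear_combination -e4
    ring
  have ke := eq_of_le_of_card_ge key (by rw [card_cj, card_cj])
  obtain ⟨m1, m2⟩ := mon (σ := σ) (G := cj Y⁻¹ G) (fun u => mem_cj.2 (by
    rw [show Y⁻¹⁻¹ * uu u * Y⁻¹ = uu u from LinearEquiv.ext fun v => (cY u _).trans (by simp)]; exact h.mu u)) fun u =>
    ((ke.ge.trans (cj_cj _ _ _).ge).trans (cj_mono _ (cj_le_of_mem hg h.syl.1))) (conj_mem_cj n1 ⟨u, rfl⟩)
  obtain ⟨ν, hν⟩ := IV.ne (σ := σ)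
  have n0 : ν ≠ 0 := fun c => hν (by simp [c])
  have n0' := sn (σ := σ) n0
  obtain ⟨k, hk, d⟩ := m2 ν n0
  obtain ⟨u, r, t, φ, -, -, d'⟩ := h.bor _ (mem_cj.1 hk) fun c => by simp [mul_ap, inv_fix (y1 c), d _, y1]
  replace d' : ∀ v, Y (k v) = uu u (r * φ (Y v).1, r * t * φ (Y v).2.1, r * t * σ t * φ (Y v).2.2) := fun v => by
    rw [← d']; simp [mul_ap]
  simp only [d _, ya, uu_ap, Prod.mk.injEq, RingEquiv.refl_apply, map_mul, map_div₀, map_pow, ss] at d'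
  have d1 : ∀ a, r * φ a = ν * a := fun a => (d' (a, 0, 0)).1.symm
  have d2 : ∀ b, r * t * φ b = ν * (σ ν / ν ^ 2) * b := fun b => by simpa using (d' (0, b, 0)).2.1.symm
  have d3 : ∀ c, r * t * σ t * φ c = ν * (σ ν / ν ^ 2) * (ν / σ ν ^ 2) * c := fun c => by simpa using (d' (0, 0, c)).2.2.symm
  simp only [← map_mul φ, d1, d2, d3] at d'
  obtain rfl : ψ = 0 := (mul_eq_zero.1 (semi (σ := σ) (α := ψ * (σ ν * (ν - 1))) (β := -ν ^ 2 * u.x) fun a => by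
    have := (d' (a, 0, 0)).2.1
    field_simp at this
    linear_combination this)).resolve_right (mul_ne_zero n0' (sub_ne_zero.2 fun c => hν (by simp [c])))
  obtain rfl : ω = 0 := (mul_eq_zero.1 (semi (σ := σ) (α := ω * ((σ ν - 1) * (σ ν + 1))) (β := χ + ν * σ ν * (σ u.y - χ)) fun a => by
    have := (d' (a, 0, 0)).2.2
    simp only [map_zero, zero_mul, mul_zero, add_zero, sub_zero, zero_add] at this
    field_simp at this
    linear_combination this)).resolve_right (mul_ne_zero (fun c => hν (by rw [← ss (σ := σ) ν, sub_eq_zero.1 c]; simp))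
      fun c => hν (by rw [← ss (σ := σ) ν, eq_neg_of_add_eq_zero_left c]; simp))
  have yG : Y ∈ G := (show uu (xu 0 χ (by simpa using iso)) = Y from LinearEquiv.ext fun v => by
    rw [xu_ap, ya]; simp [mul_comm]) ▸ h.mu _
  rw [cj_eq_of_mem (inv_mem yG)] at m1 m2
  exact ⟨m2, m1, fun k hk => or_iff_not_imp_left.2 fun b => t2 k hk n1 m1 b fun c => by simpa [n1_ap] using (c 1).1⟩

end H8.PU
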