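import Cfsg.Agent.H8.RY1
import Cfsg.Agent.H8.RYM

/-! Generated certificates (computation kit). -/

set_option maxRecDepth 100000
set_option maxHeartbeats 0

namespace H8.RY
open H16 H0.TR H1.Am

noncomputable def Tb : List Wl := [[[], [], [], [], [], [], [], [], [], [], [], [], [], []],
  [[], [], [], [], [0], [], [], [], [], [], [], [], [], []],
  [[], [], [], [0], [], [1], [], [], [], [], [], [], [], []],
  [[], [], [0], [], [], [], [13, 6, 1, 0], [12, 7, 1], [11, 8, 1, 0], [10, 9, 1], [10, 9], [11, 8], [12, 7], [13, 6]],
  [[], [0], [], [], [], [3], [7, 6], [7, 6], [10, 8, 2, 0], [11, 9, 2], [10, 8], [11, 9], [13, 12], [13, 12]],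
  [[], [], [1], [], [3], [], [8, 6], [9, 7, 0], [8, 6], [9, 7], [12, 10, 0], [13, 11], [12, 10], [13, 11]],
  [[], [], [], [13, 6], [7, 6], [8, 6], [], [], [], [2, 1], [2], [0], [2, 1, 0], [1, 0]],
  [[], [], [], [12, 7], [7, 6], [9, 7], [], [], [2], [0], [], [2, 1, 0], [1], [2, 1]],
  [[], [], [], [11, 8], [10, 8], [8, 6], [], [2], [], [], [2, 0], [1, 0], [2, 1], [0]],
  [[], [], [], [10, 9], [11, 9], [9, 7, 0], [2, 1], [0], [], [], [1], [2], [], [2, 0]],
  [[], [], [], [10, 9, 1], [10, 8, 2, 0], [12, 10], [2], [], [2, 0], [1], [], [], [0], [2, 1, 0]],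
  [[], [], [], [11, 8, 1, 0], [11, 9, 2], [13, 11], [0], [2, 1, 0], [1, 0], [2], [], [], [2, 0], []],
  [[], [], [], [12, 7, 1], [13, 12], [12, 10, 0], [2, 1, 0], [1], [2, 1], [], [0], [2, 0], [], []],
  [[], [], [], [13, 6, 1, 0], [13, 12], [13, 11], [1, 0], [2, 1], [0], [2, 0], [2, 1, 0], [], [], []]]
noncomputable def ndd : ℕ := nat_lit 0x405030408100809040a2004040240040214080204030204040601040801080a0128400104100104080108100120030110228020801010060a0320080902032102030a020340020801030a010320018005010308011012012022011005010a081040022023021004020c04020222210211120204080204205040144030208004080c04142410304420800a040820044010010220010210010208010202010502010502010902012018080c212420418040080c8040080c142024141018080c0922242080080c080c0a44404818201010080c080c1010803002090a02080c022005021005058002050802080c02090a022105204180400c042809040811201010051120041010040802018202014002011802010880010211010209010240010211400140030105030105030122200110120120220110800120021140020980020803022212800342c0800c060844064001082001800901060401060401081001400901030401030404020304020311020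408020404080904400c0305040805040910082011184010308820a009190830212881c08018802006010206010240010212010202010802011002012202011024100408800404082804200c060c04081404040806043020090a02081102040802040902020c0402200402082202091001102101031201100901080c010541010524011180010820084006401220800a220308090802030602101002032002100604012004011210012220014004012204010603018003010504030504088180409012801002220302081002052002104202088002034002030502030304080304052081800310110104080104060120100140420104080104800103200103060302200802400302060302060a2003081003200803401003200301080301410801100301800901080a010a080140050102010402010402010a020181080102820102040102040102084004100c04042010040805088004050c040441200408400205200280080250400212114020020610022060028010022028101090081220101042804024280c4008301820000000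
noncomputable def nd (u : ℕ) : ℕ := Nat.land (Nat.shiftRight ndd (Nat.mul u (nat_lit 8))) (nat_lit 255)
def lV : List ℕ := [2, 1, 0]
def lX : List ℕ := [13, 12, 11, 10, 9, 8, 7, 6]
def lW : List ℕ := [13, 12, 11, 10, 9, 8, 7, 6, 2, 1, 0]
def l0 : List ℕ := [4, 3, 13, 12, 11, 10, 9, 8, 7, 6, 2, 1, 0]
def lT : List ℕ := [5, 4, 3, 13, 12, 11, 10, 9, 8, 7, 6, 2, 1, 0]
def xb : List ℕ := [13, 12, 11, 10, 9, 8, 7, 6]
noncomputable def dD : ℕ → List ℕ := cat (dw [5]) (dw [4, 3]) 2
noncomputable def dW : ℕ → List ℕ := cat (dw lX) (dw lV) 256
noncomputable def κ1 : List ℕ → ℕ := H15.CS.key (tot MM.P 14) 448 MM.B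
noncomputable def κ2 : List ℕ → ℕ := H15.CS.key (tot MM.P 16) 448 MM.B
noncomputable def ceK (κ : List ℕ → ℕ) (U Y : List ℕ) : Bool :=
  anyB (fun i => cjK κ U Y (H1.Am.app Y (dw lV i))) (List.range 8)
structure CK (κ : List ℕ → ℕ) : Prop where
  sq : allB (fun k => eqK κ [k, k] []) lT = true
  tb : tbK κ Tb 14 = true
  nV : allB (fun i => Nat.beq i 0 || !eqK κ (dw lV i) []) (List.range 8) = true
  nd : allB (fun i => Nat.beq i 0 || allB (fun k => cjK κ (dw lX (nd (3 * i + k))) (dw lX i) (H1.Am.app (dw lX i) [k]))
    [0, 1, 2]) (List.range 256) = true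
  nD : allB (fun i => Nat.beq i 0 || !allB (fun j => cjK κ (dw [4, 3] i) [j] [j]) lV) (List.range 4) = true
  nt : allB (fun i => !allB (fun j => cjK κ (dw [4, 3] i) [j] [5, j, 5]) lV) (List.range 4) = true
  cD : allB (fun i => eqK κ (dD i) [] || !allB (fun j => cjK κ (dD i) [j] [j]) lV && !ceK κ (dD i) [6]) (List.range 8) = true
  cX : allB (fun i => eqK κ (dw lX i) [] || eqK κ (dw lX i) xb || !ceK κ (dw lX i) [4] || !ceK κ (dw lX i) [5])
    (List.range 256) = true
  cb : allB (fun k => ceK κ [k] xb) lT = true ∧ allB (mem lW) xb = true ∧ cjK κ xb [9] [9, 2] = true ∧ eqK κ xb xb.reverse = true ∧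
    cjK κ [2] [5] [5, 1] = true ∧ cjK κ [1] [4] [4, 0] = true

theorem ck1 : CK κ1 := ⟨by decide +kernel, by decide +kernel, by decide +kernel, by decide +kernel, by decide +kernel,
  by decide +kernel, by decide +kernel, by decide +kernel, by decide +kernel⟩
theorem ck2 : CK κ2 := ⟨by decide +kernel, by decide +kernel, by decide +kernel, by decide +kernel, by decide +kernel,
  by decide +kernel, by decide +kernel, by decide +kernel, by decide +kernel⟩
theorem ov : ovK Tb 14 lW lV [] = true ∧ ovK Tb 14 lT lV lV = true ∧ ovK Tb 14 lW lW lV = true ∧ ovK Tb 14 lT lW lW = true ∧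
  ovK Tb 14 l0 l0 lW = true ∧ ovK Tb 14 lT lT l0 = true := by decide +kernel


end H8.RY
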