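import Cfsg.Agent.H8.RZD.C0
import Cfsg.Agent.H8.RZD.C1
import Cfsg.Agent.H8.RZD.C2
import Cfsg.Agent.H8.RZD.C3
import Cfsg.Agent.H8.RZD.C4

/-! Generated certificates (computation kit). -/

set_option maxRecDepth 100000
set_option maxHeartbeats 0

namespace H8.ZM
open H16 H0.TR H1.Am

theorem tc1e : ∀ k < 8, ∀ i < 1024, (ent2 T1 E1 (selR RL1 I1) D1 (nat_lit 1023) (nat_lit 1024) (nat_lit 1024) (nat_lit 1024) (nat_lit 8) (nat_lit 16383) (nat_lit 0)) k i = 0 := allZ2_sound tc1e_a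
theorem tc1p : ∀ i < 0, (eps2 T1 E1 J1 W1 RL1 (nat_lit 1023) (nat_lit 1024) (nat_lit 1024) (nat_lit 8) (nat_lit 0)) i = 0 := allZ_sound0 tc1p_0
theorem tc1 : c1.OK RD 10 := ⟨tc1n, ivRD, tc1r, tc1e, fun i h => tc1p i (lt_of_lt_of_eq h tc1q)⟩
theorem tc2e : ∀ k < 10, ∀ i < 4, (ent2 T2 E2 (selR RL2 I2) D2 (nat_lit 3) (nat_lit 4) (nat_lit 4) (nat_lit 4) (nat_lit 10) (nat_lit 63) (nat_lit 0)) k i = 0 := allZ2_sound tc2e_a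
theorem tc2p : ∀ i < 0, (eps2 T2 E2 J2 W2 RL2 (nat_lit 3) (nat_lit 4) (nat_lit 4) (nat_lit 10) (nat_lit 0)) i = 0 := allZ_sound0 tc2p_0
theorem tc2 : c2.OK RD 10 := ⟨tc2n, ivRD, tc2r, tc2e, fun i h => tc2p i (lt_of_lt_of_eq h tc2q)⟩
theorem tc3e : ∀ k < 11, ∀ i < 4, (ent2 T3 E3 (selR RL3 I3) D3 (nat_lit 3) (nat_lit 4) (nat_lit 4) (nat_lit 4) (nat_lit 11) (nat_lit 63) (nat_lit 0)) k i = 0 := allZ2_sound tc3e_a
theorem tc3p : ∀ i < 0, (eps2 T3 E3 J3 W3 RL3 (nat_lit 3) (nat_lit 4) (nat_lit 4) (nat_lit 11) (nat_lit 0)) i = 0 := allZ_sound0 tc3p_0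
theorem tc3 : c3.OK R1 15 := ⟨tc3n, ivR1, tc3r, tc3e, fun i h => tc3p i (lt_of_lt_of_eq h tc3q)⟩
theorem tc4e : ∀ k < 12, ∀ i < 3, (ent2 T4 E4 (selR RL4 I4) D4 (nat_lit 3) (nat_lit 3) (nat_lit 3) (nat_lit 3) (nat_lit 12) (nat_lit 63) (nat_lit 0)) k i = 0 := allZ2_sound tc4e_a
theorem tc4p : ∀ i < 0, (eps2 T4 E4 J4 W4 RL4 (nat_lit 3) (nat_lit 3) (nat_lit 3) (nat_lit 12) (nat_lit 0)) i = 0 := allZ_sound0 tc4p_0
theorem tc4 : c4.OK R1 15 := ⟨tc4n, ivR1, tc4r, tc4e, fun i h => tc4p i (lt_of_lt_of_eq h tc4q)⟩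
theorem tc5e : ∀ k < 13, ∀ i < 7, (ent2 T5 E5 (selR RL5 I5) D5 (nat_lit 7) (nat_lit 7) (nat_lit 7) (nat_lit 7) (nat_lit 13) (nat_lit 127) (nat_lit 0)) k i = 0 := allZ2_sound tc5e_a
theorem tc5p : ∀ i < 0, (eps2 T5 E5 J5 W5 RL5 (nat_lit 7) (nat_lit 7) (nat_lit 7) (nat_lit 13) (nat_lit 0)) i = 0 := allZ_sound0 tc5p_0
theorem tc5 : c5.OK R1 15 := ⟨tc5n, ivR1, tc5r, tc5e, fun i h => tc5p i (lt_of_lt_of_eq h tc5q)⟩
theorem tc6e : ∀ k < 11, ∀ i < 5, (ent2 T6 E6 (selR RL6 I6) D6 (nat_lit 7) (nat_lit 5) (nat_lit 5) (nat_lit 5) (nat_lit 11) (nat_lit 63) (nat_lit 0)) k i = 0 := allZ2_sound tc6e_a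
theorem tc6p : ∀ i < 0, (eps2 T6 E6 J6 W6 RL6 (nat_lit 7) (nat_lit 5) (nat_lit 5) (nat_lit 11) (nat_lit 0)) i = 0 := allZ_sound0 tc6p_0
theorem tc6 : c6.OK RF 12 := ⟨tc6n, ivRF, tc6r, tc6e, fun i h => tc6p i (lt_of_lt_of_eq h tc6q)⟩
theorem tc7e_0 : ∀ i < 1776, (ent2 T7 E7 (selR RL7 I7) D7 (nat_lit 2047) (nat_lit 1755) (nat_lit 1755) (nat_lit 1776) (nat_lit 12) (nat_lit 32767) (nat_lit 1) (nat_lit 0)) i = 0 := allZ_sound0 tc7e_0_0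
theorem tc7e_1 : ∀ i < 1776, (ent2 T7 E7 (selR RL7 I7) D7 (nat_lit 2047) (nat_lit 1755) (nat_lit 1755) (nat_lit 1776) (nat_lit 12) (nat_lit 32767) (nat_lit 1) (nat_lit 1)) i = 0 := allZ_sound0 tc7e_1_0
theorem tc7e_2 : ∀ i < 1776, (ent2 T7 E7 (selR RL7 I7) D7 (nat_lit 2047) (nat_lit 1755) (nat_lit 1755) (nat_lit 1776) (nat_lit 12) (nat_lit 32767) (nat_lit 1) (nat_lit 2)) i = 0 := allZ_sound0 tc7e_2_0
theorem tc7e_3 : ∀ i < 1776, (ent2 T7 E7 (selR RL7 I7) D7 (nat_lit 2047) (nat_lit 1755) (nat_lit 1755) (nat_lit 1776) (nat_lit 12) (nat_lit 32767) (nat_lit 1) (nat_lit 3)) i = 0 := allZ_sound0 tc7e_3_0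
theorem tc7e_4 : ∀ i < 1776, (ent2 T7 E7 (selR RL7 I7) D7 (nat_lit 2047) (nat_lit 1755) (nat_lit 1755) (nat_lit 1776) (nat_lit 12) (nat_lit 32767) (nat_lit 1) (nat_lit 4)) i = 0 := allZ_sound0 tc7e_4_0
theorem tc7e_5 : ∀ i < 1776, (ent2 T7 E7 (selR RL7 I7) D7 (nat_lit 2047) (nat_lit 1755) (nat_lit 1755) (nat_lit 1776) (nat_lit 12) (nat_lit 32767) (nat_lit 1) (nat_lit 5)) i = 0 := allZ_sound0 tc7e_5_0
theorem tc7e_6 : ∀ i < 1776, (ent2 T7 E7 (selR RL7 I7) D7 (nat_lit 2047) (nat_lit 1755) (nat_lit 1755) (nat_lit 1776) (nat_lit 12) (nat_lit 32767) (nat_lit 1) (nat_lit 6)) i = 0 := allZ_sound0 tc7e_6_0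
theorem tc7e_7 : ∀ i < 1776, (ent2 T7 E7 (selR RL7 I7) D7 (nat_lit 2047) (nat_lit 1755) (nat_lit 1755) (nat_lit 1776) (nat_lit 12) (nat_lit 32767) (nat_lit 1) (nat_lit 7)) i = 0 := allZ_sound0 tc7e_7_0
theorem tc7e_8 : ∀ i < 1776, (ent2 T7 E7 (selR RL7 I7) D7 (nat_lit 2047) (nat_lit 1755) (nat_lit 1755) (nat_lit 1776) (nat_lit 12) (nat_lit 32767) (nat_lit 1) (nat_lit 8)) i = 0 := allZ_sound0 tc7e_8_0
theorem tc7e_9 : ∀ i < 1776, (ent2 T7 E7 (selR RL7 I7) D7 (nat_lit 2047) (nat_lit 1755) (nat_lit 1755) (nat_lit 1776) (nat_lit 12) (nat_lit 32767) (nat_lit 1) (nat_lit 9)) i = 0 := allZ_sound0 tc7e_9_0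
theorem tc7e_10 : ∀ i < 1776, (ent2 T7 E7 (selR RL7 I7) D7 (nat_lit 2047) (nat_lit 1755) (nat_lit 1755) (nat_lit 1776) (nat_lit 12) (nat_lit 32767) (nat_lit 1) (nat_lit 10)) i = 0 := allZ_sound0 tc7e_10_0
theorem tc7e_11 : ∀ i < 1776, (ent2 T7 E7 (selR RL7 I7) D7 (nat_lit 2047) (nat_lit 1755) (nat_lit 1755) (nat_lit 1776) (nat_lit 12) (nat_lit 32767) (nat_lit 1) (nat_lit 11)) i = 0 := allZ_sound0 tc7e_11_0
theorem tc7e : ∀ k < 12, ∀ i < 1776, (ent2 T7 E7 (selR RL7 I7) D7 (nat_lit 2047) (nat_lit 1755) (nat_lit 1755) (nat_lit 1776) (nat_lit 12) (nat_lit 32767) (nat_lit 1)) k i = 0 :=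
  letters_glue (letters_glue (letters_glue (letters_glue (letters_glue (letters_glue (letters_glue (letters_glue (letters_glue (letters_glue (letters_glue (letters_glue (letters_nil) tc7e_0) tc7e_1) tc7e_2) tc7e_3) tc7e_4) tc7e_5) tc7e_6) tc7e_7) tc7e_8) tc7e_9) tc7e_10) tc7e_11
theorem tc7p : ∀ i < 21, (eps2 T7 E7 J7 W7 RL7 (nat_lit 2047) (nat_lit 1755) (nat_lit 1776) (nat_lit 12) (nat_lit 1)) i = 0 := allZ_sound0 tc7p_0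
theorem tc7 : c7.OK RF 12 := ⟨tc7n, ivRF, tc7r, tc7e, fun i h => tc7p i (lt_of_lt_of_eq h tc7q)⟩
theorem tc8e_0 : ∀ i < 4268, (ent2 T8 E8 (selR RL8 I8) D8 (nat_lit 8191) (nat_lit 4060) (nat_lit 4060) (nat_lit 4268) (nat_lit 15) (nat_lit 65535) (nat_lit 1) (nat_lit 0)) i = 0 := allZ_sound0 tc8e_0_0
theorem tc8e_1 : ∀ i < 4268, (ent2 T8 E8 (selR RL8 I8) D8 (nat_lit 8191) (nat_lit 4060) (nat_lit 4060) (nat_lit 4268) (nat_lit 15) (nat_lit 65535) (nat_lit 1) (nat_lit 1)) i = 0 := allZ_sound0 tc8e_1_0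
theorem tc8e_2 : ∀ i < 4268, (ent2 T8 E8 (selR RL8 I8) D8 (nat_lit 8191) (nat_lit 4060) (nat_lit 4060) (nat_lit 4268) (nat_lit 15) (nat_lit 65535) (nat_lit 1) (nat_lit 2)) i = 0 := allZ_sound0 tc8e_2_0
theorem tc8e_3 : ∀ i < 4268, (ent2 T8 E8 (selR RL8 I8) D8 (nat_lit 8191) (nat_lit 4060) (nat_lit 4060) (nat_lit 4268) (nat_lit 15) (nat_lit 65535) (nat_lit 1) (nat_lit 3)) i = 0 := allZ_sound0 tc8e_3_0
theorem tc8e_4 : ∀ i < 4268, (ent2 T8 E8 (selR RL8 I8) D8 (nat_lit 8191) (nat_lit 4060) (nat_lit 4060) (nat_lit 4268) (nat_lit 15) (nat_lit 65535) (nat_lit 1) (nat_lit 4)) i = 0 := allZ_sound0 tc8e_4_0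
theorem tc8e_5 : ∀ i < 4268, (ent2 T8 E8 (selR RL8 I8) D8 (nat_lit 8191) (nat_lit 4060) (nat_lit 4060) (nat_lit 4268) (nat_lit 15) (nat_lit 65535) (nat_lit 1) (nat_lit 5)) i = 0 := allZ_sound0 tc8e_5_0
theorem tc8e_6 : ∀ i < 4268, (ent2 T8 E8 (selR RL8 I8) D8 (nat_lit 8191) (nat_lit 4060) (nat_lit 4060) (nat_lit 4268) (nat_lit 15) (nat_lit 65535) (nat_lit 1) (nat_lit 6)) i = 0 := allZ_sound0 tc8e_6_0
theorem tc8e_7 : ∀ i < 4268, (ent2 T8 E8 (selR RL8 I8) D8 (nat_lit 8191) (nat_lit 4060) (nat_lit 4060) (nat_lit 4268) (nat_lit 15) (nat_lit 65535) (nat_lit 1) (nat_lit 7)) i = 0 := allZ_sound0 tc8e_7_0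
theorem tc8e_8 : ∀ i < 4268, (ent2 T8 E8 (selR RL8 I8) D8 (nat_lit 8191) (nat_lit 4060) (nat_lit 4060) (nat_lit 4268) (nat_lit 15) (nat_lit 65535) (nat_lit 1) (nat_lit 8)) i = 0 := allZ_sound0 tc8e_8_0
theorem tc8e_9 : ∀ i < 4268, (ent2 T8 E8 (selR RL8 I8) D8 (nat_lit 8191) (nat_lit 4060) (nat_lit 4060) (nat_lit 4268) (nat_lit 15) (nat_lit 65535) (nat_lit 1) (nat_lit 9)) i = 0 := allZ_sound0 tc8e_9_0
theorem tc8e_10 : ∀ i < 4268, (ent2 T8 E8 (selR RL8 I8) D8 (nat_lit 8191) (nat_lit 4060) (nat_lit 4060) (nat_lit 4268) (nat_lit 15) (nat_lit 65535) (nat_lit 1) (nat_lit 10)) i = 0 := allZ_sound0 tc8e_10_0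
theorem tc8e_11 : ∀ i < 4268, (ent2 T8 E8 (selR RL8 I8) D8 (nat_lit 8191) (nat_lit 4060) (nat_lit 4060) (nat_lit 4268) (nat_lit 15) (nat_lit 65535) (nat_lit 1) (nat_lit 11)) i = 0 := allZ_sound0 tc8e_11_0
theorem tc8e_12 : ∀ i < 4268, (ent2 T8 E8 (selR RL8 I8) D8 (nat_lit 8191) (nat_lit 4060) (nat_lit 4060) (nat_lit 4268) (nat_lit 15) (nat_lit 65535) (nat_lit 1) (nat_lit 12)) i = 0 := allZ_sound0 tc8e_12_0
theorem tc8e_13 : ∀ i < 4268, (ent2 T8 E8 (selR RL8 I8) D8 (nat_lit 8191) (nat_lit 4060) (nat_lit 4060) (nat_lit 4268) (nat_lit 15) (nat_lit 65535) (nat_lit 1) (nat_lit 13)) i = 0 := allZ_sound0 tc8e_13_0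
theorem tc8e_14 : ∀ i < 4268, (ent2 T8 E8 (selR RL8 I8) D8 (nat_lit 8191) (nat_lit 4060) (nat_lit 4060) (nat_lit 4268) (nat_lit 15) (nat_lit 65535) (nat_lit 1) (nat_lit 14)) i = 0 := allZ_sound0 tc8e_14_0
theorem tc8e : ∀ k < 15, ∀ i < 4268, (ent2 T8 E8 (selR RL8 I8) D8 (nat_lit 8191) (nat_lit 4060) (nat_lit 4060) (nat_lit 4268) (nat_lit 15) (nat_lit 65535) (nat_lit 1)) k i = 0 :=
  letters_glue (letters_glue (letters_glue (letters_glue (letters_glue (letters_glue (letters_glue (letters_glue (letters_glue (letters_glue (letters_glue (letters_glue (letters_glue (letters_glue (letters_glue (letters_nil) tc8e_0) tc8e_1) tc8e_2) tc8e_3) tc8e_4) tc8e_5) tc8e_6) tc8e_7) tc8e_8) tc8e_9) tc8e_10) tc8e_11) tc8e_12) tc8e_13) tc8e_14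
theorem tc8p : ∀ i < 208, (eps2 T8 E8 J8 W8 RL8 (nat_lit 8191) (nat_lit 4060) (nat_lit 4268) (nat_lit 15) (nat_lit 1)) i = 0 := allZ_sound0 tc8p_0
theorem tc8 : c8.OK R2 15 := ⟨tc8n, ivR2, tc8r, tc8e, fun i h => tc8p i (lt_of_lt_of_eq h tc8q)⟩
theorem tc9e_0_g0 : ∀ i < 22016, (ent2 T9 E9 (selR RL9 I9) D9 (nat_lit 65535) (nat_lit 56230) (nat_lit 0) (nat_lit 57417) (nat_lit 15) (nat_lit 1048575) (nat_lit 2) (nat_lit 0)) i = 0 := allZ_sound0 tc9e_0_0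
theorem tc9e_0_g1 : ∀ i < 44032, (ent2 T9 E9 (selR RL9 I9) D9 (nat_lit 65535) (nat_lit 56230) (nat_lit 0) (nat_lit 57417) (nat_lit 15) (nat_lit 1048575) (nat_lit 2) (nat_lit 0)) i = 0 := range_glue tc9e_0_g0 tc9e_0_1
theorem tc9e_0 : ∀ i < 57417, (ent2 T9 E9 (selR RL9 I9) D9 (nat_lit 65535) (nat_lit 56230) (nat_lit 0) (nat_lit 57417) (nat_lit 15) (nat_lit 1048575) (nat_lit 2) (nat_lit 0)) i = 0 := range_glue tc9e_0_g1 tc9e_0_2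
theorem tc9e_1_g0 : ∀ i < 21184, (ent2 T9 E9 (selR RL9 I9) D9 (nat_lit 65535) (nat_lit 56230) (nat_lit 0) (nat_lit 57417) (nat_lit 15) (nat_lit 1048575) (nat_lit 2) (nat_lit 1)) i = 0 := allZ_sound0 tc9e_1_0
theorem tc9e_1_g1 : ∀ i < 42368, (ent2 T9 E9 (selR RL9 I9) D9 (nat_lit 65535) (nat_lit 56230) (nat_lit 0) (nat_lit 57417) (nat_lit 15) (nat_lit 1048575) (nat_lit 2) (nat_lit 1)) i = 0 := range_glue tc9e_1_g0 tc9e_1_1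
theorem tc9e_1 : ∀ i < 57417, (ent2 T9 E9 (selR RL9 I9) D9 (nat_lit 65535) (nat_lit 56230) (nat_lit 0) (nat_lit 57417) (nat_lit 15) (nat_lit 1048575) (nat_lit 2) (nat_lit 1)) i = 0 := range_glue tc9e_1_g1 tc9e_1_2
theorem tc9e_2_g0 : ∀ i < 20928, (ent2 T9 E9 (selR RL9 I9) D9 (nat_lit 65535) (nat_lit 56230) (nat_lit 0) (nat_lit 57417) (nat_lit 15) (nat_lit 1048575) (nat_lit 2) (nat_lit 2)) i = 0 := allZ_sound0 tc9e_2_0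
theorem tc9e_2_g1 : ∀ i < 41856, (ent2 T9 E9 (selR RL9 I9) D9 (nat_lit 65535) (nat_lit 56230) (nat_lit 0) (nat_lit 57417) (nat_lit 15) (nat_lit 1048575) (nat_lit 2) (nat_lit 2)) i = 0 := range_glue tc9e_2_g0 tc9e_2_1
theorem tc9e_2 : ∀ i < 57417, (ent2 T9 E9 (selR RL9 I9) D9 (nat_lit 65535) (nat_lit 56230) (nat_lit 0) (nat_lit 57417) (nat_lit 15) (nat_lit 1048575) (nat_lit 2) (nat_lit 2)) i = 0 := range_glue tc9e_2_g1 tc9e_2_2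
theorem tc9e_3_g0 : ∀ i < 20864, (ent2 T9 E9 (selR RL9 I9) D9 (nat_lit 65535) (nat_lit 56230) (nat_lit 0) (nat_lit 57417) (nat_lit 15) (nat_lit 1048575) (nat_lit 2) (nat_lit 3)) i = 0 := allZ_sound0 tc9e_3_0
theorem tc9e_3_g1 : ∀ i < 41728, (ent2 T9 E9 (selR RL9 I9) D9 (nat_lit 65535) (nat_lit 56230) (nat_lit 0) (nat_lit 57417) (nat_lit 15) (nat_lit 1048575) (nat_lit 2) (nat_lit 3)) i = 0 := range_glue tc9e_3_g0 tc9e_3_1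
theorem tc9e_3 : ∀ i < 57417, (ent2 T9 E9 (selR RL9 I9) D9 (nat_lit 65535) (nat_lit 56230) (nat_lit 0) (nat_lit 57417) (nat_lit 15) (nat_lit 1048575) (nat_lit 2) (nat_lit 3)) i = 0 := range_glue tc9e_3_g1 tc9e_3_2
theorem tc9e_4_g0 : ∀ i < 20032, (ent2 T9 E9 (selR RL9 I9) D9 (nat_lit 65535) (nat_lit 56230) (nat_lit 0) (nat_lit 57417) (nat_lit 15) (nat_lit 1048575) (nat_lit 2) (nat_lit 4)) i = 0 := allZ_sound0 tc9e_4_0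
theorem tc9e_4_g1 : ∀ i < 40064, (ent2 T9 E9 (selR RL9 I9) D9 (nat_lit 65535) (nat_lit 56230) (nat_lit 0) (nat_lit 57417) (nat_lit 15) (nat_lit 1048575) (nat_lit 2) (nat_lit 4)) i = 0 := range_glue tc9e_4_g0 tc9e_4_1
theorem tc9e_4 : ∀ i < 57417, (ent2 T9 E9 (selR RL9 I9) D9 (nat_lit 65535) (nat_lit 56230) (nat_lit 0) (nat_lit 57417) (nat_lit 15) (nat_lit 1048575) (nat_lit 2) (nat_lit 4)) i = 0 := range_glue tc9e_4_g1 tc9e_4_2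
theorem tc9e_5_g0 : ∀ i < 20608, (ent2 T9 E9 (selR RL9 I9) D9 (nat_lit 65535) (nat_lit 56230) (nat_lit 0) (nat_lit 57417) (nat_lit 15) (nat_lit 1048575) (nat_lit 2) (nat_lit 5)) i = 0 := allZ_sound0 tc9e_5_0
theorem tc9e_5_g1 : ∀ i < 41216, (ent2 T9 E9 (selR RL9 I9) D9 (nat_lit 65535) (nat_lit 56230) (nat_lit 0) (nat_lit 57417) (nat_lit 15) (nat_lit 1048575) (nat_lit 2) (nat_lit 5)) i = 0 := range_glue tc9e_5_g0 tc9e_5_1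
theorem tc9e_5 : ∀ i < 57417, (ent2 T9 E9 (selR RL9 I9) D9 (nat_lit 65535) (nat_lit 56230) (nat_lit 0) (nat_lit 57417) (nat_lit 15) (nat_lit 1048575) (nat_lit 2) (nat_lit 5)) i = 0 := range_glue tc9e_5_g1 tc9e_5_2
theorem tc9e_6_g0 : ∀ i < 21888, (ent2 T9 E9 (selR RL9 I9) D9 (nat_lit 65535) (nat_lit 56230) (nat_lit 0) (nat_lit 57417) (nat_lit 15) (nat_lit 1048575) (nat_lit 2) (nat_lit 6)) i = 0 := allZ_sound0 tc9e_6_0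
theorem tc9e_6_g1 : ∀ i < 43776, (ent2 T9 E9 (selR RL9 I9) D9 (nat_lit 65535) (nat_lit 56230) (nat_lit 0) (nat_lit 57417) (nat_lit 15) (nat_lit 1048575) (nat_lit 2) (nat_lit 6)) i = 0 := range_glue tc9e_6_g0 tc9e_6_1
theorem tc9e_6 : ∀ i < 57417, (ent2 T9 E9 (selR RL9 I9) D9 (nat_lit 65535) (nat_lit 56230) (nat_lit 0) (nat_lit 57417) (nat_lit 15) (nat_lit 1048575) (nat_lit 2) (nat_lit 6)) i = 0 := range_glue tc9e_6_g1 tc9e_6_2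
theorem tc9e_7_g0 : ∀ i < 20608, (ent2 T9 E9 (selR RL9 I9) D9 (nat_lit 65535) (nat_lit 56230) (nat_lit 0) (nat_lit 57417) (nat_lit 15) (nat_lit 1048575) (nat_lit 2) (nat_lit 7)) i = 0 := allZ_sound0 tc9e_7_0
theorem tc9e_7_g1 : ∀ i < 41216, (ent2 T9 E9 (selR RL9 I9) D9 (nat_lit 65535) (nat_lit 56230) (nat_lit 0) (nat_lit 57417) (nat_lit 15) (nat_lit 1048575) (nat_lit 2) (nat_lit 7)) i = 0 := range_glue tc9e_7_g0 tc9e_7_1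
theorem tc9e_7 : ∀ i < 57417, (ent2 T9 E9 (selR RL9 I9) D9 (nat_lit 65535) (nat_lit 56230) (nat_lit 0) (nat_lit 57417) (nat_lit 15) (nat_lit 1048575) (nat_lit 2) (nat_lit 7)) i = 0 := range_glue tc9e_7_g1 tc9e_7_2
theorem tc9e_8_g0 : ∀ i < 25024, (ent2 T9 E9 (selR RL9 I9) D9 (nat_lit 65535) (nat_lit 56230) (nat_lit 0) (nat_lit 57417) (nat_lit 15) (nat_lit 1048575) (nat_lit 2) (nat_lit 8)) i = 0 := allZ_sound0 tc9e_8_0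
theorem tc9e_8_g1 : ∀ i < 50048, (ent2 T9 E9 (selR RL9 I9) D9 (nat_lit 65535) (nat_lit 56230) (nat_lit 0) (nat_lit 57417) (nat_lit 15) (nat_lit 1048575) (nat_lit 2) (nat_lit 8)) i = 0 := range_glue tc9e_8_g0 tc9e_8_1
theorem tc9e_8 : ∀ i < 57417, (ent2 T9 E9 (selR RL9 I9) D9 (nat_lit 65535) (nat_lit 56230) (nat_lit 0) (nat_lit 57417) (nat_lit 15) (nat_lit 1048575) (nat_lit 2) (nat_lit 8)) i = 0 := range_glue tc9e_8_g1 tc9e_8_2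
theorem tc9e_9_g0 : ∀ i < 24576, (ent2 T9 E9 (selR RL9 I9) D9 (nat_lit 65535) (nat_lit 56230) (nat_lit 0) (nat_lit 57417) (nat_lit 15) (nat_lit 1048575) (nat_lit 2) (nat_lit 9)) i = 0 := allZ_sound0 tc9e_9_0
theorem tc9e_9_g1 : ∀ i < 49152, (ent2 T9 E9 (selR RL9 I9) D9 (nat_lit 65535) (nat_lit 56230) (nat_lit 0) (nat_lit 57417) (nat_lit 15) (nat_lit 1048575) (nat_lit 2) (nat_lit 9)) i = 0 := range_glue tc9e_9_g0 tc9e_9_1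
theorem tc9e_9 : ∀ i < 57417, (ent2 T9 E9 (selR RL9 I9) D9 (nat_lit 65535) (nat_lit 56230) (nat_lit 0) (nat_lit 57417) (nat_lit 15) (nat_lit 1048575) (nat_lit 2) (nat_lit 9)) i = 0 := range_glue tc9e_9_g1 tc9e_9_2
theorem tc9e_10_g0 : ∀ i < 21696, (ent2 T9 E9 (selR RL9 I9) D9 (nat_lit 65535) (nat_lit 56230) (nat_lit 0) (nat_lit 57417) (nat_lit 15) (nat_lit 1048575) (nat_lit 2) (nat_lit 10)) i = 0 := allZ_sound0 tc9e_10_0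
theorem tc9e_10_g1 : ∀ i < 43392, (ent2 T9 E9 (selR RL9 I9) D9 (nat_lit 65535) (nat_lit 56230) (nat_lit 0) (nat_lit 57417) (nat_lit 15) (nat_lit 1048575) (nat_lit 2) (nat_lit 10)) i = 0 := range_glue tc9e_10_g0 tc9e_10_1
theorem tc9e_10 : ∀ i < 57417, (ent2 T9 E9 (selR RL9 I9) D9 (nat_lit 65535) (nat_lit 56230) (nat_lit 0) (nat_lit 57417) (nat_lit 15) (nat_lit 1048575) (nat_lit 2) (nat_lit 10)) i = 0 := range_glue tc9e_10_g1 tc9e_10_2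
theorem tc9e_11_g0 : ∀ i < 26496, (ent2 T9 E9 (selR RL9 I9) D9 (nat_lit 65535) (nat_lit 56230) (nat_lit 0) (nat_lit 57417) (nat_lit 15) (nat_lit 1048575) (nat_lit 2) (nat_lit 11)) i = 0 := allZ_sound0 tc9e_11_0
theorem tc9e_11_g1 : ∀ i < 52992, (ent2 T9 E9 (selR RL9 I9) D9 (nat_lit 65535) (nat_lit 56230) (nat_lit 0) (nat_lit 57417) (nat_lit 15) (nat_lit 1048575) (nat_lit 2) (nat_lit 11)) i = 0 := range_glue tc9e_11_g0 tc9e_11_1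
theorem tc9e_11 : ∀ i < 57417, (ent2 T9 E9 (selR RL9 I9) D9 (nat_lit 65535) (nat_lit 56230) (nat_lit 0) (nat_lit 57417) (nat_lit 15) (nat_lit 1048575) (nat_lit 2) (nat_lit 11)) i = 0 := range_glue tc9e_11_g1 tc9e_11_2
theorem tc9e_12_g0 : ∀ i < 30912, (ent2 T9 E9 (selR RL9 I9) D9 (nat_lit 65535) (nat_lit 56230) (nat_lit 0) (nat_lit 57417) (nat_lit 15) (nat_lit 1048575) (nat_lit 2) (nat_lit 12)) i = 0 := allZ_sound0 tc9e_12_0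
theorem tc9e_12 : ∀ i < 57417, (ent2 T9 E9 (selR RL9 I9) D9 (nat_lit 65535) (nat_lit 56230) (nat_lit 0) (nat_lit 57417) (nat_lit 15) (nat_lit 1048575) (nat_lit 2) (nat_lit 12)) i = 0 := range_glue tc9e_12_g0 tc9e_12_1
theorem tc9e_13_g0 : ∀ i < 26496, (ent2 T9 E9 (selR RL9 I9) D9 (nat_lit 65535) (nat_lit 56230) (nat_lit 0) (nat_lit 57417) (nat_lit 15) (nat_lit 1048575) (nat_lit 2) (nat_lit 13)) i = 0 := allZ_sound0 tc9e_13_0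
theorem tc9e_13_g1 : ∀ i < 52992, (ent2 T9 E9 (selR RL9 I9) D9 (nat_lit 65535) (nat_lit 56230) (nat_lit 0) (nat_lit 57417) (nat_lit 15) (nat_lit 1048575) (nat_lit 2) (nat_lit 13)) i = 0 := range_glue tc9e_13_g0 tc9e_13_1
theorem tc9e_13 : ∀ i < 57417, (ent2 T9 E9 (selR RL9 I9) D9 (nat_lit 65535) (nat_lit 56230) (nat_lit 0) (nat_lit 57417) (nat_lit 15) (nat_lit 1048575) (nat_lit 2) (nat_lit 13)) i = 0 := range_glue tc9e_13_g1 tc9e_13_2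
theorem tc9e_14_g0 : ∀ i < 29312, (ent2 T9 E9 (selR RL9 I9) D9 (nat_lit 65535) (nat_lit 56230) (nat_lit 0) (nat_lit 57417) (nat_lit 15) (nat_lit 1048575) (nat_lit 2) (nat_lit 14)) i = 0 := allZ_sound0 tc9e_14_0
theorem tc9e_14 : ∀ i < 57417, (ent2 T9 E9 (selR RL9 I9) D9 (nat_lit 65535) (nat_lit 56230) (nat_lit 0) (nat_lit 57417) (nat_lit 15) (nat_lit 1048575) (nat_lit 2) (nat_lit 14)) i = 0 := range_glue tc9e_14_g0 tc9e_14_1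
theorem tc9e : ∀ k < 15, ∀ i < 57417, (ent2 T9 E9 (selR RL9 I9) D9 (nat_lit 65535) (nat_lit 56230) (nat_lit 0) (nat_lit 57417) (nat_lit 15) (nat_lit 1048575) (nat_lit 2)) k i = 0 :=
  letters_glue (letters_glue (letters_glue (letters_glue (letters_glue (letters_glue (letters_glue (letters_glue (letters_glue (letters_glue (letters_glue (letters_glue (letters_glue (letters_glue (letters_glue (letters_nil) tc9e_0) tc9e_1) tc9e_2) tc9e_3) tc9e_4) tc9e_5) tc9e_6) tc9e_7) tc9e_8) tc9e_9) tc9e_10) tc9e_11) tc9e_12) tc9e_13) tc9e_14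
theorem tc9p : ∀ i < 1187, (eps2 T9 E9 J9 W9 RL9 (nat_lit 65535) (nat_lit 56230) (nat_lit 57417) (nat_lit 15) (nat_lit 2)) i = 0 := allZ_sound0 tc9p_0
theorem tc9 : c9.OK R1 15 := ⟨tc9n, ivR1, tc9r, tc9e, fun i h => tc9p i (lt_of_lt_of_eq h tc9q)⟩
theorem lvM_1e : ∀ i < 767, (lM_1.ent (wdsP (wdsP H15.Ru.P Ws) WsM)) i = 0 := allZ_sound0 lvM_1e_0
theorem lvM_0e : ∀ i < 447, (lM_0.ent (wdsP (wdsP H15.Ru.P Ws) WsM)) i = 0 := allZ_sound0 lvM_0e_0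
theorem lowM : LowChain (wdsP (wdsP H15.Ru.P Ws) WsM) 4060 LM :=
  ⟨⟨lvM_0b.1, lvM_0b.2.1, lvM_0b.2.2.1, lvM_0b.2.2.2.1, lvM_0e⟩, lvM_0b.2.2.2.2.1, lvM_0b.2.2.2.2.2, ⟨⟨lvM_1b.1, lvM_1b.2.1, lvM_1b.2.2.1, lvM_1b.2.2.2.1, lvM_1e⟩, lvM_1b.2.2.2.2.1, lvM_1b.2.2.2.2.2, trivial⟩⟩
theorem iD1 : Imp R1 RD := fun _ _ _ h r hr => h r (sD1 r hr)
theorem iDF : Imp RF RD := fun _ _ _ h r hr => h r (sDF r hr)
theorem bdD : Bound RD 10 4096 := Bound.step2 (Bound.step2 (Bound.zero RD) tc1 st1) tc2 st2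
theorem bdM : Bound R1 13 344064 := Bound.step2 (Bound.step2 (Bound.step2 (iD1.bound bdD) tc3 st3) tc4 st4) tc5 st5
theorem bdF : Bound RF 12 35942400 := Bound.step2 (Bound.step2 (iDF.bound bdD) tc6 st6) tc7 st7
theorem bound : Bound R2 15 145926144000 := Bound.stepW (RY.sub_mem sF2) bdF tc8 st8
theorem mdl : Rels (wds H15.Ru.g Ws) R2 ∧ gen (wds H15.Ru.g Ws) 15 = gen H15.Ru.g 7 :=
  model H15.Ru.act md1.2.1 H15.Ru.isBase md1.1 md2 md3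
theorem rel1 : Rels (wds H15.Ru.g Ws) R1 := fun r h => mdl.1 r (List.mem_append_left _ h)
theorem cardM : Nat.card (gen (wds H15.Ru.g Ws) 13) = 344064 :=
  (low_card (H15.Ru.act.wds md1.1 13) (ptF_inj 4060) lowM (bdM.le rel1) excM baseM).1
theorem imp : Imp R1 R2 := RY.derive0 tc9 bdM rel1 (fun r h => mdl.1 r (List.mem_append_right _ h)) cardM.ge st9

end H8.ZM
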