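import Cfsg.Agent.H8.RY6
import Cfsg.Agent.H8.RZD

/-! Generated certificates (computation kit). -/

set_option maxRecDepth 100000
set_option maxHeartbeats 0

namespace H8.RY
open H16 H0.TR H1.Am

noncomputable def zH : Wl := [[8, 10, 12, 11], [11, 12, 10, 8], [3, 4, 6, 8, 13, 9], [9, 13, 8, 6, 4, 3], [3, 4, 8, 10, 12, 7], [7, 12, 10, 8, 4, 3], [13, 10, 12, 11], [11, 12, 10, 13], [3, 5, 7, 8, 9, 12, 13], [13, 12, 9, 8, 7, 5, 3], [5, 6, 7, 9, 11, 8, 13], [3, 4, 8, 9, 14], [], [1, 3, 7, 15, 10, 6, 14], [1, 5, 8, 15, 1, 6]]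
noncomputable def zb : List ℕ := [0, 4, 6, 15, 4, 5, 7, 11, 13]
noncomputable def zM : Wl := [[8, 10, 12, 11], [11, 12, 10, 8], [3, 4, 6, 8, 13, 9], [9, 13, 8, 6, 4, 3], [3, 4, 8, 10, 12, 7], [7, 12, 10, 8, 4, 3], [13, 10, 12, 11], [11, 12, 10, 13], [3, 5, 7, 8, 9, 12, 13], [13, 12, 9, 8, 7, 5, 3], [5, 6, 7, 9, 11, 8, 13], [3, 4, 8, 9, 14], [0, 4, 6, 15, 4, 5, 7, 11, 13]]
noncomputable def zU : Wl := [[0, 6, 0, 6], [0, 6, 0, 7], [0, 0], [4, 14, 8, 11, 13], [2, 9, 2, 8, 4], [3, 4, 0, 10], [1, 2, 9, 3, 10], [2, 0, 10, 5, 8], [0, 5, 8, 5, 10], [5, 0, 10, 5, 9], [1, 2, 10, 3, 9, 6], [4, 9, 4, 10, 7], [4, 6, 10, 3, 9], [4, 8, 4, 6, 10], [2, 11, 5, 3, 7], [7, 14, 11, 14, 6]]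
noncomputable def zE : Wl := [[], [0], [1], [0, 1], [3, 9, 10], [3, 12, 7], [5, 10, 12], [5, 7, 9], [3, 7, 12], [3, 10, 9], [5, 12, 10], [5, 9, 7], [7, 9, 12, 10], [7, 10, 9, 12], [3, 5, 9, 12], [7, 9, 10, 12], [3, 5, 7, 10], [7, 12, 10, 9], [1, 5, 9, 7], [1, 5, 12, 10], [0, 3, 7, 12], [0, 3, 10, 9], [1, 5, 7, 9], [0, 3, 9, 10], [1, 5, 10, 12], [0, 3, 12, 7], [0, 3, 5, 9, 12], [0, 3, 5, 7, 10], [1, 3, 5, 9, 12], [1, 3, 5, 7, 10], [2, 6, 11, 13, 8], [2, 6, 13, 8, 11], [2, 6, 11, 8, 13], [2, 6, 8, 11, 13], [0, 1, 3, 5, 9, 12], [0, 1, 3, 5, 7, 10], [5, 6, 8, 10, 11, 12, 13], [5, 6, 7, 9, 11, 8, 13], [3, 6, 8, 10, 9, 11, 13], [3, 6, 7, 8, 11, 12, 13], [3, 6, 10, 11, 9, 13, 8], [5, 6, 7, 8, 9, 11, 13], [3, 6, 7, 11, 8, 12, 13], [5, 6, 8, 12, 11, 13, 10], [5, 6, 8, 11, 12, 10, 13], [5, 6, 7, 9, 11, 13, 8], [3, 6, 8, 10, 11, 13, 9],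 [3, 6, 7, 12, 11, 13, 8], [3, 6, 8, 9, 10, 11, 13], [5, 6, 7, 8, 11, 13, 9], [3, 6, 7, 11, 13, 8, 12], [5, 6, 8, 13, 10, 12, 11], [6, 7, 8, 9, 12, 10, 11, 13], [3, 5, 6, 11, 9, 13, 8, 12], [3, 5, 6, 7, 10, 8, 11, 13], [3, 5, 6, 8, 9, 12, 11, 13], [3, 5, 6, 7, 10, 11, 8, 13], [6, 7, 8, 9, 11, 13, 10, 12], [6, 7, 8, 9, 10, 12, 11, 13], [3, 5, 6, 11, 8, 9, 12, 13], [3, 5, 6, 7, 10, 13, 8, 11], [3, 5, 6, 8, 11, 9, 12, 13], [3, 5, 6, 7, 8, 11, 13, 10], [6, 7, 8, 9, 11, 12, 13, 10]]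
noncomputable def zZ : Wl := [[5, 10, 12], [3, 9, 10]]
noncomputable def zT : Wl := [[0, 1, 2, 3, 25, 4, 51, 41, 9, 20, 43, 49, 15, 17, 54, 12, 59, 13, 37, 44, 21, 8, 45, 5, 36, 23, 60, 53, 62, 55, 33, 32, 31, 30, 56, 61, 6, 11, 39, 46, 42, 22, 48, 19, 10, 7, 47, 38, 50, 18, 40, 24, 57, 29, 34, 27, 14, 52, 63, 35, 28, 16, 26, 58], [], [0, 1, 3, 2, 9, 38, 26, 61, 40, 23, 14, 55, 32, 31, 37, 30, 7, 33, 53, 34, 48, 4, 59, 21, 28, 46, 45, 11, 41, 18, 12, 17, 15, 13, 49, 22, 16, 56, 5, 42, 8, 60, 47, 29, 27, 62, 25, 50, 20, 54, 39, 35, 58, 43, 19, 44, 10, 57, 52, 51, 24, 36, 6, 63], [], [0, 1, 3, 2, 23, 40, 55, 14, 38, 9, 61, 26, 32, 31, 7, 30, 37, 33, 28, 59, 46, 21, 34, 4, 53, 48, 11, 45, 18, 41, 15, 13, 12, 17, 22, 49, 56, 16, 8, 47, 5, 29, 42, 60, 62, 27, 20, 39, 25, 35, 50, 54, 52, 24, 51, 6, 36, 63, 58, 19, 43, 10, 44, 57],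 [0, 1, 3, 2, 23, 40, 55, 14, 38, 9, 61, 26, 32, 31, 7, 30, 37, 33, 28, 59, 46, 21, 34, 4, 53, 48, 11, 45, 18, 41, 15, 13, 12, 17, 22, 49, 56, 16, 8, 47, 5, 29, 42, 60, 62, 27, 20, 39, 25, 35, 50, 54, 52, 24, 51, 6, 36, 63, 58, 19, 43, 10, 44, 57], [0, 1, 2, 3, 39, 46, 10, 18, 40, 50, 6, 22, 17, 15, 62, 13, 53, 12, 7, 24, 48, 42, 11, 47, 19, 38, 56, 59, 54, 61, 33, 32, 31, 30, 60, 55, 43, 45, 25, 4, 8, 49, 21, 36, 51, 37, 5, 23, 20, 41, 9, 44, 52, 16, 28, 35, 26, 57, 58, 27, 34, 29, 14, 63], [0, 1, 2, 3, 39, 46, 10, 18, 40, 50, 6, 22, 17, 15, 62, 13, 53, 12, 7, 24, 48, 42, 11, 47, 19, 38, 56, 59, 54, 61, 33, 32, 31, 30, 60, 55, 43, 45, 25, 4, 8, 49, 21, 36, 51, 37, 5, 23, 20, 41, 9, 44, 52, 16, 28, 35, 26, 57, 58, 27, 34, 29, 14, 63], [], [], [0, 1, 2, 3, 4, 5, 6, 7, 8, 9, 10, 11, 12, 13, 14, 15, 16, 17, 18, 19, 20, 21, 22,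 23, 24, 25, 26, 27, 28, 29, 30, 31, 32, 33, 34, 35, 36, 37, 38, 39, 40, 41, 42, 43, 44, 45, 46, 47, 48, 49, 50, 51, 52, 53, 54, 55, 56, 57, 58, 59, 60, 61, 62, 63], [], [0, 3, 2, 1, 26, 60, 36, 22, 56, 34, 43, 11, 58, 52, 21, 63, 42, 57, 18, 44, 54, 14, 7, 28, 51, 62, 4, 39, 23, 47, 33, 31, 32, 30, 9, 50, 6, 49, 53, 27, 59, 41, 16, 10, 19, 45, 55, 29, 61, 37, 35, 24, 13, 38, 20, 46, 8, 17, 12, 40, 5, 48, 25, 15], [], [0, 1, 52, 58, 32, 46, 45, 59, 8, 15, 37, 53, 21, 50, 56, 9, 22, 42, 27, 19, 20, 12, 16, 30, 24, 38, 62, 18, 28, 44, 23, 39, 4, 47, 34, 36, 35, 10, 25, 31, 40, 41, 17, 55, 29, 6, 5, 33, 48, 49, 13, 61, 2, 11, 54, 43, 14, 57, 3, 7, 60, 51, 26, 63]]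
noncomputable def zL : List (List ℕ × ℕ) := [([2, 14, 12, 6, 14], 3), ([2, 14, 12, 7, 14], 3), ([2, 14, 12, 14, 4], 3), ([2, 14, 12, 14, 5], 3), ([2, 14, 12, 14, 6], 3), ([2, 14, 12, 14, 7], 3), ([2, 12, 14, 4, 14], 3), ([2, 12, 14, 5, 14], 3), ([2, 12, 14, 6, 14], 3), ([2, 12, 14, 7, 14], 3), ([4, 14, 12], 7), ([4, 12, 14], 7), ([6, 14, 12], 7), ([6, 12, 14], 7), ([0, 4, 14, 12], 7), ([0, 4, 12, 14], 7), ([0, 5, 14, 12], 7), ([0, 6, 14, 12], 7), ([0, 6, 12, 14], 7), ([0, 7, 14, 12], 7), ([0, 7, 12, 14], 7), ([0, 14, 4, 12], 7), ([0, 14, 5, 12], 7), ([0, 14, 6, 12], 7), ([0, 14, 7, 12], 7), ([4, 10, 14, 12], 7), ([4, 10, 12, 14], 7), ([4, 14, 10, 12], 7), ([4, 14, 12, 10], 7), ([4, 12, 14, 10], 7), ([6, 10, 14, 12], 7), ([6, 10, 12, 14], 7), ([6, 14, 10, 12], 7), ([6, 14, 12, 10], 7), ([6, 12, 10, 14], 7), ([6, 12, 14, 10],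 7), ([4, 14, 10, 14, 12], 6), ([4, 12, 14, 10, 14], 6)]
noncomputable def zf : ℕ → ℕ := bz (fun U => !cjAll κH U zZ zZ || anyB (eqK κH U) zE) dT

theorem zx_0 : allZ (zf) (nat_lit 0) (nat_lit 1984) = true := by decide +kernel
theorem zx_1 : allZ (zf) (nat_lit 1984) (nat_lit 1984) = true := by decide +kernel
theorem zx_2 : allZ (zf) (nat_lit 3968) (nat_lit 1984) = true := by decide +kernel
theorem zx_3 : allZ (zf) (nat_lit 5952) (nat_lit 1984) = true := by decide +kernel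
theorem zx_4 : allZ (zf) (nat_lit 7936) (nat_lit 1984) = true := by decide +kernel
theorem zx_5 : allZ (zf) (nat_lit 9920) (nat_lit 1984) = true := by decide +kernel
theorem zx_6 : allZ (zf) (nat_lit 11904) (nat_lit 1984) = true := by decide +kernel
theorem zx_7 : allZ (zf) (nat_lit 13888) (nat_lit 1984) = true := by decide +kernel
theorem zx_8 : allZ (zf) (nat_lit 15872) (nat_lit 512) = true := by decide +kernel
theorem za1 : allB (fun k => allB (fun i => Nat.blt (tb zT k i) 64 &&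
  cjK κH (nth [] zH k) (nth [] zE i) (nth [] zE (tb zT k i))) (List.range 64)) [0, 2, 4, 5, 6, 7, 10, 14] = true := by decide +kernel
theorem za2 : allB (fun k => allB (fun i => Nat.blt (tb zT k i) 64 &&
  cjK κ2 (nth [] zM k) (nth [] zE i) (nth [] zE (tb zT k i))) (List.range 64)) [12] = true := by decide +kernel
theorem za3 : (ltAll 64 [1, 2, 6, 4] = 0 ∧ ltAll 64 (List.range 64) = 0 ∧ [1, 2, 6, 4].map (nth [] zE) = [0] :: [1] :: zZ ∧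
  (List.range 64).map (nth [] zE) = zE) ∧ allB (fun p => powK κH zE zT ([0, 2, 4, 5, 6, 7, 10, 14] ++ [12]) [1, 2, 6, 4] (List.range 64) [[]] p.1 p.2) zL = true := by decide +kernel
theorem za4 : allB (fun r => !mem r 12 && eqK κH (fl zH r) [] || allB (Nat.blt · 13) r && eqK κ2 (fl zM r) [] ||
  anyB (fun p => Nat.beq (neL r (rep p.1 p.2)) 0) zL) ZM.R1 = true := by decide +kernel
theorem za5 : allB (allB (Nat.blt · 15)) zE = true ∧ allB (fun k => allB (Nat.blt · 15) (nth [] zH k) && Nat.beq (neL (nth [] zH k) (nth [] zM k)) 0) (List.range 12) = true ∧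
  allB (fun k => !mem (nth [] zU k) 12 && allB (Nat.blt · 15) (nth [] zU k) && eqK κH (fl zH (nth [] zU k)) [k]) (List.range 16) = true ∧
  nth [] zM 12 = zb ∧ eqK κH (nth [] zH 0) [] = false := by decide +kernel
theorem za6 : allL (fixL (wdsP H15.Ru.P ZM.TW) 14 H15.Ru.B) MM.RT = true ∧ ZM.TW.length = 14 ∧
  ∃ i < 4, ltAll 7 (nth [] ZM.TW 0) = 0 ∧ i < 4060 ∧ apW H15.Ru.P (nth [] ZM.TW 0) i ≠ i := by decide +kernel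

theorem zx_g0 : ∀ i < 1984, (zf) i = 0 := allZ_sound0 zx_0
theorem zx_g1 : ∀ i < 3968, (zf) i = 0 := range_glue zx_g0 zx_1
theorem zx_g2 : ∀ i < 5952, (zf) i = 0 := range_glue zx_g1 zx_2
theorem zx_g3 : ∀ i < 7936, (zf) i = 0 := range_glue zx_g2 zx_3
theorem zx_g4 : ∀ i < 9920, (zf) i = 0 := range_glue zx_g3 zx_4
theorem zx_g5 : ∀ i < 11904, (zf) i = 0 := range_glue zx_g4 zx_5
theorem zx_g6 : ∀ i < 13888, (zf) i = 0 := range_glue zx_g5 zx_6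
theorem zx_g7 : ∀ i < 15872, (zf) i = 0 := range_glue zx_g6 zx_7
theorem zx : ∀ i < 16384, (zf) i = 0 := range_glue zx_g7 zx_8

end H8.RY
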